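import Cfsg.Statements.S2250
import Mathlib
import Cfsg.Agent.Lib.AltChar.NormalRank
import Cfsg.Agent.Lib.AltChar.SpWr

set_option autoImplicit false
open Cfsg

namespace Cfsg.Agent.S2250


open Matrix Equiv Cfsg.Agent.Lib.AltChar
open scoped MatrixGroups

variable {F : Type*} [Field F]

/-- The central involution of `SL₂`. -/
def zSL : SL(2, F) := ⟨-1, by simp [Matrix.det_fin_two]⟩

theorem zSL_val : (zSL (F := F)).1 = -1 := rfl

theorem zSL_sq : (zSL (F := F)) ^ 2 = 1 := by
  apply Subtype.ext
  simp [zSL_val, pow_two]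

theorem zSL_central (a : SL(2, F)) : a * zSL = zSL * a := by
  apply Subtype.ext
  simp [zSL_val]

theorem zSL_ne (h2 : (2 : F) ≠ 0) : (zSL (F := F)) ≠ 1 := by
  intro h
  have h1 := congrArg (fun z : SL(2, F) => z.1 0 0) h
  simp [zSL_val] at h1
  apply h2
  linear_combination -h1

theorem sl2_invol (h2 : (2 : F) ≠ 0) (c : SL(2, F)) (hc : c ^ 2 = 1) : c = 1 ∨ c = zSL := by
  have hdet := c.2
  rw [Matrix.det_fin_two] at hdet
  have hm : c.1 * c.1 = 1 := by
    have := congrArg (fun z : SL(2, F) => z.1) hc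
    simpa [pow_two] using this
  have e00 := congrFun (congrFun hm 0) 0
  have e01 := congrFun (congrFun hm 0) 1
  have e10 := congrFun (congrFun hm 1) 0
  have e11 := congrFun (congrFun hm 1) 1
  simp [Matrix.mul_apply, Fin.sum_univ_two] at e00 e01 e10 e11
  set a := c.1 0 0
  set b := c.1 0 1
  set d := c.1 1 0
  set e := c.1 1 1
  have htr : a + e ≠ 0 := by
    intro h
    have he : e = -a := by linear_combination h
    rw [he] at hdet
    apply h2
    linear_combination -hdet - e00
  have hb : b = 0 := by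
    have : b * (a + e) = 0 := by linear_combination e01
    exact (mul_eq_zero.mp this).resolve_right htr
  have hd : d = 0 := by
    have : d * (a + e) = 0 := by linear_combination e10
    exact (mul_eq_zero.mp this).resolve_right htr
  have hae : a * e = 1 := by
    rw [hb] at hdet
    simpa using hdet
  have ha : a * a = 1 := by
    rw [hb] at e00
    simpa using e00
  have hae' : a = e := by
    have : a * (a - e) = 0 := by linear_combination ha - hae
    have ha0 : a ≠ 0 := by
      intro h0
      rw [h0] at ha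
      simp at ha
    have := (mul_eq_zero.mp this).resolve_left ha0
    linear_combination this
  have hpm : (a - 1) * (a + 1) = 0 := by linear_combination ha
  rcases mul_eq_zero.mp hpm with h1 | h1
  · left
    apply Subtype.ext
    ext i j
    fin_cases i <;> fin_cases j
    · show a = 1
      linear_combination h1
    · show b = 0
      exact hb
    · show d = 0
      exact hd
    · show e = 1
      rw [← hae']
      linear_combination h1
  · right
    apply Subtype.ext
    ext i j
    fin_cases i <;> fin_cases j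
    · show a = (-1 : Matrix (Fin 2) (Fin 2) F) 0 0
      simp
      linear_combination h1
    · show b = (-1 : Matrix (Fin 2) (Fin 2) F) 0 1
      simpa using hb
    · show d = (-1 : Matrix (Fin 2) (Fin 2) F) 1 0
      simpa using hd
    · show e = (-1 : Matrix (Fin 2) (Fin 2) F) 1 1
      simp
      rw [← hae']
      linear_combination h1

theorem rankData_sl2 [Fintype F] (hF : Odd (Fintype.card F)) (S₀ : Sylow 2 SL(2, F)) :
    RankData (S₀ : Subgroup SL(2, F)) (Subgroup.zpowers (zSL (F := F))) ∧
      Nat.card (Subgroup.zpowers (zSL (F := F))) = 2 := by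
  classical
  haveI hp2 : Fact (Nat.Prime 2) := ⟨Nat.prime_two⟩
  have h2 : (2 : F) ≠ 0 := by
    intro h
    obtain ⟨c, hc⟩ := hF
    have hcar : (Fintype.card F : F) = 0 := Nat.cast_card_eq_zero F
    rw [hc] at hcar
    push_cast at hcar
    have h3 : ((2 : F) * (c : F)) + 1 = 0 := hcar
    rw [h] at h3
    simp at h3
  have hq := Cfsg.Agent.Lib.KS2.SL2.card_SL2 (F := F)
  have hcard : 4 ∣ Nat.card SL(2, F) := by
    rw [hq]
    obtain ⟨c, hc⟩ := hF
    rw [hc]
    refine Dvd.dvd.mul_left ?_ _
    refine ⟨c * (c + 1), ?_⟩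
    have : (2 * c + 1) ^ 2 = 4 * (c * (c + 1)) + 1 := by ring
    omega
  have hS4 : 4 ∣ Nat.card S₀ := by
    have := Sylow.pow_dvd_card_of_pow_dvd_card S₀ (n := 2) (by simpa using hcard)
    simpa using this
  have hzS : zSL ∈ (S₀ : Subgroup SL(2, F)) := by
    obtain ⟨c, hc⟩ : ∃ c : S₀, orderOf c = 2 := exists_prime_orderOf_dvd_card' 2 (by
      exact Dvd.dvd.trans (by norm_num) hS4)
    have h1 : (c : SL(2, F)) ^ 2 = 1 := by
      have := pow_orderOf_eq_one c
      rw [hc] at this
      simpa using congrArg (fun z : S₀ => (z : SL(2, F))) this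
    have h3 : (c : SL(2, F)) ≠ 1 := by
      intro h
      have : c = 1 := Subtype.ext h
      rw [this, orderOf_one] at hc
      omega
    rcases sl2_invol h2 _ h1 with h4 | h4
    · exact absurd h4 h3
    · rw [← h4]
      exact c.2
  have hmem : ∀ c : SL(2, F), c ^ 2 = 1 → c ∈ Subgroup.zpowers (zSL (F := F)) := by
    intro c hc
    rcases sl2_invol h2 c hc with h4 | h4
    · rw [h4]
      exact one_mem _
    · rw [h4]
      exact Subgroup.mem_zpowers _
  have hord : orderOf (zSL (F := F)) = 2 :=
    orderOf_eq_prime (zSL_sq) (zSL_ne h2)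
  have hΩ : Nat.card (Subgroup.zpowers (zSL (F := F))) = 2 := by
    rw [Nat.card_zpowers, hord]
  refine ⟨⟨?_, ?_, ?_, ?_, ?_⟩, hΩ⟩
  · rw [Subgroup.zpowers_le]
    exact hzS
  · rintro _ ⟨k, rfl⟩ a _
    have h1 : Commute a zSL := zSL_central a
    exact (h1.zpow_right k).eq
  · rintro _ ⟨k, rfl⟩
    have h1 : (zSL (F := F) ^ k) ^ 2 = (zSL ^ 2) ^ k := by
      rw [← zpow_natCast, ← zpow_natCast, ← _root_.zpow_mul, ← _root_.zpow_mul, mul_comm]
    show (zSL (F := F) ^ k) ^ 2 = 1
    rw [h1, zSL_sq, _root_.one_zpow]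
  · by_contra hc
    push Not at hc
    have hle : (S₀ : Subgroup SL(2, F)) ≤ Subgroup.zpowers (zSL (F := F)) := fun a ha =>
      hmem a (hc a ha)
    have h5 := Subgroup.card_dvd_of_le hle
    rw [hΩ] at h5
    have := Nat.dvd_trans hS4 h5
    omega
  · intro c _ hc2
    exact Or.inl (hmem c hc2)

theorem sp_normal_rank [Fintype F] (hF : Odd (Fintype.card F)) (n : ℕ)
    (S : Sylow 2 (symplecticGroup (Fin n) F)) :
    NormalRankIs (S : Subgroup (symplecticGroup (Fin n) F)) n := by
  classical
  haveI : Fact (Nat.Prime 2) := ⟨Nat.prime_two⟩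
  obtain ⟨S₀⟩ : Nonempty (Sylow 2 SL(2, F)) := inferInstance
  obtain ⟨T, U, hT, hmod⟩ := exists_model 2 n (Fin n) (by simp)
  set q := Fintype.card F with hq
  have hq2 : 2 ≤ q := Fintype.one_lt_card
  have hM : Nat.card (wrSub spWrData (S₀ : Subgroup SL(2, F)) T) =
      2 ^ (Nat.card (symplecticGroup (Fin n) F)).factorization 2 := by
    rw [card_wrSub, hT, Sylow.card_eq_multiplicity S₀, Nat.factorization_def _ Nat.prime_two,
      Nat.factorization_def _ Nat.prime_two, Cfsg.Agent.S0245.result hq.symm n,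
      Cfsg.Agent.Lib.KS2.SL2.card_SL2, ← hq, ← pow_mul, ← pow_add]
    congr 1
    have hnd : ¬ 2 ∣ q := by
      obtain ⟨c, hc⟩ := hF
      omega
    have hv : ∀ k, padicValNat 2 (q ^ k) = 0 := fun k =>
      padicValNat.eq_zero_of_not_dvd fun h => hnd (Nat.Prime.dvd_of_dvd_pow Nat.prime_two h)
    have hne1 : q ^ 2 - 1 ≠ 0 := by
      have : 1 < q ^ 2 := Nat.one_lt_pow (by omega) (by omega)
      omega
    have hne2 : ∏ i ∈ Finset.range n, (q ^ (2 * (i + 1)) - 1) ≠ 0 := by
      refine Finset.prod_ne_zero_iff.mpr fun i _ => ?_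
      have : 1 < q ^ (2 * (i + 1)) := Nat.one_lt_pow (by omega) (by omega)
      omega
    rw [padicValNat.mul (by positivity) hne2, padicValNat.mul (by omega) hne1, hv,
      padicValNat.eq_zero_of_not_dvd hnd, val_prod_sp hq2 hF]
    ring
  obtain ⟨hRk, hc⟩ := rankData_sl2 hF S₀
  have h1 := normalRank_wr hRk hc (spWrData (F := F) (n := n)) T
  exact h1.congr (Sylow.equiv (Sylow.ofCard _ hM) S)

/-- The normal 2-rank of the symplectic group over a finite field of odd order: for n ≥ 1 and S a Sylow 2-subgroup of Sp_{2n}(F), the largest rank of an elementary abelian subgroup of S that is normal in S equals n. -/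
theorem result {F : Type*} [Field F] [Fintype F] (hF : Odd (Fintype.card F)) (n : ℕ) (hn : 1 ≤ n) (S : Sylow 2 ↥(Matrix.symplecticGroup (Fin n) F)) :
    ((∃ E : Subgroup ↥(S : Subgroup ↥(Matrix.symplecticGroup (Fin n) F)), E.Normal ∧ Cfsg.IsElementaryAbelian 2 E ∧ 2 ^ (n) ≤ Nat.card ↥E) ∧
      ∀ E : Subgroup ↥(S : Subgroup ↥(Matrix.symplecticGroup (Fin n) F)), E.Normal → Cfsg.IsElementaryAbelian 2 E → Nat.card ↥E ≤ 2 ^ (n)) := by
  exact sp_normal_rank hF n S

end Cfsg.Agent.S2250
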