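import Cfsg.Statements.S3391
import Mathlib
import Cfsg.Agent.Lib.Sz.Aut
import Cfsg.Agent.Lib.Sz.Bridge
import Cfsg.Agent.Lib.Sz.Tori4
import Cfsg.Agent.Lib.Sz.Lie

set_option autoImplicit false
open Cfsg

namespace Cfsg.Agent.S3391


open Cfsg.Agent.SzT

section grp
variable {G : Type*} [Group G]

/-- Fixity at most two, in terms of the point stabiliser. -/
def Fix2 (H : Subgroup G) : Prop :=
  ∀ x : G, x ≠ 1 → ∀ g₁ g₂ g₃ : G, g₁⁻¹ * x * g₁ ∈ H → g₂⁻¹ * x * g₂ ∈ H → g₃⁻¹ * x * g₃ ∈ H →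
    g₁⁻¹ * g₂ ∈ H ∨ g₁⁻¹ * g₃ ∈ H ∨ g₂⁻¹ * g₃ ∈ H

/-- conjugate subgroup -/
def cj (a : G) (H : Subgroup G) : Subgroup G := H.map (MulAut.conj a).toMonoidHom

lemma mem_cj {a x : G} {H : Subgroup G} : x ∈ cj a H ↔ a⁻¹ * x * a ∈ H := by
  constructor
  · rintro ⟨y, hy, rfl⟩
    have : a⁻¹ * ((MulAut.conj a).toMonoidHom y) * a = y := by
      simp [MulAut.conj_apply]
      group
    rw [this]
    exact hy
  · intro h
    refine ⟨_, h, ?_⟩
    simp [MulAut.conj_apply]
    group

lemma Fix2.cj {H : Subgroup G} (hH : Fix2 H) (a : G) : Fix2 (cj a H) := by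
  intro x hx g₁ g₂ g₃ h1 h2 h3
  rw [mem_cj] at h1 h2 h3
  have e : ∀ g, a⁻¹ * (g⁻¹ * x * g) * a = (g * a)⁻¹ * x * (g * a) := by
    intro g
    group
  rw [e] at h1 h2 h3
  have e2 : ∀ g g', a⁻¹ * (g⁻¹ * g') * a = (g * a)⁻¹ * (g' * a) := by
    intro g g'
    group
  simp only [mem_cj, e2]
  exact hH x hx _ _ _ h1 h2 h3

lemma cj_top {a : G} {H : Subgroup G} (h : cj a H = ⊤) : H = ⊤ := by
  rw [eq_top_iff]
  intro x _
  have : a * x * a⁻¹ ∈ cj a H := by
    rw [h]
    trivial
  rw [mem_cj] at this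
  have e : a⁻¹ * (a * x * a⁻¹) * a = x := by group
  rwa [e] at this

lemma sq_mem {H : Subgroup G} (hH : Fix2 H) {x c : G} (hx : x ∈ H) (hx1 : x ≠ 1) (hc : c * x = x * c) :
    c * c ∈ H := by
  have e : ∀ y : G, y * x = x * y → y⁻¹ * x * y = x := by
    intro y hy
    rw [mul_assoc, ← hy]
    group
  have h2 : (c * c) * x = x * (c * c) := by
    rw [mul_assoc, hc, ← mul_assoc, hc, mul_assoc]
  have := hH x hx1 1 c (c * c) (by simpa using hx) (by rw [e c hc]; exact hx) (by rw [e _ h2]; exact hx)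
  simp only [inv_one, one_mul] at this
  rcases this with h | h | h
  · exact H.mul_mem h h
  · exact h
  · have e3 : c⁻¹ * (c * c) = c := by group
    rw [e3] at h
    exact H.mul_mem h h

lemma inv_mul_mem {H : Subgroup G} (hH : Fix2 H) {x c d : G} (hx : x ∈ H) (hx1 : x ≠ 1) (hc : c * x = x * c)
    (hd : d * x = x * d) (hcH : c ∉ H) (hdH : d ∉ H) : c⁻¹ * d ∈ H := by
  have e : ∀ y : G, y * x = x * y → y⁻¹ * x * y = x := by
    intro y hy
    rw [mul_assoc, ← hy]
    group
  have := hH x hx1 1 c d (by simpa using hx) (by rw [e c hc]; exact hx) (by rw [e d hd]; exact hx)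
  simp only [inv_one, one_mul] at this
  rcases this with h | h | h
  · exact (hcH h).elim
  · exact (hdH h).elim
  · exact h

end grp

section sz
variable {F : Type*} [Field F] [Fintype F] {s : ℕ} [h : SzF F s]

lemma bor_sq {z : GG s F} (hz : z • pI F = pI F) (h1 : z ≠ 1) (h2 : z * z = 1) :
    ∃ c : F, c ≠ 0 ∧ z = uG s 0 c := by
  obtain ⟨a, b, l, rfl⟩ := stab1G hz
  obtain ⟨x, y, e0⟩ := uG_dG_mul (s := s) a b a b l l
  have e1 : uG s x y * dG s (l * l) = uG s 0 0 * dG s 1 := by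
    rw [← e0, h2, uG_zero, dG_one, one_mul]
  obtain ⟨-, -, e4⟩ := uG_dG_inj e1
  have hl : l = 1 := by
    apply Units.ext
    apply sq_inj (s := s)
    have := congrArg Units.val e4
    simp only [Units.val_mul, Units.val_one] at this
    rw [pow_two, this]
    simp
  subst hl
  rw [dG_one, mul_one] at h1 h2
  have ha : a = 0 := by
    have e5 := h2
    rw [uG_sq, ← uG_zero (s := s) (F := F)] at e5
    have e6 := (uG_inj e5).2
    rcases mul_eq_zero.mp e6 with h0 | h0
    · exact pow_eq_zero_iff (s_ne_zero (F := F) (s := s)) |>.mp h0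
    · exact h0
  subst ha
  refine ⟨b, ?_, by rw [dG_one, mul_one]⟩
  rintro rfl
  exact h1 uG_zero

lemma order2_conj {z : GG s F} (h1 : z ≠ 1) (h2 : z * z = 1) :
    ∃ (g : GG s F) (c : F), c ≠ 0 ∧ z = g * uG s 0 c * g⁻¹ := by
  have ho : orderOf z = 2 := orderOf_eq_prime (by rw [pow_two, h2]) h1
  obtain ⟨p, hp, hfix⟩ := exists_fixed_point Nat.prime_two ho (odd_q_sq_add_one (F := F) (s := s))
  obtain ⟨g, rfl⟩ := exists_smul_pIG hp
  have hz' : (g⁻¹ * z * g) • pI F = pI F := by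
    rw [mul_smul, mul_smul, hfix, inv_smul_smul]
  have h1' : g⁻¹ * z * g ≠ 1 := by
    intro he
    apply h1
    have : z = g * (g⁻¹ * z * g) * g⁻¹ := by group
    rw [this, he]
    group
  have h2' : (g⁻¹ * z * g) * (g⁻¹ * z * g) = 1 := by
    calc (g⁻¹ * z * g) * (g⁻¹ * z * g) = g⁻¹ * (z * z) * g := by group
      _ = 1 := by rw [h2]; group
  obtain ⟨c, hc, e⟩ := bor_sq hz' h1' h2'
  refine ⟨g, c, hc, ?_⟩
  rw [← e]
  group

lemma uG_comm_center (a b c : F) : uG s a b * uG s 0 c = uG s 0 c * uG s a b := by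
  rw [uG_mul, uG_mul, s_zero (F := F) (s := s)]
  simp [add_comm]

/-- Once a central involution lies in `H`, the whole centre does. -/
lemma Zc {H : Subgroup (GG s F)} (hH : Fix2 H) {c : F} (hc : c ≠ 0) (hm : uG s 0 c ∈ H) (b : F) :
    uG s 0 b ∈ H := by
  have hne : uG s (0 : F) c ≠ 1 := by
    intro he
    have := uG_inj (he.trans uG_zero.symm)
    exact hc this.2
  have e := pow_s_add_one_surj (F := F) (s := s) b
  set a := b ^ (s - 1) with ha
  have h1 := sq_mem hH hm hne (uG_comm_center (s := s) a 0 c)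
  rw [uG_sq] at h1
  have e2 : a ^ s * a = b := by
    rw [← e, pow_succ]
  rwa [e2] at h1

lemma uG_split (a b : F) : uG s a b = uG s a 0 * uG s 0 b := by
  rw [uG_mul]
  simp

/-- additivity of the complement of the projection of `H` -/
lemma W_add {H : Subgroup (GG s F)} (hH : Fix2 H) (hU : ∀ b, uG s (0 : F) b ∈ H) {a₁ a₂ : F}
    (h1 : uG s a₁ 0 ∉ H) (h2 : uG s a₂ 0 ∉ H) : uG s (a₁ + a₂) 0 ∈ H := by
  have hne : uG s (0 : F) 1 ≠ 1 := by
    intro he
    have := uG_inj (he.trans uG_zero.symm)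
    exact one_ne_zero this.2
  have h3 := inv_mul_mem hH (hU 1) hne (uG_comm_center (s := s) a₁ 0 1) (uG_comm_center (s := s) a₂ 0 1) h1 h2
  rw [uG_inv, uG_mul, uG_split] at h3
  exact (H.mul_mem_cancel_right (hU _)).mp h3

lemma conj_uni (X Y A B : F) : ∃ E : F, uG s X Y * uG s A B * (uG s X Y)⁻¹ = uG s A E := by
  have e0 : X + A + X = A := by
    rw [add_comm X A, add_assoc, add_self' (s := s), add_zero]
  rw [uG_inv, uG_mul, uG_mul, e0]
  exact ⟨_, rfl⟩

/-- existence of a non-zero element of `W`. -/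
lemma W_ne {H : Subgroup (GG s F)} (hH : Fix2 H) (hU : ∀ b, uG s (0 : F) b ∈ H) :
    ∃ a : F, a ≠ 0 ∧ uG s a 0 ∈ H := by
  obtain ⟨l, hl⟩ := exists_unit_ne_one (F := F) (s := s)
  by_cases h1 : uG s (1 : F) 0 ∈ H
  · exact ⟨1, one_ne_zero, h1⟩
  by_cases h2 : uG s (l : F) 0 ∈ H
  · exact ⟨l, l.ne_zero, h2⟩
  refine ⟨1 + l, ?_, W_add hH hU h1 h2⟩
  intro he
  apply hl
  apply Units.ext
  exact (eq_of_add_eq_zero' (s := s) he).symm

/-- Lemma B : a non-unipotent element of the Borel subgroup forces the Borel subgroup. -/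
lemma bor_le {H : Subgroup (GG s F)} (hH : Fix2 H) (hU : ∀ b, uG s (0 : F) b ∈ H) {a b : F} {l : Fˣ} (hl : l ≠ 1)
    (hy : uG s a b * dG s l ∈ H) : Bor s F ≤ H := by
  obtain ⟨X, Y, hXY⟩ := exists_fix (s := s) a b hl
  set y := uG s a b * dG s l with hyd
  set v := uG s X Y with hv
  have hvp : v • p00 s F = pP s X Y := uG_smul_p00 X Y
  have hfix1 : (v⁻¹ * y * v) • pI F = pI F := by
    rw [mul_smul, mul_smul, uG_smul_pI, hyd, mul_smul, dG_smul_pI, uG_smul_pI, hv, uG_inv, uG_smul_pI]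
  have hfix2 : (v⁻¹ * y * v) • p00 s F = p00 s F := by
    rw [mul_smul, mul_smul, hvp, hXY, ← hvp, inv_smul_smul]
  obtain ⟨t, ht⟩ := stab2G hfix1 hfix2
  have hy1 : y ≠ 1 := fun he => hl (uG_dG_eq_one he)
  have hyv : y = v * dG s t * v⁻¹ := by
    rw [← ht]
    group
  -- the torus lies in `H`
  have hT : ∀ r : Fˣ, v * dG s r * v⁻¹ ∈ H := by
    intro r
    obtain ⟨c, hc⟩ := sq_surj (F := F) (s := s) (r : F)
    have hc0 : c ≠ 0 := by
      rintro rfl
      exact r.ne_zero (by rw [← hc]; simp [pow_two])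
    let r' : Fˣ := Units.mk0 c hc0
    have hr : r' * r' = r := by
      apply Units.ext
      simp [r', ← hc, pow_two]
    have hcomm : (v * dG s r' * v⁻¹) * y = y * (v * dG s r' * v⁻¹) := by
      rw [hyv]
      have : dG s r' * dG s t = dG s t * dG s r' := by
        rw [dG_mul, dG_mul, mul_comm]
      calc v * dG s r' * v⁻¹ * (v * dG s t * v⁻¹) = v * (dG s r' * dG s t) * v⁻¹ := by group
        _ = v * (dG s t * dG s r') * v⁻¹ := by rw [this]
        _ = _ := by group
    have := sq_mem hH hy hy1 hcomm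
    have e : (v * dG s r' * v⁻¹) * (v * dG s r' * v⁻¹) = v * dG s r * v⁻¹ := by
      rw [← hr, ← dG_mul]
      group
    rwa [e] at this
  -- `W` is everything
  have hW : ∀ a' : F, uG s a' 0 ∈ H := by
    obtain ⟨a₁, ha₁, hmem⟩ := W_ne hH hU
    intro a'
    by_cases h0 : a' = 0
    · subst h0
      exact hU 0
    obtain ⟨c, hc⟩ := s_surj (F := F) (s := s) (a' / a₁)
    have hc0 : c ≠ 0 := by
      rintro rfl
      rw [zero_pow (s_ne_zero (F := F) (s := s))] at hc
      exact div_ne_zero h0 ha₁ hc.symm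
    let r : Fˣ := Units.mk0 c hc0
    have h1 := H.mul_mem (H.mul_mem (hT r) hmem) (H.inv_mem (hT r))
    have hvi : v⁻¹ = uG s X (Y + X ^ s * X) := uG_inv X Y
    obtain ⟨E₁, hE₁⟩ := conj_uni (s := s) X (Y + X ^ s * X) a₁ 0
    rw [← hvi] at hE₁
    obtain ⟨E₂, hE₂⟩ := conj_uni (s := s) X Y ((r : F) ^ s * a₁) ((r : F) ^ s * r * r * E₁)
    have e : v * dG s r * v⁻¹ * uG s a₁ 0 * (v * dG s r * v⁻¹)⁻¹ = uG s ((r : F) ^ s * a₁) E₂ := by
      rw [← hE₂, ← dG_conj_uG, ← hE₁, ← hv]
      group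
    rw [e] at h1
    have e2 : ((r : F)) ^ s * a₁ = a' := by
      have : (r : F) = c := rfl
      rw [this, hc, div_mul_cancel₀ _ ha₁]
    rw [e2, uG_split] at h1
    exact (H.mul_mem_cancel_right (hU _)).mp h1
  have hUni : ∀ a' b', uG s a' b' ∈ H := fun a' b' => by
    rw [uG_split]
    exact H.mul_mem (hW a') (hU b')
  intro g hg
  obtain ⟨a', b', r, rfl⟩ := stab1G (mem_Bor.mp hg)
  refine H.mul_mem (hUni a' b') ?_
  have := H.mul_mem (H.mul_mem (H.inv_mem (hUni X Y)) (hT r)) (hUni X Y)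
  have e : (uG s X Y)⁻¹ * (v * dG s r * v⁻¹) * uG s X Y = dG s r := by
    rw [hv]
    group
  rwa [e] at this

/-- Lemma C -/
lemma top_of_bor {H : Subgroup (GG s F)} (hB : Bor s F ≤ H) {k : GG s F} (hk : k ∈ H) (hkp : k • pI F ≠ pI F) : H = ⊤ := by
  have hUni : ∀ a b, uG s a b ∈ H := fun a b => hB (Uni_le_Bor (uG_mem_Uni a b))
  have hdG : ∀ l, dG s l ∈ H := fun l => hB (dG_mem_Bor l)
  have hw : wG s F ∈ H := by
    obtain ⟨X, Y, e⟩ : ∃ X Y, k • pI F = pP s X Y := by
      rcases smul_mem_Ov' k (pI_mem (s := s) (F := F)) with h1 | h1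
      · exact (hkp h1).elim
      · exact h1
    have h1 : (wG s F * ((uG s X Y)⁻¹ * k)) • pI F = pI F := by
      rw [mul_smul, mul_smul, e, ← uG_smul_p00, inv_smul_smul, wG_smul_p00]
    have h2 : wG s F * ((uG s X Y)⁻¹ * k) ∈ H := hB (mem_Bor.mpr h1)
    have h3 := H.mul_mem h2 (H.inv_mem (H.mul_mem (H.inv_mem (hUni X Y)) hk))
    have e2 : wG s F * ((uG s X Y)⁻¹ * k) * ((uG s X Y)⁻¹ * k)⁻¹ = wG s F := by group
    rwa [e2] at h3
  rw [eq_top_iff]
  intro g _
  by_cases hg : g • pI F = pI F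
  · exact hB (mem_Bor.mpr hg)
  · obtain ⟨a, b, c, d, l, rfl⟩ := stab0G hg
    exact H.mul_mem (H.mul_mem (H.mul_mem (hUni a b) hw) (hUni c d)) (hdG l)

/-- The case of even order. -/
lemma even_case {H : Subgroup (GG s F)} (hH : Fix2 H) (hne : H ≠ ⊤) {c : F} (hc : c ≠ 0) (hm : uG s 0 c ∈ H) :
    H = Bor s F := by
  have hU := Zc hH hc hm
  obtain ⟨l, hl⟩ := exists_unit_ne_one (F := F) (s := s)
  have hne1 : uG s (0 : F) 1 ≠ 1 := by
    intro he
    have := uG_inj (he.trans uG_zero.symm)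
    exact one_ne_zero this.2
  have hconj : ∀ r : Fˣ, (dG s r)⁻¹ * uG s 0 1 * dG s r ∈ H := by
    intro r
    have e := dG_conj_uG (s := s) r⁻¹ 0 1
    rw [dG_inv, inv_inv, ← dG_inv] at e
    rw [e, mul_zero]
    exact hU _
  have hl2 : l * l ≠ 1 := by
    intro he
    apply hl
    apply Units.ext
    apply sq_inj (s := s)
    have := congrArg Units.val he
    simp only [Units.val_mul, Units.val_one] at this
    rw [pow_two, this]
    simp
  have hmemT : ∃ r : Fˣ, r ≠ 1 ∧ dG s r ∈ H := by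
    have h3 := hH (uG s 0 1) hne1 1 (dG s l) (dG s (l * l))
      (by simpa using hU 1) (hconj l) (hconj (l * l))
    simp only [inv_one, one_mul] at h3
    rcases h3 with h3 | h3 | h3
    · exact ⟨l, hl, h3⟩
    · exact ⟨_, hl2, h3⟩
    · refine ⟨l, hl, ?_⟩
      have e : (dG s l)⁻¹ * dG s (l * l) = dG s l := by
        rw [← dG_mul]
        group
      rwa [e] at h3
  obtain ⟨r, hr, hrm⟩ := hmemT
  have hB : Bor s F ≤ H := by
    refine bor_le hH hU (a := 0) (b := 0) hr ?_
    rw [uG_zero, one_mul]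
    exact hrm
  apply le_antisymm _ hB
  intro k hk
  by_contra hkB
  exact hne (top_of_bor hB hk (fun e => hkB (mem_Bor.mpr e)))


/-! ### Odd order -/

lemma eq_one_of_pow4 {G : Type*} [Group G] {H : Subgroup G} (hodd : ∀ y ∈ H, y * y = 1 → y = 1) {x : G} (hx : x ∈ H)
    (h4 : x ^ 4 = 1) : x = 1 := by
  have e : (x * x) * (x * x) = 1 := by
    rw [← h4]
    simp only [pow_succ, pow_zero, one_mul, mul_assoc]
  have e2 : x * x = 1 := hodd _ (H.mul_mem hx hx) e
  exact hodd _ hx e2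

lemma odd_order_of {G : Type*} [Group G] [Finite G] {x : G} (h : ∀ k : ℕ, x ^ k * x ^ k = 1 → x ^ k = 1) :
    Odd (orderOf x) := by
  by_contra hne
  rw [Nat.not_odd_iff_even] at hne
  obtain ⟨k, hk⟩ := hne
  have h1 : x ^ k * x ^ k = 1 := by
    rw [← pow_add, ← hk, pow_orderOf_eq_one]
  have h2 := h k h1
  have h3 := orderOf_dvd_of_pow_eq_one h2
  have h4 : 0 < orderOf x := orderOf_pos x
  have h5 := Nat.le_of_dvd (by omega) h3
  omega

lemma mem_of_sq {G : Type*} [Group G] {x : G} (hx : Odd (orderOf x)) {K : Subgroup G} (h : x * x ∈ K) : x ∈ K := by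
  obtain ⟨k, hk⟩ := hx
  have e : x = (x * x) ^ (k + 1) := by
    have e1 : (x * x) ^ (k + 1) = x ^ (orderOf x) * x := by
      rw [hk, ← pow_two, ← pow_mul, ← pow_succ]
      ring_nf
    rw [e1, pow_orderOf_eq_one, one_mul]
  rw [e]
  exact K.pow_mem h _

lemma pow4_conj (g : GG s F) (a b : F) : (g * uG s a b * g⁻¹) ^ 4 = 1 := by
  rw [conj_pow, uG_pow4]
  group

/-- the centraliser of a non-2-element has odd order -/
lemma cc_odd {x c : GG s F} (h4 : x ^ 4 ≠ 1) (hc : c * x = x * c) : Odd (orderOf c) := by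
  apply odd_order_of
  intro k hk
  by_contra hne
  obtain ⟨g, e, he, hz⟩ := order2_conj hne hk
  apply h4
  have hcomm : c ^ k * x = x * c ^ k := by
    have : Commute c x := hc
    exact (this.pow_left k).eq
  have h1 : (g⁻¹ * x * g) * uG s 0 e = uG s 0 e * (g⁻¹ * x * g) := by
    have e1 : uG s 0 e = g⁻¹ * c ^ k * g := by
      rw [hz]
      group
    rw [e1]
    calc g⁻¹ * x * g * (g⁻¹ * c ^ k * g) = g⁻¹ * (x * c ^ k) * g := by group
      _ = g⁻¹ * (c ^ k * x) * g := by rw [hcomm]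
      _ = _ := by group
  obtain ⟨e', f', hef⟩ := cent_uni (s := s) (a := 0) (b := e) (fun h => he h.2) h1
  have h2 : x = g * uG s e' f' * g⁻¹ := by
    rw [← hef]
    group
  rw [h2]
  exact pow4_conj g e' f'

lemma cc_le {H : Subgroup (GG s F)} (hH : Fix2 H) (hodd : ∀ y ∈ H, y * y = 1 → y = 1) {x : GG s F} (hx : x ∈ H)
    (hx1 : x ≠ 1) : CC x ≤ H := by
  intro c hc
  have h4 : x ^ 4 ≠ 1 := fun e => hx1 (eq_one_of_pow4 hodd hx e)
  have hc' : c * x = x * c := mem_CC.mp hc
  exact mem_of_sq (cc_odd h4 hc') (sq_mem hH hx hx1 hc')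

/-- dichotomy -/
lemma dich {x : GG s F} (h4 : x ^ 4 ≠ 1) : Fpf s x ∨ ∃ (g : GG s F) (l : Fˣ), l ≠ 1 ∧ x = g * dG s l * g⁻¹ := by
  by_cases hF : Fpf s x
  · exact Or.inl hF
  right
  have hF' : ∃ p ∈ Ov s F, x • p = p := by
    by_contra hcon
    push Not at hcon
    exact hF hcon
  obtain ⟨p, hp, hfix⟩ := hF'
  obtain ⟨g, rfl⟩ := exists_smul_pIG hp
  have h1 : (g⁻¹ * x * g) • pI F = pI F := by
    rw [mul_smul, mul_smul, hfix, inv_smul_smul]
  obtain ⟨a, b, l, hab⟩ := stab1G h1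
  have hl : l ≠ 1 := by
    rintro rfl
    apply h4
    rw [dG_one, mul_one] at hab
    have : x = g * uG s a b * g⁻¹ := by
      rw [← hab]
      group
    rw [this]
    exact pow4_conj g a b
  obtain ⟨X, Y, hXY⟩ := exists_fix (s := s) a b hl
  rw [← hab] at hXY
  set y := g⁻¹ * x * g with hy
  set v := uG s X Y with hv
  have hvp : v • p00 s F = pP s X Y := uG_smul_p00 X Y
  have hfix1 : (v⁻¹ * y * v) • pI F = pI F := by
    rw [mul_smul, mul_smul, uG_smul_pI, h1, hv, uG_inv, uG_smul_pI]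
  have hfix2 : (v⁻¹ * y * v) • p00 s F = p00 s F := by
    rw [mul_smul, mul_smul, hvp, hXY, ← hvp, inv_smul_smul]
  obtain ⟨t, ht⟩ := stab2G hfix1 hfix2
  have hxt : x = (g * v) * dG s t * (g * v)⁻¹ := by
    rw [← ht, hy]
    group
  refine ⟨g * v, t, ?_, hxt⟩
  rintro rfl
  apply h4
  rw [hxt, dG_one]
  simp

lemma cc_conj {G : Type*} [Group G] (g z : G) : CC (g * z * g⁻¹) = cj g (CC z) := by
  ext c
  rw [mem_cj, mem_CC, mem_CC]
  constructor
  · intro h
    calc g⁻¹ * c * g * z = g⁻¹ * (c * (g * z * g⁻¹)) * g := by group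
      _ = g⁻¹ * ((g * z * g⁻¹) * c) * g := by rw [h]
      _ = _ := by group
  · intro h
    calc c * (g * z * g⁻¹) = g * ((g⁻¹ * c * g) * z) * g⁻¹ := by group
      _ = g * (z * (g⁻¹ * c * g)) * g⁻¹ := by rw [h]
      _ = _ := by group

lemma cc_dG {l : Fˣ} (hl : l ≠ 1) : CC (dG s l) = TorA s F := by
  ext c
  rw [mem_CC]
  constructor
  · intro h
    obtain ⟨t, rfl⟩ := cent_d hl h
    exact dG_mem_TorA t
  · rintro ⟨t, rfl⟩
    show dG s t * dG s l = dG s l * dG s t
    rw [dG_mul, dG_mul, mul_comm]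

/-- TI property -/
lemma cc_ti {x w : GG s F} (h4 : x ^ 4 ≠ 1) (hw : w ∈ CC x) (hw1 : w ≠ 1) : CC w = CC x := by
  rcases dich h4 with hF | ⟨g, l, hl, rfl⟩
  · exact (CC_eq hF hw hw1).2
  · rw [cc_conj, cc_dG hl] at hw ⊢
    rw [mem_cj] at hw
    obtain ⟨t, ht⟩ := mem_TorA.mp hw
    have ht1 : t ≠ 1 := by
      rintro rfl
      apply hw1
      rw [dG_one] at ht
      have : w = g * (g⁻¹ * w * g) * g⁻¹ := by group
      rw [this, ← ht]
      group
    have : w = g * dG s t * g⁻¹ := by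
      rw [ht]
      group
    rw [this, cc_conj, cc_dG ht1]

lemma fix_dG {t : Fˣ} (ht : t ≠ 1) {p : P3 F} (hp : p ∈ Ov s F) (hf : dG s t • p = p) : p = pI F ∨ p = p00 s F := by
  rcases hp with rfl | ⟨X, Y, rfl⟩
  · exact Or.inl rfl
  · right
    rw [dG_smul_pP] at hf
    obtain ⟨e1, e2⟩ := pP_inj hf
    have hX : X = 0 := by
      by_contra hX
      exact pow_s_ne_one (s := s) ht (mul_right_cancel₀ hX (by rw [e1, one_mul]))
    have hY : Y = 0 := by
      by_contra hY
      exact pow_s2_ne_one (s := s) ht (mul_right_cancel₀ hY (by rw [e2, one_mul]))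
    rw [hX, hY]

/-- an element normalising a split torus -/
lemma norm_torus {y : GG s F} (hy : ∀ a ∈ TorA s F, y * a * y⁻¹ ∈ TorA s F) : y * y ∈ TorA s F := by
  obtain ⟨l, hl⟩ := exists_unit_ne_one (F := F) (s := s)
  obtain ⟨t, ht⟩ := mem_TorA.mp (hy _ (dG_mem_TorA l))
  have ht1 : t ≠ 1 := by
    rintro rfl
    apply hl
    rw [dG_one] at ht
    have : y * dG s l * y⁻¹ = 1 := ht.symm
    have h2 : dG s l = 1 := by
      have e : dG s l = y⁻¹ * (y * dG s l * y⁻¹) * y := by group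
      rw [e, this]
      group
    exact dG_inj (h2.trans dG_one.symm)
  have hfx : ∀ p ∈ Ov s F, dG s l • p = p → dG s t • (y • p) = y • p := by
    intro p _ hp
    rw [ht, mul_smul, mul_smul, inv_smul_smul, hp]
  have hd0 : dG s l • p00 s F = p00 s F := (dG_smul_pP l 0 0).trans (by simp)
  have h1 := fix_dG ht1 (smul_mem_Ov' y (pI_mem (s := s) (F := F))) (hfx _ pI_mem (dG_smul_pI l))
  have h2 := fix_dG ht1 (smul_mem_Ov' y (pP_mem (s := s) (0 : F) 0)) (hfx _ (pP_mem _ _) hd0)
  have hne : y • pI F ≠ y • p00 s F := fun e => pP_ne_pI (s := s) (0 : F) 0 (smul_left_cancel y e).symm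
  have hI : (y * y) • pI F = pI F ∧ (y * y) • p00 s F = p00 s F := by
    rw [mul_smul, mul_smul]
    rcases h1 with e1 | e1 <;> rcases h2 with e2 | e2
    · exact (hne (e1.trans e2.symm)).elim
    · rw [e1, e2]
      exact ⟨e1, e2⟩
    · rw [e1, e2]
      exact ⟨rfl, e1⟩
    · exact (hne (e1.trans e2.symm)).elim
  obtain ⟨r, hr⟩ := stab2G hI.1 hI.2
  rw [hr]
  exact dG_mem_TorA r

/-- index of a non-split torus in its normaliser -/
lemma fpf_index {z : GG s F} (hz : Fpf s z) :
    Nat.card (Subgroup.normalizer ((CC z : Subgroup (GG s F)) : Set (GG s F))) = 4 * Nat.card (CC z) := by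
  obtain ⟨g₁, h1⟩ := exists_elt (s := s) (F := F) (a := _) (Or.inl rfl)
  obtain ⟨g₂, h2⟩ := exists_elt (s := s) (F := F) (a := _) (Or.inr rfl)
  obtain ⟨C1, C2, N1, N2⟩ := core h1 h2
  have h12 : orderOf g₁ * orderOf g₂ = Fintype.card F ^ 2 + 1 := by
    rw [h1, h2]; exact a_mul_a
  have h8 := card_ge (F := F) (s := s)
  have hs : s * s = 2 * Fintype.card F := h.card.symm
  have hsq : s ≤ Fintype.card F := by
    by_contra hcon
    have : Fintype.card F + 1 ≤ s := by omega
    nlinarith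
  have hne1 : g₁ ≠ 1 := by
    rintro rfl
    rw [orderOf_one] at h1
    omega
  have hne2 : g₂ ≠ 1 := by
    rintro rfl
    rw [orderOf_one] at h2
    have : s = Fintype.card F := by omega
    rw [← this] at hs
    have h4 := h.s4
    nlinarith
  have hF1 := Fpf_of_pow hne1 (by rw [← h12, pow_mul, pow_orderOf_eq_one, one_pow])
  have hF2 := Fpf_of_pow hne2 (by rw [← h12, mul_comm, pow_mul, pow_orderOf_eq_one, one_pow])
  have key : ∀ g : GG s F, Fpf s g → CC g = Subgroup.zpowers g →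
      Nat.card (Subgroup.normalizer ((CC g : Subgroup (GG s F)) : Set (GG s F))) = 4 * orderOf g →
      z ∈ TT (CC g) →
      Nat.card (Subgroup.normalizer ((CC z : Subgroup (GG s F)) : Set (GG s F))) = 4 * Nat.card (CC z) := by
    intro g hFg hC hN hT
    obtain ⟨a, b, hb, hb1, rfl⟩ := hT
    have e1 : CC (a * b * a⁻¹) = cj a (CC g) := by
      rw [cc_conj, (CC_eq hFg hb hb1).2]
    have cz : Nat.card (cj a (CC g)) = Nat.card (CC g) :=
      Subgroup.card_map_of_injective (MulAut.conj a).injective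
    have e2 : Subgroup.normalizer ((cj a (CC g) : Subgroup (GG s F)) : Set (GG s F)) =
        (Subgroup.normalizer ((CC g : Subgroup (GG s F)) : Set (GG s F))).map (MulAut.conj a).toMonoidHom :=
      (Subgroup.map_equiv_normalizer_eq _ _).symm
    rw [e1, e2, Subgroup.card_map_of_injective (MulAut.conj a).injective, hN, cz, hC, Nat.card_zpowers]
  rcases Fpf_cover h12 hF1 hF2 hz with hT | hT
  · exact key _ hF1 C1 N1 hT
  · exact key _ hF2 C2 N2 hT

lemma norm_fpf {z y : GG s F} (hz : Fpf s z) (hy : y ∈ Subgroup.normalizer ((CC z : Subgroup (GG s F)) : Set (GG s F))) :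
    y ^ 4 ∈ CC z := by
  set T := CC z with hT
  set N := Subgroup.normalizer ((T : Subgroup (GG s F)) : Set (GG s F)) with hN
  haveI : (T.subgroupOf N).Normal := Subgroup.normal_in_normalizer
  have hle : T ≤ N := Subgroup.le_normalizer
  have hcard : (T.subgroupOf N).index = 4 := by
    have e1 := Subgroup.card_mul_index (T.subgroupOf N)
    rw [Nat.card_congr (Subgroup.subgroupOfEquivOfLe hle).toEquiv, fpf_index hz] at e1
    have hpos : 0 < Nat.card T := Nat.card_pos
    apply Nat.eq_of_mul_eq_mul_left hpos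
    rw [e1]
    ring
  have := Subgroup.pow_index_mem (T.subgroupOf N) (⟨y, hy⟩ : N)
  rw [hcard] at this
  exact this

/-- A group partitioned by self-normalising centralisers is one of them. -/
theorem one_class {X : Type*} [Group X] [Finite X]
    (h2 : ∀ x : X, x ≠ 1 → ∀ w ∈ CC x, w ≠ 1 → CC w = CC x)
    (h4 : ∀ x : X, x ≠ 1 → ∀ b, (∀ a ∈ CC x, b * a * b⁻¹ ∈ CC x) → b ∈ CC x)
    (h5 : ∀ x : X, x ≠ 1 → 3 ≤ Nat.card (CC x)) (x₀ : X) (hx₀ : x₀ ≠ 1) : CC x₀ = ⊤ := by
  have hcount : ∀ x : X, x ≠ 1 → 2 * Nat.card X ≤ 3 * (TT (CC x)).ncard ∧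
      (TT (CC x)).ncard * Nat.card (CC x) = Nat.card X * (Nat.card (CC x) - 1) := by
    intro x hx
    have hN : Subgroup.normalizer ((CC x : Subgroup X) : Set X) = CC x := by
      apply le_antisymm _ Subgroup.le_normalizer
      intro n hn
      exact h4 x hx n fun a ha => (Subgroup.mem_normalizer_iff.mp hn a).mp ha
    have hti := ti_count (CC x) (by
      intro a ha ha1 b hb
      have e1 := h2 x hx a ha ha1
      have hb1 : b * a * b⁻¹ ≠ 1 := by
        intro he
        apply ha1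
        have : a = b⁻¹ * (b * a * b⁻¹) * b := by group
        rw [this, he]
        group
      have e2 := h2 x hx _ hb hb1
      rw [cc_conj, e1] at e2
      rw [Subgroup.mem_normalizer_iff]
      intro y
      constructor
      · intro hy
        rw [← e2, mem_cj]
        have e3 : b⁻¹ * (b * y * b⁻¹) * b = y := by group
        rw [e3]
        exact hy
      · intro hy
        rw [← e2, mem_cj] at hy
        have e3 : b⁻¹ * (b * y * b⁻¹) * b = y := by group
        rwa [e3] at hy)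
    rw [hN, Nat.card_coe_set_eq] at hti
    refine ⟨?_, hti⟩
    obtain ⟨t, ht⟩ : ∃ t, Nat.card (CC x) = t + 1 := ⟨Nat.card (CC x) - 1, by
      have := h5 x hx
      omega⟩
    have ht2 : 2 ≤ t := by
      have := h5 x hx
      omega
    rw [ht, Nat.add_sub_cancel] at hti
    set c := (TT (CC x)).ncard
    set n := Nat.card X
    have hmul : (2 * n) * (t + 1) ≤ (3 * c) * (t + 1) := by
      have e : (3 * c) * (t + 1) = 3 * (n * t) := by
        rw [← hti]
        ring
      rw [e]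
      nlinarith
    exact Nat.le_of_mul_le_mul_right hmul (by omega)
  have hne1 : ∀ (A : Subgroup X), (1 : X) ∉ TT A := by
    rintro A ⟨b, a, _, ha1, he⟩
    apply ha1
    have : a = b⁻¹ * (b * a * b⁻¹) * b := by group
    rw [this, ← he]
    group
  by_cases hall : ∀ w : X, w ≠ 1 → w ∈ TT (CC x₀)
  · have hT : TT (CC x₀) = {1}ᶜ := by
      ext w
      simp only [Set.mem_compl_iff, Set.mem_singleton_iff]
      constructor
      · rintro hw rfl
        exact hne1 _ hw
      · exact hall w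
    obtain ⟨-, hc⟩ := hcount x₀ hx₀
    rw [hT] at hc
    have hcn : ({1}ᶜ : Set X).ncard = Nat.card X - 1 := by
      have := Set.ncard_add_ncard_compl ({1} : Set X)
      rw [Set.ncard_singleton] at this
      omega
    rw [hcn] at hc
    apply Subgroup.eq_top_of_card_eq
    have h3 := h5 x₀ hx₀
    have hpos : 0 < Nat.card X := Nat.card_pos
    obtain ⟨n, hn⟩ : ∃ n, Nat.card X = n + 1 := ⟨Nat.card X - 1, by omega⟩
    obtain ⟨t, ht⟩ : ∃ t, Nat.card (CC x₀) = t + 1 := ⟨Nat.card (CC x₀) - 1, by omega⟩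
    rw [hn, ht] at hc ⊢
    simp only [Nat.add_sub_cancel] at hc
    have : n * (t + 1) = (n + 1) * t := hc
    have e : n = t := by nlinarith
    rw [e]
  · exfalso
    push Not at hall
    obtain ⟨w, hw1, hw⟩ := hall
    have hdisj : Disjoint (TT (CC x₀)) (TT (CC w)) := by
      rw [Set.disjoint_left]
      rintro v ⟨b, a, ha, ha1, rfl⟩ ⟨b', a', ha', ha1', he⟩
      apply hw
      have e1 := h2 x₀ hx₀ a ha ha1
      have e2 := h2 w hw1 a' ha' ha1'
      have e3 : cj b (CC x₀) = cj b' (CC w) := by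
        rw [← e1, ← cc_conj, he, cc_conj, e2]
      have hw' : b' * w * b'⁻¹ ∈ cj b (CC x₀) := by
        rw [e3, mem_cj]
        have : b'⁻¹ * (b' * w * b'⁻¹) * b' = w := by group
        rw [this]
        exact self_mem_CC w
      rw [mem_cj] at hw'
      refine ⟨b'⁻¹ * b, _, hw', ?_, by group⟩
      intro he2
      apply hw1
      have : w = b'⁻¹ * b * (b⁻¹ * (b' * w * b'⁻¹) * b) * (b'⁻¹ * b)⁻¹ := by group
      rw [this, he2]
      group
    have hunion : (TT (CC x₀) ∪ TT (CC w)).ncard = (TT (CC x₀)).ncard + (TT (CC w)).ncard :=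
      Set.ncard_union_eq hdisj (Set.toFinite _) (Set.toFinite _)
    have hsub : TT (CC x₀) ∪ TT (CC w) ⊆ {1}ᶜ := by
      rintro v (hv | hv) rfl
      · exact hne1 _ hv
      · exact hne1 _ hv
    have hle := Set.ncard_le_ncard hsub (Set.toFinite _)
    have hcn : ({1}ᶜ : Set X).ncard = Nat.card X - 1 := by
      have := Set.ncard_add_ncard_compl ({1} : Set X)
      rw [Set.ncard_singleton] at this
      omega
    have c1 := (hcount x₀ hx₀).1
    have c2 := (hcount w hw1).1
    have hpos : 0 < Nat.card X := Nat.card_pos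
    omega

/-- The case of odd order. -/
lemma odd_case {H : Subgroup (GG s F)} (hH : Fix2 H) (hodd : ∀ y ∈ H, y * y = 1 → y = 1) {x₀ : GG s F} (hx₀ : x₀ ∈ H)
    (hx₀1 : x₀ ≠ 1) : ∃ g : GG s F, H = cj g (TorA s F) := by
  have h4 : ∀ x ∈ H, x ≠ 1 → x ^ 4 ≠ 1 := fun x hx hx1 e => hx1 (eq_one_of_pow4 hodd hx e)
  have hoddo : ∀ x ∈ H, Odd (orderOf x) := by
    intro x hx
    apply odd_order_of
    intro k hk
    exact hodd _ (H.pow_mem hx k) hk
  have hcc : ∀ x ∈ H, x ≠ 1 → CC x ≤ H := fun x hx hx1 => cc_le hH hodd hx hx1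
  -- self-normalising
  have hsn : ∀ x ∈ H, x ≠ 1 → ∀ b ∈ H, (∀ a ∈ CC x, b * a * b⁻¹ ∈ CC x) → b ∈ CC x := by
    intro x hx hx1 b hb hn
    rcases dich (h4 x hx hx1) with hF | ⟨g, l, hl, rfl⟩
    · have hN : b ∈ Subgroup.normalizer ((CC x : Subgroup (GG s F)) : Set (GG s F)) := by
        have hfin : Function.Injective (fun a : CC x => (⟨b * a * b⁻¹, hn a a.2⟩ : CC x)) := by
          intro a a' he
          have := congrArg Subtype.val he
          simp only at this
          exact Subtype.ext (mul_left_cancel (mul_right_cancel this))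
        have hsurj := Finite.surjective_of_injective hfin
        rw [Subgroup.mem_normalizer_iff]
        intro y
        refine ⟨fun hy => hn y hy, fun hy => ?_⟩
        obtain ⟨a, ha⟩ := hsurj ⟨_, hy⟩
        have e := congrArg Subtype.val ha
        simp only at e
        have e2 : (a : GG s F) = y := mul_left_cancel (mul_right_cancel e)
        rw [← e2]
        exact a.2
      have h44 := norm_fpf hF hN
      have h44' : (b * b) * (b * b) ∈ CC x := by
        have e : (b * b) * (b * b) = b ^ 4 := by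
          simp only [pow_succ, pow_zero, one_mul, mul_assoc]
        rw [e]
        exact h44
      have h22 : b * b ∈ CC x := mem_of_sq (hoddo _ (H.mul_mem hb hb)) h44'
      exact mem_of_sq (hoddo b hb) h22
    · rw [cc_conj, cc_dG hl] at hn ⊢
      rw [mem_cj]
      apply mem_of_sq
      · have e : orderOf (g⁻¹ * b * g) = orderOf b := by
          have := orderOf_injective (MulAut.conj g⁻¹).toMonoidHom (MulAut.conj g⁻¹).injective b
          rw [← this]
          simp [MulAut.conj_apply]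
        rw [e]
        exact hoddo b hb
      · apply norm_torus
        intro a ha
        have h1 : g * a * g⁻¹ ∈ cj g (TorA s F) := by
          rw [mem_cj]
          have : g⁻¹ * (g * a * g⁻¹) * g = a := by group
          rw [this]
          exact ha
        have h2 := hn _ h1
        rw [mem_cj] at h2
        have : g⁻¹ * b * g * a * (g⁻¹ * b * g)⁻¹ = g⁻¹ * (b * (g * a * g⁻¹) * b⁻¹) * g := by group
        rw [this]
        exact h2
  -- the count inside `H`
  haveI : Finite H := inferInstance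
  have hone : CC (⟨x₀, hx₀⟩ : H) = ⊤ := by
    refine one_class ?_ ?_ ?_ _ (fun he => hx₀1 (congrArg Subtype.val he))
    · intro x hx w hw hw1
      have hx' : (x : GG s F) ≠ 1 := fun e => hx (Subtype.ext e)
      have hw' : (w : GG s F) ≠ 1 := fun e => hw1 (Subtype.ext e)
      have hm : (w : GG s F) ∈ CC (x : GG s F) := by
        have := mem_CC.mp hw
        exact mem_CC.mpr (congrArg Subtype.val this)
      have e := cc_ti (h4 x x.2 hx') hm hw'
      ext c
      rw [mem_CC, mem_CC]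
      have e2 : ((c : GG s F) * w = w * c) ↔ ((c : GG s F) * x = x * c) := by
        rw [← mem_CC, ← mem_CC, e]
      constructor
      · intro h1
        exact Subtype.ext (e2.mp (congrArg Subtype.val h1))
      · intro h1
        exact Subtype.ext (e2.mpr (congrArg Subtype.val h1))
    · intro x hx b hb
      have hx' : (x : GG s F) ≠ 1 := fun e => hx (Subtype.ext e)
      have h1 := hsn x x.2 hx' b b.2 (by
        intro a ha
        have hmem : a ∈ H := hcc x x.2 hx' ha
        have h2 : (⟨a, hmem⟩ : H) ∈ CC x := by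
          rw [mem_CC]
          exact Subtype.ext (mem_CC.mp ha)
        have h3 := hb _ h2
        rw [mem_CC] at h3
        exact mem_CC.mpr (congrArg Subtype.val h3))
      rw [mem_CC]
      exact Subtype.ext (mem_CC.mp h1)
    · intro x hx
      have hx' : (x : GG s F) ≠ 1 := fun e => hx (Subtype.ext e)
      have h1 : Subgroup.zpowers x ≤ CC x := by
        rw [Subgroup.zpowers_le]
        exact self_mem_CC x
      have h2 := Subgroup.card_le_of_le h1
      rw [Nat.card_zpowers] at h2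
      refine le_trans ?_ h2
      have h3 : Odd (orderOf x) := by
        rw [← Subgroup.orderOf_coe]
        exact hoddo x x.2
      have h5 : orderOf x ≠ 1 := fun he => hx (orderOf_eq_one_iff.mp he)
      obtain ⟨k, hk⟩ := h3
      omega
  have hHeq : H = CC x₀ := by
    apply le_antisymm _ (hcc x₀ hx₀ hx₀1)
    intro y hy
    have h1 : (⟨y, hy⟩ : H) ∈ CC (⟨x₀, hx₀⟩ : H) := by
      rw [hone]
      trivial
    rw [mem_CC] at h1
    exact mem_CC.mpr (congrArg Subtype.val h1)
  rcases dich (h4 x₀ hx₀ hx₀1) with hF | ⟨g, l, hl, e⟩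
  · exfalso
    -- three cosets in the normaliser
    set T := CC x₀ with hT
    set N := Subgroup.normalizer ((T : Subgroup (GG s F)) : Set (GG s F)) with hN
    have hle : T ≤ N := Subgroup.le_normalizer
    have hcard : (T.subgroupOf N).index = 4 := by
      have e1 := Subgroup.card_mul_index (T.subgroupOf N)
      rw [Nat.card_congr (Subgroup.subgroupOfEquivOfLe hle).toEquiv, fpf_index hF] at e1
      have hpos : 0 < Nat.card T := Nat.card_pos
      apply Nat.eq_of_mul_eq_mul_left hpos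
      rw [e1]
      ring
    have hcard2 : 2 < Nat.card (N ⧸ T.subgroupOf N) := by
      rw [← Subgroup.index_eq_card, hcard]
      norm_num
    haveI : Fintype (N ⧸ T.subgroupOf N) := Fintype.ofFinite _
    rw [Nat.card_eq_fintype_card, Fintype.two_lt_card_iff] at hcard2
    obtain ⟨a, b, c, hab, hac, hbc⟩ := hcard2
    obtain ⟨a, rfl⟩ := QuotientGroup.mk_surjective a
    obtain ⟨b, rfl⟩ := QuotientGroup.mk_surjective b
    obtain ⟨c, rfl⟩ := QuotientGroup.mk_surjective c
    have hconj : ∀ y : N, (y : GG s F)⁻¹ * x₀ * y ∈ H := by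
      intro y
      rw [hHeq]
      have h1 := (Subgroup.mem_normalizer_iff.mp (N.inv_mem y.2) x₀).mp (self_mem_CC x₀)
      simpa using h1
    have key : ∀ y z : N, (y : GG s F)⁻¹ * z ∈ H → (y : N ⧸ T.subgroupOf N) = z := by
      intro y z hyz
      apply QuotientGroup.eq.mpr
      rw [Subgroup.mem_subgroupOf, ← hHeq]
      simpa using hyz
    rcases hH x₀ hx₀1 a b c (hconj a) (hconj b) (hconj c) with h1 | h1 | h1
    · exact hab (key _ _ h1)
    · exact hac (key _ _ h1)
    · exact hbc (key _ _ h1)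
  · refine ⟨g, ?_⟩
    rw [hHeq, e, cc_conj, cc_dG hl]

/-- The main theorem, in terms of the point stabiliser. -/
theorem core_thm {H : Subgroup (GG s F)} (hH : Fix2 H) (hne : H ≠ ⊤) (hbot : H ≠ ⊥) :
    (∃ g : GG s F, H = cj g (Bor s F)) ∨ (∃ g : GG s F, H = cj g (TorA s F)) := by
  by_cases hodd : ∀ y ∈ H, y * y = 1 → y = 1
  · right
    obtain ⟨x₀, hx₀, hx₀1⟩ := (Subgroup.bot_or_exists_ne_one H).resolve_left hbot
    exact odd_case hH hodd hx₀ hx₀1
  · left
    push Not at hodd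
    obtain ⟨z, hzH, hz2, hz1⟩ := hodd
    obtain ⟨g, c, hc, hz⟩ := order2_conj hz1 hz2
    have hm : uG s 0 c ∈ cj g⁻¹ H := by
      rw [mem_cj, inv_inv]
      rw [← hz]
      exact hzH
    have h1 := even_case (hH.cj g⁻¹) (fun e => hne (cj_top e)) hc hm
    refine ⟨g, ?_⟩
    rw [← h1]
    ext y
    rw [mem_cj, mem_cj, inv_inv]
    have e : g * (g⁻¹ * y * g) * g⁻¹ = y := by group
    rw [e]

end sz


/-- Let q = 2^{2m+1} ≥ 8 and let G be isomorphic to the Suzuki group Sz(q). If G acts faithfully and transitively on a finite set Ω with fixity 2 (every non-identity element fixes at most two points, and some fixes exactly two), then either |Ω| = q² + 1 and the action is 2-transitive, or |Ω| = q²(q² + 1) and the point stabilizers have order q − 1. -/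
theorem result {G : Type*} [Group G] [Finite G] (F : Type) [Field F] [Fintype F] (m : ℕ) (hm : 1 ≤ m) (hF : Fintype.card F = 2 ^ (2 * m + 1))
    (e : G ≃* ↥(Cfsg.Lie.Sz F (2 ^ (m + 1)))) {Ω : Type*} [Fintype Ω] [MulAction G Ω] [FaithfulSMul G Ω] (htr : MulAction.IsPretransitive G Ω)
    (hfix : ∀ g : G, g ≠ 1 → Nat.card (MulAction.fixedBy Ω g) ≤ 2) (hex : ∃ g : G, g ≠ 1 ∧ Nat.card (MulAction.fixedBy Ω g) = 2) :
    (Fintype.card Ω = Fintype.card F ^ 2 + 1 ∧ MulAction.IsMultiplyPretransitive G Ω 2) ∨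
    (Fintype.card Ω = Fintype.card F ^ 2 * (Fintype.card F ^ 2 + 1) ∧ ∀ α : Ω, Nat.card (MulAction.stabilizer G α) = Fintype.card F - 1) := by
  haveI hS : SzF F (2 ^ (m + 1)) := szF_of_card hm hF
  let ψ : GG (2 ^ (m + 1)) F ≃* G := (szEquiv (2 ^ (m + 1)) F).trans e.symm
  haveI : Nonempty Ω := by
    obtain ⟨x, _, hx⟩ := hex
    by_contra hne
    rw [not_nonempty_iff] at hne
    rw [Nat.card_eq_zero.mpr (Or.inl (by
      constructor
      rintro ⟨p, _⟩
      exact hne.false p))] at hx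
    omega
  obtain ⟨x₁, hx₁, hx₂⟩ := hex
  obtain ⟨⟨α, hα⟩, ⟨α₂, hα₂⟩, hαne, -⟩ := Nat.card_eq_two_iff.mp hx₂
  have hαne' : α ≠ α₂ := fun he => hαne (Subtype.ext he)
  -- orbit-stabiliser
  have hOS : ∀ β : Ω, Fintype.card Ω * Nat.card (MulAction.stabilizer G β) = Nat.card G := by
    intro β
    have h1 := Subgroup.card_mul_index (MulAction.stabilizer G β)
    rw [MulAction.index_stabilizer, MulAction.orbit_eq_univ, Set.ncard_univ,
      show Nat.card Ω = Fintype.card Ω from Nat.card_eq_fintype_card] at h1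
    rw [← h1, mul_comm]
  have hcG : Nat.card G = Fintype.card F ^ 2 * (Fintype.card F ^ 2 + 1) * (Fintype.card F - 1) := by
    rw [← Nat.card_congr ψ.toEquiv, card_GG]
  have hq : 0 < Fintype.card F - 1 := by
    have := card_ge (F := F) (s := 2 ^ (m + 1))
    omega
  -- the point stabiliser
  let H : Subgroup (GG (2 ^ (m + 1)) F) := (MulAction.stabilizer G α).map ψ.symm.toMonoidHom
  have hmem : ∀ y, y ∈ H ↔ ψ y • α = α := by
    intro y
    show y ∈ (MulAction.stabilizer G α).map ψ.symm.toMonoidHom ↔ _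
    rw [Subgroup.mem_map_equiv, MulAction.mem_stabilizer_iff]
    rfl
  have hcH : Nat.card H = Nat.card (MulAction.stabilizer G α) :=
    Subgroup.card_map_of_injective ψ.symm.injective
  have hsurj : ∀ β : Ω, ∃ v : GG (2 ^ (m + 1)) F, ψ v • α = β := by
    intro β
    obtain ⟨g, hg⟩ := htr.exists_smul_eq α β
    exact ⟨ψ.symm g, by simpa using hg⟩
  have hsame : ∀ v v' : GG (2 ^ (m + 1)) F, ψ v • α = ψ v' • α ↔ v⁻¹ * v' ∈ H := by
    intro v v'
    rw [hmem, map_mul, map_inv, mul_smul, inv_smul_eq_iff, eq_comm]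
  have hFix : Fix2 H := by
    intro x hx g₁ g₂ g₃ h1 h2 h3
    have hψx : ψ x ≠ 1 := fun he => hx (ψ.injective (he.trans (map_one ψ).symm))
    have hcard := hfix (ψ x) hψx
    have hpt : ∀ g, g⁻¹ * x * g ∈ H → ψ g • α ∈ MulAction.fixedBy Ω (ψ x) := by
      intro g hg
      rw [hmem, map_mul, map_mul, map_inv, mul_smul, mul_smul, inv_smul_eq_iff] at hg
      exact hg
    by_contra hall
    push Not at hall
    obtain ⟨n1, n2, n3⟩ := hall
    have d12 : ψ g₁ • α ≠ ψ g₂ • α := fun he => n1 ((hsame _ _).mp he)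
    have d13 : ψ g₁ • α ≠ ψ g₃ • α := fun he => n2 ((hsame _ _).mp he)
    have d23 : ψ g₂ • α ≠ ψ g₃ • α := fun he => n3 ((hsame _ _).mp he)
    have hsub : ({ψ g₁ • α, ψ g₂ • α, ψ g₃ • α} : Set Ω) ⊆ MulAction.fixedBy Ω (ψ x) := by
      rintro p (rfl | rfl | rfl)
      · exact hpt _ h1
      · exact hpt _ h2
      · exact hpt _ h3
    have h3c := Set.ncard_le_ncard hsub (Set.toFinite _)
    rw [Set.ncard_eq_three.mpr ⟨_, _, _, d12, d13, d23, rfl⟩, ← Nat.card_coe_set_eq] at h3c
    omega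
  have hne : H ≠ ⊤ := by
    intro htop
    obtain ⟨v, hv⟩ := hsurj α₂
    have := (hmem v).mp (htop ▸ Subgroup.mem_top v)
    exact hαne' (this.symm.trans hv)
  have hbot : H ≠ ⊥ := by
    intro hb
    have h1 : ψ.symm x₁ ∈ H := (hmem _).mpr (by simpa using hα)
    rw [hb, Subgroup.mem_bot] at h1
    exact hx₁ (by simpa using congrArg ψ h1)
  rcases core_thm hFix hne hbot with ⟨g, hg⟩ | ⟨g, hg⟩
  · left
    have hc : Nat.card H = Fintype.card F ^ 2 * (Fintype.card F - 1) := by
      rw [hg, ← card_Bor (s := 2 ^ (m + 1)) (F := F)]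
      exact Subgroup.card_map_of_injective (MulAut.conj g).injective
    have hO := hOS α
    rw [← hcH, hc, hcG] at hO
    constructor
    · have hp : 0 < Fintype.card F ^ 2 * (Fintype.card F - 1) := by positivity
      apply Nat.eq_of_mul_eq_mul_right hp
      rw [hO]
      ring
    · -- two-transitivity
      rw [MulAction.is_two_pretransitive_iff]
      set P := g • pI F with hP
      have hPmem : P ∈ Ov (2 ^ (m + 1)) F := smul_mem_Ov' g pI_mem
      have hQ : ∀ v v' : GG (2 ^ (m + 1)) F, ψ v • α = ψ v' • α ↔ v • P = v' • P := by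
        intro v v'
        rw [hsame, hg, mem_cj, mem_Bor]
        constructor
        · intro he
          have e1 : g • (g⁻¹ * (v⁻¹ * v') * g) • pI F = g • pI F := by rw [he]
          rw [← mul_smul] at e1
          have e2 : g * (g⁻¹ * (v⁻¹ * v') * g) = (v⁻¹ * v') * g := by group
          rw [e2, mul_smul, mul_smul] at e1
          rw [inv_smul_eq_iff] at e1
          exact e1.symm
        · intro he
          rw [mul_smul, mul_smul, mul_smul, ← hP, ← he, inv_smul_smul, hP, inv_smul_smul]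
      intro a b c d hab hcd
      obtain ⟨a', rfl⟩ := hsurj a
      obtain ⟨b', rfl⟩ := hsurj b
      obtain ⟨c', rfl⟩ := hsurj c
      obtain ⟨d', rfl⟩ := hsurj d
      have h1 : a' • P ≠ b' • P := fun he => hab ((hQ _ _).mpr he)
      have h2 : c' • P ≠ d' • P := fun he => hcd ((hQ _ _).mpr he)
      obtain ⟨k, e1, e2⟩ := two_trans (smul_mem_Ov' a' hPmem) (smul_mem_Ov' b' hPmem) h1
        (smul_mem_Ov' c' hPmem) (smul_mem_Ov' d' hPmem) h2
      refine ⟨ψ k, ?_, ?_⟩
      · rw [← mul_smul, ← map_mul]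
        apply (hQ _ _).mpr
        rw [mul_smul, e1]
      · rw [← mul_smul, ← map_mul]
        apply (hQ _ _).mpr
        rw [mul_smul, e2]
  · right
    have hc : Nat.card H = Fintype.card F - 1 := by
      rw [hg, ← card_TorA (s := 2 ^ (m + 1)) (F := F)]
      exact Subgroup.card_map_of_injective (MulAut.conj g).injective
    have hO := hOS α
    rw [← hcH, hc, hcG] at hO
    have hΩ : Fintype.card Ω = Fintype.card F ^ 2 * (Fintype.card F ^ 2 + 1) :=
      Nat.eq_of_mul_eq_mul_right hq hO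
    refine ⟨hΩ, fun β => ?_⟩
    have hOβ := hOS β
    rw [hΩ, hcG] at hOβ
    have hp : 0 < Fintype.card F ^ 2 * (Fintype.card F ^ 2 + 1) := by positivity
    exact Nat.eq_of_mul_eq_mul_left hp hOβ


end Cfsg.Agent.S3391
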