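import Cfsg.Statements.S2238
import Mathlib
import Cfsg.Agent.S3391

set_option autoImplicit false
open Cfsg

namespace Cfsg.Agent.S2238


open Cfsg.Agent.SzT
open Cfsg.Agent.S3391

section sz
variable {F : Type*} [Field F] [Fintype F] {s : ℕ} [h : SzF F s]

lemma sylow_eq (P : Sylow 2 (GG s F)) : ∃ g : GG s F, (P : Subgroup (GG s F)) = cj g (Uni s F) := by
  haveI : Fact (Nat.Prime 2) := ⟨Nat.prime_two⟩
  obtain ⟨g, hg⟩ := MulAction.exists_smul_eq (GG s F) (UniS s F) P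
  refine ⟨g, ?_⟩
  rw [← hg]
  rfl

lemma pow4_of_sylow (P : Sylow 2 (GG s F)) {x : GG s F} (hx : x ∈ P) : x ^ 4 = 1 := by
  obtain ⟨g, hg⟩ := sylow_eq P
  have hx' : x ∈ cj g (Uni s F) := hg ▸ hx
  rw [mem_cj] at hx'
  obtain ⟨a, b, hab⟩ := hx'
  have e : x = g * uG s a b * g⁻¹ := by
    rw [← hab]; group
  rw [e]
  exact pow4_conj g a b

lemma fixed_unique {x g₁ g₂ : GG s F} (hx1 : x ≠ 1) (h1 : x ∈ cj g₁ (Uni s F)) (h2 : x ∈ cj g₂ (Uni s F)) :
    cj g₁ (Uni s F) = cj g₂ (Uni s F) := by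
  rw [mem_cj] at h1 h2
  obtain ⟨a, b, hab⟩ := h1
  obtain ⟨c, d, hcd⟩ := h2
  have hxe : x = g₁ * uG s a b * g₁⁻¹ := by
    rw [← hab]; group
  have hxf : x = g₂ * uG s c d * g₂⁻¹ := by
    rw [← hcd]; group
  -- the point fixed by `x`
  have hf1 : x • (g₁ • pI F) = g₁ • pI F := by
    rw [hxe, mul_smul, mul_smul, inv_smul_smul, uG_smul_pI]
  have hf2 : x • (g₂ • pI F) = g₂ • pI F := by
    rw [hxf, mul_smul, mul_smul, inv_smul_smul, uG_smul_pI]
  have hfix : g₂⁻¹ • (g₁ • pI F) = pI F := by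
    by_contra hne
    have hmem : g₂⁻¹ • (g₁ • pI F) ∈ Ov s F := smul_mem_Ov' _ (smul_mem_Ov' _ pI_mem)
    rcases hmem with hinf | ⟨X, Y, hXY⟩
    · exact hne hinf
    · have e : uG s c d • pP s X Y = pP s X Y := by
        have h3 : (g₂⁻¹ * x * g₂) = uG s c d := hcd
        rw [← h3, ← hXY, mul_smul, mul_smul, smul_inv_smul, hf1]
      obtain ⟨rfl, rfl⟩ := uG_fix e
      apply hx1
      rw [hxf, uG_zero]
      group
  have hB : g₂⁻¹ * g₁ ∈ Bor s F := by
    rw [mem_Bor, mul_smul]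
    exact hfix
  rw [← norm_Uni, Subgroup.mem_normalizer_iff] at hB
  ext y
  rw [mem_cj, mem_cj]
  have e1 : g₂⁻¹ * y * g₂ = (g₂⁻¹ * g₁) * (g₁⁻¹ * y * g₁) * (g₂⁻¹ * g₁)⁻¹ := by group
  rw [e1]
  exact hB _

lemma sylow_unique {x : GG s F} (hx1 : x ≠ 1) (P Q : Sylow 2 (GG s F)) (hP : x ∈ P) (hQ : x ∈ Q) :
    (P : Subgroup (GG s F)) = Q := by
  obtain ⟨g₁, h1⟩ := sylow_eq P
  obtain ⟨g₂, h2⟩ := sylow_eq Q
  rw [h1, h2]
  exact fixed_unique hx1 (h1 ▸ hP) (h2 ▸ hQ)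

/-- the three orders -/
def Ords (s : ℕ) (F : Type*) [Fintype F] : Set ℕ :=
  {Fintype.card F - 1, Fintype.card F + s + 1, Fintype.card F + 1 - s}

include h in
lemma ords_odd {n : ℕ} (hn : n ∈ Ords s F) : Odd n := by
  obtain ⟨t, ht⟩ := h.even
  have hc := h.card
  have h4 := h.s4
  subst ht
  have hq : Fintype.card F = 2 * (t * t) := by nlinarith
  have ht2 : 2 ≤ t := by omega
  have hq2 : 2 * t + 1 ≤ 2 * (t * t) := by nlinarith
  have hn' : n = Fintype.card F - 1 ∨ n = Fintype.card F + 2 * t + 1 ∨ n = Fintype.card F + 1 - 2 * t := hn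
  rw [hq] at hn'
  rcases hn' with rfl | rfl | rfl
  · rw [Nat.odd_iff]; omega
  · rw [Nat.odd_iff]; omega
  · rw [Nat.odd_iff]; omega

include h in
lemma ords_gt {n : ℕ} (hn : n ∈ Ords s F) : 1 < n := by
  obtain ⟨t, ht⟩ := h.even
  have hc := h.card
  have h4 := h.s4
  subst ht
  have hq : Fintype.card F = 2 * (t * t) := by nlinarith
  have ht2 : 2 ≤ t := by omega
  have hq2 : 4 * t ≤ 2 * (t * t) := by nlinarith
  have hn' : n = Fintype.card F - 1 ∨ n = Fintype.card F + 2 * t + 1 ∨ n = Fintype.card F + 1 - 2 * t := hn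
  rw [hq] at hn'
  rcases hn' with rfl | rfl | rfl
  · omega
  · omega
  · omega

include h in
lemma s_le : s ≤ Fintype.card F := by
  have h4 := h.s4
  have hc := h.card
  nlinarith

lemma cop_orders : Nat.Coprime (Fintype.card F + s + 1) (Fintype.card F + 1 - s) := by
  obtain ⟨g₁, h1⟩ := exists_elt (s := s) (F := F) (a := _) (Or.inl rfl)
  obtain ⟨g₂, h2⟩ := exists_elt (s := s) (F := F) (a := _) (Or.inr rfl)
  have h12 : orderOf g₁ * orderOf g₂ = Fintype.card F ^ 2 + 1 := by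
    rw [h1, h2]; exact a_mul_a
  have := coprime_orders h1 h2 h12 s_le
  rwa [h1, h2] at this

lemma ords_dvd {a b : ℕ} (ha : a ∈ Ords s F) (hb : b ∈ Ords s F) (hd : a ∣ b) : a = b := by
  have h12 : (Fintype.card F + s + 1) * (Fintype.card F + 1 - s) = Fintype.card F ^ 2 + 1 := a_mul_a
  have c1 : Nat.Coprime (Fintype.card F + s + 1) (Fintype.card F - 1) :=
    Nat.Coprime.coprime_dvd_left ⟨_, h12.symm⟩ (coprime_q (F := F) (s := s))
  have c2 : Nat.Coprime (Fintype.card F + 1 - s) (Fintype.card F - 1) :=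
    Nat.Coprime.coprime_dvd_left ⟨_, (by rw [mul_comm]; exact h12.symm)⟩ (coprime_q (F := F) (s := s))
  have c3 := cop_orders (s := s) (F := F)
  have ha1 := ords_gt ha
  have hgen : ∀ {x y : ℕ}, Nat.Coprime x y → 1 < x → ¬ x ∣ y := by
    intro x y hc hx hdv
    have := Nat.Coprime.eq_one_of_dvd hc hdv
    omega
  rcases ha with rfl | rfl | rfl <;> rcases hb with rfl | rfl | rfl
  · rfl
  · exact absurd hd (hgen c1.symm ha1)
  · exact absurd hd (hgen c2.symm ha1)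
  · exact absurd hd (hgen c1 ha1)
  · rfl
  · exact absurd hd (hgen c3 ha1)
  · exact absurd hd (hgen c2 ha1)
  · exact absurd hd (hgen c3.symm ha1)
  · rfl

lemma cyc_cj {H : Subgroup (GG s F)} [IsCyclic H] (g : GG s F) : IsCyclic (cj g H) := by
  let e := H.equivMapOfInjective (MulAut.conj g).toMonoidHom (MulAut.conj g).injective
  exact isCyclic_of_surjective e e.surjective

lemma card_cj (H : Subgroup (GG s F)) (g : GG s F) : Nat.card (cj g H) = Nat.card H :=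
  Subgroup.card_map_of_injective (MulAut.conj g).injective

lemma cc_family {x : GG s F} (h4 : x ^ 4 ≠ 1) : IsCyclic (CC x) ∧ Nat.card (CC x) ∈ Ords s F := by
  rcases dich h4 with hF | ⟨g, l, hl, rfl⟩
  · obtain ⟨g₁, h1⟩ := exists_elt (s := s) (F := F) (a := _) (Or.inl rfl)
    obtain ⟨g₂, h2⟩ := exists_elt (s := s) (F := F) (a := _) (Or.inr rfl)
    obtain ⟨C1, C2, -, -⟩ := core h1 h2
    have h12 : orderOf g₁ * orderOf g₂ = Fintype.card F ^ 2 + 1 := by
      rw [h1, h2]; exact a_mul_a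
    have hne : ∀ {k : ℕ} {g : GG s F}, orderOf g = k → 1 < k → g ≠ 1 := by
      rintro k g hg hk rfl
      rw [orderOf_one] at hg
      omega
    have hm1 : (Fintype.card F + s + 1) ∈ Ords s F := Or.inr (Or.inl rfl)
    have hm2 : (Fintype.card F + 1 - s) ∈ Ords s F := Or.inr (Or.inr rfl)
    have hne1 := hne h1 (ords_gt hm1)
    have hne2 := hne h2 (ords_gt hm2)
    have hF1 := Fpf_of_pow hne1 (by rw [← h12, pow_mul, pow_orderOf_eq_one, one_pow])
    have hF2 := Fpf_of_pow hne2 (by rw [← h12, mul_comm, pow_mul, pow_orderOf_eq_one, one_pow])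
    have key : ∀ {g : GG s F}, Fpf s g → CC g = Subgroup.zpowers g → orderOf g ∈ Ords s F → x ∈ TT (CC g) →
        IsCyclic (CC x) ∧ Nat.card (CC x) ∈ Ords s F := by
      intro g hFg hC hO hx
      obtain ⟨y, a, ha, ha1, rfl⟩ := hx
      have e := (CC_eq hFg ha ha1).2
      rw [cc_conj, e, hC]
      exact ⟨cyc_cj y, by rw [card_cj, Nat.card_zpowers]; exact hO⟩
    rcases Fpf_cover h12 hF1 hF2 hF with hx | hx
    · exact key hF1 C1 (by rw [h1]; exact hm1) hx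
    · exact key hF2 C2 (by rw [h2]; exact hm2) hx
  · rw [cc_conj, cc_dG hl]
    haveI : IsCyclic (TorA s F) := by
      unfold TorA
      exact isCyclic_of_surjective (dHom s F).rangeRestrict (MonoidHom.rangeRestrict_surjective _)
    exact ⟨cyc_cj g, by rw [card_cj, card_TorA]; exact Or.inl rfl⟩

theorem part {x : GG s F} (hx : x ≠ 1) : ∃! U : Subgroup (GG s F),
    ((∃ P : Sylow 2 (GG s F), U = (P : Subgroup (GG s F))) ∨ (IsCyclic U ∧ Nat.card U ∈ Ords s F)) ∧ x ∈ U := by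
  haveI : Fact (Nat.Prime 2) := ⟨Nat.prime_two⟩
  by_cases h4 : x ^ 4 = 1
  · have hp : IsPGroup 2 (Subgroup.zpowers x) := by
      have hd : orderOf x ∣ 2 ^ 4 := by
        apply orderOf_dvd_of_pow_eq_one
        rw [show 2 ^ 4 = 4 * 4 by norm_num, pow_mul, h4, one_pow]
      obtain ⟨j, hj, e⟩ := (Nat.dvd_prime_pow Nat.prime_two).mp hd
      exact IsPGroup.of_card (n := j) (by rw [Nat.card_zpowers, e])
    obtain ⟨P, hP⟩ := hp.exists_le_sylow
    have hxP : x ∈ P := hP (Subgroup.mem_zpowers x)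
    refine ⟨P, ⟨Or.inl ⟨P, rfl⟩, hxP⟩, ?_⟩
    rintro U ⟨⟨Q, rfl⟩ | ⟨-, hc⟩, hxU⟩
    · exact sylow_unique hx Q P hxU hxP
    · exfalso
      have hd1 : orderOf x ∣ Nat.card U := by
        rw [← Subgroup.orderOf_mk x hxU]
        exact orderOf_dvd_natCard _
      have hd : orderOf x ∣ 2 ^ 2 := orderOf_dvd_of_pow_eq_one h4
      have hcop : Nat.Coprime (Nat.card U) (2 ^ 2) :=
        Nat.Coprime.pow_right 2 (Nat.coprime_two_right.mpr (ords_odd hc))
      have := Nat.Coprime.eq_one_of_dvd (Nat.Coprime.coprime_dvd_left hd hcop.symm) hd1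
      exact hx (orderOf_eq_one_iff.mp this)
  · obtain ⟨hcy, hcc⟩ := cc_family h4
    refine ⟨CC x, ⟨Or.inr ⟨hcy, hcc⟩, self_mem_CC x⟩, ?_⟩
    rintro U ⟨⟨Q, rfl⟩ | ⟨hc1, hc⟩, hxU⟩
    · exact absurd (pow4_of_sylow Q hxU) h4
    · have hle : U ≤ CC x := by
        intro c hc'
        haveI := hc1
        have e := (IsCyclic.commGroup (α := U)).mul_comm (⟨c, hc'⟩ : U) ⟨x, hxU⟩
        exact mem_CC.mpr (congrArg Subtype.val e)
      have hd := Subgroup.card_dvd_of_le hle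
      have he := ords_dvd hc hcc hd
      exact Subgroup.eq_of_le_of_card_ge hle he.ge

end sz


/-- The partition of the Suzuki group: with q = 2^(2m+1), m ≥ 1, r = 2^m and the Suzuki group realised as the stabiliser in SL₄ of the Suzuki–Tits ovoid, every non-identity element lies in exactly one subgroup that is either a Sylow 2-subgroup or a cyclic subgroup of order q − 1, q + 2r + 1 or q − 2r + 1. -/
theorem result {F : Type*} [Field F] [Fintype F] {m : ℕ} (hm : 1 ≤ m) (hF : Fintype.card F = 2 ^ (2 * m + 1)) (g : ↥(Cfsg.Sz F m)) (hg : g ≠ 1) :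
    ∃! U : Subgroup ↥(Cfsg.Sz F m), ((∃ P : Sylow 2 ↥(Cfsg.Sz F m), U = (P : Subgroup ↥(Cfsg.Sz F m))) ∨
      (IsCyclic ↥U ∧ Nat.card ↥U ∈ ({2 ^ (2 * m + 1) - 1, 2 ^ (2 * m + 1) + 2 ^ (m + 1) + 1, 2 ^ (2 * m + 1) - 2 ^ (m + 1) + 1} : Set ℕ))) ∧ g ∈ U := by
  revert g
  rw [← Cfsg.Agent.SzT.GG_eq m]
  intro g hg
  haveI hS : SzF F (2 ^ (m + 1)) := szF_of_card hm hF
  have hO : Ords (2 ^ (m + 1)) F = {2 ^ (2 * m + 1) - 1, 2 ^ (2 * m + 1) + 2 ^ (m + 1) + 1, 2 ^ (2 * m + 1) - 2 ^ (m + 1) + 1} := by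
    have hle := s_le (s := 2 ^ (m + 1)) (F := F)
    rw [hF] at hle
    unfold Ords
    rw [hF, Nat.sub_add_comm hle]
  rw [← hO]
  exact part hg


end Cfsg.Agent.S2238
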