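import Cfsg.Statements.S0738
import Mathlib
import Cfsg.Agent.Lib.Perm.Basic
import Cfsg.Agent.Lib.Core.Solvable
import Cfsg.Agent.Lib.Char.Burnside
import Cfsg.Agent.Lib.Char.Zass

set_option autoImplicit false
open Cfsg

namespace Cfsg.Agent.S0738

section aux

open MulAction

variable {G Ω : Type*} [Group G] [Finite G] [MulAction G Ω] [Fintype Ω]

theorem conj_mem_aux {a b : Ω} {F : Subgroup G} (hFle : F ≤ stabilizer G a)
    (hFn : (F.subgroupOf (stabilizer G a)).Normal) {h u : G} (hh : h ∈ stabilizer G a ⊓ stabilizer G b) (hu : u ∈ F) :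
    h * u * h⁻¹ ∈ F := by
  have h1 : (⟨u, hFle hu⟩ : stabilizer G a) ∈ F.subgroupOf (stabilizer G a) := Subgroup.mem_subgroupOf.mpr hu
  have h2 := hFn.conj_mem _ h1 ⟨h, hh.1⟩
  exact Subgroup.mem_subgroupOf.mp h2

theorem eq_of_smul_aux {a b : Ω} (hab : a ≠ b) {F : Subgroup G} (hFle : F ≤ stabilizer G a)
    (hreg : ∀ y z : Ω, y ≠ a → z ≠ a → ∃! u : F, (u : G) • y = z) {u v : G} (hu : u ∈ F) (hv : v ∈ F)
    (huv : u • b = v • b) : u = v := by
  have hua : u • a = a := hFle hu
  have h1 : u • b ≠ a := by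
    intro h0
    rw [← hua] at h0
    exact hab (smul_left_cancel u h0).symm
  have h2 := (hreg b (u • b) hab.symm h1).unique (y₁ := ⟨u, hu⟩) (y₂ := ⟨v, hv⟩) rfl huv.symm
  exact congrArg Subtype.val h2

theorem smul_ne_aux {a b : Ω} (hab : a ≠ b) {F : Subgroup G} (hFle : F ≤ stabilizer G a)
    (hreg : ∀ y z : Ω, y ≠ a → z ≠ a → ∃! u : F, (u : G) • y = z) {u : G} (hu : u ∈ F) (hu1 : u ≠ 1) :
    u • b ≠ a ∧ u • b ≠ b := by
  have hua : u • a = a := hFle hu
  constructor
  · intro h0
    rw [← hua] at h0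
    exact hab (smul_left_cancel u h0).symm
  · intro h0
    apply hu1
    apply eq_of_smul_aux hab hFle hreg hu F.one_mem
    rw [h0, one_smul]

theorem card_orbit_aux (hZ : Cfsg.IsZassenhausGroup G Ω) {a b c : Ω} (hab : a ≠ b) (hca : c ≠ a) (hcb : c ≠ b) :
    (orbit (stabilizer G a ⊓ stabilizer G b : Subgroup G) c).ncard =
      Nat.card (stabilizer G a ⊓ stabilizer G b : Subgroup G) := by
  rw [← Nat.card_coe_set_eq]
  symm
  apply Nat.card_congr
  refine Equiv.ofBijective (fun h => ⟨h • c, mem_orbit _ _⟩) ⟨?_, ?_⟩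
  · rintro ⟨x, hx⟩ ⟨y, hy⟩ hxy
    have h1 : x • c = y • c := congrArg Subtype.val hxy
    have h2 : (y⁻¹ * x) = 1 := by
      apply hZ.2.2.1 _ a b c hab (Ne.symm hcb) (Ne.symm hca)
      · have h3 : x • a = a := hx.1
        have h4 : y⁻¹ • a = a := by
          rw [inv_smul_eq_iff]
          exact hy.1.symm
        rw [mul_smul, h3, h4]
      · have h3 : x • b = b := hx.2
        have h4 : y⁻¹ • b = b := by
          rw [inv_smul_eq_iff]
          exact hy.2.symm
        rw [mul_smul, h3, h4]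
      · rw [mul_smul, h1, inv_smul_smul]
    exact Subtype.ext (inv_mul_eq_one.mp h2).symm
  · rintro ⟨_, h, rfl⟩
    exact ⟨h, rfl⟩

/-- `d` divides the number of non-identity elements of an invariant subgroup. -/
theorem dvd_aux (hZ : Cfsg.IsZassenhausGroup G Ω) {a b : Ω} (hab : a ≠ b) {F : Subgroup G}
    (hFle : F ≤ stabilizer G a) (hFn : (F.subgroupOf (stabilizer G a)).Normal)
    (hreg : ∀ y z : Ω, y ≠ a → z ≠ a → ∃! u : F, (u : G) • y = z) (A : Subgroup G) (hAF : A ≤ F)
    (hAinv : ∀ h ∈ stabilizer G a ⊓ stabilizer G b, ∀ u ∈ A, h * u * h⁻¹ ∈ A) :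
    Nat.card (stabilizer G a ⊓ stabilizer G b : Subgroup G) ∣ Nat.card A - 1 := by
  classical
  let A' : Set Ω := (fun u : G => u • b) '' ((A : Set G) \ {1})
  have hcard : A'.ncard = Nat.card A - 1 := by
    have hinj : Set.InjOn (fun u : G => u • b) ((A : Set G) \ {1}) := by
      intro u hu v hv huv
      exact eq_of_smul_aux hab hFle hreg (hAF hu.1) (hAF hv.1) huv
    rw [Set.ncard_image_of_injOn hinj, Set.ncard_sdiff_singleton_of_mem (Subgroup.one_mem A)]
    rw [← Nat.card_coe_set_eq]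
    rfl
  rw [← hcard]
  refine Lib.Perm.dvd_ncard_of_orbits (Γ := G) (α := Ω) (stabilizer G a ⊓ stabilizer G b) A' ?_ _ ?_
  · rintro h hh _ ⟨u, ⟨hu, hu1⟩, rfl⟩
    refine ⟨h * u * h⁻¹, ⟨hAinv h hh u hu, ?_⟩, ?_⟩
    · intro h0
      apply hu1
      have h2 : h * u * h⁻¹ = 1 := h0
      have h3 : u = h⁻¹ * (h * u * h⁻¹) * h := by group
      rw [h3, h2]
      simp
    · show (h * u * h⁻¹) • b = h • (u • b)
      have h3 : h • b = b := hh.2
      have h4 : h⁻¹ • b = b := by
        rw [inv_smul_eq_iff]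
        exact h3.symm
      rw [mul_smul, mul_smul, h4]
  · rintro _ ⟨u, ⟨hu, hu1⟩, rfl⟩
    have h1 := smul_ne_aux hab hFle hreg (hAF hu) hu1
    rw [card_orbit_aux hZ hab h1.1 h1.2]

theorem card_F_aux {a b : Ω} (hab : a ≠ b) {F : Subgroup G} (hFle : F ≤ stabilizer G a)
    (hreg : ∀ y z : Ω, y ≠ a → z ≠ a → ∃! u : F, (u : G) • y = z) :
    Nat.card F + 1 = Fintype.card Ω := by
  classical
  have h1 : Nat.card F = Nat.card {c : Ω // c ≠ a} := by
    apply Nat.card_congr
    refine Equiv.ofBijective (fun u => ⟨(u : G) • b, ?_⟩) ⟨?_, ?_⟩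
    · intro h0
      have hua : (u : G) • a = a := hFle u.2
      rw [← hua] at h0
      exact hab (smul_left_cancel _ h0).symm
    · intro u v huv
      exact Subtype.ext (eq_of_smul_aux hab hFle hreg u.2 v.2 (congrArg Subtype.val huv))
    · rintro ⟨c, hc⟩
      obtain ⟨u, hu, -⟩ := hreg b c hab.symm hc
      exact ⟨u, Subtype.ext hu⟩
  rw [h1, Nat.card_eq_fintype_card, Fintype.card_subtype_compl]
  have h2 : Fintype.card {x // x = a} = 1 := Fintype.card_unique
  have : 0 < Fintype.card Ω := Fintype.card_pos_iff.mpr ⟨a⟩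
  omega

/-- Invariant subgroups of `F` are trivial or everything. -/
theorem inv_eq_aux (hZ : Cfsg.IsZassenhausGroup G Ω) {a b : Ω} (hab : a ≠ b)
    (hd : Fintype.card Ω - 2 ≤ 2 * Nat.card ↥(stabilizer G a ⊓ stabilizer G b)) {F : Subgroup G}
    (hFle : F ≤ stabilizer G a) (hFn : (F.subgroupOf (stabilizer G a)).Normal)
    (hreg : ∀ y z : Ω, y ≠ a → z ≠ a → ∃! u : F, (u : G) • y = z) (A : Subgroup G) (hAF : A ≤ F)
    (hAinv : ∀ h ∈ stabilizer G a ⊓ stabilizer G b, ∀ u ∈ A, h * u * h⁻¹ ∈ A) (hA1 : A ≠ ⊥) : A = F := by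
  have hd1 := dvd_aux hZ hab hFle hFn hreg A hAF hAinv
  have hd2 := dvd_aux hZ hab hFle hFn hreg F le_rfl (fun h hh u hu => conj_mem_aux hFle hFn hh hu)
  have hc := card_F_aux hab hFle hreg
  have hApos : 1 < Nat.card A := by
    have h1 : Nat.card A ≠ 1 := fun h1 => hA1 (Subgroup.card_eq_one.mp h1)
    have h2 : 0 < Nat.card A := Nat.card_pos
    omega
  have hdvd : Nat.card A ∣ Nat.card F := Subgroup.card_dvd_of_le hAF
  have hle : Nat.card A ≤ Nat.card F := Nat.le_of_dvd Nat.card_pos hdvd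
  set d := Nat.card ↥(stabilizer G a ⊓ stabilizer G b) with hdd
  have hdpos : 0 < d := Nat.card_pos
  apply Subgroup.eq_of_le_of_card_ge hAF
  by_contra hlt
  push Not at hlt
  obtain ⟨r, hr⟩ := hd1
  obtain ⟨l, hl⟩ := hd2
  have hF1 : Nat.card F - 1 = Fintype.card Ω - 2 := by omega
  have hl2 : l ≤ 2 := by
    by_contra h2
    push Not at h2
    have : d * 3 ≤ d * l := Nat.mul_le_mul_left d h2
    omega
  have hrl : r < l := by
    by_contra h2
    push Not at h2
    have : d * l ≤ d * r := Nat.mul_le_mul_left d h2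
    omega
  have hr1 : 1 ≤ r := by
    by_contra h2
    have : r = 0 := by omega
    rw [this] at hr
    omega
  have hl' : l = 2 := by omega
  have hr' : r = 1 := by omega
  subst hl' hr'
  obtain ⟨t, ht⟩ := hdvd
  have hA : Nat.card A = d + 1 := by omega
  have hFc : Nat.card F = 2 * d + 1 := by omega
  rw [hA, hFc] at ht
  rcases t with _ | _ | t
  · omega
  · omega
  · nlinarith

theorem orderOf_conj_aux (h x : G) : orderOf (h * x * h⁻¹) = orderOf x := by
  have := MulEquiv.orderOf_eq (MulAut.conj h) x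
  rwa [MulAut.conj_apply] at this

/-- At most two orders occur. -/
theorem two_orders_aux (hZ : Cfsg.IsZassenhausGroup G Ω) {a b : Ω} (hab : a ≠ b)
    (hd : Fintype.card Ω - 2 ≤ 2 * Nat.card ↥(stabilizer G a ⊓ stabilizer G b)) {F : Subgroup G}
    (hFle : F ≤ stabilizer G a) (hFn : (F.subgroupOf (stabilizer G a)).Normal)
    (hreg : ∀ y z : Ω, y ≠ a → z ≠ a → ∃! u : F, (u : G) • y = z) {x y z : G} (hx : x ∈ F) (hy : y ∈ F) (hz : z ∈ F)
    (hx1 : x ≠ 1) (hy1 : y ≠ 1) (hz1 : z ≠ 1) (hxy : orderOf x ≠ orderOf y) :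
    orderOf z = orderOf x ∨ orderOf z = orderOf y := by
  classical
  let K : Subgroup G := stabilizer G a ⊓ stabilizer G b
  have key : ∀ {u v : G} (hu : u ∈ F) (hv : v ∈ F), v • b ∈ orbit K (u • b) → orderOf v = orderOf u := by
    rintro u v hu hv ⟨⟨h, hh⟩, he⟩
    have he' : h • (u • b) = v • b := he
    have h1 : (h * u * h⁻¹) • b = v • b := by
      have h3 : h • b = b := hh.2
      have h4 : h⁻¹ • b = b := by
        rw [inv_smul_eq_iff]
        exact h3.symm
      rw [mul_smul, mul_smul, h4, he']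
    have h2 := eq_of_smul_aux hab hFle hreg (conj_mem_aux hFle hFn hh hu) hv h1
    rw [← h2, orderOf_conj_aux]
  by_contra hcon
  push Not at hcon
  have hx' := smul_ne_aux hab hFle hreg hx hx1
  have hy' := smul_ne_aux hab hFle hreg hy hy1
  have hz' := smul_ne_aux hab hFle hreg hz hz1
  have hdisj : Disjoint (orbit K (x • b)) (orbit K (y • b)) := by
    rw [Set.disjoint_left]
    intro c hc1 hc2
    apply hxy
    have h2 : orbit K c = orbit K (x • b) := orbit_eq_iff.mpr hc1
    have h3 : orbit K c = orbit K (y • b) := orbit_eq_iff.mpr hc2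
    have h4 : x • b ∈ orbit K (y • b) := by
      rw [← h3, h2]
      exact mem_orbit_self _
    exact key hy hx h4
  have hz1' : z • b ∉ orbit K (x • b) := fun h => hcon.1 (key hx hz h)
  have hz2' : z • b ∉ orbit K (y • b) := fun h => hcon.2 (key hy hz h)
  -- counting
  let X : Set Ω := {c | c ≠ a ∧ c ≠ b}
  have hXcard : X.ncard = Fintype.card Ω - 2 := by
    have h1 : X = Set.univ \ {a, b} := by
      ext c
      simp [X]
    rw [h1, Set.ncard_diff (by simp), Set.ncard_univ, Nat.card_eq_fintype_card, Set.ncard_pair hab]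
  have hsub : insert (z • b) (orbit K (x • b) ∪ orbit K (y • b)) ⊆ X := by
    have hO : ∀ c, c ≠ a → c ≠ b → orbit K c ⊆ X := by
      rintro c hca hcb _ ⟨⟨h, hh⟩, rfl⟩
      constructor
      · intro h0
        have h3 : h • a = a := hh.1
        have h4 : h • c = a := h0
        rw [← h3] at h4
        exact hca (smul_left_cancel _ h4)
      · intro h0
        have h3 : h • b = b := hh.2
        have h4 : h • c = b := h0
        rw [← h3] at h4
        exact hcb (smul_left_cancel _ h4)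
    intro c hc
    rcases hc with rfl | hc | hc
    · exact hz'
    · exact hO _ hx'.1 hx'.2 hc
    · exact hO _ hy'.1 hy'.2 hc
  have hcount := Set.ncard_le_ncard hsub (Set.toFinite _)
  rw [Set.ncard_insert_of_notMem (by
    rintro (h | h)
    · exact hz1' h
    · exact hz2' h) (Set.toFinite _), Set.ncard_union_eq hdisj (Set.toFinite _) (Set.toFinite _),
    card_orbit_aux hZ hab hx'.1 hx'.2, card_orbit_aux hZ hab hy'.1 hy'.2, hXcard] at hcount
  omega

end aux

/-- Let a finite Zassenhaus group of degree `n + 1` have two-point stabilisers of order `d` with `2d ≥ n - 1`. Then a normal subgroup of a point stabiliser acting regularly on the remaining points is elementary abelian, and the degree is a prime power plus one. -/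
theorem result {G Ω : Type*} [Group G] [Finite G] [MulAction G Ω] [Fintype Ω] (hZ : Cfsg.IsZassenhausGroup G Ω) {a b : Ω} (hab : a ≠ b) (hd : Fintype.card Ω - 2 ≤ 2 * Nat.card ↥(MulAction.stabilizer G a ⊓ MulAction.stabilizer G b)) (F : Subgroup G) (hFle : F ≤ MulAction.stabilizer G a) (hFn : (F.subgroupOf (MulAction.stabilizer G a)).Normal) (hreg : ∀ y z : Ω, y ≠ a → z ≠ a → ∃! u : F, (u : G) • y = z) : IsMulCommutative F ∧ ∃ p f : ℕ, p.Prime ∧ (∀ u ∈ F, u ^ p = 1) ∧ Fintype.card Ω = p ^ f + 1 := by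
  classical
  have hinv := inv_eq_aux hZ hab hd hFle hFn hreg
  have hconjF : ∀ h ∈ MulAction.stabilizer G a ⊓ MulAction.stabilizer G b, ∀ u ∈ F, h * u * h⁻¹ ∈ F :=
    fun h hh u hu => conj_mem_aux hFle hFn hh hu
  have hFcard := card_F_aux hab hFle hreg
  -- F is nontrivial
  obtain ⟨g₀, hg₀, hg₀a, hg₀b⟩ := Lib.Char.zass_two_stabilizer_ne_bot hZ hab
  haveI hfaith := hZ.1
  obtain ⟨c₀, hc₀⟩ : ∃ c : Ω, g₀ • c ≠ c := by
    by_contra hcon
    push Not at hcon
    apply hg₀
    apply FaithfulSMul.eq_of_smul_eq_smul (α := Ω)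
    intro x
    simp [hcon x]
  have hc₀a : c₀ ≠ a := by
    rintro rfl
    exact hc₀ hg₀a
  have hc₀b : c₀ ≠ b := by
    rintro rfl
    exact hc₀ hg₀b
  haveI hFnt : Nontrivial F := by
    rw [← Finite.one_lt_card_iff_nontrivial]
    have h1 : ({a, b, c₀} : Finset Ω).card = 3 := by
      rw [Finset.card_insert_of_notMem (by simp [hab, hc₀a.symm]), Finset.card_pair hc₀b.symm]
    have h2 := Finset.card_le_univ ({a, b, c₀} : Finset Ω)
    omega
  have hFne : Nat.card F ≠ 1 := (Finite.one_lt_card_iff_nontrivial.mpr hFnt).ne'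
  -- characteristic subgroups are trivial or everything
  have hchar : ∀ C : Subgroup F, C.Characteristic → C ≠ ⊥ → C = ⊤ := by
    intro C hC hC1
    let A : Subgroup G := C.map F.subtype
    have hAF : A ≤ F := by
      rintro _ ⟨u, _, rfl⟩
      exact u.2
    have hA1 : A ≠ ⊥ := by
      intro h0
      exact hC1 ((Subgroup.map_eq_bot_iff_of_injective _ F.subtype_injective).mp h0)
    have hAinv : ∀ h ∈ MulAction.stabilizer G a ⊓ MulAction.stabilizer G b, ∀ u ∈ A, h * u * h⁻¹ ∈ A := by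
      rintro h hh _ ⟨u, hu, rfl⟩
      let σ : F ≃* F :=
        { toFun := fun v => ⟨h * v * h⁻¹, hconjF h hh v v.2⟩
          invFun := fun v => ⟨h⁻¹ * v * h, by
            have := hconjF h⁻¹ (Subgroup.inv_mem _ hh) v v.2
            simpa using this⟩
          left_inv := fun v => by
            apply Subtype.ext
            show h⁻¹ * (h * v * h⁻¹) * h = v
            group
          right_inv := fun v => by
            apply Subtype.ext
            show h * (h⁻¹ * v * h) * h⁻¹ = v
            group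
          map_mul' := fun v w => by
            apply Subtype.ext
            show h * (v * w) * h⁻¹ = h * v * h⁻¹ * (h * w * h⁻¹)
            group }
      have h1 : σ u ∈ C := (Subgroup.characteristic_iff_le_comap.mp hC σ) hu
      exact ⟨σ u, h1, rfl⟩
    have h2 := hinv A hAF hAinv hA1
    rw [eq_top_iff]
    intro u _
    have h3 : (u : G) ∈ A := by
      rw [h2]
      exact u.2
    obtain ⟨v, hv, hvu⟩ := h3
    have : v = u := Subtype.ext hvu
    rwa [← this]
  -- a prime and an element of that order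
  obtain ⟨p, hp, hpd⟩ := Nat.exists_prime_and_dvd hFne
  haveI : Fact p.Prime := ⟨hp⟩
  obtain ⟨⟨x₀, hx₀F⟩, hx₀o⟩ := exists_prime_orderOf_dvd_card' (G := F) p hpd
  have hx₀o' : orderOf x₀ = p := by rwa [Subgroup.orderOf_mk] at hx₀o
  have hx₀1 : x₀ ≠ 1 := by
    rintro rfl
    rw [orderOf_one] at hx₀o'
    exact hp.one_lt.ne hx₀o'
  -- only one prime divides the order
  have huniq : ∀ {r : ℕ}, r.Prime → r ∣ Nat.card F → r = p := by
    intro r hr hrd
    by_contra hrp
    haveI : Fact r.Prime := ⟨hr⟩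
    obtain ⟨⟨y, hyF⟩, hyo⟩ := exists_prime_orderOf_dvd_card' (G := F) r hrd
    have hyo' : orderOf y = r := by rwa [Subgroup.orderOf_mk] at hyo
    have hy1 : y ≠ 1 := by
      rintro rfl
      rw [orderOf_one] at hyo'
      exact hr.one_lt.ne hyo'
    have hords : ∀ z ∈ F, z ≠ 1 → orderOf z = p ∨ orderOf z = r := by
      intro z hz hz1
      rw [← hx₀o', ← hyo']
      exact two_orders_aux hZ hab hd hFle hFn hreg hx₀F hyF hz hx₀1 hy1 hz1 (by rw [hx₀o', hyo']; exact Ne.symm hrp)
    -- the prime divisors of the order are p, r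
    have hprimes : ∀ s : ℕ, s.Prime → s ∣ Nat.card F → s = p ∨ s = r := by
      intro s hs hsd
      haveI : Fact s.Prime := ⟨hs⟩
      obtain ⟨⟨w, hwF⟩, hwo⟩ := exists_prime_orderOf_dvd_card' (G := F) s hsd
      have hwo' : orderOf w = s := by rwa [Subgroup.orderOf_mk] at hwo
      have hw1 : w ≠ 1 := by
        rintro rfl
        rw [orderOf_one] at hwo'
        exact hs.one_lt.ne hwo'
      rw [← hwo']
      exact hords w hwF hw1
    -- Burnside
    have hcardF : ∃ a' b' : ℕ, Nat.card F = p ^ a' * r ^ b' := by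
      have hne0 : Nat.card F ≠ 0 := Nat.card_pos.ne'
      have h1 : ordCompl[p] (Nat.card F) ≠ 0 := (Nat.ordCompl_pos p hne0).ne'
      have h2 : ∀ {d : ℕ}, d.Prime → d ∣ ordCompl[p] (Nat.card F) → d = r := by
        intro d hd hdd
        have h3 : d ∣ Nat.card F := hdd.trans (Nat.ordCompl_dvd _ _)
        rcases hprimes d hd h3 with h4 | h4
        · exfalso
          rw [h4] at hdd
          exact Nat.not_dvd_ordCompl hp hne0 hdd
        · exact h4
      have h5 := Nat.ordProj_mul_ordCompl_eq_self (Nat.card F) p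
      have h6 := Nat.eq_prime_pow_of_unique_prime_dvd h1 h2
      refine ⟨(Nat.card F).factorization p, (ordCompl[p] (Nat.card F)).primeFactorsList.length, ?_⟩
      rw [← h6]
      exact h5.symm
    obtain ⟨a', b', hab'⟩ := hcardF
    haveI hsolv : Group.IsSolvable F := Lib.Char.isSolvable_of_card p r a' b' hp hr hab'
    obtain ⟨C, hC1, hCc, hCab⟩ := Lib.Core.exists_abelian_characteristic (G := F)
    have hCtop := hchar C hCc hC1
    have hcomm : ∀ u v : F, u * v = v * u := by
      intro u v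
      have h1 : u ∈ C := hCtop ▸ Subgroup.mem_top u
      have h2 : v ∈ C := hCtop ▸ Subgroup.mem_top v
      have h3 := hCab.is_comm.comm (⟨u, h1⟩ : C) ⟨v, h2⟩
      exact congrArg Subtype.val h3
    have hxy : Commute x₀ y := congrArg Subtype.val (hcomm ⟨x₀, hx₀F⟩ ⟨y, hyF⟩)
    have hcop : Nat.Coprime (orderOf x₀) (orderOf y) := by
      rw [hx₀o', hyo']
      exact (Nat.coprime_primes hp hr).mpr (Ne.symm hrp)
    have hord := hxy.orderOf_mul_eq_mul_orderOf_of_coprime hcop
    rw [hx₀o', hyo'] at hord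
    have hz1 : x₀ * y ≠ 1 := by
      intro h0
      rw [h0, orderOf_one] at hord
      have h2 := hp.two_le
      have h3 := hr.two_le
      nlinarith
    have h2 := hp.two_le
    have h3 := hr.two_le
    rcases hords (x₀ * y) (F.mul_mem hx₀F hyF) hz1 with h4 | h4 <;> rw [hord] at h4 <;> nlinarith
  have hne0 : Nat.card F ≠ 0 := Nat.card_pos.ne'
  have hcardp := Nat.eq_prime_pow_of_unique_prime_dvd hne0 huniq
  have hpg : IsPGroup p F := IsPGroup.of_card hcardp
  -- the centre
  haveI : Nontrivial (Subgroup.center F) := hpg.center_nontrivial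
  have hcentertop : Subgroup.center F = ⊤ := by
    apply hchar _ inferInstance
    intro h0
    have : Nontrivial (⊥ : Subgroup F) := h0 ▸ (inferInstance : Nontrivial (Subgroup.center F))
    exact not_subsingleton _ (inferInstance : Subsingleton (⊥ : Subgroup F))
  have hcomm : ∀ u v : F, u * v = v * u := by
    intro u v
    have h1 : u ∈ Subgroup.center F := hcentertop ▸ Subgroup.mem_top u
    exact (Subgroup.mem_center_iff.mp h1 v).symm
  have hcomm' : ∀ u ∈ F, ∀ v ∈ F, u * v = v * u := fun u hu v hv =>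
    congrArg Subtype.val (hcomm ⟨u, hu⟩ ⟨v, hv⟩)
  -- the elements of order dividing p
  let E₁ : Subgroup G :=
    { carrier := {u | u ∈ F ∧ u ^ p = 1}
      one_mem' := ⟨F.one_mem, one_pow _⟩
      mul_mem' := by
        rintro u v ⟨hu, hu1⟩ ⟨hv, hv1⟩
        refine ⟨F.mul_mem hu hv, ?_⟩
        have hc : Commute u v := hcomm' u hu v hv
        rw [hc.mul_pow, hu1, hv1, one_mul]
      inv_mem' := by
        rintro u ⟨hu, hu1⟩
        exact ⟨F.inv_mem hu, by rw [inv_pow, hu1, inv_one]⟩ }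
  have hE₁ : E₁ = F := by
    apply hinv E₁ (fun u hu => hu.1)
    · rintro h hh u ⟨hu, hu1⟩
      refine ⟨hconjF h hh u hu, ?_⟩
      rw [conj_pow, hu1]
      group
    · intro h0
      have h1 : x₀ ∈ E₁ := ⟨hx₀F, by rw [← hx₀o']; exact pow_orderOf_eq_one x₀⟩
      rw [h0, Subgroup.mem_bot] at h1
      exact hx₀1 h1
  refine ⟨⟨⟨hcomm⟩⟩, p, (Nat.card F).primeFactorsList.length, hp, ?_, ?_⟩
  · intro u hu
    have h1 : u ∈ E₁ := hE₁ ▸ hu
    exact h1.2
  · rw [← hcardp, hFcard]

end Cfsg.Agent.S0738
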