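import Cfsg.Statements.S0740
import Mathlib
import Cfsg.Agent.Lib.Perm.ZassSwap

set_option autoImplicit false
open Cfsg

namespace Cfsg.Agent.S0740

open Lib.Perm

/-- In a finite Zassenhaus group any two points `a ≠ b` are swapped by an involution; every such involution has exactly one fixed point when the degree is odd and 0 or 2 fixed points when the degree is even; and if the two-point stabiliser has even order, some such involution has exactly 2 fixed points. -/
theorem result {G Ω : Type*} [Group G] [Finite G] [MulAction G Ω] [Fintype Ω] (hZ : Cfsg.IsZassenhausGroup G Ω) {a b : Ω} (hab : a ≠ b) : (∃ s : G, orderOf s = 2 ∧ s • a = b ∧ s • b = a) ∧ (∀ s : G, orderOf s = 2 → s • a = b → s • b = a → (Odd (Fintype.card Ω) → Nat.card (MulAction.fixedBy Ω s) = 1) ∧ (Even (Fintype.card Ω) → Nat.card (MulAction.fixedBy Ω s) = 0 ∨ Nat.card (MulAction.fixedBy Ω s) = 2)) ∧ (Even (Fintype.card Ω) → Even (Nat.card ↥(MulAction.stabilizer G a ⊓ MulAction.stabilizer G b)) → ∃ s : G, orderOf s = 2 ∧ s • a = b ∧ s • b = a ∧ Nat.card (MulAction.fixedBy Ω s) = 2) := by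
  classical
  haveI := Fintype.ofFinite G
  refine ⟨?_, ?_, ?_⟩
  · by_cases hdeg : Odd (Fintype.card Ω) ∨ Odd (Nat.card ↥(MulAction.stabilizer G a ⊓ MulAction.stabilizer G b))
    · obtain ⟨t₀, ht1, ht2⟩ := Lib.Char.zass_two_trans hZ a b b a hab (Ne.symm hab)
      obtain ⟨k, m, hm, hord⟩ := Nat.exists_eq_two_pow_mul_odd (orderOf_pos t₀).ne'
      obtain ⟨j, rfl⟩ := hm
      have hs1 : t₀ ^ 2 • a = a := by rw [pow_two, mul_smul, ht1, ht2]
      have hs2 : t₀ ^ 2 • b = b := by rw [pow_two, mul_smul, ht2, ht1]
      have hsq : ∀ (i : ℕ), (t₀ ^ 2) ^ i • a = a ∧ (t₀ ^ 2) ^ i • b = b := by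
        intro i
        induction i with
        | zero => simp
        | succ i ih =>
          rw [pow_succ, mul_smul, mul_smul, hs1, hs2]
          exact ih
      set t := t₀ ^ (2 * j + 1) with ht
      have hta : t • a = b := by
        rw [ht, pow_succ, pow_mul, mul_smul, ht1, (hsq j).2]
      have htb : t • b = a := by
        rw [ht, pow_succ, pow_mul, mul_smul, ht2, (hsq j).1]
      have ht2k : t ^ 2 ^ k = 1 := by
        rw [ht, ← pow_mul, mul_comm, ← hord, pow_orderOf_eq_one]
      have ht1 : t ≠ 1 := by
        rintro h0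
        rw [h0, one_smul] at hta
        exact hab hta
      have htsq : t ^ 2 = 1 := by
        rcases hdeg with hdeg | hdeg
        · have hpar := fix_parity_pow (Ω := Ω) t k ht2k
          have hodd : Odd (Nat.card (MulAction.fixedBy Ω t)) := by
            rw [Nat.odd_iff] at hdeg ⊢
            unfold Nat.ModEq at hpar
            omega
          have hpos : 0 < Nat.card (MulAction.fixedBy Ω t) := hodd.pos
          haveI : Nonempty (MulAction.fixedBy Ω t) := (Nat.card_pos_iff.mp hpos).1
          obtain ⟨⟨c, hc⟩⟩ := this
          have hc' : t • c = c := hc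
          have hca : a ≠ c := by
            rintro rfl
            exact hab (hc'.symm.trans hta)
          have hcb : b ≠ c := by
            rintro rfl
            exact hab (htb.symm.trans hc')
          apply hZ.2.2.1 (t ^ 2) a b c hab hcb hca
          · rw [pow_two, mul_smul, hta, htb]
          · rw [pow_two, mul_smul, htb, hta]
          · rw [pow_two, mul_smul, hc', hc']
        · have hmem : t ^ 2 ∈ MulAction.stabilizer G a ⊓ MulAction.stabilizer G b := by
            constructor
            · show t ^ 2 • a = a
              rw [pow_two, mul_smul, hta, htb]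
            · show t ^ 2 • b = b
              rw [pow_two, mul_smul, htb, hta]
          have h1 : orderOf (t ^ 2) ∣ Nat.card ↥(MulAction.stabilizer G a ⊓ MulAction.stabilizer G b) := by
            have := orderOf_dvd_natCard (⟨t ^ 2, hmem⟩ : ↥(MulAction.stabilizer G a ⊓ MulAction.stabilizer G b))
            rwa [Subgroup.orderOf_mk] at this
          have h2 : orderOf (t ^ 2) ∣ 2 ^ k := by
            apply orderOf_dvd_of_pow_eq_one
            rw [← pow_mul, mul_comm, pow_mul, ht2k, one_pow]
          have h3 : Nat.Coprime (orderOf (t ^ 2)) 2 := by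
            apply Nat.Coprime.coprime_dvd_left h1
            exact (Nat.coprime_two_right).mpr hdeg
          have h4 : orderOf (t ^ 2) = 1 := by
            have h5 : Nat.Coprime (orderOf (t ^ 2)) (2 ^ k) := h3.pow_right k
            exact Nat.Coprime.eq_one_of_dvd h5 h2
          exact orderOf_eq_one_iff.mp h4
      exact ⟨t, orderOf_eq_prime htsq ht1, hta, htb⟩
    · push Not at hdeg
      rw [Nat.not_odd_iff_even, Nat.not_odd_iff_even] at hdeg
      obtain ⟨s, h1, h2, h3, _⟩ := exists_swap_two hZ hab hdeg.2
      exact ⟨s, h1, h2, h3⟩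
  · intro s hs hsa hsb
    have hs1 : s ≠ 1 := by
      rintro rfl
      simp at hs
    have hle := fix_le_two hZ (Ω := Ω) hs1
    have hpar := fix_parity_pow (Ω := Ω) s 1 (by rw [pow_one, ← hs]; exact pow_orderOf_eq_one s)
    constructor
    · intro hodd
      rw [Nat.odd_iff] at hodd
      unfold Nat.ModEq at hpar
      omega
    · intro heven
      rw [Nat.even_iff] at heven
      unfold Nat.ModEq at hpar
      omega
  · intro _ heven
    exact exists_swap_two hZ hab heven

end Cfsg.Agent.S0740
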