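import Cfsg.Statements.S0996
import Mathlib
import Cfsg.Agent.Lib.BR.CaseB

set_option autoImplicit false
open Cfsg

namespace Cfsg.Agent.S0996

/-- Let G be a finite perfect group containing an element z of prime order p whose centralizer is the cyclic group it generates, and suppose the number 1 + n * p of Sylow p-subgroups satisfies n < (p + 3) / 2. Then p > 3 and G is isomorphic to the projective special linear group of dimension 2 over the field with p elements, or p - 1 is a power of 2 and G is isomorphic to that group over the field with p - 1 elements. -/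
theorem result {G : Type*} [Group G] [Finite G] (hperf : commutator G = ⊤) (p : ℕ) [Fact p.Prime] (z : G) (hz : orderOf z = p) (hC : Subgroup.centralizer ({z} : Set G) = Subgroup.zpowers z) (hn : 2 * Nat.card (Sylow p G) < (p + 1) * (p + 2)) : (∃ (F : Type) (_ : Field F) (_ : Fintype F), Fintype.card F = p ∧ 3 < p ∧ Nonempty (G ≃* Matrix.ProjectiveSpecialLinearGroup (Fin 2) F)) ∨ (∃ (m : ℕ) (F : Type) (_ : Field F) (_ : Fintype F), Fintype.card F = 2 ^ m ∧ p = 2 ^ m + 1 ∧ 3 < p ∧ Nonempty (G ≃* Matrix.ProjectiveSpecialLinearGroup (Fin 2) F)) := by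
  classical
  haveI : Fintype G := Fintype.ofFinite G
  obtain ⟨t, s, n, Xs, Ys, δ, ε, deg, D⟩ := Lib.BR.brd_exists hperf hz hC hn
  obtain ⟨X, θ₀, hθ₀, hX⟩ := D.exists_X
  rcases D.dichotomy hθ₀ hX with ⟨h1, h2⟩ | ⟨hs3, hns, ht, hXp, hε, ha, hb⟩
  · obtain ⟨h3, ⟨φ⟩⟩ := D.case_a h1 h2
    left
    exact ⟨ZMod p, inferInstance, ZMod.fintype p, ZMod.card p, h3, ⟨φ⟩⟩
  · right
    obtain ⟨e, hpe, hp3, hF⟩ := D.case_b hX hs3 hns ht hXp hε ha hb
    have he : e ≠ 0 := by
      rintro rfl
      simp at hpe
      omega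
    letI : Fintype (GaloisField 2 e) := Fintype.ofFinite _
    have hc : Fintype.card (GaloisField 2 e) = 2 ^ e := by
      rw [← Nat.card_eq_fintype_card, GaloisField.card 2 e he]
    exact ⟨e, GaloisField 2 e, inferInstance, inferInstance, hc, hpe, hp3, hF _ hc⟩

end Cfsg.Agent.S0996
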