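import Cfsg.Statements.S0867
import Cfsg.Agent.Lib.Char.DetExt

set_option autoImplicit false
open Cfsg

namespace Cfsg.Agent.S0867

/-- Let N be a normal subgroup of the finite group G and ϑ an irreducible character of N of degree d, invariant under conjugation by G, such that the index of N is coprime to the product of d and the determinantal order of ϑ. Then there is an irreducible character χ of G restricting to ϑ whose determinantal order equals that of ϑ, and χ is the only irreducible character of G restricting to ϑ whose determinantal order is coprime to the index of N. -/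
theorem result {G : Type*} [Group G] [Finite G] (N : Subgroup G) [hN : N.Normal] (ϑ : N → ℂ) (hϑ : Cfsg.IsIrrCharacter N ϑ) (hinv : ∀ (g : G) (n : N), ϑ ⟨g * n * g⁻¹, hN.conj_mem (n : G) n.2 g⟩ = ϑ n) (d : ℕ) (hd : ϑ 1 = d) (hcop : Nat.Coprime N.index (Cfsg.detOrder ϑ * d)) : ∃ χ : G → ℂ, (Cfsg.IsIrrCharacter G χ ∧ (∀ n : N, χ n = ϑ n) ∧ Cfsg.detOrder χ = Cfsg.detOrder ϑ) ∧ ∀ χ' : G → ℂ, Cfsg.IsIrrCharacter G χ' → (∀ n : N, χ' n = ϑ n) → Nat.Coprime N.index (Cfsg.detOrder χ') → χ' = χ := by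
  classical
  obtain ⟨d', X, hX, rfl⟩ := hϑ
  obtain rfl := Cfsg.Agent.Lib.Char.dim_eq_of_char_one X hd
  have hU := Cfsg.Agent.Lib.Char.nontrivial_of_irr hX
  obtain ⟨E⟩ := Cfsg.Agent.Lib.Char.exists_projExt N X hX hinv
  set o := Cfsg.detOrder X.character with ho
  have hcop1 : Nat.Coprime N.index o := Nat.Coprime.coprime_mul_right_right hcop
  have hcop2 : Nat.Coprime N.index d' := Nat.Coprime.coprime_mul_left_right hcop
  have hE := E.isCobExp_detOrder
  obtain ⟨σ₀, hσ₀⟩ := E.exists_rep_of_coprime hE (by rwa [mul_comm])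
  have hXo : ∀ n : N, (LinearMap.det (X n)) ^ o = 1 := by
    intro n
    rw [← Cfsg.Agent.Lib.Char.detChar_character]
    exact congrFun (pow_orderOf_eq_one (Cfsg.detChar X.character)) n
  let δ := Cfsg.Agent.Lib.Char.detHom σ₀
  have hδ : ∀ g, (δ g : ℂ) = LinearMap.det (σ₀ g) := fun g => rfl
  let ε : G →* ℂˣ := (powMonoidHom o).comp δ
  have hε : ∀ g, (ε g : ℂ) = (LinearMap.det (σ₀ g)) ^ o := fun g => rfl
  have hεN : ∀ n : N, ε n = 1 := by
    intro n
    ext
    rw [hε, hσ₀, hXo]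
    rfl
  obtain ⟨k, hk1, hk0⟩ := Nat.chineseRemainder hcop 1 0
  obtain ⟨b, hb⟩ := (Nat.modEq_zero_iff_dvd).mp hk0
  let β : G →* ℂˣ := ((powMonoidHom b).comp ε)⁻¹
  have hβv : ∀ g, (β g : ℂ) = ((ε g : ℂ) ^ b)⁻¹ := by
    intro g
    show (((ε g) ^ b)⁻¹ : ℂˣ).val = _
    rw [Units.val_inv_eq_inv_val, Units.val_pow_eq_pow_val]
  have hβN : ∀ n : N, β n = 1 := by
    intro n
    ext
    rw [hβv, hεN]
    simp
  let σ := Cfsg.Agent.Lib.Char.scaleRep β σ₀
  have hσN : ∀ n : N, σ n = X n := by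
    intro n
    rw [Cfsg.Agent.Lib.Char.scaleRep_apply, hβN, hσ₀]
    simp
  have hσdet : ∀ g, (LinearMap.det (σ g)) ^ o = 1 := by
    intro g
    rw [Cfsg.Agent.Lib.Char.scaleRep_det]
    simp only [Module.finrank_fin_fun]
    have h1 := Cfsg.Agent.Lib.Char.pow_index_eq_one_of_trivial ε hεN g
    have h2 : (ε g) ^ k = (ε g) ^ 1 := Cfsg.Agent.Lib.Char.pow_eq_pow_of_modEq h1 hk1
    have h3 : (ε g : ℂ) ^ (d' * o * b) = ε g := by
      have hb' : d' * o * b = k := by rw [hb]; ring
      rw [hb']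
      have := congrArg (fun u : ℂˣ => (u : ℂ)) h2
      simpa using this
    have h4 := (ε g).ne_zero
    rw [hβv, mul_pow, ← hε]
    calc (((ε g : ℂ) ^ b)⁻¹ ^ d') ^ o * (ε g : ℂ) = ((ε g : ℂ) ^ (d' * o * b))⁻¹ * (ε g : ℂ) := by
          congr 1
          rw [inv_pow, inv_pow]
          congr 1
          ring
      _ = 1 := by rw [h3, inv_mul_cancel₀ h4]
  have hdetN : ∀ n : N, LinearMap.det (σ n) = LinearMap.det (X n) := fun n => by rw [hσN]
  refine ⟨σ.character, ⟨⟨d', σ, Cfsg.Agent.Lib.Char.isIrreducible_of_restrict N X hX σ hσN, rfl⟩,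
    fun n => ?_, ?_⟩, ?_⟩
  · simp only [Representation.character, hσN]
  · apply Nat.dvd_antisymm
    · apply orderOf_dvd_of_pow_eq_one
      funext g
      simp only [Pi.pow_apply, Pi.one_apply]
      rw [Cfsg.Agent.Lib.Char.detChar_character]
      exact hσdet g
    · apply orderOf_dvd_of_pow_eq_one
      funext n
      have h1 := congrFun (pow_orderOf_eq_one (Cfsg.detChar σ.character)) (n : G)
      simp only [Pi.pow_apply, Pi.one_apply] at h1 ⊢
      rw [Cfsg.Agent.Lib.Char.detChar_character] at h1 ⊢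
      rw [← hdetN]
      exact h1
  · intro χ' hχ' hχ'N hχ'o
    obtain ⟨σ', hσ'c, hσ'⟩ := Cfsg.Agent.Lib.Char.exists_rep_of_extends X
      (Cfsg.Agent.Lib.Char.IsIrrCharacter.isCharacter hχ') hχ'N
    obtain ⟨β', hβ'N, hβ'⟩ := Cfsg.Agent.Lib.Char.exists_scale_of_two_ext X hX σ σ' hσN hσ'
    have hβ'1 : ∀ g, β' g = 1 := by
      intro g
      have h1 := Cfsg.Agent.Lib.Char.pow_index_eq_one_of_trivial β' hβ'N g
      have hσ'det : (LinearMap.det (σ' g)) ^ Cfsg.detOrder χ' = 1 := by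
        rw [← Cfsg.Agent.Lib.Char.detChar_character, hσ'c]
        exact congrFun (pow_orderOf_eq_one (Cfsg.detChar χ')) g
      have hdetne := Cfsg.Agent.Lib.Char.det_rep_ne_zero σ g
      have h2 : (β' g) ^ (d' * (o * Cfsg.detOrder χ')) = 1 := by
        ext
        rw [hβ', LinearMap.det_smul] at hσ'det
        simp only [Module.finrank_fin_fun] at hσ'det
        have h3 := hσdet g
        have h5 : ((β' g : ℂ) ^ d') ^ (Cfsg.detOrder χ') *
            (LinearMap.det (σ g)) ^ (Cfsg.detOrder χ') = 1 := by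
          rw [← mul_pow]
          exact hσ'det
        have h6 : (((β' g : ℂ) ^ d') ^ (Cfsg.detOrder χ')) ^ o = 1 := by
          have h7 := congrArg (fun z : ℂ => z ^ o) h5
          simp only [mul_pow, one_pow] at h7
          rw [← pow_mul (LinearMap.det (σ g)), mul_comm (Cfsg.detOrder χ'), pow_mul (LinearMap.det (σ g)), h3,
            one_pow, mul_one] at h7
          simpa [mul_pow] using h7
        rw [Units.val_pow_eq_pow_val, Units.val_one]
        calc (β' g : ℂ) ^ (d' * (o * Cfsg.detOrder χ'))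
            = (((β' g : ℂ) ^ d') ^ (Cfsg.detOrder χ')) ^ o := by ring
          _ = 1 := h6
      refine Cfsg.Agent.Lib.Char.eq_one_of_pow_of_coprime h1 h2 ?_
      exact Nat.Coprime.mul_right hcop2 (Nat.Coprime.mul_right hcop1 hχ'o)
    rw [← hσ'c]
    funext g
    simp only [Representation.character, hβ', hβ'1]
    simp

end Cfsg.Agent.S0867
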