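import Cfsg.Statements.S4455
import Cfsg.Agent.Lib.Coprime.PFixed
import Cfsg.Agent.Lib.Coprime.CopDeg
import Cfsg.Agent.S0867
import Cfsg.Agent.Lib.Char.ProjDvd
import Cfsg.Agent.Lib.Transfer.Basic
import Cfsg.Agent.Lib.Techniques.Complement
import Cfsg.Agent.Lib.Degree.Sums
import Mathlib

set_option autoImplicit false
open Cfsg

namespace Cfsg.Agent.S4455

open Cfsg.Agent.Lib.Char Cfsg.Agent.Lib.Coprime Cfsg.Agent.Lib.Degree
open scoped ComplexConjugate Pointwise

/-- The determinantal order of a character of the residual is prime to `p`. -/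
theorem detOrder_residual {G : Type*} [Group G] [Finite G] {p : ℕ} (hp : p.Prime)
    {θ : pResidual p G → ℂ} (hθ : IsIrrCharacter (pResidual p G) θ) : ¬ p ∣ detOrder θ := by
  classical
  obtain ⟨d, ρ, -, rfl⟩ := hθ
  let M : ℕ := ordCompl[p] (Nat.card G)
  have hM : ¬ p ∣ M := Nat.not_dvd_ordCompl hp (Nat.card_pos.ne')
  let K₀ : Subgroup (pResidual p G) := ((powMonoidHom M : ℂˣ →* ℂˣ).comp (detHom ρ)).ker
  have hgen : pResidual p G ≤ K₀.map (pResidual p G).subtype := by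
    show Subgroup.closure _ ≤ _
    rw [Subgroup.closure_le]
    intro g hg
    have hgN : g ∈ pResidual p G := Subgroup.subset_closure hg
    have h1 : orderOf g ∣ M := by
      have h2 : orderOf g ∣ Nat.card G := orderOf_dvd_natCard g
      have h3 : Nat.Coprime (orderOf g) p := hg
      have h4 : Nat.card G = ordProj[p] (Nat.card G) * ordCompl[p] (Nat.card G) :=
        (Nat.ordProj_mul_ordCompl_eq_self _ _).symm
      rw [h4] at h2
      exact (Nat.Coprime.dvd_of_dvd_mul_left (Nat.Coprime.pow_right _ h3) h2)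
    refine ⟨⟨g, hgN⟩, ?_, rfl⟩
    show (detHom ρ ⟨g, hgN⟩) ^ M = 1
    rw [← map_pow]
    have h5 : (⟨g, hgN⟩ : pResidual p G) ^ M = 1 := by
      apply Subtype.ext
      exact orderOf_dvd_iff_pow_eq_one.mp h1
    rw [h5, map_one]
  have hall : ∀ n : pResidual p G, (detHom ρ n) ^ M = 1 := by
    intro n
    obtain ⟨n', hn', h⟩ := hgen n.2
    have h1 : n' = n := Subtype.ext h
    rw [← h1]
    exact hn'
  intro hdvd
  apply hM
  refine hdvd.trans ?_
  apply orderOf_dvd_of_pow_eq_one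
  funext n
  simp only [Pi.pow_apply, Pi.one_apply]
  rw [detChar_character]
  have h1 := congrArg (fun u : ℂˣ => (u : ℂ)) (hall n)
  simpa [detHom_apply] using h1

/-- Fix a prime p and a finite group G. Let s be the sum of χ(1)² over the irreducible characters χ of G whose degree is not divisible by p and whose determinantal order o(χ) is not divisible by p. Then the order of O^p(G), the subgroup generated by the elements of order prime to p, is congruent to s modulo p. -/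
theorem result {G : Type*} [Group G] [Finite G] (p : ℕ) (hp : p.Prime) : (Nat.card (Cfsg.pResidual p G) : ℤ) ≡ (∑ᶠ χ ∈ {χ : Cfsg.IrrCharacter G | ¬ p ∣ Cfsg.charDegree (χ : G → ℂ) ∧ ¬ p ∣ Cfsg.detOrder (χ : G → ℂ)}, (Cfsg.charDegree (χ : G → ℂ) : ℤ) ^ 2) [ZMOD p] := by
  classical
  letI : Fintype G := Fintype.ofFinite G
  haveI : Fact p.Prime := ⟨hp⟩
  set N := pResidual p G with hNdef
  haveI hN : N.Normal := Cfsg.Agent.Lib.Techniques.pResidual_normal G p
  letI : Fintype N := Fintype.ofFinite _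
  obtain ⟨P⟩ : Nonempty (Sylow p G) := inferInstance
  have hsup : (P : Subgroup G) ⊔ N = ⊤ := by
    rw [sup_comm]
    exact Cfsg.Agent.Lib.Transfer.sup_pResidual_sylow P
  obtain ⟨k, hk⟩ : ∃ k, N.index = p ^ k := by
    have h1 : IsPGroup p (G ⧸ N) := Cfsg.Agent.Lib.Transfer.isPGroup_quotient_pResidual
    obtain ⟨k, hk⟩ := IsPGroup.iff_card.mp h1
    exact ⟨k, by rw [Subgroup.index_eq_card, hk]⟩
  let φ : (P : Subgroup G) →* MulAut N := conjAct N (P : Subgroup G) (fun s _ g hg => hN.conj_mem g hg s)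
  let π := irrPerm φ
  have hdeg : ∀ (a b : IrrCharacter N), (a : N → ℂ) 1 = (b : N → ℂ) 1 → charDegree (a : N → ℂ) = charDegree (b : N → ℂ) := by
    intro a b h
    have h1 := map_one_eq_charDegree (IsIrrCharacter.isCharacter a.2)
    have h2 := map_one_eq_charDegree (IsIrrCharacter.isCharacter b.2)
    rw [h, h2] at h1
    exact_mod_cast h1.symm
  let w : IrrCharacter N → ℕ := fun θ => charDegree (θ : N → ℂ) ^ 2
  have hw : ∀ x a, w (π x a) = w a := by
    intro x a
    simp only [w]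
    rw [hdeg (π x a) a]
    show (a : N → ℂ) (φ x⁻¹ 1) = _
    rw [map_one]
  have hsum : ∑ θ, w θ = Nat.card N := by
    have h1 := sum_irr_degree_mul (G := N) 1
    rw [if_pos rfl] at h1
    have h2 : ((∑ θ, w θ : ℕ) : ℂ) = (Nat.card N : ℂ) := by
      rw [Nat.card_eq_fintype_card, ← h1]
      push_cast
      refine Finset.sum_congr rfl fun θ _ => ?_
      simp only [w]
      rw [map_one_eq_charDegree (IsIrrCharacter.isCharacter θ.2)]
      push_cast
      ring
    exact_mod_cast h2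
  have hmod := sum_modEq_sum_fixed P.isPGroup' π w hw
  rw [hsum] at hmod
  -- invariance
  have hinvG : ∀ θ : IrrCharacter N, (∀ x, π x θ = θ) → ∀ (g : G) (n : N),
      (θ : N → ℂ) ⟨g * n * g⁻¹, hN.conj_mem n n.2 g⟩ = (θ : N → ℂ) n := by
    intro θ hθ g n
    have hg : g ∈ (((P : Subgroup G) ⊔ N : Subgroup G) : Set G) := by rw [hsup]; trivial
    rw [Subgroup.mul_normal (P : Subgroup G) N] at hg
    obtain ⟨x, hx, y, hy, rfl⟩ := Set.mem_mul.mp hg
    have h1 : ∀ (x : (P : Subgroup G)) (m : N), (θ : N → ℂ) (φ x m) = (θ : N → ℂ) m := by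
      intro x m
      have h0 := congrArg (fun t : IrrCharacter N => (t : N → ℂ) m) (hθ x⁻¹)
      change (θ : N → ℂ) (φ (x⁻¹)⁻¹ m) = (θ : N → ℂ) m at h0
      rwa [inv_inv] at h0
    let x' : (P : Subgroup G) := ⟨x, hx⟩
    let n' : N := ⟨y * n * y⁻¹, hN.conj_mem n n.2 y⟩
    have h2 : (⟨x * y * n * (x * y)⁻¹, hN.conj_mem n n.2 (x * y)⟩ : N) = φ x' n' := by
      apply Subtype.ext
      show x * y * n * (x * y)⁻¹ = x * (y * n * y⁻¹) * x⁻¹
      group
    rw [h2, h1]
    exact IsCharacter.isClassFunction (IsIrrCharacter.isCharacter θ.2) _ ⟨y, hy⟩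
  have hcop : ∀ θ : IrrCharacter N, ¬ p ∣ charDegree (θ : N → ℂ) →
      Nat.Coprime N.index (detOrder (θ : N → ℂ) * charDegree (θ : N → ℂ)) := by
    intro θ hθ
    rw [hk]
    refine Nat.Coprime.pow_left k ((Nat.Prime.coprime_iff_not_dvd hp).mpr ?_)
    intro hdvd
    rcases (Nat.Prime.dvd_mul hp).mp hdvd with h | h
    · exact detOrder_residual hp θ.2 h
    · exact hθ h
  let F := {θ : IrrCharacter N // ∀ x, π x θ = θ}
  let A := {θ : F // ¬ p ∣ charDegree ((θ.1 : IrrCharacter N) : N → ℂ)}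
  let S : Set (IrrCharacter G) := {χ : Cfsg.IrrCharacter G | ¬ p ∣ Cfsg.charDegree (χ : G → ℂ) ∧ ¬ p ∣ Cfsg.detOrder (χ : G → ℂ)}
  have hex : ∀ θ : A, ∃ χ : IrrCharacter G, (∀ n : N, (χ : G → ℂ) n = (θ.1.1 : N → ℂ) n) ∧
      detOrder (χ : G → ℂ) = detOrder (θ.1.1 : N → ℂ) := by
    intro θ
    have hd := map_one_eq_charDegree (IsIrrCharacter.isCharacter θ.1.1.2)
    obtain ⟨χ, ⟨hχ, h1, h2⟩, -⟩ := Cfsg.Agent.S0867.result N (θ.1.1 : N → ℂ) θ.1.1.2 (hinvG θ.1.1 θ.1.2) _ hd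
      (hcop θ.1.1 θ.2)
    exact ⟨⟨χ, hχ⟩, h1, h2⟩
  choose Φ hΦ1 hΦ2 using hex
  have hdegΦ : ∀ θ : A, charDegree ((Φ θ : IrrCharacter G) : G → ℂ) = charDegree (θ.1.1 : N → ℂ) := by
    intro θ
    have h1 := map_one_eq_charDegree (IsIrrCharacter.isCharacter (Φ θ).2)
    have h2 := map_one_eq_charDegree (IsIrrCharacter.isCharacter θ.1.1.2)
    have h3 := hΦ1 θ 1
    simp only [OneMemClass.coe_one] at h3
    rw [h3, h2] at h1
    exact_mod_cast h1.symm
  have hΦS : ∀ θ : A, Φ θ ∈ S := by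
    intro θ
    refine ⟨?_, ?_⟩
    · rw [hdegΦ]
      exact θ.2
    · rw [hΦ2]
      exact detOrder_residual hp θ.1.1.2
  let Ψ : A → {χ // χ ∈ S} := fun θ => ⟨Φ θ, hΦS θ⟩
  have hinj : Function.Injective Ψ := by
    intro θ θ' h
    have h1 : Φ θ = Φ θ' := congrArg Subtype.val h
    apply Subtype.ext
    apply Subtype.ext
    apply Subtype.ext
    funext n
    rw [← hΦ1 θ n, ← hΦ1 θ' n, h1]
  have hsurj : Function.Surjective Ψ := by
    rintro ⟨χ, hχ1, hχ2⟩
    have hres := IsCharacter.restrict N (IsIrrCharacter.isCharacter χ.2)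
    have hne : (fun n : N => (χ : G → ℂ) n) ≠ 0 := by
      intro h0
      have h1 := congrFun h0 1
      simp only [OneMemClass.coe_one, Pi.zero_apply] at h1
      rw [map_one_eq_charDegree (IsIrrCharacter.isCharacter χ.2)] at h1
      have h2 : charDegree (χ : G → ℂ) = 0 := by exact_mod_cast h1
      rw [h2] at hχ1
      exact hχ1 (dvd_zero p)
    obtain ⟨θ₀, hθ₀, hcon⟩ := exists_constituent hres hne
    obtain ⟨e, he⟩ := classInner_isCharacter_nat hres (IsIrrCharacter.isCharacter hθ₀)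
    have he0 : e ≠ 0 := by
      rintro rfl
      apply hcon
      rw [he]
      simp
    have hdeg1 := clifford_degree hN χ.2 hθ₀ he he0
    have hNT : N ≤ inertia hN θ₀ := le_inertia hN (IsCharacter.isClassFunction (IsIrrCharacter.isCharacter hθ₀))
    have hidx : (inertia hN θ₀).index ∣ p ^ k := by
      rw [← hk]
      exact Subgroup.index_dvd_of_le hNT
    obtain ⟨j, -, hj⟩ := (Nat.dvd_prime_pow hp).mp hidx
    have hj0 : j = 0 := by
      by_contra hne
      apply hχ1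
      rw [hdeg1, hj]
      exact Dvd.dvd.mul_right (Dvd.dvd.mul_left (dvd_pow_self p hne) _) _
    rw [hj0, pow_zero] at hj
    have htop : inertia hN θ₀ = ⊤ := Subgroup.index_eq_one.mp hj
    have hinv : ∀ (g : G) (n : N), θ₀ ⟨g * n * g⁻¹, hN.conj_mem n n.2 g⟩ = θ₀ n := by
      intro g n
      have hg : g ∈ inertia hN θ₀ := by rw [htop]; trivial
      exact (mem_inertia_iff hN θ₀ g).mp hg n
    have hedvd : e ∣ N.index := mult_dvd_index_of_invariant N hθ₀ hinv χ.2 he he0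
    obtain ⟨j', -, hj'⟩ := (Nat.dvd_prime_pow hp).mp (hk ▸ hedvd)
    have hj'0 : j' = 0 := by
      by_contra hne
      apply hχ1
      rw [hdeg1, hj']
      exact Dvd.dvd.mul_right (Dvd.dvd.mul_right (dvd_pow_self p hne) _) _
    rw [hj'0, pow_zero] at hj'
    subst hj'
    have hrest := clifford_invariant hN χ.2 hθ₀ (fun g => by funext n; exact hinv g n)
      (by rw [he]; simp)
    rw [he] at hrest
    have hχθ : ∀ n : N, (χ : G → ℂ) n = θ₀ n := by
      intro n
      have h1 := congrFun hrest n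
      simpa using h1
    have hdeg2 : charDegree θ₀ = charDegree (χ : G → ℂ) := by
      rw [hdeg1, hj]
      simp
    have hfix : ∀ x, π x ⟨θ₀, hθ₀⟩ = ⟨θ₀, hθ₀⟩ := by
      intro x
      apply Subtype.ext
      funext n
      show θ₀ (φ x⁻¹ n) = θ₀ n
      exact hinv (x⁻¹ : (P : Subgroup G)) n
    let θA : A := ⟨⟨⟨θ₀, hθ₀⟩, hfix⟩, by
      show ¬ p ∣ charDegree θ₀
      rw [hdeg2]
      exact hχ1⟩
    refine ⟨θA, ?_⟩
    apply Subtype.ext
    apply Subtype.ext
    have hd := map_one_eq_charDegree (IsIrrCharacter.isCharacter hθ₀)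
    obtain ⟨χ₀, -, huniq⟩ := Cfsg.Agent.S0867.result N θ₀ hθ₀ hinv _ hd (hcop ⟨θ₀, hθ₀⟩ (by
      show ¬ p ∣ charDegree θ₀
      rw [hdeg2]
      exact hχ1))
    have hcopi : ∀ χ' : IrrCharacter G, ¬ p ∣ detOrder (χ' : G → ℂ) → N.index.Coprime (detOrder (χ' : G → ℂ)) := by
      intro χ' h
      rw [hk]
      exact Nat.Coprime.pow_left k ((Nat.Prime.coprime_iff_not_dvd hp).mpr h)
    show ((Φ θA : IrrCharacter G) : G → ℂ) = χ
    rw [huniq _ (Φ θA).2 (hΦ1 θA) (hcopi _ (hΦS θA).2), huniq _ χ.2 hχθ (hcopi _ hχ2)]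
  have hbij : Function.Bijective Ψ := ⟨hinj, hsurj⟩
  -- the set sum
  have hfin : ∑ᶠ χ ∈ S, (charDegree (χ : G → ℂ) : ℤ) ^ 2 = ((∑ θ : A, w θ.1.1 : ℕ) : ℤ) := by
    rw [finsum_mem_eq_finite_toFinset_sum _ S.toFinite]
    rw [Finset.sum_subtype S.toFinite.toFinset (p := fun χ => χ ∈ S) (fun x => S.toFinite.mem_toFinset)]
    push_cast
    rw [← hbij.sum_comp (fun χ : {χ // χ ∈ S} => (charDegree ((χ.1 : IrrCharacter G) : G → ℂ) : ℤ) ^ 2)]
    refine Finset.sum_congr rfl fun θ _ => ?_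
    show (charDegree ((Φ θ : IrrCharacter G) : G → ℂ) : ℤ) ^ 2 = _
    rw [hdegΦ]
    simp only [w]
    push_cast
    rfl
  rw [hfin, Int.natCast_modEq_iff]
  refine hmod.trans ?_
  have h1 := Fintype.sum_subtype_add_sum_subtype (fun θ : F => ¬ p ∣ charDegree ((θ.1 : IrrCharacter N) : N → ℂ))
    (fun θ : F => w θ.1)
  rw [← h1]
  have h2 : p ∣ ∑ θ : {θ : F // ¬ ¬ p ∣ charDegree ((θ.1 : IrrCharacter N) : N → ℂ)}, w θ.1.1 := by
    refine Finset.dvd_sum fun θ _ => ?_
    have h3 : p ∣ charDegree ((θ.1.1 : IrrCharacter N) : N → ℂ) := not_not.mp θ.2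
    exact Dvd.dvd.pow h3 (by norm_num)
  have h3 := (Nat.modEq_zero_iff_dvd.mpr h2)
  have h4 := Nat.ModEq.add_left (∑ θ : A, w θ.1.1) h3
  rw [add_zero] at h4
  exact h4

end Cfsg.Agent.S4455
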