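import Cfsg.Statements.S4456
import Cfsg.Agent.S4455
import Mathlib

set_option autoImplicit false
open Cfsg

namespace Cfsg.Agent.S4456

open Cfsg.Agent.Lib.Char Cfsg.Agent.Lib.Coprime Cfsg.Agent.Lib.Degree

/-- The elements of order prime to `p` in a finite abelian group form a group of order prime to `p`. -/
theorem card_part {M : Type*} [CommGroup M] [Finite M] {p : ℕ} (hp : p.Prime) :
    ¬ p ∣ Nat.card {x : M // ¬ p ∣ orderOf x} := by
  classical
  let T : Subgroup M :=
    { carrier := {x | ¬ p ∣ orderOf x}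
      mul_mem' := by
        intro a b ha hb h
        have h1 : orderOf (a * b) ∣ Nat.lcm (orderOf a) (orderOf b) :=
          (Commute.all a b).orderOf_mul_dvd_lcm
        have h2 := h.trans h1
        rcases (Nat.Prime.dvd_mul hp).mp (h2.trans (Nat.lcm_dvd_mul _ _)) with h3 | h3
        · exact ha h3
        · exact hb h3
      one_mem' := by
        simp only [Set.mem_setOf_eq, orderOf_one, Nat.dvd_one]
        exact hp.one_lt.ne'
      inv_mem' := by
        intro a ha
        simpa [orderOf_inv] using ha }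
  intro h
  haveI : Fact p.Prime := ⟨hp⟩
  have h1 : p ∣ Nat.card T := h
  obtain ⟨x, hx⟩ := exists_prime_orderOf_dvd_card' p h1
  have h2 : orderOf (x : M) = p := by
    rw [← hx]
    exact Subgroup.orderOf_coe x
  exact x.2 (h2 ▸ dvd_rfl)

/-- The order of a homomorphism as a function. -/
theorem orderOf_hom_fn {G : Type*} [Group G] (l : G →* ℂˣ) :
    orderOf (fun g => (l g : ℂ)) = orderOf l := by
  let f : (G →* ℂˣ) →* (G → ℂ) :=
    { toFun := fun l g => (l g : ℂ)
      map_one' := by
        funext g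
        simp
      map_mul' := by
        intro a b
        funext g
        simp }
  have hf : Function.Injective f := by
    intro a b h
    ext g
    exact congrFun h g
  exact orderOf_injective f hf l


/-- Let p be a prime and G a finite group such that p divides the degree of every irreducible character of G of degree greater than one. Then G has a normal p-complement: a normal subgroup of order prime to p whose index is a power of p. -/
theorem result {G : Type*} [Group G] [Finite G] (p : ℕ) (hp : p.Prime) (hdeg : ∀ χ : Cfsg.IrrCharacter G, Cfsg.charDegree (χ : G → ℂ) ≠ 1 → p ∣ Cfsg.charDegree (χ : G → ℂ)) : ∃ N : Subgroup G, N.Normal ∧ (Nat.card N).Coprime p ∧ ∃ k : ℕ, N.index = p ^ k := by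
  classical
  haveI : Fact p.Prime := ⟨hp⟩
  refine ⟨pResidual p G, Cfsg.Agent.Lib.Techniques.pResidual_normal G p, ?_, ?_⟩
  swap
  · have h1 : IsPGroup p (G ⧸ pResidual p G) := Cfsg.Agent.Lib.Transfer.isPGroup_quotient_pResidual
    obtain ⟨k, hk⟩ := IsPGroup.iff_card.mp h1
    exact ⟨k, by rw [Subgroup.index_eq_card, hk]⟩
  have h := Cfsg.Agent.S4455.result (G := G) p hp
  let S : Set (IrrCharacter G) := {χ : Cfsg.IrrCharacter G | ¬ p ∣ Cfsg.charDegree (χ : G → ℂ) ∧ ¬ p ∣ Cfsg.detOrder (χ : G → ℂ)}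
  have hS1 : ∀ χ ∈ S, charDegree (χ : G → ℂ) = 1 := by
    intro χ hχ
    by_contra hne
    exact hχ.1 (hdeg χ hne)
  have hfin : ∑ᶠ χ ∈ S, (charDegree (χ : G → ℂ) : ℤ) ^ 2 = (Nat.card {χ // χ ∈ S} : ℤ) := by
    letI : Fintype {χ // χ ∈ S} := Fintype.ofFinite _
    rw [finsum_mem_eq_finite_toFinset_sum _ S.toFinite]
    rw [Finset.sum_subtype S.toFinite.toFinset (p := fun χ => χ ∈ S) (fun x => S.toFinite.mem_toFinset)]
    have h1 : ∀ χ : {χ // χ ∈ S}, (charDegree ((χ.1 : IrrCharacter G) : G → ℂ) : ℤ) ^ 2 = 1 := by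
      intro χ
      rw [hS1 χ.1 χ.2]
      simp
    simp only [h1]
    rw [Finset.sum_const, Finset.card_univ, Nat.card_eq_fintype_card]
    simp
  rw [hfin, Int.natCast_modEq_iff] at h
  have hcount : Nat.card {χ // χ ∈ S} = Nat.card {l : G →* ℂˣ // ¬ p ∣ orderOf l} := by
    let e := linearEquivHom G
    have hdetl : ∀ χ : {χ : IrrCharacter G // (χ : G → ℂ) 1 = 1}, detOrder (χ.1 : G → ℂ) = orderOf (e χ) := by
      intro χ
      have h1 : (χ.1 : G → ℂ) = fun g => (e χ g : ℂ) :=
        (exists_hom_of_character_one (IsIrrCharacter.isCharacter χ.1.2) χ.2).choose_spec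
      rw [← orderOf_hom_fn (e χ), ← h1]
      show orderOf (detChar (χ.1 : G → ℂ)) = _
      rw [detChar_of_degree_one (IsIrrCharacter.isCharacter χ.1.2) χ.2]
    have h1 : Nat.card {χ // χ ∈ S} = Nat.card {χ : {χ : IrrCharacter G // (χ : G → ℂ) 1 = 1} // ¬ p ∣ orderOf (e χ)} := by
      refine Nat.card_congr
        { toFun := fun χ => ⟨⟨χ.1, ?_⟩, ?_⟩
          invFun := fun χ => ⟨χ.1.1, ?_, ?_⟩
          left_inv := fun χ => rfl
          right_inv := fun χ => rfl }
      · rw [map_one_eq_charDegree (IsIrrCharacter.isCharacter χ.1.2), hS1 χ.1 χ.2]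
        simp
      · rw [← hdetl]
        exact χ.2.2
      · rw [charDegree_of_eq (n := 1) (by simpa using χ.1.2)]
        simpa using hp.one_lt.ne'
      · rw [hdetl]
        exact χ.2
    rw [h1]
    exact Nat.card_congr (e.subtypeEquiv fun _ => Iff.rfl)
  haveI : Finite (G →* ℂˣ) := Finite.of_equiv _ (linearEquivHom G)
  have hnd : ¬ p ∣ Nat.card {l : G →* ℂˣ // ¬ p ∣ orderOf l} := card_part hp
  rw [← hcount] at hnd
  rw [Nat.coprime_comm, Nat.Prime.coprime_iff_not_dvd hp]
  intro hdvd
  apply hnd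
  exact (Nat.ModEq.dvd_iff h (dvd_refl p)).mp hdvd

end Cfsg.Agent.S4456
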