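import Cfsg.Statements.S0857
import Cfsg.Agent.Lib.Char.GoingDown

set_option autoImplicit false
open Cfsg

namespace Cfsg.Agent.S0857

/-- Let L < K be normal subgroups of the finite group G with no normal subgroup of G strictly between them and with K / L abelian (the commutator subgroup of K lies in L). Let ϑ be an irreducible character of K invariant under conjugation by G. Then the restriction of ϑ to L is irreducible; or it equals e times an irreducible character of L with e ^ 2 equal to the index of L in K; or it is the sum of a family of pairwise distinct irreducible characters of L indexed by a set whose size is the index of L in K. -/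
theorem result {G : Type*} [Group G] [Fintype G] (K L : Subgroup G) [hK : K.Normal] [L.Normal] (hLK : L < K) (hchief : ∀ M : Subgroup G, M.Normal → L ≤ M → M ≤ K → M = L ∨ M = K) (hab : ⁅K, K⁆ ≤ L) (ϑ : K → ℂ) (hϑ : Cfsg.IsIrrCharacter K ϑ) (hinv : ∀ (g : G) (n : K), ϑ ⟨g * n * g⁻¹, hK.conj_mem (n : G) n.2 g⟩ = ϑ n) : Cfsg.IsIrrCharacter L (fun x : L => ϑ ⟨(x : G), hLK.le x.2⟩) ∨ (∃ (φ : L → ℂ) (e : ℕ), Cfsg.IsIrrCharacter L φ ∧ (fun x : L => ϑ ⟨(x : G), hLK.le x.2⟩) = (e : ℂ) • φ ∧ e ^ 2 = L.relIndex K) ∨ (∃ F : Finset (L → ℂ), (∀ φ ∈ F, Cfsg.IsIrrCharacter L φ) ∧ F.card = L.relIndex K ∧ (fun x : L => ϑ ⟨(x : G), hLK.le x.2⟩) = ∑ φ ∈ F, φ) := by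
  classical
  have hLK' : L ≤ K := hLK.le
  let Y : Subgroup K := L.subgroupOf K
  have hYmem : ∀ x : K, x ∈ Y ↔ (x : G) ∈ L := fun x => Subgroup.mem_subgroupOf
  haveI hYn : Y.Normal := by
    refine ⟨fun n hn t => ?_⟩
    rw [hYmem] at hn ⊢
    exact ‹L.Normal›.conj_mem n hn t
  haveI : Fintype K := Fintype.ofFinite K
  haveI : Fintype Y := Fintype.ofFinite Y
  let ee : Y ≃* L := Subgroup.subgroupOfEquivOfLe hLK'
  have hee : ∀ x : Y, ((ee x : L) : G) = ((x : K) : G) := fun _ => rfl
  have hres : ∀ x : L, ϑ ⟨(x : G), hLK' x.2⟩ = ((fun y : Y => ϑ y) ∘ ee.symm) x := by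
    intro x
    simp only [Function.comp]
    congr 1
  -- the automorphisms
  let Γ : Set (K ≃* K) := Set.range fun g : G => (MulAut.conjNormal g : K ≃* K)
  have hΓapp : ∀ (g : G) (x : K), (((MulAut.conjNormal g : K ≃* K) x : K) : G) = g * x * g⁻¹ :=
    fun g x => MulAut.conjNormal_apply g x
  have hcore := Cfsg.Agent.Lib.Char.going_down_core (X := K) (Y := Y) ?_ Γ ?_ hϑ ?_ ?_
  · have hcomp : (fun x : L => ϑ ⟨(x : G), hLK' x.2⟩) = (fun y : Y => ϑ y) ∘ ee.symm := funext hres
    rcases hcore with h | ⟨φ, e, hφ, h1, h2⟩ | ⟨F, hF, h1⟩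
    · left
      rw [hcomp]
      exact Cfsg.Agent.Lib.Char.isIrr_comp_equiv ee.symm h
    · right
      left
      refine ⟨φ ∘ ee.symm, e, Cfsg.Agent.Lib.Char.isIrr_comp_equiv ee.symm hφ, ?_, h2⟩
      rw [hcomp, h1]
      rfl
    · right
      right
      let tr : Cfsg.IrrCharacter Y → (L → ℂ) := fun φ => (φ : Y → ℂ) ∘ ee.symm
      have htr : Function.Injective tr := by
        intro a b h
        apply Subtype.ext
        funext y
        have := congrFun h (ee y)
        simpa [tr] using this
      refine ⟨F.image tr, ?_, ?_, ?_⟩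
      · intro φ hφ
        obtain ⟨a, -, rfl⟩ := Finset.mem_image.mp hφ
        exact Cfsg.Agent.Lib.Char.isIrr_comp_equiv ee.symm a.2
      · rw [Finset.card_image_of_injective _ htr, hF]
        rfl
      · rw [Finset.sum_image fun a _ b _ h => htr h, hcomp, h1]
        funext x
        simp [tr, Finset.sum_apply]
  · -- commutators
    intro a b
    rw [hYmem]
    apply hab
    have := Subgroup.commutator_mem_commutator a.2 b.2
    simpa [commutatorElement_def] using this
  · rintro β ⟨g, rfl⟩ y
    rw [hYmem, hYmem, hΓapp]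
    constructor
    · intro hy
      exact ‹L.Normal›.conj_mem _ hy g
    · intro hy
      have := ‹L.Normal›.conj_mem _ hy g⁻¹
      simpa [mul_assoc] using this
  · rintro β ⟨g, rfl⟩ x
    exact hinv g x
  · intro M hYM hMΓ
    -- the image of `M` in `G`
    let M' : Subgroup G := M.map K.subtype
    have hM'n : M'.Normal := by
      refine ⟨fun n hn g => ?_⟩
      obtain ⟨m, hm, rfl⟩ := hn
      refine ⟨_, hMΓ _ ⟨g, rfl⟩ m hm, ?_⟩
      exact hΓapp g m
    have hLM' : L ≤ M' := by
      intro l hl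
      exact ⟨⟨l, hLK' hl⟩, hYM ((hYmem _).mpr hl), rfl⟩
    have hM'K : M' ≤ K := by
      rintro _ ⟨m, -, rfl⟩
      exact m.2
    have hcomap : ∀ S : Subgroup K, S.map K.subtype = L → S = Y := by
      intro S hS
      ext x
      rw [hYmem, ← hS]
      constructor
      · intro hx
        exact ⟨x, hx, rfl⟩
      · rintro ⟨z, hz, hzx⟩
        have : z = x := Subtype.ext hzx
        rwa [← this]
    rcases hchief M' hM'n hLM' hM'K with h | h
    · exact Or.inl (hcomap M h)
    · right
      ext x
      simp only [Subgroup.mem_top, iff_true]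
      have hx : (x : G) ∈ M' := by rw [h]; exact x.2
      obtain ⟨z, hz, hzx⟩ := hx
      have : z = x := Subtype.ext hzx
      rwa [← this]

end Cfsg.Agent.S0857
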