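import Cfsg.Statements.S1447
import Mathlib
import Cfsg.Agent.Lib.OddLocal.MetaCoprime
import Cfsg.Agent.Lib.GS1.ZCoprime

set_option autoImplicit false
open Cfsg

namespace Cfsg.Agent.S1447

/-- Let G be a finite group, p an odd prime, R a metacyclic p-subgroup and A a subgroup of order coprime to p normalizing R. Then [R, A] is abelian; R is generated by [R, A] and R ∩ C_G(A), which meet trivially; and if R is non-abelian and A does not centralize R, then [R, A] and R ∩ C_G(A) are nontrivial cyclic groups and [R, R] ≤ [R, A]. -/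
theorem result {G : Type*} [Group G] [Finite G] (p : ℕ) [Fact p.Prime] (hp : p ≠ 2) (R A : Subgroup G) (hR : IsPGroup p R) (hRm : Cfsg.IsMetacyclic R)
    (hA : (A ≤ Subgroup.normalizer (R : Set G))) (hcop : (Nat.card A).Coprime p) :
    IsMulCommutative ↥⁅R, A⁆ ∧ ⁅R, A⁆ ⊔ (R ⊓ Subgroup.centralizer (A : Set G)) = R ∧ ⁅R, A⁆ ⊓ (R ⊓ Subgroup.centralizer (A : Set G)) = ⊥ ∧
      (¬ IsMulCommutative R → ¬ A ≤ Subgroup.centralizer (R : Set G) →
        ⁅R, A⁆ ≠ ⊥ ∧ IsCyclic ↥⁅R, A⁆ ∧ (R ⊓ Subgroup.centralizer (A : Set G)) ≠ ⊥ ∧ IsCyclic ↥(R ⊓ Subgroup.centralizer (A : Set G)) ∧ ⁅R, R⁆ ≤ ⁅R, A⁆) := by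
  classical
  have hRs : Group.IsSolvable R := by
    haveI := hR.isNilpotent
    infer_instance
  have hcardR : (Nat.card A).Coprime (Nat.card R) := by
    obtain ⟨k, hk⟩ := IsPGroup.iff_card.mp hR
    rw [hk]
    exact Nat.Coprime.pow_right k hcop
  set T := ⁅R, A⁆ with hT
  have hTR : T ≤ R := Cfsg.Agent.Lib.Hall.commutator_le_of_normalizes hA
  have hTp : IsPGroup p T := hR.to_le hTR
  have hcardT : (Nat.card A).Coprime (Nat.card T) := by
    obtain ⟨k, hk⟩ := IsPGroup.iff_card.mp hTp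
    rw [hk]
    exact Nat.Coprime.pow_right k hcop
  have hTA : ⁅T, A⁆ = T := Cfsg.Agent.Lib.Hall.commutator_commutator_eq A R hA hcardR (Or.inr hRs)
  have hAT : A ≤ Subgroup.normalizer (T : Set G) := Cfsg.Agent.Lib.Hall.le_normalizer_commutator_right hA
  have hTm : Cfsg.IsMetacyclic T :=
    Cfsg.Agent.Lib.ClassSizes.Metacyclic.isMetacyclic_of_equiv (Subgroup.subgroupOfEquivOfLe hTR)
      (Cfsg.Agent.Lib.ClassSizes.Metacyclic.isMetacyclic_subgroup hRm (T.subgroupOf R))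
  have hTab : IsMulCommutative T :=
    Cfsg.Agent.Lib.OddLocal.MetaCoprime.abelian_of_commutator_eq hp T A hTp hTm hAT hcop hTA
  have hTc : ∀ a ∈ T, ∀ b ∈ T, a * b = b * a := fun a ha b hb =>
    congrArg Subtype.val (hTab.is_comm.comm ⟨a, ha⟩ ⟨b, hb⟩)
  have hsup : T ⊔ (R ⊓ Subgroup.centralizer (A : Set G)) = R :=
    Cfsg.Agent.Lib.Hall.commutator_sup_centralizer A R hA hcardR (Or.inr hRs)
  have hinf : T ⊓ (R ⊓ Subgroup.centralizer (A : Set G)) = ⊥ := by
    have h1 := Cfsg.Agent.Lib.GS1.commutator_inf_centralizer_eq_bot T A hTc hAT hcardT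
    rw [hTA] at h1
    rw [eq_bot_iff]
    rintro x ⟨hx1, -, hx3⟩
    have : x ∈ T ⊓ (T ⊓ Subgroup.centralizer (A : Set G)) := ⟨hx1, hx1, hx3⟩
    rwa [h1] at this
  refine ⟨hTab, hsup, hinf, ?_⟩
  intro hna hnc
  have hT1 : T ≠ ⊥ := by
    intro h0
    apply hnc
    rw [Subgroup.le_centralizer_iff]
    exact (Subgroup.commutator_eq_bot_iff_le_centralizer).mp h0
  set C := R ⊓ Subgroup.centralizer (A : Set G) with hC
  have hCR : C ≤ R := inf_le_left
  have hC1 : C ≠ ⊥ := by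
    intro h0
    rw [h0, sup_bot_eq] at hsup
    apply hna
    rw [← hsup]
    exact hTab
  -- the two subgroups in `R`
  have hdisj : T.subgroupOf R ⊓ C.subgroupOf R = ⊥ := by
    rw [eq_bot_iff]
    rintro ⟨x, hx⟩ ⟨h1, h2⟩
    have h3 : x ∈ T ⊓ C := ⟨h1, h2⟩
    rw [hinf, Subgroup.mem_bot] at h3
    exact Subtype.ext h3
  have hT0 : T.subgroupOf R ≠ ⊥ := by
    intro h0
    apply hT1
    rw [eq_bot_iff]
    intro x hx
    have h1 : (⟨x, hTR hx⟩ : R) ∈ T.subgroupOf R := hx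
    rw [h0, Subgroup.mem_bot] at h1
    exact congrArg Subtype.val h1
  have hC0 : C.subgroupOf R ≠ ⊥ := by
    intro h0
    apply hC1
    rw [eq_bot_iff]
    intro x hx
    have h1 : (⟨x, hCR hx⟩ : R) ∈ C.subgroupOf R := hx
    rw [h0, Subgroup.mem_bot] at h1
    exact congrArg Subtype.val h1
  have hTcyc : IsCyclic T := by
    have h1 := Cfsg.Agent.Lib.OddLocal.MetaCoprime.cyc_of_disjoint hp hR hRm _ _ hdisj hC0
    exact isCyclic_of_surjective (Subgroup.subgroupOfEquivOfLe hTR : T.subgroupOf R ≃* T).toMonoidHom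
      (MulEquiv.surjective _)
  have hCcyc : IsCyclic C := by
    have h1 := Cfsg.Agent.Lib.OddLocal.MetaCoprime.cyc_of_disjoint hp hR hRm _ _
      (by rw [inf_comm]; exact hdisj) hT0
    exact isCyclic_of_surjective (Subgroup.subgroupOfEquivOfLe hCR : C.subgroupOf R ≃* C).toMonoidHom
      (MulEquiv.surjective _)
  refine ⟨hT1, hTcyc, hC1, hCcyc, ?_⟩
  -- `R' ≤ T`
  haveI hTn : (T.subgroupOf R).Normal := by
    refine ⟨fun x hx g => ?_⟩
    have h1 : R ≤ Subgroup.normalizer (T : Set G) := Cfsg.Agent.Lib.Hall.le_normalizer_commutator_left A R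
    exact (Subgroup.mem_normalizer_iff.mp (h1 g.2) x).mp hx
  have hsup0 : T.subgroupOf R ⊔ C.subgroupOf R = ⊤ := by
    rw [eq_top_iff]
    rintro ⟨x, hx⟩ -
    have h1 : (T.subgroupOf R ⊔ C.subgroupOf R).map R.subtype = R := by
      rw [Subgroup.map_sup, Subgroup.map_subgroupOf_eq_of_le hTR, Subgroup.map_subgroupOf_eq_of_le hCR, hsup]
    rw [← h1] at hx
    obtain ⟨w, hw, hwe⟩ := hx
    have : w = ⟨x, by rw [← h1]; exact ⟨w, hw, hwe⟩⟩ := Subtype.ext hwe
    rw [← this]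
    exact hw
  have hCc : ∀ a ∈ C.subgroupOf R, ∀ b ∈ C.subgroupOf R, a * b = b * a := by
    intro a ha b hb
    have h1 := hCcyc.isMulCommutative.is_comm.comm (⟨a, ha⟩ : C) ⟨b, hb⟩
    have h3 : (a : G) * b = b * a := congrArg (fun x : C => (x : G)) h1
    exact Subtype.ext h3
  have h2 := Cfsg.Agent.Lib.OddLocal.MetaCoprime.comm_le_of_sup _ _ hsup0 hCc
  rw [← Subgroup.map_subtype_commutator, Subgroup.map_le_iff_le_comap]
  exact h2

end Cfsg.Agent.S1447
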