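import Cfsg.Statements.S5236
import Cfsg.Agent.Lib.Fusion.Chains
import Cfsg.Agent.Lib.Transfer.Critical2
import Mathlib
-- import your own Cfsg.Agent.* helpers here

set_option autoImplicit false
open Cfsg

namespace Cfsg.Agent.S5236

open Cfsg.Agent.Lib.Fusion Cfsg.FusionSystem


open scoped commutatorElement

variable {Ω : Type*} [Group Ω] {S : Subgroup Ω} {F : FusionSystem S}

theorem omegaOne_le_self' {X : Type*} [Group X] {p : ℕ} (K : Subgroup X) : omegaOne p K ≤ K := by
  unfold omegaOne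
  rw [Subgroup.closure_le]
  rintro x ⟨hx, -⟩
  exact hx

theorem omegaOne_char {X : Type*} [Group X] {p : ℕ} (K : Subgroup X) : ((omegaOne p K).subgroupOf K).Characteristic := by
  rw [Subgroup.characteristic_iff_le_comap]
  intro φ x hx
  rw [Subgroup.mem_comap, Subgroup.mem_subgroupOf]
  have hx' : (x : X) ∈ omegaOne p K := Subgroup.mem_subgroupOf.1 hx
  have key : ∀ (y : X) (hy : y ∈ omegaOne p K), ∃ hy' : y ∈ K, ((φ.toMonoidHom ⟨y, hy'⟩ : K) : X) ∈ omegaOne p K := by
    intro y hy
    unfold omegaOne at hy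
    induction hy using Subgroup.closure_induction with
    | mem y h =>
      refine ⟨h.1, Subgroup.subset_closure ⟨(φ.toMonoidHom ⟨y, h.1⟩).2, ?_⟩⟩
      have h2 : (⟨y, h.1⟩ : K) ^ p = 1 := Subtype.ext (by simpa using h.2)
      have h3 : (φ.toMonoidHom ⟨y, h.1⟩) ^ p = 1 := by rw [← map_pow, h2, map_one]
      exact congrArg Subtype.val h3
    | one => exact ⟨K.one_mem, by
        have : (⟨1, K.one_mem⟩ : K) = 1 := rfl
        rw [this, map_one]
        exact Subgroup.one_mem _⟩
    | mul a b _ _ ha hb =>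
      obtain ⟨ha1, ha2⟩ := ha
      obtain ⟨hb1, hb2⟩ := hb
      refine ⟨K.mul_mem ha1 hb1, ?_⟩
      have : (⟨a * b, K.mul_mem ha1 hb1⟩ : K) = ⟨a, ha1⟩ * ⟨b, hb1⟩ := rfl
      rw [this, map_mul]
      exact Subgroup.mul_mem _ ha2 hb2
    | inv a _ ha =>
      obtain ⟨ha1, ha2⟩ := ha
      refine ⟨K.inv_mem ha1, ?_⟩
      have : (⟨a⁻¹, K.inv_mem ha1⟩ : K) = (⟨a, ha1⟩ : K)⁻¹ := rfl
      rw [this, map_inv]
      exact Subgroup.inv_mem _ ha2
  obtain ⟨_, h⟩ := key _ hx'
  exact h

theorem conj_mem_omegaOne {X : Type*} [Group X] {p : ℕ} {K : Subgroup X} {g x : X} (hg : g ∈ K) (hx : x ∈ omegaOne p K) :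
    g * x * g⁻¹ ∈ omegaOne p K := by
  have hxK := omegaOne_le_self' K hx
  have h := (Subgroup.characteristic_iff_le_comap.1 (omegaOne_char (p := p) K)) (MulAut.conj (⟨g, hg⟩ : K))
    (show (⟨x, hxK⟩ : K) ∈ (omegaOne p K).subgroupOf K from Subgroup.mem_subgroupOf.2 hx)
  rw [Subgroup.mem_comap, Subgroup.mem_subgroupOf] at h
  simpa using h

theorem StronglyClosed.inf' {A B : Subgroup Ω} (hA : F.StronglyClosed A) (hB : F.StronglyClosed B) :
    F.StronglyClosed (A ⊓ B) := by
  refine ⟨inf_le_left.trans hA.1, fun R hR φ hφ x => ?_⟩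
  exact ⟨hA.2 R (hR.trans inf_le_left) φ hφ x, hB.2 R (hR.trans inf_le_right) φ hφ x⟩

/-- Fix the restriction of a coprime power. -/
theorem fix_of_omega {p : ℕ} [Fact p.Prime] (hp : p ≠ 2) {T : Type*} [Group T] [Finite T] (hT : IsPGroup p T)
    (R : Subgroup T) (γ : MulAut T) (hinv : ∀ x ∈ R, γ x ∈ R) (hco : (orderOf γ).Coprime p)
    (hfix : ∀ x ∈ R, x ^ p = 1 → γ x = x) : ∀ x ∈ R, γ x = x := by
  have : Finite R := inferInstance
  let f : R →* R :=
    { toFun := fun x => ⟨γ x, hinv _ x.2⟩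
      map_one' := Subtype.ext (by simp)
      map_mul' := fun a b => Subtype.ext (by simp) }
  have hinj : Function.Injective f := fun a b hab => by
    have h1 : γ (a : T) = γ (b : T) := congrArg Subtype.val hab
    exact Subtype.ext (γ.injective h1)
  let r : MulAut R := MulEquiv.ofBijective f ⟨hinj, Finite.injective_iff_surjective.1 hinj⟩
  have hrv : ∀ (k : ℕ) (x : R), (((r ^ k) x : R) : T) = (γ ^ k) (x : T) := by
    intro k x
    induction k with
    | zero => simp
    | succ k ih =>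
      rw [pow_succ', pow_succ', MulAut.mul_apply, MulAut.mul_apply, ← ih]
      rfl
  have hord : orderOf r ∣ orderOf γ := by
    apply orderOf_dvd_of_pow_eq_one
    ext x
    rw [hrv, pow_orderOf_eq_one]
    simp
  have hcop : (orderOf r).Coprime p := Nat.Coprime.coprime_dvd_left hord hco
  have hR : IsPGroup p R := hT.to_subgroup R
  have h1 : r = 1 := Cfsg.Agent.Lib.Transfer.eq_one_of_fix_omega hp hR r hcop fun x hx => by
    apply Subtype.ext
    exact hfix x x.2 (congrArg Subtype.val hx)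
  intro x hx
  have := congrArg (fun a : MulAut R => ((a ⟨x, hx⟩ : R) : T)) h1
  exact this


/-- Let p be an odd prime, F a saturated fusion system over a finite p-group S and P a subgroup of S strongly closed in F. Then P is normal in F if and only if Ω₁(P) (the subgroup generated by the elements of order p of P) has a chain of subgroups 1 = Q₀ ≤ Q₁ ≤ ⋯ ≤ Qₙ = Ω₁(P), each strongly closed in F, with [Qᵢ₊₁, P] ≤ Qᵢ for all i. -/
theorem result {Ω : Type*} [Group Ω] {S : Subgroup Ω} [Finite S] (p : ℕ) [Fact p.Prime] (hS : IsPGroup p S) (F : Cfsg.FusionSystem S) (hF : F.IsSaturated p) (hp : p ≠ 2) (P : Subgroup Ω) (hP : F.StronglyClosed P) : F.IsNormal P ↔ ∃ (n : ℕ) (Q : Fin (n + 1) → Subgroup Ω), Q 0 = ⊥ ∧ Q (Fin.last n) = Cfsg.omegaOne p P ∧ Monotone Q ∧ (∀ i : Fin (n + 1), F.StronglyClosed (Q i)) ∧ ∀ i : Fin n, ⁅Q i.succ, P⁆ ≤ Q i.castSucc := by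
  classical
  constructor
  · intro hQ
    obtain ⟨n, Qs, h0, hn, hm, hc, hcc⟩ := exists_lcs_chain hS hQ.1
    have hΩn : F.IsNormal (omegaOne p P) := Cfsg.Agent.S5085.result F P _ hQ (omegaOne_le_self' P) (omegaOne_char P)
    have hΩc := IsNormal.stronglyClosed hΩn
    refine ⟨n, fun i => omegaOne p P ⊓ Qs i, ?_, ?_, ?_, ?_, ?_⟩
    · simp [h0]
    · simp only [hn]
      exact inf_eq_left.2 (omegaOne_le_self' P)
    · intro i j hij
      exact inf_le_inf_left _ (hm hij)
    · intro i
      obtain ⟨k, hk⟩ := hc i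
      show F.StronglyClosed (omegaOne p P ⊓ Qs i)
      rw [hk]
      exact StronglyClosed.inf' hΩc (IsNormal.stronglyClosed (IsNormal.lcs hQ k))
    · intro i
      show ⁅omegaOne p P ⊓ Qs i.succ, P⁆ ≤ omegaOne p P ⊓ Qs i.castSucc
      rw [Subgroup.commutator_le]
      intro x hx g hg
      refine ⟨?_, hcc i (Subgroup.commutator_mem_commutator hx.2 hg)⟩
      have h1 := conj_mem_omegaOne hg ((omegaOne p P).inv_mem hx.1)
      have h2 := (omegaOne p P).mul_mem hx.1 h1
      have e : ⁅x, g⁆ = x * (g * x⁻¹ * g⁻¹) := by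
        simp [commutatorElement_def, mul_assoc]
      rwa [e]
  · rintro ⟨n, Qc, h0, hl, hm, hclosed, hcomm⟩
    rw [isNormal_iff_stronglyClosed hS hF]
    refine ⟨hP, fun T hTc hTr => ?_⟩
    have hTS := hTc.1
    have : Finite T := finite_of_le hTS
    have hTp : IsPGroup p T := hS.to_le hTS
    let W : ℕ → Subgroup Ω := fun j => Qc ⟨min j n, by omega⟩
    have hW : ∀ j (hj : j ≤ n), W j = Qc ⟨j, by omega⟩ := by
      intro j hj
      show Qc _ = _
      congr 2
      exact min_eq_left hj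
    have hWc : ∀ j, F.StronglyClosed (W j) := fun j => hclosed _
    have hW0 : W 0 = ⊥ := by rw [hW 0 (Nat.zero_le n)]; exact h0
    have hWn : W n = omegaOne p P := by rw [hW n le_rfl]; exact hl
    have hWcomm : ∀ j, j < n → ∀ x ∈ W (j + 1), ∀ g ∈ P, ⁅x, g⁆ ∈ W j := by
      intro j hj x hx g hg
      rw [hW j (by omega)]
      rw [hW (j + 1) (by omega)] at hx
      exact hcomm ⟨j, hj⟩ (Subgroup.commutator_mem_commutator hx hg)
    have hWm : ∀ j, j < n → W j ≤ W (j + 1) := fun j hj => hm (by simp only [Fin.le_def]; omega)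
    let V : ℕ → Subgroup T := fun j => if j = 0 then P.subgroupOf T else ⊤
    have hV0 : V 0 = P.subgroupOf T := if_pos rfl
    have hVs : ∀ j, V (j + 1) = ⊤ := fun j => if_neg (by omega)
    refine le_of_stable_chain hS (StronglyClosed.le_normalizer hP) hP.1 hTc hTr V ?_ ?_ ⟨1, hVs 0⟩
      (fun γ => γ ∈ F.autGroup T ∧ ∀ j, j < n → ∀ x : T, (x : Ω) ∈ W (j + 1) → ((x⁻¹ * γ x : T) : Ω) ∈ W j)
      ⟨Subgroup.one_mem _, fun j _ x _ => by simp⟩ ?_ ?_ ?_ ?_
    · intro j
      rw [hVs j]
      exact le_top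
    · intro α hα j x hx
      cases j with
      | zero =>
        rw [hV0, Subgroup.mem_subgroupOf] at hx ⊢
        exact StronglyClosed.aut_mem hP hTS hα hx
      | succ j =>
        rw [hVs j]
        trivial
    · rintro a b ⟨ha, ha'⟩ ⟨hb, hb'⟩
      refine ⟨Subgroup.mul_mem _ ha hb, fun j hj x hx => ?_⟩
      have h1 := hb' j hj x hx
      have h2 := ha' j hj (b x) (StronglyClosed.aut_mem (hWc _) hTS hb hx)
      have e : ((x⁻¹ * (a * b) x : T) : Ω) = ((x⁻¹ * b x : T) : Ω) * (((b x)⁻¹ * a (b x) : T) : Ω) := by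
        simp [MulAut.mul_apply, mul_assoc]
      rw [e]
      exact (W j).mul_mem h1 h2
    · rintro α hα a ha ⟨-, ha'⟩ -
      refine ⟨Subgroup.mul_mem _ (Subgroup.mul_mem _ hα ha) (Subgroup.inv_mem _ hα), fun j hj x hx => ?_⟩
      have hαi : α⁻¹ ∈ F.autGroup T := Subgroup.inv_mem _ hα
      have h1 := ha' j hj (α⁻¹ x) (StronglyClosed.aut_mem (hWc _) hTS hαi hx)
      have h2 := StronglyClosed.aut_mem (hWc j) hTS hα h1
      have e : α ((α⁻¹ x)⁻¹ * a (α⁻¹ x)) = x⁻¹ * (α * a * α⁻¹) x := by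
        rw [map_mul, map_inv, MulAut.mul_apply, MulAut.mul_apply]
        simp
      rwa [e] at h2
    · rintro γ hγ ⟨-, hγW⟩ -
      have hind : ∀ j, j ≤ n → ∃ N : ℕ, ∀ x : T, (x : Ω) ∈ W j → (γ ^ (p ^ N)) x = x := by
        intro j
        induction j with
        | zero =>
          intro _
          refine ⟨0, fun x hx => ?_⟩
          rw [hW0] at hx
          have h2 : x = 1 := Subtype.ext (Subgroup.mem_bot.1 hx)
          subst h2
          simp
        | succ j ih =>
          intro hj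
          obtain ⟨N, hN⟩ := ih (by omega)
          have := pow_fix_step hTp γ (A := (W j).subgroupOf T) (B := (W (j + 1)).subgroupOf T)
            (fun x hx => Subgroup.mem_subgroupOf.2 (hWm j (by omega) (Subgroup.mem_subgroupOf.1 hx)))
            (fun x hx => Subgroup.mem_subgroupOf.2 (hγW j (by omega) x (Subgroup.mem_subgroupOf.1 hx)))
            (N := N) (fun x hx => hN x (Subgroup.mem_subgroupOf.1 hx))
          obtain ⟨N', hN'⟩ := this
          exact ⟨N', fun x hx => hN' x (Subgroup.mem_subgroupOf.2 hx)⟩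
      obtain ⟨N₁, hN₁⟩ := hind n le_rfl
      rw [hWn] at hN₁
      have : Finite (MulAut T) := finite_mulAut T
      let a := (orderOf γ).factorization p
      let N := max N₁ a
      have hNN₁ : N₁ ≤ N := le_max_left _ _
      have hNa : a ≤ N := le_max_right _ _
      refine ⟨N, fun x hx => ?_⟩
      rw [hV0] at hx
      have hfix₁ : ∀ x : T, (x : Ω) ∈ omegaOne p P → (γ ^ (p ^ N)) x = x := by
        intro x hx
        have e : p ^ N = p ^ N₁ * p ^ (N - N₁) := by
          rw [← pow_add]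
          congr 1
          omega
        rw [e, pow_mul]
        generalize p ^ (N - N₁) = k
        induction k with
        | zero => simp
        | succ k ih =>
          rw [pow_succ', MulAut.mul_apply, ih, hN₁ x hx]
      have hord : orderOf γ ≠ 0 := (orderOf_pos γ).ne'
      have hco : (orderOf (γ ^ (p ^ N))).Coprime p := by
        have h1 : (γ ^ (p ^ N)) ^ ordCompl[p] (orderOf γ) = 1 := by
          rw [← pow_mul]
          apply orderOf_dvd_iff_pow_eq_one.1
          have h2 := Nat.ordProj_mul_ordCompl_eq_self (orderOf γ) p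
          calc orderOf γ = p ^ a * ordCompl[p] (orderOf γ) := h2.symm
            _ ∣ p ^ N * ordCompl[p] (orderOf γ) := Nat.mul_dvd_mul_right (pow_dvd_pow p hNa) _
        have h3 := orderOf_dvd_of_pow_eq_one h1
        exact Nat.Coprime.coprime_dvd_left h3 (Nat.coprime_ordCompl (Fact.out : p.Prime) hord).symm
      refine fix_of_omega hp hTp (P.subgroupOf T) (γ ^ (p ^ N)) ?_ hco ?_ x hx
      · intro y hy
        rw [Subgroup.mem_subgroupOf] at hy ⊢
        exact StronglyClosed.aut_mem hP hTS (Subgroup.pow_mem _ hγ _) hy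
      · intro y hy hy1
        refine hfix₁ y (Subgroup.subset_closure ⟨Subgroup.mem_subgroupOf.1 hy, ?_⟩)
        exact congrArg Subtype.val hy1
    · intro g hg
      have hgP := (mem_normalizerIn.1 hg).1
      have hgS : g ∈ S := hP.1 hgP
      refine ⟨⟨autInducedBy_le_autGroup F hTS (conjAut_mem hgS _), fun j hj x hx => ?_⟩, fun j x hx => ?_⟩
      · have hval : ((x⁻¹ * conjAut T g (mem_normalizerIn.1 hg).2 x : T) : Ω) = (x : Ω)⁻¹ * (g * (x : Ω) * g⁻¹) := by
          simp [conjAut_coe]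
        rw [hval]
        have := hWcomm j hj _ ((W (j + 1)).inv_mem hx) g hgP
        simpa [commutatorElement_def, mul_assoc] using this
      · cases j with
        | zero =>
          rw [hV0, Subgroup.mem_subgroupOf]
          have hval : ((x⁻¹ * conjAut T g (mem_normalizerIn.1 hg).2 x : T) : Ω) = (x : Ω)⁻¹ * (g * (x : Ω) * g⁻¹) := by
            simp [conjAut_coe]
          rw [hval]
          have hxS : (x : Ω) ∈ S := hTS x.2
          have h1 : (x : Ω)⁻¹ * g * (x : Ω) ∈ P := by
            have := conj_mem_of_mem_normalizer (StronglyClosed.le_normalizer hP (S.inv_mem hxS)) hgP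
            simpa using this
          have h2 := P.mul_mem h1 (P.inv_mem hgP)
          have e : (x : Ω)⁻¹ * (g * (x : Ω) * g⁻¹) = (x : Ω)⁻¹ * g * (x : Ω) * g⁻¹ := by group
          rwa [e]
        | succ j =>
          rw [hVs j]
          trivial

end Cfsg.Agent.S5236
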