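import Cfsg.Statements.S5234
import Cfsg.Agent.Lib.Fusion.Metacyc
import Cfsg.Agent.S5236
import Cfsg.Agent.S0638
import Mathlib

set_option autoImplicit false
open Cfsg

namespace Cfsg.Agent.S5234

open Cfsg.Agent.Lib.Fusion Cfsg.FusionSystem


open scoped commutatorElement

theorem map_conj_eq' {Ω : Type*} [Group Ω] {Q : Subgroup Ω} {g : Ω} (h : g ∈ Subgroup.normalizer (Q : Set Ω))
    (h' : g⁻¹ ∈ Subgroup.normalizer (Q : Set Ω)) : Q.map (MulAut.conj g).toMonoidHom = Q := by
  ext y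
  constructor
  · rintro ⟨w, hw, rfl⟩
    exact conj_mem_of_mem_normalizer h hw
  · intro hy
    refine ⟨g⁻¹ * y * g, ?_, by simp [mul_assoc]⟩
    have := conj_mem_of_mem_normalizer h' hy
    simpa using this

/-- Let p be an odd prime, F a saturated fusion system over a finite p-group S and P a metacyclic subgroup of S strongly closed in F. Then P is normal in F. -/
theorem result {Ω : Type*} [Group Ω] {S : Subgroup Ω} [Finite S] (p : ℕ) [Fact p.Prime] (hS : IsPGroup p S) (F : Cfsg.FusionSystem S) (hF : F.IsSaturated p) (P : Subgroup Ω) (hP : F.StronglyClosed P) (hp : p ≠ 2) (hm : Cfsg.IsMetacyclic ↥P) : F.IsNormal P := by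
  classical
  have hpp : p.Prime := Fact.out
  have hPS := hP.1
  have : Finite P := finite_of_le hPS
  have hPp : IsPGroup p P := hS.to_le hPS
  obtain ⟨E, hEdef⟩ : ∃ E, E = omegaOne p P := ⟨_, rfl⟩
  have hEP : E ≤ P := hEdef ▸ Cfsg.Agent.S5236.omegaOne_le_self' P
  have hEmem : ∀ x ∈ P, x ^ p = 1 → x ∈ E := fun x hx hx1 => hEdef ▸ Subgroup.subset_closure ⟨hx, hx1⟩
  have hESm : ∀ g ∈ P, ∀ x ∈ E, g * x * g⁻¹ ∈ E := fun g hg x hx => by
    rw [hEdef] at hx ⊢
    exact Cfsg.Agent.S5236.conj_mem_omegaOne hg hx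
  -- the structure of `E` in the non-cyclic case
  have hstruct : ¬ IsCyclic P → (∀ a ∈ E, ∀ b ∈ E, a * b = b * a) ∧ (∀ a ∈ E, a ^ p = 1) ∧ Nat.card E = p ^ 2 := by
    intro hnc
    obtain ⟨⟨h1, h2⟩, h3⟩ := Cfsg.Agent.S0638.result hp (hS.to_le hPS) hm hnc
    have hmap : (omegaOne p (⊤ : Subgroup P)).map P.subtype = E := by
      rw [hEdef]
      unfold omegaOne
      rw [MonoidHom.map_closure]
      congr 1
      ext x
      constructor
      · rintro ⟨y, ⟨-, hy⟩, rfl⟩
        refine ⟨y.2, ?_⟩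
        exact congrArg Subtype.val hy
      · rintro ⟨hx, hx1⟩
        exact ⟨⟨x, hx⟩, ⟨trivial, Subtype.ext hx1⟩, rfl⟩
    refine ⟨?_, ?_, ?_⟩
    · rw [← hmap]
      rintro _ ⟨a, ha, rfl⟩ _ ⟨b, hb, rfl⟩
      have := h1.is_comm.comm ⟨a, ha⟩ ⟨b, hb⟩
      have h4 := congrArg (fun y : omegaOne p (⊤ : Subgroup P) => ((y : P) : Ω)) this
      exact h4
    · rw [← hmap]
      rintro _ ⟨a, ha, rfl⟩
      have := h2 a ha
      exact congrArg Subtype.val this
    · rw [← hmap, ← h3]
      exact Nat.card_congr (Subgroup.equivMapOfInjective _ _ P.subtype_injective).symm.toEquiv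
  have hexp : ∀ a ∈ E, a ^ p = 1 := by
    by_cases hc : IsCyclic P
    · have hcom : ∀ a ∈ P, ∀ b ∈ P, a * b = b * a := fun a ha b hb => by
        have : (⟨a, ha⟩ : P) * ⟨b, hb⟩ = ⟨b, hb⟩ * ⟨a, ha⟩ := by
          obtain ⟨g, hg⟩ := hc.exists_zpow_surjective
          obtain ⟨i, hi⟩ := hg ⟨a, ha⟩
          obtain ⟨j, hj⟩ := hg ⟨b, hb⟩
          rw [← hi, ← hj, ← zpow_add, ← zpow_add, add_comm]
        exact congrArg Subtype.val this
      intro a ha
      rw [hEdef] at ha
      unfold omegaOne at ha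
      have key : ∀ a (_ : a ∈ Subgroup.closure {x : Ω | x ∈ P ∧ x ^ p = 1}), a ∈ P ∧ a ^ p = 1 := by
        intro a ha
        induction ha using Subgroup.closure_induction with
        | mem x hx => exact hx
        | one => simp [P.one_mem]
        | mul x y _ _ hx hy =>
          refine ⟨P.mul_mem hx.1 hy.1, ?_⟩
          rw [(show Commute x y from hcom x hx.1 y hy.1).mul_pow, hx.2, hy.2, one_mul]
        | inv x _ hx =>
          refine ⟨P.inv_mem hx.1, ?_⟩
          rw [inv_pow, hx.2, inv_one]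
      exact (key a ha).2
    · exact (hstruct hc).2.1
  have hEc : F.StronglyClosed E := by
    refine ⟨hEP.trans hPS, fun R hR φ hφ x => ?_⟩
    have h1 : φ x ∈ P := hP.2 R (hR.trans hEP) φ hφ x
    apply hEmem _ h1
    rw [← map_pow]
    have h2 : x ^ p = 1 := Subtype.ext (by simpa using hexp _ (hR x.2))
    rw [h2, map_one]
  have hbot : F.StronglyClosed (⊥ : Subgroup Ω) := StronglyClosed.bot_of_le
  refine (Cfsg.Agent.S5236.result p hS F hF hp P hP).2 ?_
  rw [← hEdef]
  by_cases hZ : ⁅E, P⁆ = ⊥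
  · refine ⟨1, ![⊥, E], rfl, rfl, ?_, ?_, ?_⟩
    · intro i j hij
      fin_cases i <;> fin_cases j <;> simp at hij ⊢
    · intro i
      fin_cases i
      · exact hbot
      · exact hEc
    · intro i
      fin_cases i
      simpa using hZ
  -- the non-central case
  have hnc : ¬ IsCyclic P := by
    intro hc
    apply hZ
    rw [Subgroup.commutator_eq_bot_iff_le_centralizer]
    intro a ha
    rw [Subgroup.mem_centralizer_iff]
    intro b hb
    have : (⟨b, hb⟩ : P) * ⟨a, hEP ha⟩ = ⟨a, hEP ha⟩ * ⟨b, hb⟩ := by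
      obtain ⟨g, hg⟩ := hc.exists_zpow_surjective
      obtain ⟨i, hi⟩ := hg ⟨a, hEP ha⟩
      obtain ⟨j, hj⟩ := hg ⟨b, hb⟩
      rw [← hi, ← hj, ← zpow_add, ← zpow_add, add_comm]
    exact congrArg Subtype.val this
  obtain ⟨hcomm, -, hcard⟩ := hstruct hnc
  obtain ⟨Z, hZdef⟩ : ∃ Z, Z = ⁅E, P⁆ := ⟨_, rfl⟩
  have hZne : Z ≠ ⊥ := hZdef ▸ hZ
  have hZE : Z ≤ E := by
    rw [hZdef, Subgroup.commutator_le]
    intro e he g hg
    have h1 := hESm g hg _ (E.inv_mem he)
    have h2 := E.mul_mem he h1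
    have e1 : ⁅e, g⁆ = e * (g * e⁻¹ * g⁻¹) := by
      simp [commutatorElement_def, mul_assoc]
    rwa [e1]
  have hESn : S ≤ Subgroup.normalizer (E : Set Ω) := StronglyClosed.le_normalizer hEc
  have hPSn : S ≤ Subgroup.normalizer (P : Set Ω) := StronglyClosed.le_normalizer hP
  have : Finite E := finite_of_le (hEP.trans hPS)
  have hZS : Z ≤ S := hZE.trans (hEP.trans hPS)
  have : Finite Z := finite_of_le hZS
  have hZn : S ≤ Subgroup.normalizer (Z : Set Ω) := by
    intro g hg
    refine mem_normalizer_of_forall fun z hz => ?_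
    rw [hZdef] at hz ⊢
    have h1 : (⁅E, P⁆).map (MulAut.conj g).toMonoidHom = ⁅E.map (MulAut.conj g).toMonoidHom, P.map (MulAut.conj g).toMonoidHom⁆ :=
      Subgroup.map_commutator _ _ _
    have h2 : E.map (MulAut.conj g).toMonoidHom = E := map_conj_eq' (hESn hg) (hESn (S.inv_mem hg))
    have h3 : P.map (MulAut.conj g).toMonoidHom = P := map_conj_eq' (hPSn hg) (hPSn (S.inv_mem hg))
    rw [h2, h3] at h1
    rw [← h1]
    exact ⟨z, hz, rfl⟩
  have hZlt : Z ≠ E := by
    intro h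
    obtain ⟨n, Qs, h0, hn, -, -, hcc⟩ := exists_lcs_chain hS hPS
    have hdown : ∀ i : ℕ, (hi : i ≤ n) → E ≤ Qs ⟨n - i, by omega⟩ := by
      intro i
      induction i with
      | zero =>
        intro _
        have : (⟨n - 0, by omega⟩ : Fin (n + 1)) = Fin.last n := by
          ext
          simp
        rw [this, hn]
        exact hEP
      | succ i ih =>
        intro hi
        have h1 := ih (by omega)
        have h2 : E = ⁅E, P⁆ := by rw [← hZdef, h]
        rw [h2]
        refine (Subgroup.commutator_mono h1 le_rfl).trans ?_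
        have h3 := hcc ⟨n - (i + 1), by omega⟩
        have e1 : (⟨n - (i + 1), by omega⟩ : Fin n).succ = ⟨n - i, by omega⟩ := by
          ext
          simp only [Fin.val_succ]
          omega
        rw [e1] at h3
        exact h3
    have h1 := hdown n le_rfl
    have e0 : (⟨n - n, by omega⟩ : Fin (n + 1)) = 0 := by
      ext
      simp
    rw [e0, h0] at h1
    have h2 : E = ⊥ := le_bot_iff.1 h1
    have h3 : Nat.card E = 1 := by rw [h2]; exact Subgroup.card_bot
    rw [hcard] at h3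
    have := hpp.two_le
    have h4 : 1 < p ^ 2 := Nat.one_lt_pow (by norm_num) hpp.one_lt
    omega
  have hZc : Nat.card Z = p := by
    have h1 : Nat.card Z ∣ p ^ 2 := hcard ▸ Subgroup.card_dvd_of_le hZE
    obtain ⟨k, hk, hk'⟩ := (Nat.dvd_prime_pow hpp).1 h1
    interval_cases k
    · exfalso
      apply hZne
      have : Subsingleton Z := (Nat.card_eq_one_iff_unique.1 (by simpa using hk')).1
      rw [eq_bot_iff]
      intro x hx
      exact Subgroup.mem_bot.2 (congrArg Subtype.val (Subsingleton.elim (⟨x, hx⟩ : Z) 1))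
    · simpa using hk'
    · exfalso
      apply hZlt
      exact eq_of_le_of_card_le (hEP.trans hPS) hZE (by rw [hcard, hk'])
  have hZcent : ∀ z ∈ Z, ∀ g ∈ P, g * z * g⁻¹ = z := by
    have : Group.IsNilpotent P := hPp.isNilpotent
    have hZle : Z ≤ P := hZE.trans hEP
    haveI hZ'n : (Z.subgroupOf P).Normal := ⟨fun c hc g => Subgroup.mem_subgroupOf.2 (by
      simpa using conj_mem_of_mem_normalizer (hZn (hPS g.2)) (Subgroup.mem_subgroupOf.1 hc))⟩
    have hZ'ne : Z.subgroupOf P ≠ ⊥ := by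
      intro h
      apply hZne
      rw [eq_bot_iff]
      intro x hx
      have : (⟨x, hZle hx⟩ : P) ∈ Z.subgroupOf P := Subgroup.mem_subgroupOf.2 hx
      rw [h, Subgroup.mem_bot] at this
      exact Subgroup.mem_bot.2 (congrArg Subtype.val this)
    have h1 := Cfsg.Agent.Lib.Core.normal_inf_center_ne_bot _ hZ'ne
    obtain ⟨⟨⟨z₀, hz₀P⟩, hz₀Z, hz₀c⟩, hz₀ne⟩ := Subgroup.ne_bot_iff_exists_ne_one.1 h1
    have hz₀Z' : z₀ ∈ Z := Subgroup.mem_subgroupOf.1 hz₀Z
    have hz₀1 : z₀ ≠ 1 := fun h => hz₀ne (Subtype.ext (Subtype.ext h))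
    have hz₀p : z₀ ^ p = 1 := hexp _ (hZE hz₀Z')
    have hord : orderOf z₀ = p := orderOf_eq_prime hz₀p hz₀1
    have hzeq : Subgroup.zpowers z₀ = Z := by
      apply Subgroup.eq_of_le_of_card_ge
      · rw [Subgroup.zpowers_le]
        exact hz₀Z'
      · rw [Nat.card_zpowers, hord, hZc]
    intro z hz g hg
    rw [← hzeq] at hz
    obtain ⟨k, rfl⟩ := Subgroup.mem_zpowers_iff.1 hz
    have h2 : g * z₀ * g⁻¹ = z₀ := by
      have := Subgroup.mem_center_iff.1 hz₀c ⟨g, hg⟩
      have h3 : g * z₀ = z₀ * g := congrArg Subtype.val this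
      rw [h3]
      simp
    rw [← conj_zpow, h2]
  have hEZ : ∀ e ∈ E, ∀ g ∈ P, g * e * g⁻¹ * e⁻¹ ∈ Z := by
    intro e he g hg
    rw [hZdef, Subgroup.commutator_comm]
    exact Subgroup.commutator_mem_commutator hg he
  obtain ⟨e, he, x, hxP, hne⟩ : ∃ e ∈ E, ∃ x ∈ P, x * e * x⁻¹ ≠ e := by
    by_contra hcon
    push_neg at hcon
    apply hZ
    rw [Subgroup.commutator_eq_bot_iff_le_centralizer]
    intro a ha
    rw [Subgroup.mem_centralizer_iff]
    intro b hb
    have := hcon a ha b hb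
    rw [mul_inv_eq_iff_eq_mul] at this
    exact this
  have hZclosed : F.StronglyClosed Z := by
    by_contra hZnc
    obtain ⟨i, hi, hiv⟩ := exists_inversion_of_not_closed hS hF hEc hEP hcomm hexp hcard hZE hZc hZn hZcent hEZ hxP (hPS hxP) he hne hZnc
    obtain ⟨β, -, hβv⟩ := exists_aut_inverting hS hF hP hEc hi hiv
    have hab := abelian_of_inversion hp hPp β (fun u hu => Subtype.ext (by
      have hu1 : (u : Ω) ^ p = 1 := by simpa using congrArg Subtype.val hu
      simpa using hβv u (hEmem _ u.2 hu1)))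
    have := hab ⟨x, hxP⟩ ⟨e, hEP he⟩
    apply hne
    have h2 : x * e = e * x := congrArg Subtype.val this
    rw [h2]
    simp
  refine ⟨2, ![⊥, Z, E], rfl, rfl, ?_, ?_, ?_⟩
  · intro i j hij
    fin_cases i <;> fin_cases j <;> simp at hij ⊢
    · exact hZE
  · intro i
    fin_cases i
    · exact hbot
    · exact hZclosed
    · exact hEc
  · intro i
    fin_cases i
    · show ⁅Z, P⁆ ≤ ⊥
      rw [Subgroup.commutator_le]
      intro z hz g hg
      rw [Subgroup.mem_bot, commutatorElement_eq_one_iff_mul_comm]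
      have h1 := hZcent z hz g hg
      rw [mul_inv_eq_iff_eq_mul] at h1
      exact h1.symm
    · show ⁅E, P⁆ ≤ Z
      exact hZdef.ge

end Cfsg.Agent.S5234
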