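import Cfsg.Statements.S3975
import Mathlib

set_option autoImplicit false
open Cfsg

namespace Cfsg.Agent.S3975

open scoped Pointwise
open MulAction

universe u

/-- If all orbits have size divisible by `d`, so has the whole set. -/
theorem dvd_card_of_orbits {H : Type*} [Group H] {Y : Type*} [Finite Y] [MulAction H Y] (d : ℕ)
    (h : ∀ y : Y, d ∣ Nat.card (orbit H y)) : d ∣ Nat.card Y := by
  classical
  haveI := Fintype.ofFinite Y
  have e := selfEquivSigmaOrbits' H Y
  rw [Nat.card_congr e, Nat.card_sigma]
  apply Finset.dvd_sum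
  intro ω _
  induction ω using Quotient.inductionOn' with
  | h y =>
    have : (orbitRel.Quotient.orbit (Quotient.mk'' y : orbitRel.Quotient H Y)) = orbit H y := by
      exact orbitRel.Quotient.orbit_mk y
    rw [this]
    exact h y

theorem orbit_mul_stabilizer {H : Type*} [Group H] [Finite H] {Y : Type*} [MulAction H Y] (y : Y) :
    Nat.card (orbit H y) * Nat.card (stabilizer H y) = Nat.card H := by
  rw [Nat.card_congr (orbitEquivQuotientStabilizer H y)]
  exact (stabilizer H y).index_mul_card

section
variable {G : Type u} [Group G] [Finite G]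

/-- `S` is a left coset of a subgroup of order `k`. -/
def IsCosetSet (k : ℕ) (S : Finset G) : Prop :=
  ∃ H : Subgroup G, Nat.card H = k ∧ ∃ g : G, ∀ x, x ∈ S ↔ g⁻¹ * x ∈ H

theorem stabilizer_card_dvd [DecidableEq G] (S : Finset G) :
    Nat.card (stabilizer G S) ∣ S.card := by
  have hS : ∀ (g : stabilizer G S) (x : G), x ∈ S → (g : G) * x ∈ S := by
    intro g x hx
    have h1 : (g : G) • S = S := g.2
    have h2 : (g : G) • x ∈ (g : G) • S := Finset.smul_mem_smul_finset hx
    rw [h1] at h2
    exact h2
  letI : MulAction (stabilizer G S) ↥S :=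
    { smul := fun g x => ⟨(g : G) * x, hS g x x.2⟩
      one_smul := fun x => Subtype.ext (by show (1 : G) * x = x; simp)
      mul_smul := fun a b x => Subtype.ext (by
        show ((a : G) * (b : G)) * x = (a : G) * ((b : G) * x)
        exact mul_assoc _ _ _) }
  have h := dvd_card_of_orbits (H := stabilizer G S) (Y := ↥S) (Nat.card (stabilizer G S)) ?_
  · simpa using h
  · intro y
    have h1 := orbit_mul_stabilizer (H := stabilizer G S) y
    have h2 : stabilizer (stabilizer G S) y = ⊥ := by
      rw [eq_bot_iff]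
      intro g hg
      have h3 : g • y = y := hg
      have h4 : (g : G) * (y : G) = y := congrArg Subtype.val h3
      have h5 : (g : G) = 1 := by simpa using h4
      rw [Subgroup.mem_bot]
      exact Subtype.ext h5
    rw [h2, Subgroup.card_bot, mul_one] at h1
    rw [h1]

theorem isCosetSet_of_stabilizer [DecidableEq G] {k : ℕ} {S : Finset G} (hS : S.card = k) (hk : 0 < k)
    (hst : Nat.card (stabilizer G S) = k) : IsCosetSet k S := by
  obtain ⟨s, hs⟩ : S.Nonempty := by
    rw [← Finset.card_pos]; omega
  have hmem : ∀ g : G, g ∈ stabilizer G S → g * s ∈ S := by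
    intro g hg
    have h1 : g • S = S := hg
    have h2 : g • s ∈ g • S := Finset.smul_mem_smul_finset hs
    rw [h1] at h2
    exact h2
  classical
  haveI := Fintype.ofFinite G
  let K : Subgroup G := (stabilizer G S).map (MulAut.conj s⁻¹).toMonoidHom
  have hK : Nat.card K = k := by
    rw [← hst]
    exact Nat.card_congr (MulEquiv.subgroupMap (MulAut.conj s⁻¹) _).symm.toEquiv
  have himg : (Finset.univ.filter (fun x : G => x * s⁻¹ ∈ stabilizer G S)) = S := by
    apply Finset.eq_of_subset_of_card_le
    · intro x hx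
      have hx' : x * s⁻¹ ∈ stabilizer G S := (Finset.mem_filter.mp hx).2
      have := hmem _ hx'
      simpa using this
    · rw [hS, ← hst]
      have : Nat.card (stabilizer G S) ≤ (Finset.univ.filter (fun x : G => x * s⁻¹ ∈ stabilizer G S)).card := by
        rw [← Finset.card_attach, ← Fintype.card_coe, ← Nat.card_eq_fintype_card]
        refine Nat.card_le_card_of_injective
          (fun g => ⟨⟨(g : G) * s, Finset.mem_filter.mpr ⟨Finset.mem_univ _, by simp⟩⟩, Finset.mem_attach _ _⟩) ?_
        intro a b hab
        have : (a : G) * s = (b : G) * s := by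
          have h9 := congrArg (fun w => (w.1 : G)) hab
          exact h9
        exact Subtype.ext (mul_right_cancel this)
      exact this
  refine ⟨K, hK, s, ?_⟩
  intro x
  rw [← himg, Finset.mem_filter]
  constructor
  · rintro ⟨_, hx⟩
    refine ⟨x * s⁻¹, hx, ?_⟩
    simp [mul_assoc]
  · rintro ⟨g, hg, e⟩
    refine ⟨Finset.mem_univ _, ?_⟩
    have h1 : (MulAut.conj s⁻¹) g = s⁻¹ * x := e
    have h2 : s⁻¹ * g * s = s⁻¹ * x := by simpa [mul_assoc] using h1
    have h3 : x = g * s := by
      have : s * (s⁻¹ * g * s) = s * (s⁻¹ * x) := by rw [h2]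
      simpa [mul_assoc] using this.symm
    rw [h3]
    simpa using hg

end


section
variable {G : Type u} [Group G] [Finite G]

theorem card_of_coset {S : Finset G} {H : Subgroup G} {g : G} (h : ∀ x, x ∈ S ↔ g⁻¹ * x ∈ H) :
    S.card = Nat.card H := by
  classical
  have e : ↥S ≃ ↥H :=
    { toFun := fun x => ⟨g⁻¹ * x, (h x).mp x.2⟩
      invFun := fun y => ⟨g * y, (h _).mpr (by simp)⟩
      left_inv := fun x => Subtype.ext (by simp)
      right_inv := fun y => Subtype.ext (by simp) }
  rw [← Nat.card_congr e]
  simp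

theorem choose_eq (p β : ℕ) (hp : p.Prime) (hdiv : p ^ β ∣ Nat.card G) :
    ∃ B, (Nat.card G).choose (p ^ β) =
      Nat.card {H : Subgroup G // Nat.card H = p ^ β} * (Nat.card G / p ^ β) +
        p * (Nat.card G / p ^ β) * B := by
  classical
  haveI := Fintype.ofFinite G
  set k := p ^ β with hk
  set n := Nat.card G with hn
  set M := n / k with hM
  have hkpos : 0 < k := pow_pos hp.pos _
  have hnM : n = k * M := (Nat.mul_div_cancel' hdiv).symm
  have hcard : (Finset.powersetCard k (Finset.univ : Finset G)).card = n.choose k := by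
    rw [Finset.card_powersetCard, Finset.card_univ, ← Nat.card_eq_fintype_card]
  set A := (Finset.powersetCard k (Finset.univ : Finset G)).filter (IsCosetSet k) with hA
  set B := (Finset.powersetCard k (Finset.univ : Finset G)).filter (fun S => ¬ IsCosetSet k S) with hB
  have hsum : A.card + B.card = n.choose k := by
    rw [← hcard]
    exact Finset.card_filter_add_card_filter_not _
  -- count `A`
  have hAcard : A.card = Nat.card {H : Subgroup G // Nat.card H = k} * M := by
    let Φ : (Σ H : {H : Subgroup G // Nat.card H = k}, G ⧸ H.1) → Finset G :=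
      fun a => Finset.univ.filter (fun x : G => (x : G ⧸ a.1.1) = a.2)
    have hΦmem : ∀ (H : {H : Subgroup G // Nat.card H = k}) (g x : G),
        x ∈ Φ ⟨H, (g : G ⧸ H.1)⟩ ↔ g⁻¹ * x ∈ H.1 := by
      intro H g x
      simp only [Φ, Finset.mem_filter, Finset.mem_univ, true_and]
      rw [eq_comm, QuotientGroup.eq]
    have hinj : Function.Injective Φ := by
      rintro ⟨⟨H, hH⟩, q⟩ ⟨⟨H', hH'⟩, q'⟩ heq
      obtain ⟨g, rfl⟩ := QuotientGroup.mk_surjective q
      obtain ⟨g', rfl⟩ := QuotientGroup.mk_surjective q'
      have h1 : ∀ x, g⁻¹ * x ∈ H ↔ g'⁻¹ * x ∈ H' := by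
        intro x
        rw [← hΦmem ⟨H, hH⟩ g x, ← hΦmem ⟨H', hH'⟩ g' x, heq]
      have hg : g'⁻¹ * g ∈ H' := (h1 g).mp (by simp)
      have hHH : H = H' := by
        ext y
        have h2 := h1 (g * y)
        rw [show g⁻¹ * (g * y) = y by group, show g'⁻¹ * (g * y) = (g'⁻¹ * g) * y by group] at h2
        rw [h2]
        exact H'.mul_mem_cancel_left hg
      subst hHH
      have hq : (g : G ⧸ H) = g' := by
        rw [QuotientGroup.eq]
        have := H.inv_mem hg
        simpa using this
      rw [hq]
    have hrange : A = Finset.univ.image Φ := by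
      ext S
      simp only [hA, Finset.mem_filter, Finset.mem_powersetCard, Finset.subset_univ, true_and,
        Finset.mem_image, Finset.mem_univ]
      constructor
      · rintro ⟨hS, H, hH, g, hg⟩
        refine ⟨⟨⟨H, hH⟩, (g : G ⧸ H)⟩, ?_⟩
        ext x
        rw [hΦmem ⟨H, hH⟩ g x, hg]
      · rintro ⟨⟨⟨H, hH⟩, q⟩, rfl⟩
        obtain ⟨g, rfl⟩ := QuotientGroup.mk_surjective q
        have hm := fun x => hΦmem ⟨H, hH⟩ g x
        refine ⟨?_, H, hH, g, hm⟩
        rw [card_of_coset hm, hH]
    rw [hrange, Finset.card_image_of_injective _ hinj, Finset.card_univ, ← Nat.card_eq_fintype_card,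
      Nat.card_sigma]
    have h3 : ∀ H : {H : Subgroup G // Nat.card H = k}, Nat.card (G ⧸ H.1) = M := by
      intro H
      have h4 := H.1.card_mul_index
      rw [H.2] at h4
      have : H.1.index = Nat.card (G ⧸ H.1) := rfl
      rw [← this]
      have h4' : k * H.1.index = n := h4
      rw [hM, ← h4']
      exact (Nat.mul_div_cancel_left _ hkpos).symm
    simp only [h3, Finset.sum_const, Finset.card_univ, smul_eq_mul]
    rw [Nat.card_eq_fintype_card]
  -- count `B`
  let Bs : SubMulAction G (Finset G) :=
    { carrier := {S | S.card = k ∧ ¬ IsCosetSet k S}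
      smul_mem' := by
        rintro g S ⟨h1, h2⟩
        refine ⟨by rw [Finset.card_smul_finset]; exact h1, ?_⟩
        rintro ⟨H, hH, a, ha⟩
        apply h2
        refine ⟨H, hH, g⁻¹ * a, ?_⟩
        intro x
        rw [show (g⁻¹ * a)⁻¹ * x = a⁻¹ * (g * x) by group, ← ha, Finset.mem_smul_finset]
        constructor
        · intro hx
          exact ⟨x, hx, rfl⟩
        · rintro ⟨y, hy, e⟩
          have : y = x := mul_left_cancel e
          rwa [← this] }
  have hBcard : B.card = Nat.card Bs := by
    rw [Nat.card_eq_fintype_card]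
    symm
    apply Fintype.card_of_subtype
    intro S
    simp only [hB, Finset.mem_filter, Finset.mem_powersetCard, Finset.subset_univ, true_and]
    rfl
  have hdvd : p * M ∣ Nat.card Bs := by
    apply dvd_card_of_orbits (H := G)
    intro y
    have h1 := orbit_mul_stabilizer (H := G) y
    have h2 : stabilizer G y = stabilizer G (y : Finset G) := SubMulAction.stabilizer_of_subMul y
    rw [h2] at h1
    have h3 := stabilizer_card_dvd (y : Finset G)
    rw [y.2.1] at h3
    obtain ⟨i, hi, hi2⟩ := (Nat.dvd_prime_pow hp).mp h3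
    have hne : i ≠ β := by
      intro h
      apply y.2.2
      apply isCosetSet_of_stabilizer y.2.1 hkpos
      rw [hi2, h]
    have hlt : i < β := lt_of_le_of_ne hi hne
    rw [hi2] at h1
    have h4 : Nat.card (orbit G y) = p ^ (β - i) * M := by
      have h5 : p ^ (β - i) * M * p ^ i = n := by
        rw [hnM, hk]
        rw [mul_comm (p ^ (β - i)), mul_assoc, ← pow_add, Nat.sub_add_cancel hi, mul_comm]
      have hpos : 0 < p ^ i := pow_pos hp.pos _
      exact Nat.eq_of_mul_eq_mul_right hpos (h1.trans h5.symm)
    rw [h4]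
    obtain ⟨d, hd⟩ : ∃ d, β - i = d + 1 := ⟨β - i - 1, by omega⟩
    rw [hd, pow_succ]
    exact ⟨p ^ d, by ring⟩
  obtain ⟨c, hc⟩ := hdvd
  refine ⟨c, ?_⟩
  rw [← hsum, hAcard, hBcard, hc]

end

theorem cyclic_unique_subgroup {C : Type*} [Group C] [Finite C] [IsCyclic C] {H K : Subgroup C}
    (h : Nat.card H = Nat.card K) : H = K := by
  classical
  haveI := Fintype.ofFinite C
  have key : ∀ L : Subgroup C, Nat.card L = Nat.card H →
      (L : Set C) = ↑(Finset.univ.filter (fun x : C => x ^ Nat.card H = 1)) := by
    intro L hL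
    have hle : (L : Set C) ⊆ ↑(Finset.univ.filter (fun x : C => x ^ Nat.card H = 1)) := by
      intro x hx
      simp only [Finset.coe_filter, Finset.mem_univ, true_and, Set.mem_setOf_eq]
      rw [← hL]
      have h6 : ((⟨x, hx⟩ : ↥L) ^ Nat.card L : ↥L) = 1 := pow_card_eq_one'
      have h7 := congrArg Subtype.val h6
      simpa only [SubgroupClass.coe_pow, OneMemClass.coe_one] using h7
    have hb := IsCyclic.card_pow_eq_one_le (α := C) (n := Nat.card H) Nat.card_pos
    refine Set.eq_of_subset_of_ncard_le hle ?_ (Finset.finite_toSet _)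
    rw [Set.ncard_coe_finset]
    have h5 : (L : Set C).ncard = Nat.card L := by
      rw [← Nat.card_coe_set_eq]; rfl
    rw [h5, hL]
    exact hb
  have h1 := key H rfl
  have h2 := key K h.symm
  exact SetLike.coe_injective (h1.trans h2.symm)

/-- Let `p` be a prime and `G` a finite group whose order is divisible by `p ^ β`. Then the number of subgroups of `G` of order `p ^ β` is congruent to `1` modulo `p`. (When `p ^ β` is the full power of `p` dividing the order, these are the Sylow `p`-subgroups and this is the usual Sylow count.) -/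
theorem result {G : Type*} [Group G] [Finite G] (p β : ℕ) (hp : p.Prime) (hdiv : p ^ β ∣ Nat.card G) : Nat.card {H : Subgroup G // Nat.card H = p ^ β} ≡ 1 [MOD p] := by
  classical
  set n := Nat.card G with hn
  have hnpos : 0 < n := Nat.card_pos
  haveI : NeZero n := ⟨hnpos.ne'⟩
  haveI : Fact p.Prime := ⟨hp⟩
  let C := Multiplicative (ZMod n)
  have hCcard : Nat.card C = n := by
    show Nat.card (Multiplicative (ZMod n)) = n
    rw [Nat.card_eq_fintype_card, Fintype.card_multiplicative, ZMod.card]
  obtain ⟨B, hB⟩ := choose_eq (G := G) p β hp hdiv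
  obtain ⟨B', hB'⟩ := choose_eq (G := C) p β hp (by rw [hCcard]; exact hdiv)
  have hone : Nat.card {H : Subgroup C // Nat.card H = p ^ β} = 1 := by
    rw [Nat.card_eq_one_iff_unique]
    constructor
    · constructor
      rintro ⟨H, hH⟩ ⟨K, hK⟩
      exact Subtype.ext (cyclic_unique_subgroup (hH.trans hK.symm))
    · obtain ⟨K, hK⟩ := Sylow.exists_subgroup_card_pow_prime (G := C) p (by rw [hCcard]; exact hdiv)
      exact ⟨⟨K, hK⟩⟩
  rw [hCcard, hone, one_mul] at hB'
  rw [← hn] at hB
  set N := Nat.card {H : Subgroup G // Nat.card H = p ^ β} with hN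
  set M := n / p ^ β with hM
  have hMpos : 0 < M := Nat.div_pos (Nat.le_of_dvd hnpos hdiv) (pow_pos hp.pos _)
  have h1 : M * (N + p * B) = M * (1 + p * B') := by
    have : N * M + p * M * B = M + p * M * B' := hB.symm.trans hB'
    calc M * (N + p * B) = N * M + p * M * B := by ring
      _ = M + p * M * B' := this
      _ = _ := by ring
  have h2 : N + p * B = 1 + p * B' := Nat.eq_of_mul_eq_mul_left hMpos h1
  have h3 : (N + p * B) % p = (1 + p * B') % p := by rw [h2]
  rw [Nat.add_mul_mod_self_left, Nat.add_mul_mod_self_left] at h3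
  exact h3

end Cfsg.Agent.S3975
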