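import Cfsg.Statements.S5421
import Mathlib
import Cfsg.Agent.Lib.ThreeT.Elem
import Cfsg.Agent.Lib.Core.Basic

set_option autoImplicit false
open Cfsg

namespace Cfsg.Agent.S5421


open Cfsg.Agent.Lib.ThreeT

/-- An involution normalizing a finite subgroup with no fixed points inverts it. -/
theorem inverts_of_fpf' {G : Type*} [Group G] [Finite G] {z : G} (hz : z * z = 1) (K : Subgroup G)
    (hN : ∀ y ∈ K, z * y * z⁻¹ ∈ K) (hf : ∀ y ∈ K, z * y = y * z → y = 1) :
    ∀ y ∈ K, z * y * z⁻¹ = y⁻¹ := by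
  have hzi : z⁻¹ = z := inv_eq_of_mul_eq_one_left hz
  have hinj : Function.Injective (fun n : K => (⟨(n : G)⁻¹ * (z * (n : G) * z⁻¹), K.mul_mem (K.inv_mem n.2)
      (hN n n.2)⟩ : K)) := by
    rintro ⟨a, ha⟩ ⟨b, hb⟩ hab
    have h1 : a⁻¹ * (z * a * z⁻¹) = b⁻¹ * (z * b * z⁻¹) := congrArg Subtype.val hab
    have h3 : a⁻¹ * z * a = b⁻¹ * z * b := by
      have : a⁻¹ * (z * a * z⁻¹) * z = b⁻¹ * (z * b * z⁻¹) * z := by rw [h1]
      simpa [mul_assoc] using this
    have hmem : b * a⁻¹ ∈ K := K.mul_mem hb (K.inv_mem ha)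
    have hc : z * (b * a⁻¹) = b * a⁻¹ * z := by
      calc z * (b * a⁻¹) = b * (b⁻¹ * z * b) * a⁻¹ := by group
        _ = b * (a⁻¹ * z * a) * a⁻¹ := by rw [h3]
        _ = b * a⁻¹ * z := by group
    have := hf _ hmem hc
    rw [mul_inv_eq_one] at this
    exact Subtype.ext this.symm
  have hsurj := Finite.surjective_of_injective hinj
  intro y hy
  obtain ⟨⟨n, hnN⟩, hn⟩ := hsurj ⟨y, hy⟩
  have e : y = n⁻¹ * (z * n * z⁻¹) := (congrArg Subtype.val hn).symm
  rw [e, hzi]
  calc z * (n⁻¹ * (z * n * z)) * z = z * n⁻¹ * z * n * (z * z) := by group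
    _ = z * n⁻¹ * z * n := by rw [hz]; group
    _ = (n⁻¹ * (z * n * z))⁻¹ := by
      rw [mul_inv_rev, mul_inv_rev, mul_inv_rev, hzi]; group

/-- Let Q be an extraspecial 2-subgroup of the finite group G whose centralizer in G is its centre Z and which is normal in the centralizer of Z. If some involution b of Q outside Z has Z inside the largest normal 2-subgroup of the centralizer of b, then Q is a large extraspecial 2-subgroup of G. -/
theorem result {G : Type*} [Group G] [Finite G] (Q : Subgroup G) (hL1 : Cfsg.IsExtraspecial 2 ↥Q) (hL2 : Subgroup.centralizer (Q : Set G) = ((Subgroup.center ↥Q).map Q.subtype)) (hL3 : Subgroup.centralizer (((Subgroup.center ↥Q).map Q.subtype) : Set G) ≤ Subgroup.normalizer (Q : Set G)) (b : G) (hbQ : b ∈ Q) (hbZ : b ∉ ((Subgroup.center ↥Q).map Q.subtype)) (hb : orderOf b = 2) (hZ : ((Subgroup.center ↥Q).map Q.subtype) ≤ (Cfsg.pCore 2 ↥(Subgroup.centralizer ({b} : Set G))).map (Subgroup.centralizer ({b} : Set G)).subtype)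 : Cfsg.IsLargeExtraspecial Q := by
  refine ⟨hL1, hL2, hL3, ?_⟩
  intro K hKodd hQK
  classical
  have : Fact (Nat.Prime 2) := ⟨Nat.prime_two⟩
  obtain ⟨⟨hQ2, hfr, hcomm⟩, hcard⟩ := id hL1
  have hcen : ∀ x ∈ (Subgroup.center ↥Q).map Q.subtype, x ∈ Q := by
    rintro _ ⟨x, -, rfl⟩
    exact x.2
  -- the central involution
  obtain ⟨z', hz'⟩ : ∃ z' : Subgroup.center ↥Q, z' ≠ 1 := by
    have : Nontrivial (Subgroup.center ↥Q) := Finite.one_lt_card_iff_nontrivial.1 (by omega)
    exact exists_ne 1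
  have hcenter : ∀ x : Subgroup.center ↥Q, x = 1 ∨ x = z' := by
    intro x
    by_cases hx : x = 1
    · exact Or.inl hx
    · right
      by_contra hne
      have h3 : ({1, z', x} : Finset (Subgroup.center ↥Q)).card = 3 := by
        rw [Finset.card_insert_of_notMem, Finset.card_insert_of_notMem, Finset.card_singleton]
        · simpa using fun h => hne h.symm
        · simp [Ne.symm hz', Ne.symm hx]
      have : Fintype (Subgroup.center ↥Q) := Fintype.ofFinite _
      have h4 := Finset.card_le_univ ({1, z', x} : Finset (Subgroup.center ↥Q))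
      rw [h3, ← Nat.card_eq_fintype_card, hcard] at h4
      omega
  obtain ⟨z, hz⟩ : ∃ z : G, z = ((z' : Subgroup.center ↥Q) : ↥Q) := ⟨_, rfl⟩
  have hzZ : z ∈ (Subgroup.center ↥Q).map Q.subtype := by
    rw [hz]
    exact ⟨z'.1, z'.2, rfl⟩
  have hzQ : z ∈ Q := hcen z hzZ
  have hzne : z ≠ 1 := by
    intro h
    apply hz'
    apply Subtype.ext
    apply Subtype.ext
    rw [← hz, h]
    rfl
  have hZeq : ∀ x ∈ (Subgroup.center ↥Q).map Q.subtype, x = 1 ∨ x = z := by
    rintro _ ⟨x, hx, rfl⟩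
    rcases hcenter ⟨x, hx⟩ with h | h
    · left
      have := congrArg (fun u : Subgroup.center ↥Q => ((u : ↥Q) : G)) h
      simpa using this
    · right
      have := congrArg (fun u : Subgroup.center ↥Q => ((u : ↥Q) : G)) h
      rw [hz]
      simpa using this
  have hzcomQ : ∀ q ∈ Q, q * z = z * q := by
    intro q hq
    have h1 : (⟨q, hq⟩ : ↥Q) * ⟨z, hzQ⟩ = ⟨z, hzQ⟩ * ⟨q, hq⟩ := by
      have hzc : (⟨z, hzQ⟩ : ↥Q) ∈ Subgroup.center ↥Q := by
        have : (⟨z, hzQ⟩ : ↥Q) = (z' : ↥Q) := Subtype.ext hz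
        rw [this]
        exact z'.2
      exact Subgroup.mem_center_iff.1 hzc _
    exact congrArg Subtype.val h1
  have hconjK : ∀ q ∈ Q, ∀ y ∈ K, q * y * q⁻¹ ∈ K := by
    intro q hq y hy
    exact (Subgroup.mem_normalizer_iff.1 (hQK hq) y).1 hy
  have hzz : z * z = 1 := by
    -- commutators in an extraspecial group: elements of the centre have order ≤ 2
    have h2 : (z' : Subgroup.center ↥Q) ^ Nat.card (Subgroup.center ↥Q) = 1 := pow_card_eq_one'
    rw [hcard, pow_two] at h2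
    have := congrArg (fun u : Subgroup.center ↥Q => ((u : ↥Q) : G)) h2
    simp only [Subgroup.coe_mul, Subgroup.coe_one] at this
    rw [← hz] at this
    exact this
  have hbb : b * b = 1 := mul_self_of_orderOf hb
  -- fixed points of z
  have hfixz : ∀ k ∈ K, z * k = k * z → k = 1 := by
    intro k hk hzk
    have h1 : k ∈ Subgroup.centralizer (((Subgroup.center ↥Q).map Q.subtype : Subgroup G) : Set G) := by
      rw [Subgroup.mem_centralizer_iff]
      intro x hx
      rcases hZeq x hx with rfl | rfl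
      · simp
      · exact hzk
    have hkN := hL3 h1
    have h2 : k ∈ Subgroup.centralizer (Q : Set G) := by
      rw [Subgroup.mem_centralizer_iff]
      intro q hq
      have hc1 : k * q * k⁻¹ * q⁻¹ ∈ Q :=
        Q.mul_mem ((Subgroup.mem_normalizer_iff.1 hkN q).1 hq) (Q.inv_mem hq)
      have hc2 : k * q * k⁻¹ * q⁻¹ ∈ K := by
        have h2 : q * k⁻¹ * q⁻¹ ∈ K := hconjK q hq _ (K.inv_mem hk)
        have : k * q * k⁻¹ * q⁻¹ = k * (q * k⁻¹ * q⁻¹) := by group
        rw [this]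
        exact K.mul_mem hk h2
      have h3 := eq_one_of_mem_odd_two hKodd hQ2 hc2 hc1
      have h4 : k * q * k⁻¹ = q := mul_inv_eq_one.1 h3
      calc q * k = k * q * k⁻¹ * k := by rw [h4]
        _ = k * q := by group
    rw [hL2] at h2
    exact eq_one_of_mem_odd_two hKodd hQ2 hk (hcen _ h2)
  -- fixed points of b
  have hP2 : IsPGroup 2 ((Cfsg.pCore 2 ↥(Subgroup.centralizer ({b} : Set G))).map
      (Subgroup.centralizer ({b} : Set G)).subtype) :=
    (Lib.Core.pCore_isPGroup 2 _).map _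
  have hfixb : ∀ k ∈ K, b * k = k * b → k = 1 := by
    intro k hk hbk
    have hkC : k ∈ Subgroup.centralizer ({b} : Set G) := by
      rw [Subgroup.mem_centralizer_iff]
      intro x hx
      rw [Set.mem_singleton_iff] at hx
      subst hx
      exact hbk
    obtain ⟨w, hw, hwz⟩ := hZ hzZ
    have hwz' : (w : G) = z := hwz
    have hc1 : k * z * k⁻¹ * z⁻¹ ∈ K := by
      have h2 : z * k⁻¹ * z⁻¹ ∈ K := hconjK z hzQ _ (K.inv_mem hk)
      have : k * z * k⁻¹ * z⁻¹ = k * (z * k⁻¹ * z⁻¹) := by group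
      rw [this]
      exact K.mul_mem hk h2
    have hc2 : k * z * k⁻¹ * z⁻¹ ∈ ((Cfsg.pCore 2 ↥(Subgroup.centralizer ({b} : Set G))).map
        (Subgroup.centralizer ({b} : Set G)).subtype) := by
      have hn := (Lib.Core.pCore_normal 2 ↥(Subgroup.centralizer ({b} : Set G))).conj_mem w hw ⟨k, hkC⟩
      have h5 := Subgroup.mul_mem _ hn (Subgroup.inv_mem _ hw)
      refine ⟨_, h5, ?_⟩
      simp [hwz']
    have h3 := eq_one_of_mem_odd_two hKodd hP2 hc1 hc2
    have h4 : k * z * k⁻¹ = z := mul_inv_eq_one.1 h3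
    apply hfixz k hk
    calc z * k = k * z * k⁻¹ * k := by rw [h4]
      _ = k * z := by group
  -- both invert K
  have hinvz := inverts_of_fpf' hzz K (fun y hy => hconjK z hzQ y hy) hfixz
  have hinvb := inverts_of_fpf' hbb K (fun y hy => hconjK b hbQ y hy) hfixb
  -- a conjugate of b is z b
  have hbnc : (⟨b, hbQ⟩ : ↥Q) ∉ Subgroup.center ↥Q := by
    intro h
    exact hbZ ⟨_, h, rfl⟩
  rw [Subgroup.mem_center_iff] at hbnc
  push Not at hbnc
  obtain ⟨q, hq⟩ := hbnc
  have hcm : q * ⟨b, hbQ⟩ * q⁻¹ * (⟨b, hbQ⟩ : ↥Q)⁻¹ ∈ Subgroup.center ↥Q := by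
    rw [← hcomm]
    have := Subgroup.commutator_mem_commutator (Subgroup.mem_top q) (Subgroup.mem_top (⟨b, hbQ⟩ : ↥Q))
    rwa [commutatorElement_def] at this
  have hcval : (q : G) * b * (q : G)⁻¹ * b⁻¹ = z := by
    have h1 : ((q * ⟨b, hbQ⟩ * q⁻¹ * (⟨b, hbQ⟩ : ↥Q)⁻¹ : ↥Q) : G) ∈ (Subgroup.center ↥Q).map Q.subtype :=
      ⟨_, hcm, rfl⟩
    rcases hZeq _ h1 with h | h
    · exfalso
      apply hq
      have h2 : (q : G) * b * (q : G)⁻¹ * b⁻¹ = 1 := by simpa using h
      have h3 : (q : G) * b * (q : G)⁻¹ = b := mul_inv_eq_one.1 h2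
      apply Subtype.ext
      show (q : G) * b = b * (q : G)
      calc (q : G) * b = (q : G) * b * (q : G)⁻¹ * q := by group
        _ = b * (q : G) := by rw [h3]
    · simpa using h
  have hqb : (q : G) * b * (q : G)⁻¹ = z * b := by
    rw [← hcval]; group
  -- conclusion
  rw [Subgroup.eq_bot_iff_forall]
  intro y hy
  have hyq : (q : G)⁻¹ * y * q ∈ K := by
    have := hconjK (q : G)⁻¹ (Q.inv_mem q.2) y hy
    simpa using this
  apply_fun (fun u => (q : G) * u * (q : G)⁻¹) using (fun a c h => by simpa using h)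
  simp only [mul_one, mul_inv_cancel]
  have h1 := hfixb _ hyq (by
    -- y commutes with z b
    have h2 : z * b * y * (z * b)⁻¹ = y := by
      have e : z * b * y * (z * b)⁻¹ = z * (b * y * b⁻¹) * z⁻¹ := by group
      rw [e, hinvb y hy]
      have e2 : z * y⁻¹ * z⁻¹ = (z * y * z⁻¹)⁻¹ := by group
      rw [e2, hinvz y hy, inv_inv]
    have h3 : (z * b) * y = y * (z * b) := by
      calc (z * b) * y = z * b * y * (z * b)⁻¹ * (z * b) := by group
        _ = y * (z * b) := by rw [h2]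
    rw [← hqb] at h3
    have e1 : b * ((q : G)⁻¹ * y * q) = (q : G)⁻¹ * ((q : G) * b * (q : G)⁻¹ * y) * q := by group
    have e2 : (q : G)⁻¹ * y * q * b = (q : G)⁻¹ * (y * ((q : G) * b * (q : G)⁻¹)) * q := by group
    rw [e1, e2, h3])
  calc (q : G) * y * (q : G)⁻¹ = (q : G) * (q : G) * ((q : G)⁻¹ * y * q) * (q : G)⁻¹ * (q : G)⁻¹ := by group
    _ = 1 := by rw [h1]; group

end Cfsg.Agent.S5421
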