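import Cfsg.Statements.S3061
import Mathlib

set_option autoImplicit false
open Cfsg

namespace Cfsg.Agent.S3061

open scoped commutatorElement

variable {S : Type*} [Group S]

/-- If `Z` is central in `H`, the elements of `H` commuting modulo `Z` with a set form a subgroup. -/
def commMod (Z H : Subgroup S) (hZ : ∀ z ∈ Z, ∀ h ∈ H, z * h = h * z) (T : Set S) : Subgroup S where
  carrier := {k | k ∈ H ∧ ∀ t ∈ T, ⁅k, t⁆ ∈ Z}
  mul_mem' := by
    rintro k₁ k₂ ⟨h₁, h₁'⟩ ⟨h₂, h₂'⟩
    refine ⟨H.mul_mem h₁ h₂, fun t ht => ?_⟩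
    have e : ⁅k₁ * k₂, t⁆ = k₁ * ⁅k₂, t⁆ * k₁⁻¹ * ⁅k₁, t⁆ := by
      simp only [commutatorElement_def]; group
    rw [e, ← hZ _ (h₂' t ht) _ h₁, mul_inv_cancel_right]
    exact Z.mul_mem (h₂' t ht) (h₁' t ht)
  one_mem' := ⟨H.one_mem, fun t _ => by simp [commutatorElement_def, Z.one_mem]⟩
  inv_mem' := by
    rintro k ⟨h₁, h₁'⟩
    refine ⟨H.inv_mem h₁, fun t ht => ?_⟩
    have e : ⁅k⁻¹, t⁆ = k⁻¹ * (⁅k, t⁆)⁻¹ * k := by
      simp only [commutatorElement_def]; group
    rw [e, ← hZ _ (Z.inv_mem (h₁' t ht)) _ (H.inv_mem h₁), inv_mul_cancel_right]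
    exact Z.inv_mem (h₁' t ht)

/-- The class-two criterion: if `Z` is central in `H ≥ A ⊔ ⟨y⟩`, `A` abelian and `[a,y] ∈ Z`, then
`⟨A,y⟩` has class at most two. -/
theorem class_two_of_comm {A H Z : Subgroup S} {y : S} (hA : IsMulCommutative A) (hAH : A ≤ H) (hy : y ∈ H)
    (hZ : ∀ z ∈ Z, ∀ h ∈ H, z * h = h * z) (hay : ∀ a ∈ A, ⁅a, y⁆ ∈ Z) :
    ⁅⁅A ⊔ Subgroup.zpowers y, A ⊔ Subgroup.zpowers y⁆, A ⊔ Subgroup.zpowers y⁆ = ⊥ := by
  set K := A ⊔ Subgroup.zpowers y with hK
  have hKH : K ≤ H := sup_le hAH (Subgroup.zpowers_le.mpr hy)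
  -- first: `K ≤ commMod Z H (A ∪ {y})`
  have h1 : K ≤ commMod Z H hZ ((A : Set S) ∪ {y}) := by
    apply sup_le
    · intro a ha
      refine ⟨hAH ha, ?_⟩
      rintro t (ht | ht)
      · have := hA.is_comm.comm ⟨a, ha⟩ ⟨t, ht⟩
        have h2 : a * t = t * a := congrArg Subtype.val this
        simp [commutatorElement_def, h2, Z.one_mem]
      · rw [Set.mem_singleton_iff] at ht
        rw [ht]; exact hay a ha
    · rw [Subgroup.zpowers_le]
      refine ⟨hy, ?_⟩
      rintro t (ht | ht)
      · have := Z.inv_mem (hay t ht)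
        rwa [commutatorElement_inv] at this
      · rw [Set.mem_singleton_iff] at ht
        rw [ht]; simp [commutatorElement_def, Z.one_mem]
  have h2 : K ≤ commMod Z H hZ (K : Set S) := by
    apply sup_le
    · intro a ha
      refine ⟨hAH ha, fun k hk => ?_⟩
      have := Z.inv_mem ((h1 hk).2 a (Or.inl ha))
      rwa [commutatorElement_inv] at this
    · rw [Subgroup.zpowers_le]
      refine ⟨hy, fun k hk => ?_⟩
      have := Z.inv_mem ((h1 hk).2 y (Or.inr rfl))
      rwa [commutatorElement_inv] at this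
  have h3 : ⁅K, K⁆ ≤ Z := by
    rw [Subgroup.commutator_le]
    intro k hk k' hk'
    exact (h2 hk).2 k' hk'
  rw [eq_bot_iff, Subgroup.commutator_le]
  intro z hz k hk
  have hz' := h3 hz
  have := hZ z hz' k (hKH hk)
  simp [commutatorElement_def, this]

/-- The descending series of `H` inside the ambient group. -/
def gam (H : Subgroup S) : ℕ → Subgroup S
  | 0 => H
  | n + 1 => ⁅gam H n, H⁆

theorem gam_le_lcs (H : Subgroup S) (n : ℕ) : gam H n ≤ (⊤ : Subgroup S).lowerCentralSeries n := by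
  induction n with
  | zero => exact le_top
  | succ n ih => exact Subgroup.commutator_mono ih le_top

theorem gam_le_self (H : Subgroup S) (n : ℕ) : gam H n ≤ H := by
  induction n with
  | zero => exact le_rfl
  | succ n ih =>
    rw [gam, Subgroup.commutator_le]
    intro a ha h hh
    rw [commutatorElement_def]
    exact H.mul_mem (H.mul_mem (H.mul_mem (ih ha) hh) (H.inv_mem (ih ha))) (H.inv_mem hh)

/-- Two members of the family commute. -/
theorem family_commutator_eq_bot [Finite S] {p : ℕ} [Fact p.Prime] (hS : IsPGroup p S)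
    {A B : Subgroup S} (hA : A ∈ Cfsg.dStarFamily S) (hB : B ∈ Cfsg.dStarFamily S) :
    ⁅A ⊔ B, A ⊔ B⁆ = ⊥ := by
  set H := A ⊔ B with hH
  have hnil : Group.IsNilpotent S := hS.isNilpotent
  obtain ⟨N, hN⟩ := Subgroup.nilpotent_iff_lowerCentralSeries.mp hnil
  have hN' : gam H N = ⊥ := le_bot_iff.mp (hN ▸ gam_le_lcs H N)
  have step : ∀ n, gam H (n + 2) = ⊥ → gam H (n + 1) = ⊥ := by
    intro n hn
    rw [eq_bot_iff]
    show ⁅gam H n, H⁆ ≤ ⊥
    rw [Subgroup.commutator_le]
    intro y hy h hh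
    -- `Z = gam H (n+1)` is central in `H`
    have hZ : ∀ z ∈ gam H (n + 1), ∀ h ∈ H, z * h = h * z := by
      intro z hz h hh
      have : ⁅z, h⁆ ∈ gam H (n + 2) := Subgroup.commutator_mem_commutator hz hh
      rw [hn, Subgroup.mem_bot] at this
      exact commutatorElement_eq_one_iff_mul_comm.mp this
    have hyH := gam_le_self H n hy
    have hcomm : ∀ a ∈ H, ⁅a, y⁆ ∈ gam H (n + 1) := by
      intro a ha
      have : ⁅y, a⁆ ∈ gam H (n + 1) := Subgroup.commutator_mem_commutator hy ha
      have := (gam H (n + 1)).inv_mem this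
      rwa [commutatorElement_inv] at this
    have hyA := hA.2 y (class_two_of_comm hA.1 le_sup_left hyH hZ (fun a ha => hcomm a (Subgroup.mem_sup_left ha)))
    have hyB := hB.2 y (class_two_of_comm hB.1 le_sup_right hyH hZ (fun a ha => hcomm a (Subgroup.mem_sup_right ha)))
    have hle : H ≤ Subgroup.centralizer ({y} : Set S) := by
      apply sup_le
      · intro a ha
        rw [Subgroup.mem_centralizer_singleton_iff]
        exact hyA a ha
      · intro a ha
        rw [Subgroup.mem_centralizer_singleton_iff]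
        exact hyB a ha
    have := hle hh
    rw [Subgroup.mem_centralizer_singleton_iff] at this
    rw [Subgroup.mem_bot, commutatorElement_eq_one_iff_mul_comm]
    exact this.symm
  have hall : ∀ n, gam H (n + 1) = ⊥ → gam H 1 = ⊥ := by
    intro n
    induction n with
    | zero => exact id
    | succ n ih => exact fun h => ih (step n h)
  have hbot : gam H (N + 1) = ⊥ := by
    rw [eq_bot_iff]
    show ⁅gam H N, H⁆ ≤ ⊥
    rw [hN', Subgroup.commutator_bot_left]
  exact hall N hbot

/-- The family is closed under joins. -/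
theorem family_sup [Finite S] {p : ℕ} [Fact p.Prime] (hS : IsPGroup p S)
    {A B : Subgroup S} (hA : A ∈ Cfsg.dStarFamily S) (hB : B ∈ Cfsg.dStarFamily S) :
    A ⊔ B ∈ Cfsg.dStarFamily S := by
  have hc := family_commutator_eq_bot hS hA hB
  refine ⟨?_, ?_⟩
  · constructor
    constructor
    rintro ⟨a, ha⟩ ⟨b, hb⟩
    apply Subtype.ext
    have : ⁅a, b⁆ ∈ ⁅A ⊔ B, A ⊔ B⁆ := Subgroup.commutator_mem_commutator ha hb
    rw [hc, Subgroup.mem_bot] at this
    exact commutatorElement_eq_one_iff_mul_comm.mp this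
  · intro x hx
    have hA' : ⁅⁅A ⊔ Subgroup.zpowers x, A ⊔ Subgroup.zpowers x⁆, A ⊔ Subgroup.zpowers x⁆ = ⊥ := by
      have hle : A ⊔ Subgroup.zpowers x ≤ A ⊔ B ⊔ Subgroup.zpowers x := sup_le_sup_right le_sup_left _
      rw [eq_bot_iff, ← hx]
      exact Subgroup.commutator_mono (Subgroup.commutator_mono hle hle) hle
    have hB' : ⁅⁅B ⊔ Subgroup.zpowers x, B ⊔ Subgroup.zpowers x⁆, B ⊔ Subgroup.zpowers x⁆ = ⊥ := by
      have hle : B ⊔ Subgroup.zpowers x ≤ A ⊔ B ⊔ Subgroup.zpowers x := sup_le_sup_right le_sup_right _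
      rw [eq_bot_iff, ← hx]
      exact Subgroup.commutator_mono (Subgroup.commutator_mono hle hle) hle
    have h1 := hA.2 x hA'
    have h2 := hB.2 x hB'
    have hle : A ⊔ B ≤ Subgroup.centralizer ({x} : Set S) := by
      apply sup_le
      · intro a ha
        rw [Subgroup.mem_centralizer_singleton_iff]
        exact h1 a ha
      · intro a ha
        rw [Subgroup.mem_centralizer_singleton_iff]
        exact h2 a ha
    intro a ha
    have := hle ha
    rwa [Subgroup.mem_centralizer_singleton_iff] at this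

theorem bot_mem_family : (⊥ : Subgroup S) ∈ Cfsg.dStarFamily S := by
  refine ⟨?_, ?_⟩
  · constructor
    constructor
    intro a b
    apply Subtype.ext
    have ha : (a : S) = 1 := (Subgroup.mem_bot).mp a.2
    have hb : (b : S) = 1 := (Subgroup.mem_bot).mp b.2
    simp [ha, hb]
  · intro x _ a ha
    rw [(Subgroup.mem_bot).mp ha]; simp

/-- Let S be a finite p-group. Then D*(S) itself belongs to the family that generates it: D*(S) is abelian, and every x ∈ S with ⟨D*(S), x⟩ of class at most two centralizes D*(S). Hence D*(S) is the unique maximal member of that family. -/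
theorem result {S : Type*} [Group S] [Finite S] {p : ℕ} [Fact p.Prime] (hS : IsPGroup p S) :
    Cfsg.dStar S ∈ Cfsg.dStarFamily S := by
  classical
  have hfin : (Cfsg.dStarFamily S).Finite := Set.toFinite _
  obtain ⟨M, hM, hmax⟩ := hfin.exists_maximal ⟨⊥, bot_mem_family⟩
  have hle : ∀ A ∈ Cfsg.dStarFamily S, A ≤ M := by
    intro A hA
    have h1 := family_sup hS hA hM
    have := hmax h1 le_sup_right
    exact le_sup_left.trans this
  have : Cfsg.dStar S = M := le_antisymm (sSup_le hle) (le_sSup hM)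
  rw [this]
  exact hM

end Cfsg.Agent.S3061
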