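import Cfsg.Statements.S3062
import Cfsg.Agent.S3061
import Cfsg.Agent.Lib.FrobThm.Replacement
import Cfsg.Agent.Lib.Core.Basic
import Mathlib

set_option autoImplicit false
open Cfsg

namespace Cfsg.Agent.S3062


open Subgroup
open scoped commutatorElement
open Cfsg.Agent.S3061

variable {S : Type*} [Group S]

/-- The conjugate of a member of the family is a member. -/
theorem conj_family {A : Subgroup S} (hA : A ∈ Cfsg.dStarFamily S) (g : S) :
    A.map (MulAut.conj g).toMonoidHom ∈ Cfsg.dStarFamily S := by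
  refine ⟨?_, ?_⟩
  · constructor
    constructor
    rintro ⟨_, a, ha, rfl⟩ ⟨_, b, hb, rfl⟩
    apply Subtype.ext
    have h := congrArg Subtype.val (hA.1.is_comm.comm ⟨a, ha⟩ ⟨b, hb⟩)
    have h' : a * b = b * a := h
    show (MulAut.conj g).toMonoidHom a * (MulAut.conj g).toMonoidHom b =
      (MulAut.conj g).toMonoidHom b * (MulAut.conj g).toMonoidHom a
    rw [← map_mul, ← map_mul, h']
  · intro x hx
    set f := (MulAut.conj g).toMonoidHom with hf
    have hinj : Function.Injective f := MulEquiv.injective _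
    have hy : f (g⁻¹ * x * g) = x := by
      simp [hf, MulAut.conj_apply]
      group
    have hmap : (A ⊔ zpowers (g⁻¹ * x * g)).map f = A.map f ⊔ zpowers x := by
      rw [Subgroup.map_sup, MonoidHom.map_zpowers, hy]
    have h0 : ⁅⁅A ⊔ zpowers (g⁻¹ * x * g), A ⊔ zpowers (g⁻¹ * x * g)⁆, A ⊔ zpowers (g⁻¹ * x * g)⁆ = ⊥ := by
      apply (Subgroup.map_eq_bot_iff_of_injective _ hinj).mp
      rw [Subgroup.map_commutator, Subgroup.map_commutator, hmap]
      exact hx
    have h1 := hA.2 _ h0
    rintro _ ⟨a, ha, rfl⟩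
    have h2 := h1 a ha
    have h3 : f a * f (g⁻¹ * x * g) = f (g⁻¹ * x * g) * f a := by rw [← map_mul, ← map_mul, h2]
    rw [hy] at h3
    exact h3

variable [Finite S] {p : ℕ} [hp : Fact p.Prime]

/-- The series `[N, D, …, D]`. -/
def itr (N D : Subgroup S) : ℕ → Subgroup S
  | 0 => N
  | n + 1 => ⁅itr N D n, D⁆

omit [Finite S] hp in
theorem itr_le_lcs (N D : Subgroup S) (n : ℕ) : itr N D n ≤ (⊤ : Subgroup S).lowerCentralSeries n := by
  induction n with
  | zero => exact le_top
  | succ n ih => exact Subgroup.commutator_mono ih le_top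

omit [Finite S] hp in
theorem itr_le_self {N D : Subgroup S} (hD : D ≤ normalizer (N : Set S)) (n : ℕ) : itr N D n ≤ N := by
  induction n with
  | zero => exact le_rfl
  | succ n ih =>
    rw [itr, Subgroup.commutator_le]
    intro a ha h hh
    rw [commutatorElement_def]
    have h1 : a * h * a⁻¹ * h⁻¹ = a * (h * a⁻¹ * h⁻¹) := by group
    rw [h1]
    exact N.mul_mem (ih ha) ((Subgroup.mem_normalizer_iff.mp (hD hh) _).mp (N.inv_mem (ih ha)))

/-- A member of the family normalizing an abelian subgroup centralizes it. -/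
theorem centralizes_of_family (hS : IsPGroup p S) {D N : Subgroup S} (hD : D ∈ Cfsg.dStarFamily S)
    (hN : IsMulCommutative N) (hDN : D ≤ normalizer (N : Set S)) : ⁅N, D⁆ = ⊥ := by
  have hnil : Group.IsNilpotent S := hS.isNilpotent
  obtain ⟨K, hK⟩ := Subgroup.nilpotent_iff_lowerCentralSeries.mp hnil
  have hK' : itr N D K = ⊥ := le_bot_iff.mp (hK ▸ itr_le_lcs N D K)
  have hNc : ∀ a ∈ N, ∀ b ∈ N, a * b = b * a := fun a ha b hb =>
    congrArg Subtype.val (hN.is_comm.comm ⟨a, ha⟩ ⟨b, hb⟩)
  set H := N ⊔ D with hH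
  have step : ∀ n, itr N D (n + 2) = ⊥ → itr N D (n + 1) = ⊥ := by
    intro n hn
    rw [eq_bot_iff]
    show ⁅itr N D n, D⁆ ≤ ⊥
    rw [Subgroup.commutator_le]
    intro y hy d hd
    -- `Z = itr (n+1)` is central in `H`
    have hZle : itr N D (n + 1) ≤ N := itr_le_self hDN (n + 1)
    have hZ : ∀ z ∈ itr N D (n + 1), ∀ h ∈ H, z * h = h * z := by
      intro z hz h hh
      have hle : H ≤ centralizer ({z} : Set S) := by
        apply sup_le
        · intro a ha
          rw [Subgroup.mem_centralizer_singleton_iff]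
          exact hNc a ha z (hZle hz)
        · intro a ha
          rw [Subgroup.mem_centralizer_singleton_iff]
          have : ⁅z, a⁆ ∈ itr N D (n + 2) := Subgroup.commutator_mem_commutator hz ha
          rw [hn, Subgroup.mem_bot] at this
          exact (commutatorElement_eq_one_iff_mul_comm.mp this).symm
      have := hle hh
      rw [Subgroup.mem_centralizer_singleton_iff] at this
      exact this.symm
    have hyN : y ∈ N := itr_le_self hDN n hy
    have hay : ∀ a ∈ D, ⁅a, y⁆ ∈ itr N D (n + 1) := by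
      intro a ha
      have h1 : ⁅y, a⁆ ∈ itr N D (n + 1) := Subgroup.commutator_mem_commutator hy ha
      have h2 := (itr N D (n + 1)).inv_mem h1
      rwa [commutatorElement_inv] at h2
    have hc := hD.2 y (class_two_of_comm hD.1 le_sup_right (Subgroup.mem_sup_left hyN) hZ hay)
    rw [Subgroup.mem_bot, commutatorElement_eq_one_iff_mul_comm]
    exact (hc d hd).symm
  have hall : ∀ n, itr N D (n + 1) = ⊥ → itr N D 1 = ⊥ := by
    intro n
    induction n with
    | zero => exact id
    | succ n ih => exact fun h => ih (step n h)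
  have hbot : itr N D (K + 1) = ⊥ := by
    rw [eq_bot_iff]
    show ⁅itr N D K, D⁆ ≤ ⊥
    rw [hK', Subgroup.commutator_bot_left]
  exact hall K hbot

omit hp in
theorem self_centralizing_of_maximal (hnil : Group.IsNilpotent S) (A : Subgroup S) (hAn : A.Normal)
    (hAc : IsMulCommutative A)
    (hmax : ∀ B : Subgroup S, B.Normal → IsMulCommutative B → A ≤ B → B = A) :
    centralizer (A : Set S) ≤ A := by
  classical
  by_contra hcon
  obtain ⟨x₀, hx₀C, hx₀A⟩ := SetLike.not_le_iff_exists.mp hcon
  let π : S →* S ⧸ A := QuotientGroup.mk' A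
  let K : Subgroup (S ⧸ A) := (centralizer (A : Set S)).map π
  have hKn : K.Normal := Subgroup.Normal.map inferInstance π (QuotientGroup.mk'_surjective A)
  have hK1 : K ≠ ⊥ := by
    intro h
    apply hx₀A
    have h1 : π x₀ ∈ K := ⟨x₀, hx₀C, rfl⟩
    rw [h, Subgroup.mem_bot] at h1
    exact (QuotientGroup.eq_one_iff x₀).mp h1
  have hnil' : Group.IsNilpotent (S ⧸ A) := inferInstance
  have h2 := Cfsg.Agent.Lib.Core.normal_inf_center_ne_bot K hK1
  obtain ⟨⟨q, hqK, hqZ⟩, hq1⟩ := Subgroup.ne_bot_iff_exists_ne_one.mp h2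
  have hq1' : q ≠ 1 := fun h => hq1 (Subtype.ext h)
  obtain ⟨x, hxC, rfl⟩ := hqK
  have hxA : x ∉ A := fun h => hq1' ((QuotientGroup.eq_one_iff x).mpr h)
  -- `B = A⟨x⟩`
  have hxc : ∀ a ∈ A, a * x = x * a := fun a ha => (Subgroup.mem_centralizer_iff.mp hxC) a ha
  let B : Subgroup S := (zpowers (π x)).comap π
  have hBn : B.Normal := by
    apply Subgroup.Normal.comap
    constructor
    rintro _ ⟨i, rfl⟩ g
    refine ⟨i, ?_⟩
    have hzc : ∀ n : ℤ, g * (π x) ^ n * g⁻¹ = (π x) ^ n := by
      intro n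
      have h3 : (π x) ^ n ∈ Subgroup.center (S ⧸ A) := Subgroup.zpow_mem _ hqZ n
      rw [(Subgroup.mem_center_iff.mp h3) g]
      group
    exact (hzc i).symm
  have hAB : A ≤ B := by
    intro a ha
    show π a ∈ zpowers (π x)
    have : π a = 1 := (QuotientGroup.eq_one_iff a).mpr ha
    rw [this]
    exact Subgroup.one_mem _
  have hBform : ∀ b ∈ B, ∃ a ∈ A, ∃ i : ℤ, b = a * x ^ i := by
    intro b hb
    obtain ⟨i, hi⟩ := Subgroup.mem_zpowers_iff.mp hb
    refine ⟨b * (x ^ i)⁻¹, ?_, i, by group⟩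
    apply (QuotientGroup.eq_one_iff _).mp
    show π (b * (x ^ i)⁻¹) = 1
    rw [map_mul, map_inv, map_zpow, ← hi]
    group
  have hBc : IsMulCommutative B := by
    refine ⟨⟨fun u v => Subtype.ext ?_⟩⟩
    obtain ⟨a, ha, i, hu⟩ := hBform u u.2
    obtain ⟨b, hb, j, hv⟩ := hBform v v.2
    show (u : S) * v = v * u
    rw [hu, hv]
    have h1 : a * b = b * a := congrArg Subtype.val (hAc.is_comm.comm ⟨a, ha⟩ ⟨b, hb⟩)
    have h2 : x ^ i * b = b * x ^ i := ((Commute.zpow_left (hxc b hb).symm i)).eq
    have h3 : a * x ^ j = x ^ j * a := ((Commute.zpow_right (hxc a ha) j)).eq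
    have h4 : x ^ i * x ^ j = x ^ j * x ^ i := by
      rw [← zpow_add, ← zpow_add, add_comm]
    calc a * x ^ i * (b * x ^ j) = a * (x ^ i * b) * x ^ j := by group
      _ = a * (b * x ^ i) * x ^ j := by rw [h2]
      _ = (a * b) * (x ^ i * x ^ j) := by group
      _ = (b * a) * (x ^ j * x ^ i) := by rw [h1, h4]
      _ = b * (a * x ^ j) * x ^ i := by group
      _ = b * (x ^ j * a) * x ^ i := by rw [h3]
      _ = _ := by group
  have hBA := hmax B hBn hBc hAB
  apply hxA
  rw [← hBA]
  exact Subgroup.mem_zpowers (π x)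

/-- Let S be a finite p-group, J(S) the subgroup generated by the abelian subgroups of S of largest order and Z(J(S)) its centre. Then Z(S) ≤ D*(S) ≤ Z(J(S)), and every maximal normal abelian subgroup of S contains D*(S). -/
theorem result {S : Type*} [Group S] [Finite S] {p : ℕ} [Fact p.Prime]
    (hS : IsPGroup p S) :
    Subgroup.center S ≤ Cfsg.dStar S ∧
    Cfsg.dStar S ≤ Cfsg.thompsonSubgroupA S ⊓ Subgroup.centralizer (Cfsg.thompsonSubgroupA S : Set S) ∧
    ∀ A : Subgroup S, A.Normal → IsMulCommutative A →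
      (∀ B : Subgroup S, B.Normal → IsMulCommutative B → A ≤ B → B = A) → Cfsg.dStar S ≤ A := by
  classical
  have hDfam : Cfsg.dStar S ∈ Cfsg.dStarFamily S := Cfsg.Agent.S3061.result hS
  set D := Cfsg.dStar S with hDdef
  have hDn : D.Normal := by
    constructor
    intro d hd g
    have h1 : D.map (MulAut.conj g).toMonoidHom ≤ D := le_sSup (conj_family hDfam g)
    exact h1 ⟨d, hd, rfl⟩
  have hDc : ∀ a ∈ D, ∀ b ∈ D, a * b = b * a := fun a ha b hb =>
    congrArg Subtype.val (hDfam.1.is_comm.comm ⟨a, ha⟩ ⟨b, hb⟩)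
  have hnil : Group.IsNilpotent S := hS.isNilpotent
  have hDnorm : ∀ L : Subgroup S, L ≤ normalizer (D : Set S) := by
    intro L
    rw [Subgroup.normalizer_eq_top_iff.mpr hDn]
    exact le_top
  -- `D` lies in every abelian subgroup of largest order
  have hmaxB : ∀ B ∈ Cfsg.maxAbelianSubgroups S, D ≤ B := by
    by_contra hcon
    push Not at hcon
    obtain ⟨B₀, hB₀, hB₀D⟩ := hcon
    have hfin : {B : Subgroup S | B ∈ Cfsg.maxAbelianSubgroups S ∧ ¬ D ≤ B}.Finite := Set.toFinite _
    obtain ⟨B, ⟨hB, hBD⟩, hBmax⟩ := Set.exists_max_image _ (fun B : Subgroup S => Nat.card ↥(B ⊓ D)) hfin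
      ⟨B₀, hB₀, hB₀D⟩
    set e := Nat.card S with he
    have hEA : ∀ C : Subgroup S, IsMulCommutative C → Cfsg.Agent.Lib.FrobThm.EA e C := by
      intro C hC
      refine ⟨fun a ha b hb => congrArg Subtype.val (hC.is_comm.comm ⟨a, ha⟩ ⟨b, hb⟩), fun a _ => ?_⟩
      rw [he]
      exact pow_card_eq_one'
    have hBAA : B ∈ Cfsg.Agent.Lib.FrobThm.AA e (⊤ : Subgroup S) := by
      refine ⟨le_top, hEA B hB.1, fun C _ hC => hB.2 C ⟨⟨fun u v => Subtype.ext (hC.1 u u.2 v v.2)⟩⟩⟩
    have hBN : D ≤ normalizer (B : Set S) := by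
      by_contra hnot
      obtain ⟨A', hA', hlt, hle⟩ := Cfsg.Agent.Lib.FrobThm.thompson_replacement (p := p)
        (T := ⊤) (A := B) (B := D) (IsPGroup.of_equiv hS Subgroup.topEquiv.symm)
        hBAA le_top (hEA D hDfam.1) (hDnorm B) hnot
      have hA'c : IsMulCommutative A' :=
        ⟨⟨fun u v => Subtype.ext (hA'.2.1.1 u u.2 v v.2)⟩⟩
      have hA'max : A' ∈ Cfsg.maxAbelianSubgroups S :=
        ⟨hA'c, fun C hC => hA'.2.2 C le_top (hEA C hC)⟩
      by_cases hDA' : D ≤ A'
      · exact hnot (hDA'.trans hle)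
      · have := hBmax A' ⟨hA'max, hDA'⟩
        omega
    have hcomm := centralizes_of_family hS hDfam hB.1 hBN
    have hcD : ∀ b ∈ B, ∀ d ∈ D, b * d = d * b := by
      intro b hb d hd
      have : ⁅b, d⁆ ∈ ⁅B, D⁆ := Subgroup.commutator_mem_commutator hb hd
      rw [hcomm, Subgroup.mem_bot] at this
      exact commutatorElement_eq_one_iff_mul_comm.mp this
    have hBc : ∀ a ∈ B, ∀ b ∈ B, a * b = b * a := fun a ha b hb =>
      congrArg Subtype.val (hB.1.is_comm.comm ⟨a, ha⟩ ⟨b, hb⟩)
    -- `BD` is abelian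
    have hsupc : IsMulCommutative ↥(B ⊔ D) := by
      have hle1 : ∀ d ∈ D, B ⊔ D ≤ centralizer ({d} : Set S) := by
        intro d hd
        apply sup_le
        · intro b hb
          rw [Subgroup.mem_centralizer_singleton_iff]
          exact hcD b hb d hd
        · intro d' hd'
          rw [Subgroup.mem_centralizer_singleton_iff]
          exact hDc d' hd' d hd
      have hle2 : ∀ b ∈ B, B ⊔ D ≤ centralizer ({b} : Set S) := by
        intro b hb
        apply sup_le
        · intro b' hb'
          rw [Subgroup.mem_centralizer_singleton_iff]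
          exact hBc b' hb' b hb
        · intro d' hd'
          rw [Subgroup.mem_centralizer_singleton_iff]
          exact (hcD b hb d' hd').symm
      have hle3 : ∀ u ∈ B ⊔ D, B ⊔ D ≤ centralizer ({u} : Set S) := by
        intro u hu v hv
        rw [Subgroup.mem_centralizer_singleton_iff]
        have h1 : B ⊔ D ≤ centralizer ({v} : Set S) := by
          apply sup_le
          · intro b hb
            have := hle2 b hb hv
            rw [Subgroup.mem_centralizer_singleton_iff] at this ⊢
            exact this.symm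
          · intro d hd
            have := hle1 d hd hv
            rw [Subgroup.mem_centralizer_singleton_iff] at this ⊢
            exact this.symm
        have := h1 hu
        rw [Subgroup.mem_centralizer_singleton_iff] at this
        exact this.symm
      refine ⟨⟨fun u v => Subtype.ext ?_⟩⟩
      have := hle3 u u.2 v.2
      rw [Subgroup.mem_centralizer_singleton_iff] at this
      exact this.symm
    have hle := hB.2 _ hsupc
    have heq := Subgroup.eq_of_le_of_card_ge (le_sup_left : B ≤ B ⊔ D) hle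
    apply hBD
    have : D ≤ B ⊔ D := le_sup_right
    rwa [← heq] at this
  refine ⟨le_sSup ?_, ?_, ?_⟩
  · refine ⟨?_, ?_⟩
    · exact ⟨⟨fun u v => Subtype.ext (Subgroup.mem_center_iff.mp u.2 v).symm⟩⟩
    · intro x _ a ha
      exact (Subgroup.mem_center_iff.mp ha x).symm
  · -- `D ≤ Z(J)`
    have hne : (Cfsg.maxAbelianSubgroups S).Nonempty := by
      have hfin : {B : Subgroup S | IsMulCommutative B}.Finite := Set.toFinite _
      obtain ⟨B, hB, hBmax⟩ := Set.exists_max_image _ (fun B : Subgroup S => Nat.card B) hfin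
        ⟨⊥, ⟨⟨fun u v => Subtype.ext (by
          have hu : (u : S) = 1 := Subgroup.mem_bot.mp u.2
          have hv : (v : S) = 1 := Subgroup.mem_bot.mp v.2
          show (u : S) * v = v * u
          rw [hu, hv])⟩⟩⟩
      exact ⟨B, hB, fun C hC => hBmax C hC⟩
    obtain ⟨B, hB⟩ := hne
    refine le_inf ((hmaxB B hB).trans (le_sSup hB)) ?_
    intro d hd
    refine Subgroup.mem_centralizer_iff.mpr ?_
    intro j hj
    have hle : Cfsg.thompsonSubgroupA S ≤ centralizer ({d} : Set S) := by
      refine sSup_le ?_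
      intro C hC c hc
      rw [Subgroup.mem_centralizer_singleton_iff]
      exact congrArg Subtype.val (hC.1.is_comm.comm ⟨c, hc⟩ ⟨d, hmaxB C hC hd⟩)
    have := hle hj
    rw [Subgroup.mem_centralizer_singleton_iff] at this
    exact this
  · intro A hAn hAc hAmax
    have hcomm := centralizes_of_family hS hDfam hAc (by
      rw [Subgroup.normalizer_eq_top_iff.mpr hAn]; exact le_top)
    have hself := self_centralizing_of_maximal hnil A hAn hAc hAmax
    intro d hd
    apply hself
    refine Subgroup.mem_centralizer_iff.mpr ?_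
    intro a ha
    have : ⁅a, d⁆ ∈ ⁅A, D⁆ := Subgroup.commutator_mem_commutator ha hd
    rw [hcomm, Subgroup.mem_bot] at this
    exact commutatorElement_eq_one_iff_mul_comm.mp this

end Cfsg.Agent.S3062
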