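import Cfsg.Statements.S3836
import Cfsg.Agent.Lib.Core.Basic
-- import your own Cfsg.Agent.* helpers here

set_option autoImplicit false
open Cfsg

namespace Cfsg.Agent.S3836

/-- Let G be a finite group that is p-stable in the normalizer form: for every p-subgroup Q and every x ∈ N_G(Q) with [Q, x, x] = 1, the image of x in N_G(Q)/C_G(Q) lies in O_p(N_G(Q)/C_G(Q)). Then every subgroup of G is p-stable in the same sense. -/
theorem result {G : Type*} [Group G] [Finite G] {p : ℕ} [Fact p.Prime] (hst : Cfsg.IsNormalizerPStable p G) (H : Subgroup G) : Cfsg.IsNormalizerPStable p ↥H := by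
  classical
  intro Q hQ g hg hcomm
  let P : Subgroup G := Q.map H.subtype
  have hP : IsPGroup p P := hQ.map _
  have hN : ∀ x ∈ Subgroup.normalizer (Q : Set H), (x : G) ∈ Subgroup.normalizer (P : Set G) :=
    fun x hx => Subgroup.le_normalizer_map H.subtype ⟨x, hx, rfl⟩
  have hg' : (g : G) ∈ Subgroup.normalizer (P : Set G) := hN g hg
  have hcomm' : ⁅⁅P, Subgroup.zpowers (g : G)⁆, Subgroup.zpowers (g : G)⁆ = ⊥ := by
    have h1 := congrArg (Subgroup.map H.subtype) hcomm
    rw [Subgroup.map_commutator, Subgroup.map_commutator, MonoidHom.map_zpowers, Subgroup.map_bot] at h1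
    exact h1
  have hst' := hst P hP (g : G) hg' hcomm'
  let NH : Subgroup H := Subgroup.normalizer (Q : Set H)
  let CH : Subgroup H := Subgroup.centralizer (Q : Set H)
  let NG : Subgroup G := Subgroup.normalizer (P : Set G)
  let CG : Subgroup G := Subgroup.centralizer (P : Set G)
  let φ : NH →* NG :=
    { toFun := fun x => ⟨x.1.1, hN x.1 x.2⟩
      map_one' := rfl
      map_mul' := fun _ _ => rfl }
  have hcent : ∀ x : NH, x.1 ∈ CH ↔ (φ x).1 ∈ CG := by
    intro x
    constructor
    · intro hx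
      apply Subgroup.mem_centralizer_iff.mpr
      rintro _ ⟨q, hq, rfl⟩
      exact congrArg Subtype.val (Subgroup.mem_centralizer_iff.mp hx q hq)
    · intro hx
      apply Subgroup.mem_centralizer_iff.mpr
      intro q hq
      apply Subtype.ext
      exact Subgroup.mem_centralizer_iff.mp hx _ ⟨q, hq, rfl⟩
  have hle : CH.subgroupOf NH ≤ (CG.subgroupOf NG).comap φ := by
    intro x hx
    exact (hcent x).mp hx
  let ψ : (↥NH ⧸ CH.subgroupOf NH) →* (↥NG ⧸ CG.subgroupOf NG) :=
    QuotientGroup.map _ _ φ hle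
  have hψinj : Function.Injective ψ := by
    rw [injective_iff_map_eq_one]
    intro y
    obtain ⟨x, rfl⟩ := QuotientGroup.mk_surjective y
    intro h
    have h1 : ((φ x : NG) : ↥NG ⧸ CG.subgroupOf NG) = 1 := h
    rw [QuotientGroup.eq_one_iff] at h1
    have h2 : x.1 ∈ CH := (hcent x).mpr h1
    exact (QuotientGroup.eq_one_iff x).mpr h2
  have hT : ((Cfsg.pCore p (↥NG ⧸ CG.subgroupOf NG)).comap ψ) ≤ Cfsg.pCore p (↥NH ⧸ CH.subgroupOf NH) := by
    apply Cfsg.Agent.Lib.Core.le_pCore
    · exact Subgroup.Normal.comap (Cfsg.Agent.Lib.Core.pCore_normal p _) ψ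
    · exact (Cfsg.Agent.Lib.Core.pCore_isPGroup p _).comap_of_injective _ hψinj
  apply hT
  exact hst'

end Cfsg.Agent.S3836
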