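import Cfsg.Statements.S0032
import Mathlib

set_option autoImplicit false
open Cfsg

namespace Cfsg.Agent.S0032

/-- If an automorphism of a finite group fixes only the identity and maps a normal subgroup N into itself, then the only cosets of N it fixes are those in N: a fixed coset xN forces x ∈ N. -/
theorem result {G : Type*} [Group G] [Finite G] (φ : G ≃* G)
    (hφ : MonoidHom.FixedPointFree (φ : G →* G)) (N : Subgroup G) [N.Normal] (hN : ∀ n ∈ N, φ n ∈ N)
    (x : G) (hx : (φ x)⁻¹ * x ∈ N) : x ∈ N := by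
  have hinj : Function.Injective (fun m : N => (⟨φ m * (m : G)⁻¹, N.mul_mem (hN m m.2) (N.inv_mem m.2)⟩ : N)) := by
    intro m m' h
    have h1 : φ m * (m : G)⁻¹ = φ m' * (m' : G)⁻¹ := congrArg Subtype.val h
    have h2 : φ ((m' : G)⁻¹ * m) = (m' : G)⁻¹ * m := by
      rw [map_mul, map_inv]
      have h3 : φ (m : G) = φ m' * (m' : G)⁻¹ * m := by
        rw [← h1]
        group
      rw [h3]
      group
    have h4 : (m' : G)⁻¹ * m = 1 := hφ _ h2
    apply Subtype.ext
    exact (inv_mul_eq_one.mp h4).symm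
  have hsurj := Finite.surjective_of_injective hinj
  obtain ⟨m, hm⟩ := hsurj ⟨_, hx⟩
  have h1 : φ m * (m : G)⁻¹ = (φ x)⁻¹ * x := congrArg Subtype.val hm
  have h2 : φ (x * m) = x * m := by
    rw [map_mul]
    have h3 : φ (m : G) = (φ x)⁻¹ * x * m := by
      rw [← h1]
      group
    rw [h3]
    group
  have h4 : x * m = 1 := hφ _ h2
  have h5 : x = (m : G)⁻¹ := eq_inv_of_mul_eq_one_left h4
  rw [h5]
  exact N.inv_mem m.2

end Cfsg.Agent.S0032
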