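import Cfsg.Statements.S5233
import Cfsg.Agent.Lib.Fusion.GenExtra
import Mathlib

set_option autoImplicit false
open Cfsg

namespace Cfsg.Agent.S5233

open scoped commutatorElement

open Cfsg.Agent.Lib.Fusion Cfsg.FusionSystem


/-- Let F be a saturated fusion system over a finite p-group S and P a subgroup of S strongly closed in F that is generalized extraspecial (its Frattini subgroup equals its commutator subgroup and has order p) and not isomorphic to E × A with A elementary abelian and E dihedral of order 8 (p = 2) or extraspecial of order p³ and exponent p (p odd). Then P is normal in F. -/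
theorem result {Ω : Type*} [Group Ω] {S : Subgroup Ω} [Finite S] (p : ℕ) [Fact p.Prime] (hS : IsPGroup p S) (F : Cfsg.FusionSystem S) (hF : F.IsSaturated p) (P : Subgroup Ω) (hP : F.StronglyClosed P) (hge : frattini ↥P = commutator ↥P ∧ Nat.card ↥(commutator ↥P) = p) (h2 : p = 2 → ¬ ∃ (A : Type) (_ : CommGroup A), (∀ a : A, a ^ 2 = 1) ∧ Nonempty (↥P ≃* DihedralGroup 4 × A)) (hodd : p ≠ 2 → ¬ ∃ (E : Type) (_ : Group E) (A : Type) (_ : CommGroup A), Cfsg.IsExtraspecial p E ∧ Nat.card E = p ^ 3 ∧ Monoid.exponent E = p ∧ (∀ a : A, a ^ p = 1) ∧ Nonempty (↥P ≃* E × A)) : F.IsNormal P := by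
  classical
  have hcl := genExtra_closed hS hF hP hge h2 hodd
  have hPS := hP.1
  have : Finite P := finite_of_le hPS
  refine (isNormal_iff_chain hS hF).2 ⟨2, ![⊥, (commutator ↥P).map P.subtype, P], rfl, rfl, ?_, ?_⟩
  · have hZP : (commutator ↥P).map P.subtype ≤ P := by
      rintro _ ⟨a, -, rfl⟩
      exact a.2
    intro i j hij
    fin_cases i <;> fin_cases j <;> simp at hij ⊢
    · exact hZP
  · have hPp : IsPGroup p ↥P := hS.to_le hPS
    have hZz : ∀ z ∈ commutator ↥P, ∀ g : ↥P, g * z = z * g := by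
      have hpp : p.Prime := Fact.out
      have hnil : Group.IsNilpotent ↥P := hPp.isNilpotent
      have hne : commutator ↥P ≠ ⊥ := by
        intro h
        have hc := hge.2
        rw [h] at hc
        simp at hc
        exact hpp.one_lt.ne hc
      haveI hn : (commutator ↥P).Normal := by
        unfold commutator
        infer_instance
      have h3 := Cfsg.Agent.Lib.Core.normal_inf_center_ne_bot (commutator ↥P) hne
      obtain ⟨⟨c, hcZ, hcC⟩, hcne⟩ := (Subgroup.ne_bot_iff_exists_ne_one).1 h3
      have hcne' : c ≠ 1 := fun h => hcne (Subtype.ext h)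
      intro z hz g
      obtain ⟨k, rfl⟩ := exists_pow_of_card_prime hge.2 hcZ hcne' hz
      have h4 : Commute g c := (Subgroup.mem_center_iff.1 hcC g)
      exact (h4.pow_right k).eq
    intro i
    fin_cases i
    · refine ⟨hcl, ?_⟩
      simp only [Fin.isValue, Fin.succ_zero_eq_one, Matrix.cons_val_one, Matrix.cons_val_zero, Fin.castSucc_zero]
      rw [Subgroup.commutator_le]
      rintro g hg _ ⟨z, hz, rfl⟩
      have := hZz z hz ⟨g, hg⟩
      show ⁅g, (z : Ω)⁆ ∈ (⊥ : Subgroup Ω)
      rw [Subgroup.mem_bot]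
      exact commutatorElement_eq_one_iff_mul_comm.2 (congrArg (fun w : ↥P => (w : Ω)) this)
    · refine ⟨hP, ?_⟩
      simp only [Fin.isValue, Fin.reduceFinMk, Matrix.cons_val]
      rw [Subgroup.commutator_le]
      intro a ha b hb
      exact ⟨⁅(⟨a, ha⟩ : ↥P), (⟨b, hb⟩ : ↥P)⁆, Subgroup.commutator_mem_commutator (Subgroup.mem_top _) (Subgroup.mem_top _), rfl⟩

end Cfsg.Agent.S5233
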