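import Cfsg.Statements.S0042
import Cfsg.Agent.Lib.FrobThm.FixedPointFree
import Cfsg.Agent.Lib.FrobThm.Basic
import Mathlib

set_option autoImplicit false
open Cfsg

namespace Cfsg.Agent.S0042

open Cfsg.Agent.Lib.FrobThm
open scoped Pointwise

/-- In a finite Frobenius group, the Frobenius kernel is (the carrier of) a normal subgroup which is nilpotent. -/
theorem result {G : Type*} [Group G] [Finite G] (H : Subgroup G) (hH : Cfsg.IsFrobeniusComplement H) :
    ∃ N : Subgroup G, (N : Set G) = Cfsg.frobeniusKernel H ∧ N.Normal ∧ Group.IsNilpotent N := by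
  classical
  obtain ⟨N, hN, hNn, -⟩ := frobenius_theorem H hH
  refine ⟨N, hN, hNn, ?_⟩
  -- an element of prime order in `H`
  rcases H.bot_or_exists_ne_one with h | ⟨x₀, hx₀, hx₀1⟩
  · exact absurd h hH.1
  have hzo : orderOf x₀ ≠ 1 := fun h => hx₀1 (orderOf_eq_one_iff.1 h)
  obtain ⟨r, hr, hrd⟩ := Nat.exists_prime_and_dvd hzo
  have hzpos : orderOf x₀ ≠ 0 := (orderOf_pos _).ne'
  set x : G := x₀ ^ (orderOf x₀ / r) with hx
  have hxo : orderOf x = r := orderOf_pow_orderOf_div hzpos hrd
  have hxH : x ∈ H := H.pow_mem hx₀ _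
  have hx1 : x ≠ 1 := by
    intro h
    rw [h, orderOf_one] at hxo
    exact hr.one_lt.ne hxo
  let α : N ≃* N := MulAut.conjNormal x
  have hα : ∀ v : N, ((α v : N) : G) = x * v * x⁻¹ := fun v => MulAut.conjNormal_apply _ _
  have hit : ∀ (i : ℕ) (v : N), ((α^[i] v : N) : G) = x ^ i * v * (x ^ i)⁻¹ := by
    intro i v
    induction i with
    | zero => simp
    | succ i ih =>
      rw [Function.iterate_succ_apply', hα, ih, pow_succ']
      group
  refine fpf_nilpotent hr α ?_ ?_
  · intro v hv
    by_contra hv1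
    have hv1' : (v : G) ≠ 1 := fun h => hv1 (Subtype.ext h)
    have hc : x * v * x⁻¹ = v := by
      rw [← hα, hv]
    have hvK : (v : G) ∈ Cfsg.frobeniusKernel H := by
      rw [← hN]; exact v.2
    have hvH : (v : G) ∉ H := by
      rcases hvK with h | h
      · exact absurd h hv1'
      · have := h 1
        simpa using this
    have h1 := hH.2.2 (v : G) hvH
    have h2 : x ∈ H ⊓ MulAut.conj (v : G) • H := by
      refine ⟨hxH, Cfsg.Agent.Lib.Core.mem_conj_smul_iff.mpr ?_⟩
      have h3 : x * v = v * x := by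
        rw [mul_inv_eq_iff_eq_mul] at hc
        exact hc
      have h4 : (v : G)⁻¹ * x * v = x := by
        rw [mul_assoc, h3, inv_mul_cancel_left]
      rw [h4]
      exact hxH
    rw [h1, Subgroup.mem_bot] at h2
    exact hx1 h2
  · intro v
    apply Subtype.ext
    rw [hit, ← hxo, pow_orderOf_eq_one]
    simp

end Cfsg.Agent.S0042
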