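import Cfsg.Statements.S0265
import Mathlib
import Cfsg.Agent.Lib.Classical.Basic

set_option autoImplicit false
open Cfsg
open scoped MatrixGroups

namespace Cfsg.Agent.S0265

/-- |PGL_n(q)| = |SL_n(q)|: GL_n modulo its centre (the q-1 non-zero scalars) has the same order as the kernel of det. -/
theorem result {F : Type*} [Field F] [Fintype F] (n : ℕ) : Nat.card (Matrix.ProjGenLinGroup (Fin n) F) = Nat.card (Matrix.SpecialLinearGroup (Fin n) F) := by
  rcases Nat.eq_zero_or_pos n with rfl | hn
  · have h1 : Subsingleton (Matrix.SpecialLinearGroup (Fin 0) F) := by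
      constructor; intro a b; ext i; exact i.elim0
    have h2 : Subsingleton (Matrix.GeneralLinearGroup (Fin 0) F) := by
      constructor; intro a b; ext i; exact i.elim0
    have h3 : Subsingleton (Matrix.ProjGenLinGroup (Fin 0) F) :=
      Matrix.ProjGenLinGroup.mk_surjective.subsingleton
    rw [Nat.card_of_subsingleton (1 : Matrix.ProjGenLinGroup (Fin 0) F),
      Nat.card_of_subsingleton (1 : Matrix.SpecialLinearGroup (Fin 0) F)]
  · have hne : Nonempty (Fin n) := ⟨⟨0, hn⟩⟩
    have hq : 0 < Fintype.card F - 1 := by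
      have := Fintype.one_lt_card (α := F); omega
    have hinj : Function.Injective (Matrix.GeneralLinearGroup.scalar (Fin n) : Fˣ →* GL (Fin n) F) := by
      intro a b hab
      have := congrArg (fun x : GL (Fin n) F => (x : Matrix (Fin n) (Fin n) F) ⟨0, hn⟩ ⟨0, hn⟩) hab
      simp at this
      exact Units.ext this
    have hcen : Nat.card (Subgroup.center (GL (Fin n) F)) = Fintype.card F - 1 := by
      rw [Matrix.GeneralLinearGroup.center_eq_range_scalar, ← Cfsg.Agent.Lib.Classical.card_units_field]
      exact Nat.card_congr (MonoidHom.ofInjective hinj).symm.toEquiv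
    have h1 := Cfsg.Agent.Lib.Classical.card_GL_eq_mul_card_SL (F := F) n hn
    have h2 := Subgroup.card_eq_card_quotient_mul_card_subgroup (Subgroup.center (GL (Fin n) F))
    rw [hcen] at h2
    have h3 : Nat.card (Matrix.ProjGenLinGroup (Fin n) F) = Nat.card (GL (Fin n) F ⧸ Subgroup.center (GL (Fin n) F)) := rfl
    rw [h3]
    apply Nat.eq_of_mul_eq_mul_left hq
    rw [← h1, h2, mul_comm]

end Cfsg.Agent.S0265
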