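import Cfsg.Statements.S0727
import Mathlib
import Cfsg.Agent.Lib.Perm.SharpThree

set_option autoImplicit false
open Cfsg

namespace Cfsg.Agent.S0727

/-- A sharply triply transitive permutation group of degree `2^f + 1` is isomorphic to the projective general linear group of degree 2 over the field with `2^f` elements. -/
theorem result {α : Type*} [Fintype α] [DecidableEq α] {f : ℕ} (hf : 1 ≤ f) (hα : Fintype.card α = 2 ^ f + 1) (G : Subgroup (Equiv.Perm α)) (h3 : MulAction.IsMultiplyPretransitive G α 3) (hsharp : ∀ x : Fin 3 ↪ α, MulAction.stabilizer G x = ⊥) : ∃ (F : Type) (_ : Field F) (_ : Fintype F), Fintype.card F = 2 ^ f ∧ Nonempty (G ≃* Matrix.ProjGenLinGroup (Fin 2) F) := by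
  classical
  have htri : ∀ (a b c : α), a ≠ b → a ≠ c → b ≠ c → ∃ x : Fin 3 ↪ α, x 0 = a ∧ x 1 = b ∧ x 2 = c := by
    intro a b c hab hac hbc
    refine ⟨⟨![a, b, c], ?_⟩, rfl, rfl, rfl⟩
    intro i j h
    fin_cases i <;> fin_cases j <;> simp_all
  have hT : ∀ a b c a' b' c' : α, a ≠ b → a ≠ c → b ≠ c → a' ≠ b' → a' ≠ c' → b' ≠ c' →
      ∃ g ∈ G, g a = a' ∧ g b = b' ∧ g c = c' := by
    intro a b c a' b' c' h1 h2 h3' h4 h5 h6
    obtain ⟨x, hx0, hx1, hx2⟩ := htri a b c h1 h2 h3'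
    obtain ⟨y, hy0, hy1, hy2⟩ := htri a' b' c' h4 h5 h6
    obtain ⟨g, hg⟩ := MulAction.IsPretransitive.exists_smul_eq (M := G) x y
    refine ⟨g, g.2, ?_, ?_, ?_⟩
    · rw [← hx0, ← hy0, ← hg]; rfl
    · rw [← hx1, ← hy1, ← hg]; rfl
    · rw [← hx2, ← hy2, ← hg]; rfl
  have hS : ∀ g ∈ G, ∀ a b c : α, a ≠ b → a ≠ c → b ≠ c → g a = a → g b = b → g c = c → g = 1 := by
    intro g hg a b c h1 h2 h3' h4 h5 h6
    obtain ⟨x, hx0, hx1, hx2⟩ := htri a b c h1 h2 h3'
    have hmem : (⟨g, hg⟩ : G) ∈ MulAction.stabilizer G x := by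
      rw [MulAction.mem_stabilizer_iff]
      ext i
      fin_cases i
      · show g (x 0) = x 0
        rw [hx0, h4]
      · show g (x 1) = x 1
        rw [hx1, h5]
      · show g (x 2) = x 2
        rw [hx2, h6]
    rw [hsharp x, Subgroup.mem_bot] at hmem
    exact congrArg Subtype.val hmem
  let e : α ≃ Fin (2 ^ f + 1) := Fintype.equivFinOfCardEq hα
  let κ : Equiv.Perm α ≃* Equiv.Perm (Fin (2 ^ f + 1)) := e.permCongrHom
  have hκ : ∀ (g : Equiv.Perm α) (z : Fin (2 ^ f + 1)), κ g z = e (g (e.symm z)) := fun _ _ => rfl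
  have hne : ∀ {a b : Fin (2 ^ f + 1)}, a ≠ b → e.symm a ≠ e.symm b := fun h h0 => h (e.symm.injective h0)
  obtain ⟨F, i1, i2, hF, ⟨φ⟩⟩ := Cfsg.Agent.Lib.Perm.ST.main_type hf (Fintype.card_fin _)
    (G.map κ.toMonoidHom)
    (by
      intro a b c a' b' c' h1 h2 h3' h4 h5 h6
      obtain ⟨g, hg, h7, h8, h9⟩ := hT _ _ _ _ _ _ (hne h1) (hne h2) (hne h3') (hne h4) (hne h5) (hne h6)
      refine ⟨κ g, ⟨g, hg, rfl⟩, ?_, ?_, ?_⟩
      · rw [hκ, h7]; simp
      · rw [hκ, h8]; simp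
      · rw [hκ, h9]; simp)
    (by
      rintro _ ⟨g, hg, rfl⟩ a b c h1 h2 h3' h4 h5 h6
      have h7 : κ g = 1 := by
        have h8 : g = 1 := hS g hg _ _ _ (hne h1) (hne h2) (hne h3')
          (by
            have h9 : κ g a = a := h4
            rw [hκ, Equiv.apply_eq_iff_eq_symm_apply] at h9
            exact h9)
          (by
            have h9 : κ g b = b := h5
            rw [hκ, Equiv.apply_eq_iff_eq_symm_apply] at h9
            exact h9)
          (by
            have h9 : κ g c = c := h6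
            rw [hκ, Equiv.apply_eq_iff_eq_symm_apply] at h9
            exact h9)
        rw [h8, map_one]
      exact h7)
  exact ⟨F, i1, i2, hF, ⟨(κ.subgroupMap G).trans φ⟩⟩

end Cfsg.Agent.S0727
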