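import Cfsg.Statements.S2620
import Cfsg.Agent.Lib.Known3.Gram
import Mathlib

set_option autoImplicit false
open Cfsg

namespace Cfsg.Agent.S2620

open Cfsg.Agent.Lib.Known3.Gram in
/-- Discriminant of the hyperbolic quadratic form Σ_(i<m) x_i y_i over a field with q elements, q odd, m ≥ 1: the determinant of the Gram matrix of its polar form in any basis is a square if and only if m(q − 1)/2 is even (equivalently q^m ≡ 1 (mod 4)). -/
theorem result {F : Type*} [Field F] [Fintype F] {q : ℕ} (hF : Fintype.card F = q) (hq : Odd q) {m : ℕ} (hm : 1 ≤ m) {ι : Type*} [Fintype ι] [DecidableEq ι] (b : Module.Basis ι F (Fin m ⊕ Fin m → F)) : IsSquare (Matrix.of (fun i j : ι => QuadraticMap.polar (Cfsg.quadFormPlus m F) (b i) (b j))).det ↔ Even (m * (q - 1) / 2) := by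
  rw [isSquare_gram_iff _ (polar_plus m) b, det_hyperbolic]
  obtain ⟨k, rfl⟩ := hq
  have h1 : m * (2 * k + 1 - 1) / 2 = m * k := by
    have : m * (2 * k + 1 - 1) = 2 * (m * k) := by
      rw [Nat.add_sub_cancel]; ring
    rw [this]
    omega
  rw [h1]
  rcases Nat.even_or_odd m with hm2 | hm2
  · rw [hm2.neg_one_pow]
    simp only [IsSquare.one, true_iff]
    exact hm2.mul_right k
  · rw [hm2.neg_one_pow, FiniteField.isSquare_neg_one_iff, hF, Nat.even_mul]
    have : ¬ Even m := Nat.not_even_iff_odd.2 hm2
    simp only [this, false_or]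
    rw [Nat.even_iff]
    omega

end Cfsg.Agent.S2620
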