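import Cfsg.Statements.S2621
import Cfsg.Agent.Lib.Known3.Gram
import Mathlib

set_option autoImplicit false
open Cfsg

namespace Cfsg.Agent.S2621

open Cfsg.Agent.Lib.Known3.Gram in
/-- Discriminant of an elliptic quadratic form Σ_(i<m−1) x_i y_i + z₁² + a z₁z₂ + c z₂² (binary part anisotropic) in dimension 2m over a field with q elements, q odd, m ≥ 1: the determinant of the Gram matrix of its polar form in any basis is a square if and only if m(q − 1)/2 is odd (equivalently q^m ≡ 3 (mod 4)). -/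
theorem result {F : Type*} [Field F] [Fintype F] {q : ℕ} (hF : Fintype.card F = q) (hq : Odd q) {m : ℕ} (hm : 1 ≤ m) (a c : F) (hac : ∀ z₁ z₂ : F, z₁ ^ 2 + a * z₁ * z₂ + c * z₂ ^ 2 = 0 → z₁ = 0 ∧ z₂ = 0) {ι : Type*} [Fintype ι] [DecidableEq ι] (b : Module.Basis ι F ((Fin (m - 1) ⊕ Fin (m - 1)) ⊕ Fin 2 → F)) : IsSquare (Matrix.of (fun i j : ι => QuadraticMap.polar (Cfsg.quadFormMinus (m - 1) F a c) (b i) (b j))).det ↔ ¬ Even (m * (q - 1) / 2) := by
  classical
  rw [isSquare_gram_iff _ (polar_minus (m - 1) a c) b, Matrix.det_fromBlocks_zero₂₁, det_hyperbolic,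
    Matrix.det_fin_two_of]
  have hq' := hq
  obtain ⟨k, hk⟩ := hq
  have h2 : (2 : F) ≠ 0 := by
    intro h
    have hchar : ringChar F = 2 :=
      CharP.ringChar_of_prime_eq_zero (R := F) Nat.prime_two (by exact_mod_cast h)
    have : Even (Fintype.card F) := Nat.even_iff.2 (FiniteField.even_card_of_char_two hchar)
    rw [hF] at this
    exact (Nat.not_even_iff_odd.2 hq') this
  have h1 : m * (q - 1) / 2 = m * k := by
    have : m * (q - 1) = 2 * (m * k) := by
      rw [hk, Nat.add_sub_cancel]; ring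
    rw [this]
    omega
  rw [h1]
  set d := a ^ 2 - 4 * c with hd
  have hdsq : ¬ IsSquare d := by
    rintro ⟨s, hs⟩
    rw [hd] at hs
    have h3 := hac ((s - a) / 2) 1 (by
      field_simp
      linear_combination -hs)
    exact one_ne_zero h3.2
  have hd0 : d ≠ 0 := by
    intro h
    apply hdsq
    rw [h]
    exact IsSquare.zero
  have hdet : (-1 : F) ^ (m - 1) * (2 * (2 * c) - a * a) = (-1) ^ m * d := by
    obtain ⟨n, rfl⟩ : ∃ n, m = n + 1 := ⟨m - 1, by omega⟩
    simp only [Nat.add_sub_cancel, pow_succ, hd]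
    ring
  rw [hdet]
  have hne : (-1 : F) ^ m * d ≠ 0 := mul_ne_zero (pow_ne_zero _ (by simp)) hd0
  rw [← quadraticChar_one_iff_isSquare hne, map_mul, map_pow,
    quadraticChar_neg_one_iff_not_isSquare.2 hdsq]
  rcases quadraticChar_dichotomy (F := F) (a := -1) (by simp) with h5 | h5
  · -- `-1` is a square
    rw [h5]
    have h6 : IsSquare (-1 : F) := (quadraticChar_one_iff_isSquare (by simp)).1 h5
    rw [FiniteField.isSquare_neg_one_iff, hF] at h6
    have h7 : Even k := by
      rw [Nat.even_iff]; omega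
    have h8 : Even (m * k) := h7.mul_left m
    simp [h8]
  · rw [h5]
    have h6 : ¬ IsSquare (-1 : F) := quadraticChar_neg_one_iff_not_isSquare.1 h5
    rw [FiniteField.isSquare_neg_one_iff, hF] at h6
    have h7 : ¬ Even k := by
      rw [Nat.even_iff]; omega
    rw [Nat.even_mul]
    simp only [h7, or_false]
    rcases Nat.even_or_odd m with hm2 | hm2
    · simp [hm2.neg_one_pow, hm2]
    · have : ¬ Even m := Nat.not_even_iff_odd.2 hm2
      simp [hm2.neg_one_pow, this]

end Cfsg.Agent.S2621
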