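import Cfsg.Statements.S0219
import Mathlib
import Cfsg.Agent.Lib.Invol.Sign

set_option autoImplicit false
open Cfsg

namespace Cfsg.Agent.S0219

/-- If a finite group has even order and a cyclic Sylow 2-subgroup, then it has a subgroup of index 2 (consider the parity of permutations in the regular representation). -/
theorem result {G : Type*} [Group G] [Finite G] (heven : Even (Nat.card G)) (T : Sylow 2 G) (hT : IsCyclic (T : Subgroup G)) : ∃ H : Subgroup G, H.index = 2 := by
  open Cfsg.Agent.Lib.Invol in
  obtain ⟨y, hy⟩ := hT.exists_generator
  have h1 : orderOf y = Nat.card T := orderOf_eq_card_of_forall_mem_zpowers hy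
  have h2 : orderOf (y : G) = Nat.card T := by
    rw [Subgroup.orderOf_coe]; exact h1
  have hc := Subgroup.card_mul_index (T : Subgroup G)
  have hi : ¬ 2 ∣ (T : Subgroup G).index := T.not_dvd_index
  have hTpos : 0 < Nat.card (T : Subgroup G) := Nat.card_pos
  apply exists_index_two_of_element (y : G)
  · rw [h2]
    have h3 : Even (Nat.card (T : Subgroup G) * (T : Subgroup G).index) := by rw [hc]; exact heven
    rw [Nat.even_mul] at h3
    rcases h3 with h3 | h3
    · exact h3
    · exact absurd h3.two_dvd hi
  · rw [h2, ← hc]
    have : Nat.card (T : Subgroup G) * (T : Subgroup G).index / Nat.card T = (T : Subgroup G).index :=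
      Nat.mul_div_cancel_left _ hTpos
    rw [this]
    exact Nat.not_even_iff_odd.1 (fun h => hi h.two_dvd)

end Cfsg.Agent.S0219
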