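import Cfsg.Statements.S2239
import Mathlib
import Cfsg.Agent.Lib.Sz.SubfieldConj
import Cfsg.Agent.Lib.Sz.Bridge

set_option autoImplicit false
open Cfsg

namespace Cfsg.Agent.S2239


open Cfsg.Agent.SzT

lemma exists_embed {F K : Type*} [Field F] [Fintype F] [Field K] [Fintype K] {m k : ℕ}
    (hF : Fintype.card F = 2 ^ (2 * m + 1)) (hK : Fintype.card K = 2 ^ (2 * k + 1))
    (hdiv : 2 * k + 1 ∣ 2 * m + 1) [hcF : CharP F 2] [hcK : CharP K 2] : Nonempty (K →+* F) := by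
  haveI : Fact (Nat.Prime 2) := ⟨Nat.prime_two⟩
  letI : Algebra (ZMod 2) F := ZMod.algebra F 2
  letI : Algebra (ZMod 2) K := ZMod.algebra K 2
  have h1 : Module.finrank (ZMod 2) F = 2 * m + 1 := by
    have := FiniteField.pow_finrank_eq_card 2 F
    rw [hF] at this
    exact Nat.pow_right_injective (le_refl 2) this
  have h2 : Module.finrank (ZMod 2) K = 2 * k + 1 := by
    have := FiniteField.pow_finrank_eq_card 2 K
    rw [hK] at this
    exact Nat.pow_right_injective (le_refl 2) this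
  obtain ⟨f⟩ := FiniteField.nonempty_algHom_of_finrank_dvd (F := ZMod 2) (K := K) (L := F) (by rw [h1, h2]; exact hdiv)
  exact ⟨f.toRingHom⟩

lemma compat_of {F K : Type*} [Field F] [Fintype F] [Field K] [Fintype K] {m k : ℕ}
    (hK : Fintype.card K = 2 ^ (2 * k + 1)) (hdiv : 2 * k + 1 ∣ 2 * m + 1) (ι : K →+* F) :
    Compat (2 ^ (m + 1)) (2 ^ (k + 1)) ι := by
  intro x
  obtain ⟨d, hd⟩ := hdiv
  have hdodd : d % 2 = 1 := by
    by_contra hne
    have h0 : d % 2 = 0 := by omega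
    have : (2 * k + 1) * d % 2 = 0 := by
      simp [Nat.mul_mod, h0]
    omega
  obtain ⟨j, hj⟩ : ∃ j, d = 2 * j + 1 := ⟨d / 2, by omega⟩
  subst hj
  have hm : m + 1 = (2 * k + 1) * j + (k + 1) := by
    have : 2 * m + 1 = 2 * ((2 * k + 1) * j + k) + 1 := by rw [hd]; ring
    omega
  rw [← map_pow]
  congr 1
  have e : 2 ^ (m + 1) = (2 ^ (2 * k + 1)) ^ j * 2 ^ (k + 1) := by
    rw [hm, pow_add, pow_mul]
  rw [e, pow_mul, ← hK, FiniteField.pow_card_pow]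

lemma map_conj_mul {G : Type*} [Group G] (H : Subgroup G) (a b : G) :
    (H.map (MulAut.conj a).toMonoidHom).map (MulAut.conj b).toMonoidHom = H.map (MulAut.conj (b * a)).toMonoidHom := by
  rw [Subgroup.map_map]
  congr 1
  ext x
  simp [mul_assoc]


/-- Subfield subgroups of the Suzuki group: let q = 2^(2m+1) and s = 2^(2k+1) with m, k ≥ 1 and 2k+1 dividing 2m+1 (so q is a power of s), both groups realised as stabilisers in SL₄ of the Suzuki–Tits ovoid. Then Sz(q) has a subgroup isomorphic to Sz(s), and any two subgroups of Sz(q) isomorphic to Sz(s) are conjugate. -/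
theorem result {F : Type*} [Field F] [Fintype F] {m : ℕ} (hm : 1 ≤ m) (hF : Fintype.card F = 2 ^ (2 * m + 1)) {K : Type*} [Field K] [Fintype K] {k : ℕ} (hk : 1 ≤ k) (hK : Fintype.card K = 2 ^ (2 * k + 1)) (hdiv : 2 * k + 1 ∣ 2 * m + 1) :
    (∃ S : Subgroup ↥(Cfsg.Sz F m), Nonempty (↥S ≃* ↥(Cfsg.Sz K k))) ∧
    ∀ S₁ S₂ : Subgroup ↥(Cfsg.Sz F m), Nonempty (↥S₁ ≃* ↥(Cfsg.Sz K k)) → Nonempty (↥S₂ ≃* ↥(Cfsg.Sz K k)) →
      ∃ g : ↥(Cfsg.Sz F m), S₂ = S₁.map (MulAut.conj g).toMonoidHom := by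
  rw [← Cfsg.Agent.SzT.GG_eq m, ← Cfsg.Agent.SzT.GG_eq k]
  haveI hS : SzF F (2 ^ (m + 1)) := szF_of_card hm hF
  haveI hT : SzF K (2 ^ (k + 1)) := szF_of_card hk hK
  haveI := hS.char2
  haveI := hT.char2
  obtain ⟨ι⟩ := exists_embed hF hK hdiv
  have hι : Compat (2 ^ (m + 1)) (2 ^ (k + 1)) ι := compat_of hK hdiv ι
  refine ⟨⟨(embG hι).range, ⟨(MonoidHom.ofInjective (embG_inj hι)).symm⟩⟩, ?_⟩
  have key : ∀ S : Subgroup ↥(GG (2 ^ (m + 1)) F), Nonempty (↥S ≃* ↥(GG (2 ^ (k + 1)) K)) →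
      ∃ g : ↥(GG (2 ^ (m + 1)) F), S.map (MulAut.conj g).toMonoidHom = (embG hι).range := by
    rintro S ⟨e⟩
    let ψ : ↥(GG (2 ^ (k + 1)) K) →* ↥(GG (2 ^ (m + 1)) F) := S.subtype.comp e.symm.toMonoidHom
    have hψ : Function.Injective ψ := S.subtype_injective.comp e.symm.injective
    have hr : ψ.range = S := by
      rw [MonoidHom.range_comp, MonoidHom.range_eq_top.mpr e.symm.surjective, ← MonoidHom.range_eq_map, Subgroup.range_subtype]
    rw [← hr]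
    exact exists_conj_range hι hψ
  intro S₁ S₂ h₁ h₂
  obtain ⟨g₁, hg₁⟩ := key S₁ h₁
  obtain ⟨g₂, hg₂⟩ := key S₂ h₂
  refine ⟨g₂⁻¹ * g₁, ?_⟩
  rw [← map_conj_mul, hg₁, ← hg₂, map_conj_mul, inv_mul_cancel]
  ext x
  simp


end Cfsg.Agent.S2239
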