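import Cfsg.Statements.S5752
import Cfsg.Agent.Lib.TW.LayerStep

set_option autoImplicit false

namespace Cfsg.Agent.S5752

open Subgroup Cfsg Cfsg.Agent.Lib.TW Cfsg.Agent.Lib.Core Cfsg.Agent.Lib.FStar

variable {G : Type*} [Group G] [Finite G]

theorem mem_nc {M : Subgroup G} {x : G} : x ∈ M.normalCore ↔ ∀ b, b * x * b⁻¹ ∈ M := Iff.rfl

theorem coatom_conj {M : Subgroup G} (h : IsCoatom M) (g : G) :
    IsCoatom (M.map (MulAut.conj g).toMonoidHom) :=
  ((MulAut.conj g).mapSubgroup.isCoatom_iff M).mpr h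

theorem norm_le_of_coatom {M U : Subgroup G} (hM : IsCoatom M) (hc : M.normalCore = ⊥) (hU : U ≠ ⊥)
    (hN : NI U M) : normalizer (U : Set G) ≤ M := by
  have h1 := NI.mem_norm hN
  by_contra hne
  have hlt : M < normalizer (U : Set G) := lt_of_le_not_ge h1 hne
  have ht := hM.2 _ hlt
  apply hU
  rw [eq_bot_iff, ← hc]
  intro x hx
  rw [mem_nc]
  intro y
  have hy : y ∈ normalizer (U : Set G) := by rw [ht]; exact mem_top y
  exact hN.1 ((mem_normalizer_iff.mp hy x).mp hx)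

theorem core_conj {M : Subgroup G} (hc : M.normalCore = ⊥) (g : G) :
    (M.map (MulAut.conj g).toMonoidHom).normalCore = ⊥ := by
  rw [eq_bot_iff, ← hc]
  intro x hx
  rw [mem_nc] at hx ⊢
  intro y
  obtain ⟨u, hu, he⟩ := hx (g * y)
  have h1 : y * x * y⁻¹ = u := by
    have : g * u * g⁻¹ = g * (y * x * y⁻¹) * g⁻¹ := by
      simpa [mul_assoc] using he
    simpa using this.symm
  rw [h1]
  exact hu

noncomputable def conjE (M : Subgroup G) (g : G) : M ≃* (M.map (MulAut.conj g).toMonoidHom) :=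
  (MulAut.conj g).subgroupMap M

theorem tws_of {M₁ : Subgroup G} (hmax : IsCoatom M₁) (g : G)
    (hne : M₁ ≠ M₁.map (MulAut.conj g).toMonoidHom) (hcore : M₁.normalCore = ⊥) :
    TWS M₁ (M₁.map (MulAut.conj g).toMonoidHom) := by
  have hmax2 := coatom_conj hmax g
  refine ⟨?_, ?_, ?_, ?_, ?_, ?_⟩
  · intro h
    rcases h.lt_or_eq with h | h
    · exact hmax2.1 (hmax.2 _ h)
    · exact hne h
  · intro h
    rcases h.lt_or_eq with h | h
    · exact hmax.1 (hmax2.2 _ h)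
    · exact hne h.symm
  · intro U hU hN
    exact norm_le_of_coatom hmax hcore hU hN
  · intro U hU hN
    exact norm_le_of_coatom hmax2 (core_conj hcore g) hU hN
  · intro p
    have h1 : Nat.card (PC p M₁) = Nat.card (pCore p M₁) :=
      Nat.card_congr ((pCore p M₁).equivMapOfInjective _ M₁.subtype_injective).toEquiv.symm
    have h2 : Nat.card (PC p (M₁.map (MulAut.conj g).toMonoidHom)) =
        Nat.card (pCore p (M₁.map (MulAut.conj g).toMonoidHom)) :=
      Nat.card_congr ((pCore p _).equivMapOfInjective _ (subtype_injective _)).toEquiv.symm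
    rw [h1, h2, ← map_pCore_equiv (conjE M₁ g)]
    exact Nat.card_congr ((pCore p M₁).equivMapOfInjective _ (conjE M₁ g).injective).toEquiv
  · have h1 : Nat.card (LY M₁) = Nat.card (layer M₁) :=
      Nat.card_congr ((layer M₁).equivMapOfInjective _ M₁.subtype_injective).toEquiv.symm
    have h2 : Nat.card (LY (M₁.map (MulAut.conj g).toMonoidHom)) =
        Nat.card (layer (M₁.map (MulAut.conj g).toMonoidHom)) :=
      Nat.card_congr ((layer _).equivMapOfInjective _ (subtype_injective _)).toEquiv.symm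
    rw [h1, h2, ← layer_map_equiv (conjE M₁ g)]
    exact Nat.card_congr ((layer M₁).equivMapOfInjective _ (conjE M₁ g).injective).toEquiv


/-- A form of the Thompson–Wielandt Theorem on primitive permutation groups. -/
theorem result {G : Type*} [Group G] [Finite G] (M₁ M₂ : Subgroup G) (hmax : IsCoatom M₁) (g : G)
    (hconj : M₂ = M₁.map (MulAut.conj g).toMonoidHom) (hne : M₁ ≠ M₂) (hcore : M₁.normalCore = ⊥)
    (A B : ℕ → Subgroup G) (hA0 : A 0 = M₁) (hB0 : B 0 = M₂)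
    (hA : ∀ i, A (i + 1) = ((A i ⊓ B i).subgroupOf M₁).normalCore.map M₁.subtype)
    (hB : ∀ i, B (i + 1) = ((A i ⊓ B i).subgroupOf M₂).normalCore.map M₂.subtype) (hA2 : A 2 ≠ ⊥) (hB2 : B 2 ≠ ⊥) :
    ∃ p : ℕ, p.Prime ∧ IsPGroup p ↥(A 2 ⊔ B 2) ∧
      Cfsg.generalizedFittingSubgroup ↥M₁ = Cfsg.pCore p ↥M₁ ∧ Cfsg.generalizedFittingSubgroup ↥(A 1) = Cfsg.pCore p ↥(A 1) ∧
      Cfsg.generalizedFittingSubgroup ↥M₂ = Cfsg.pCore p ↥M₂ ∧ Cfsg.generalizedFittingSubgroup ↥(B 1) = Cfsg.pCore p ↥(B 1) := by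
  subst hconj
  have S := tws_of hmax g hne hcore
  set M₂ := M₁.map (MulAut.conj g).toMonoidHom with hM₂
  have hA1 : A 1 = a1 M₁ M₂ := by
    rw [hA 0, hA0, hB0]
    rfl
  have hB1 : B 1 = a1 M₂ M₁ := by
    rw [hB 0, hA0, hB0, inf_comm]
    rfl
  have hA2' : A 2 = a2 M₁ M₂ := by
    rw [hA 1, hA1, hB1]
    rfl
  have hB2' : B 2 = a2 M₂ M₁ := by
    rw [hB 1, hA1, hB1, a2, q12_comm M₂ M₁]
    rfl
  rw [hA2'] at hA2 ⊢
  rw [hB2'] at hB2 ⊢
  rw [hA1, hB1]
  exact main_tw S hA2 hB2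

end Cfsg.Agent.S5752
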