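import Cfsg.Statements.S0214
import Mathlib
import Cfsg.Agent.Lib.Invol.StrongEmb
import Cfsg.Agent.Lib.Techniques.SylowIn
import Cfsg.Agent.Lib.Techniques.Conj

set_option autoImplicit false
open Cfsg

namespace Cfsg.Agent.S0214

/-- Let H be a proper subgroup of the finite group G and P a nontrivial Sylow 2-subgroup of H. Then H is strongly embedded in G if and only if N_G(X) ≤ H for every nontrivial subgroup X of P. -/
theorem result {G : Type*} [Group G] [Finite G] (H : Subgroup G) (hH : H ≠ ⊤) (P : Sylow 2 ↥H) (hP : (P : Subgroup ↥H) ≠ ⊥) : Cfsg.IsStronglyEmbedded H ↔ (∀ X : Subgroup ↥H, X ≤ (P : Subgroup ↥H) → X ≠ ⊥ → Subgroup.normalizer ((X.map H.subtype : Subgroup G) : Set G) ≤ H) := by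
  open Cfsg.Agent.Lib.Invol Cfsg.Agent.Lib.Techniques in
  classical
  set P' : Subgroup G := (P : Subgroup H).map H.subtype with hP'
  have hsyl : SylowIn 2 P' H := sylowIn_of_sylow P
  have hP'ne : P' ≠ ⊥ := by
    intro h
    apply hP
    rw [hP', Subgroup.map_eq_bot_iff_of_injective _ H.subtype_injective] at h
    exact h
  have conj_ne : ∀ (Y : Subgroup G) (h : G), Y ≠ ⊥ → conjS h Y ≠ ⊥ := by
    intro Y h hY hc
    apply hY
    rwa [conjS, Subgroup.map_eq_bot_iff_of_injective _ (MulAut.conj h).injective] at hc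
  rw [stronglyEmbedded_iff]
  constructor
  · rintro ⟨-, -, hse⟩ X hXP hX g hg
    by_contra hgH
    have hX'ne : X.map H.subtype ≠ ⊥ := by
      intro h
      apply hX
      rwa [Subgroup.map_eq_bot_iff_of_injective _ H.subtype_injective] at h
    have hX'P : IsPGroup 2 (X.map H.subtype : Subgroup G) := hsyl.2.1.to_le (Subgroup.map_mono hXP)
    obtain ⟨t, ht, ht2⟩ := exists_invol_of_pGroup hX'P hX'ne
    have htH : t ∈ H := (Subgroup.map_subtype_le X) ht
    have h1 : g * t * g⁻¹ ∈ X.map H.subtype := (Subgroup.mem_normalizer_iff.1 hg t).1 ht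
    exact hse g hgH t htH ht2 (Subgroup.map_subtype_le X h1)
  · intro hyp
    have hstar : ∀ Y : Subgroup G, Y ≤ H → IsPGroup 2 Y → Y ≠ ⊥ →
        Subgroup.normalizer (Y : Set G) ≤ H := by
      intro Y hYH hY hYne
      obtain ⟨h, hh, hle⟩ := hsyl.exists_conj_le hYH hY
      have hZne : conjS h Y ≠ ⊥ := conj_ne Y h hYne
      have hZH : conjS h Y ≤ H := hle.trans hsyl.1
      have hmap : ((conjS h Y).subgroupOf H).map H.subtype = conjS h Y :=
        Subgroup.map_subgroupOf_eq_of_le hZH
      have hsub : (conjS h Y).subgroupOf H ≤ (P : Subgroup H) := by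
        intro z hz
        have h1 : (z : G) ∈ conjS h Y := hz
        have h2 : (z : G) ∈ P' := hle h1
        obtain ⟨w, hw, hwz⟩ := h2
        have : w = z := Subtype.ext hwz
        rwa [← this]
      have hne : (conjS h Y).subgroupOf H ≠ ⊥ := by
        intro hb
        apply hZne
        rw [← hmap, hb, Subgroup.map_bot]
      have h3 := hyp _ hsub hne
      rw [hmap] at h3
      intro g hg
      have hg' : h * g * h⁻¹ ∈ Subgroup.normalizer ((conjS h Y : Subgroup G) : Set G) := by
        rw [conj_normalizer]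
        exact conj_mem_conjS hg
      have h2 := h3 hg'
      have e : g = h⁻¹ * (h * g * h⁻¹) * h := by group
      rw [e]
      exact H.mul_mem (H.mul_mem (H.inv_mem hh) h2) hh
    refine ⟨hH, ?_, ?_⟩
    · obtain ⟨t, ht, ht2⟩ := exists_invol_of_pGroup hsyl.2.1 hP'ne
      have h1 : orderOf (⟨t, hsyl.1 ht⟩ : H) = 2 := by rw [Subgroup.orderOf_mk]; exact ht2
      have h2 : 2 ∣ Nat.card H := h1 ▸ orderOf_dvd_natCard _
      exact even_iff_two_dvd.2 h2
    · intro g hg t ht ht2 hgt
      have htK : g * t * g⁻¹ ∈ H ⊓ conjS g H := ⟨hgt, conj_mem_conjS ht⟩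
      obtain ⟨D, hD⟩ := exists_sylowIn (p := 2) (H ⊓ conjS g H)
      have hDne : D ≠ ⊥ := by
        rintro rfl
        have h1 := hD.2.2
        rw [Subgroup.relIndex_bot_left] at h1
        apply h1
        have h2 : orderOf (⟨_, htK⟩ : (H ⊓ conjS g H : Subgroup G)) = 2 := by
          rw [Subgroup.orderOf_mk, orderOf_conj']; exact ht2
        exact h2 ▸ orderOf_dvd_natCard _
      have hDH : D ≤ H := hD.1.trans inf_le_left
      have hDg : D ≤ conjS g H := hD.1.trans inf_le_right
      have hEH : conjS g⁻¹ D ≤ H := by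
        rw [conjS_le_iff, inv_inv]; exact hDg
      have hEp : IsPGroup 2 (conjS g⁻¹ D : Subgroup G) := isPGroup_conjS _ hD.2.1
      have hEne : conjS g⁻¹ D ≠ ⊥ := conj_ne _ _ hDne
      obtain ⟨Q, hEQ, hQ⟩ := exists_sylowIn_ge hEH hEp
      have hEeq : conjS g⁻¹ D = Q := by
        by_contra hne
        have hlt : conjS g⁻¹ D < Q := lt_of_le_of_ne hEQ hne
        have h1 := lt_inf_normalizer hQ.2.1 hlt
        set M := Q ⊓ Subgroup.normalizer ((conjS g⁻¹ D : Subgroup G) : Set G) with hM
        have h2 : conjS g M ≤ Subgroup.normalizer (D : Set G) := by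
          have h3 : Subgroup.normalizer (D : Set G) =
              conjS g (Subgroup.normalizer ((conjS g⁻¹ D : Subgroup G) : Set G)) := by
            rw [← conj_normalizer, conjS_conjS_inv]
          rw [h3]
          exact conjS_mono g inf_le_right
        have h4 : conjS g M ≤ H := h2.trans (hstar D hDH hD.2.1 hDne)
        have h5 : conjS g M ≤ conjS g H := conjS_mono g (inf_le_left.trans hQ.1)
        have h6 : D ≤ conjS g M := by
          have : D = conjS g (conjS g⁻¹ D) := (conjS_conjS_inv g D).symm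
          rw [this]
          exact conjS_mono g h1.le
        have h7 : IsPGroup 2 (conjS g M : Subgroup G) :=
          isPGroup_conjS g (hQ.2.1.to_le inf_le_left)
        have h8 := hD.eq_of_le h6 (le_inf h4 h5) h7
        have h9 : M = conjS g⁻¹ D := by
          rw [← h8, conjS_inv_conjS]
        exact h1.ne h9.symm
      have hDs : SylowIn 2 D H := by
        apply SylowIn.of_card_eq (T := conjS g⁻¹ D) (hEeq ▸ hQ) hDH hD.2.1
        rw [card_conjS]
      have hEs : SylowIn 2 (conjS g⁻¹ D) H := hEeq ▸ hQ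
      obtain ⟨h, hh, he⟩ := hEs.exists_conj_eq hDs
      have h1 : conjS (h * g⁻¹) D = D := by
        rw [conjS_mul]; exact he
      have h2 := hstar D hDH hD.2.1 hDne (mem_normalizer_iff_conjS.2 h1)
      apply hg
      have e : g = (h⁻¹ * (h * g⁻¹))⁻¹ := by group
      rw [e]
      exact H.inv_mem (H.mul_mem (H.inv_mem hh) h2)

end Cfsg.Agent.S0214
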