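import Cfsg.Statements.S0223
import Mathlib
import Cfsg.Agent.Lib.Invol.StrongEmb

set_option autoImplicit false
open Cfsg

namespace Cfsg.Agent.S0223

/-- Let H be a proper subgroup of even order of the finite group G. Then H is strongly embedded if and only if (i) C_G(t) ≤ H for every involution t of H and (ii) H controls fusion of its involutions: involutions of H conjugate in G are conjugate in H. -/
theorem result {G : Type*} [Group G] [Finite G] (H : Subgroup G) (hH : H ≠ ⊤) (heven : Even (Nat.card H)) : Cfsg.IsStronglyEmbedded H ↔ ((∀ t ∈ H, orderOf t = 2 → Subgroup.centralizer ({t} : Set G) ≤ H) ∧ (∀ t ∈ H, ∀ s ∈ H, orderOf t = 2 → orderOf s = 2 → IsConj t s → ∃ h ∈ H, h * t * h⁻¹ = s)) := by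
  open Cfsg.Agent.Lib.Invol in
  rw [stronglyEmbedded_iff]
  constructor
  · rintro ⟨-, -, h⟩
    refine ⟨?_, ?_⟩
    · intro t ht ht2 g hg
      by_contra hgH
      have h1 := h g hgH t ht ht2
      apply h1
      rw [Subgroup.mem_centralizer_singleton_iff] at hg
      rw [hg]
      simpa using ht
    · intro t ht s hs ht2 _ hc
      obtain ⟨g, hg⟩ := isConj_iff.1 hc
      refine ⟨g, ?_, hg⟩
      by_contra hgH
      exact h g hgH t ht ht2 (by rw [hg]; exact hs)
  · rintro ⟨h1, h2⟩
    refine ⟨hH, heven, ?_⟩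
    intro g hg t ht ht2 hgt
    apply hg
    obtain ⟨h, hh, hhe⟩ := h2 t ht _ hgt ht2 (by rw [orderOf_conj']; exact ht2) (isConj_iff.2 ⟨g, rfl⟩)
    have h3 : h⁻¹ * g ∈ Subgroup.centralizer ({t} : Set G) := by
      rw [Subgroup.mem_centralizer_singleton_iff]
      calc h⁻¹ * g * t = h⁻¹ * (g * t * g⁻¹) * g := by group
        _ = h⁻¹ * (h * t * h⁻¹) * g := by rw [hhe]
        _ = t * (h⁻¹ * g) := by group
    have h4 := h1 t ht ht2 h3
    have e : g = h * (h⁻¹ * g) := by group
    rw [e]
    exact H.mul_mem hh h4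

end Cfsg.Agent.S0223
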