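import Cfsg.Statements.S0224
import Mathlib
import Cfsg.Agent.Lib.Invol.StrongEmb

set_option autoImplicit false
open Cfsg

namespace Cfsg.Agent.S0224

/-- Let H be a proper subgroup of even order of the finite group G. Then H is strongly embedded if and only if each involution of H fixes exactly one point (namely the coset H) in the action of G on the cosets of H. -/
theorem result {G : Type*} [Group G] [Finite G] (H : Subgroup G) (hH : H ≠ ⊤) (heven : Even (Nat.card H)) : Cfsg.IsStronglyEmbedded H ↔ ∀ t ∈ H, orderOf t = 2 → Nat.card {c : G ⧸ H // t • c = c} = 1 := by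
  open Cfsg.Agent.Lib.Invol in
  rw [stronglyEmbedded_iff]
  have hfix : ∀ t ∈ H, ∀ g : G, t • (g : G ⧸ H) = (g : G ⧸ H) ↔ g⁻¹ * t * g ∈ H := by
    intro t _ g
    have : t • (g : G ⧸ H) = ((t * g : G) : G ⧸ H) := rfl
    rw [this, eq_comm, QuotientGroup.eq]
    simp [mul_assoc]
  constructor
  · rintro ⟨-, -, h⟩ t ht ht2
    rw [Nat.card_eq_one_iff_unique]
    refine ⟨?_, ⟨⟨((1 : G) : G ⧸ H), (hfix t ht 1).2 (by simpa using ht)⟩⟩⟩
    constructor
    have key : ∀ c : {c : G ⧸ H // t • c = c}, (c : G ⧸ H) = ((1 : G) : G ⧸ H) := by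
      rintro ⟨c, hc⟩
      obtain ⟨g, rfl⟩ := QuotientGroup.mk_surjective c
      have h1 := (hfix t ht g).1 hc
      have hg : g⁻¹ ∈ H := by
        by_contra hg
        apply h g⁻¹ hg t ht ht2
        simpa using h1
      have hg' : g ∈ H := by simpa using H.inv_mem hg
      show ((g : G) : G ⧸ H) = ((1 : G) : G ⧸ H)
      rw [QuotientGroup.eq]
      simpa using hg
    intro a b
    exact Subtype.ext ((key a).trans (key b).symm)
  · intro h
    refine ⟨hH, heven, ?_⟩
    intro g hg t ht ht2 hgt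
    have hc := h t ht ht2
    rw [Nat.card_eq_one_iff_unique] at hc
    haveI := hc.1
    have h1 : t • (((1 : G) : G ⧸ H)) = ((1 : G) : G ⧸ H) := (hfix t ht 1).2 (by simpa using ht)
    have h2 : t • ((g⁻¹ : G) : G ⧸ H) = ((g⁻¹ : G) : G ⧸ H) := (hfix t ht g⁻¹).2 (by simpa using hgt)
    have h3 := Subsingleton.elim (⟨_, h1⟩ : {c : G ⧸ H // t • c = c}) ⟨_, h2⟩
    have h4 : ((1 : G) : G ⧸ H) = ((g⁻¹ : G) : G ⧸ H) := congrArg Subtype.val h3
    rw [QuotientGroup.eq] at h4
    apply hg
    simpa using h4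

end Cfsg.Agent.S0224
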