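import Cfsg.Statements.S0649
import Cfsg.Agent.Lib.PLocal.Misc
import Mathlib

set_option autoImplicit false
open Cfsg

namespace Cfsg.Agent.S0649

open Cfsg.Agent.Lib.PLocal

/-- In the Glauberman replacement situation, if B does not normalize A then some element of B normalizes N_S(A) without normalizing A. -/
theorem result {S : Type*} [Group S] [Finite S] {p : ℕ} [Fact p.Prime] (hS : IsPGroup p S) (B : Subgroup S) [B.Normal] (hB2 : p = 2 → IsMulCommutative B) (A : Subgroup S) (hA : IsMulCommutative A) (hBA : ⁅B, B⁆ ≤ A) (hnot : ¬ B ≤ Subgroup.normalizer (A : Set S)) : ∃ b ∈ B, b ∈ Subgroup.normalizer ((Subgroup.normalizer (A : Set S)) : Set S) ∧ b ∉ Subgroup.normalizer (A : Set S) := by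
  exact exists_mem_normalizer_normalizer hS B A hnot

end Cfsg.Agent.S0649
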