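import Cfsg.Statements.S0887
import Cfsg.Agent.Lib.Char.ProjDvd

set_option autoImplicit false
open Cfsg

namespace Cfsg.Agent.S0887

/-- Let N be a normal subgroup of the finite group G, χ an irreducible character of G and ϑ an irreducible character of N having nonzero inner product with the restriction of χ. If χ 1 = c and ϑ 1 = d as natural numbers, then d divides c and c / d divides the index of N. -/
theorem result {G : Type*} [Group G] [Fintype G] (N : Subgroup G) [N.Normal] [Fintype N] (χ : G → ℂ) (hχ : Cfsg.IsIrrCharacter G χ) (ϑ : N → ℂ) (hϑ : Cfsg.IsIrrCharacter N ϑ) (hcon : Cfsg.classInner (fun n : N => χ n) ϑ ≠ 0) (c d : ℕ) (hc : χ 1 = c) (hd : ϑ 1 = d) : d ∣ c ∧ c / d ∣ N.index := by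
  classical
  have hN : N.Normal := inferInstance
  have hϑc := Cfsg.Agent.Lib.Char.IsIrrCharacter.isCharacter hϑ
  have hχc := Cfsg.Agent.Lib.Char.IsIrrCharacter.isCharacter hχ
  let T : Subgroup G := Cfsg.Agent.Lib.Char.inertia hN ϑ
  have hNT : N ≤ T := Cfsg.Agent.Lib.Char.le_inertia hN (Cfsg.Agent.Lib.Char.IsCharacter.isClassFunction hϑc)
  haveI : Fintype T := Fintype.ofFinite T
  obtain ⟨ψ, hψ, hind, hinner⟩ := Cfsg.Agent.Lib.Char.clifford_correspondence hN hϑ rfl hNT hχ hcon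
  have hresχ : Cfsg.IsCharacter N (fun n : N => χ n) := Cfsg.Agent.Lib.Char.IsCharacter.restrict N hχc
  obtain ⟨e, he⟩ := Cfsg.Agent.Lib.Char.classInner_isCharacter_nat hresχ hϑc
  have he0 : e ≠ 0 := by
    rintro rfl
    apply hcon
    rw [he]
    simp
  -- pass to the subgroup of `T`
  let H' : Subgroup T := N.subgroupOf T
  have hH' : H'.Normal := by
    refine ⟨fun n hn t => ?_⟩
    rw [Subgroup.mem_subgroupOf] at hn ⊢
    exact hN.conj_mem n hn t
  haveI : Fintype H' := Fintype.ofFinite H'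
  let ee : H' ≃* N := Subgroup.subgroupOfEquivOfLe hNT
  let θ' : H' → ℂ := ϑ ∘ ee
  have hθ' : Cfsg.IsIrrCharacter H' θ' := Cfsg.Agent.Lib.Char.isIrr_comp_equiv ee hϑ
  have hres : (fun n : H' => ψ n) = (fun n : N => ψ ⟨n, hNT n.2⟩) ∘ ee := by
    funext n
    simp only [Function.comp]
    congr 1
  have hcon' : Cfsg.classInner (fun n : H' => ψ n) θ' = e := by
    rw [hres, Cfsg.Agent.Lib.Char.classInner_comp_equiv ee, hinner, he]
  have hinv' : ∀ (g : T) (n : H'), θ' (Cfsg.Agent.Lib.Char.nconj H' g n) = θ' n := by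
    intro g n
    have hg : (g : G) ∈ Cfsg.Agent.Lib.Char.inertia hN ϑ := g.2
    rw [Cfsg.Agent.Lib.Char.mem_inertia_iff] at hg
    exact hg (ee n)
  have hdvd : e ∣ H'.index := Cfsg.Agent.Lib.Char.mult_dvd_index_of_invariant H' hθ' hinv' hψ hcon' he0
  -- degrees
  have hsm := Cfsg.Agent.Lib.Char.restrict_eq_smul_of_invariant hNT hψ hϑ
    (fun t _ n hn => hN.conj_mem n hn t)
    (fun t n => by
      have hg : (t : G) ∈ Cfsg.Agent.Lib.Char.inertia hN ϑ := t.2
      rw [Cfsg.Agent.Lib.Char.mem_inertia_iff] at hg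
      exact hg n) (by rw [hinner]; exact hcon)
  have hψ1 : ψ 1 = (e : ℂ) * d := by
    have h1 := congrFun hsm 1
    rw [hinner, he] at h1
    have h2 : (⟨((1 : N) : G), hNT (1 : N).2⟩ : T) = 1 := rfl
    simp only [h2, Pi.smul_apply, smul_eq_mul] at h1
    rw [h1]
    congr 1
  have hc1 : (c : ℂ) = (T.index : ℂ) * ((e : ℂ) * d) := by
    rw [← hc, ← hind, Cfsg.Agent.Lib.Char.indFun_one, hψ1]
  have hc2 : c = T.index * (e * d) := by exact_mod_cast hc1
  have hdpos : 0 < d := by
    have h1 := Cfsg.Agent.Lib.Char.map_one_eq_charDegree hϑc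
    have h2 := Cfsg.Agent.Lib.Char.charDegree_pos_of_irr hϑ
    have h3 : Cfsg.charDegree ϑ = d := by
      have : ((Cfsg.charDegree ϑ : ℕ) : ℂ) = d := by rw [← h1, hd]
      exact_mod_cast this
    omega
  refine ⟨⟨T.index * e, by rw [hc2]; ring⟩, ?_⟩
  have h4 : c / d = T.index * e := by
    rw [hc2, show T.index * (e * d) = (T.index * e) * d by ring, Nat.mul_div_cancel _ hdpos]
  rw [h4, ← Subgroup.relIndex_mul_index hNT, mul_comm T.index]
  exact mul_dvd_mul_right hdvd _

end Cfsg.Agent.S0887
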