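import Cfsg.Statements.S0994
import Mathlib
import Cfsg.Agent.Lib.SmallSimple.Tools

set_option autoImplicit false
open Cfsg

namespace Cfsg.Agent.S0994

/-- No finite simple group has order 1188 = 2^2 * 3^3 * 11. -/
theorem result {G : Type*} [Group G] [Finite G] [IsSimpleGroup G] : Nat.card G ≠ 1188 := by
  intro h
  have hnc : ¬ IsMulCommutative G := Lib.SmallSimple.not_comm_of_not_prime (by rw [h]; norm_num)
  haveI : Fact (Nat.Prime 11) := ⟨by norm_num⟩
  obtain ⟨h1, h2, h3, h4, h5⟩ := Lib.SmallSimple.sylow_facts (G := G) hnc 11 1 108 (by rw [h]; norm_num) (by norm_num) (by norm_num)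
  have h12 : Nat.card (Sylow 11 G) = 12 := by
    have : ∀ n, n ≤ 108 → n ∣ 108 → n % 11 = 1 → n ≠ 1 → n = 12 := by decide
    exact this _ (Nat.le_of_dvd (by norm_num) h1) h1 h2 h3
  obtain ⟨P⟩ : Nonempty (Sylow 11 G) := inferInstance
  obtain ⟨hP, hN⟩ := h5 P
  rw [pow_one] at hP
  rw [h12, h] at hN
  have hN99 : Nat.card (Subgroup.normalizer ((P : Subgroup G) : Set G)) = 99 := by omega
  haveI : IsCyclic (P : Subgroup G) := isCyclic_of_prime_card hP
  apply Lib.SmallSimple.false_of_coprime hnc (p := 11) (by rw [h]; norm_num) P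
  rw [hN99, hP, Nat.totient_prime (by norm_num)]
  norm_num

end Cfsg.Agent.S0994
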