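import Cfsg.Statements.S0999
import Mathlib
import Cfsg.Agent.Lib.BR.Small

set_option autoImplicit false
open Cfsg

namespace Cfsg.Agent.S0999

/-- Let G be a non-cyclic finite simple group and p a prime divisor of its order with p^3 > |G|. Then p > 3 and G is isomorphic to the projective special linear group of dimension 2 over the field with p elements, or p - 1 is a power of 2 and G is isomorphic to that group over the field with p - 1 elements. -/
theorem result {G : Type*} [Group G] [Finite G] [IsSimpleGroup G] (hG : ¬ IsCyclic G) (p : ℕ) (hp : p.Prime) (hdvd : p ∣ Nat.card G) (hbig : Nat.card G < p ^ 3) : (∃ (F : Type) (_ : Field F) (_ : Fintype F), Fintype.card F = p ∧ 3 < p ∧ Nonempty (G ≃* Matrix.ProjectiveSpecialLinearGroup (Fin 2) F)) ∨ (∃ (m : ℕ) (F : Type) (_ : Field F) (_ : Fintype F), Fintype.card F = 2 ^ m ∧ p = 2 ^ m + 1 ∧ 3 < p ∧ Nonempty (G ≃* Matrix.ProjectiveSpecialLinearGroup (Fin 2) F)) := by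
  classical
  haveI : Fintype G := Fintype.ofFinite G
  haveI hfp : Fact p.Prime := ⟨hp⟩
  have hnc : ¬ IsMulCommutative G := by
    intro hc
    apply hG
    letI inst2 : CommGroup G := { (inferInstance : Group G) with mul_comm := fun a b => hc.is_comm.comm a b }
    exact @IsSimpleGroup.isCyclic G inst2 ‹_›
  have hperf : commutator G = ⊤ := by
    rcases IsSimpleGroup.eq_bot_or_eq_top_of_normal (commutator G) inferInstance with h | h
    · exfalso
      apply hnc
      refine ⟨⟨fun a b => ?_⟩⟩
      rw [commutator_def, Subgroup.commutator_eq_bot_iff_le_centralizer] at h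
      exact (Subgroup.mem_centralizer_iff.mp (h (Subgroup.mem_top a)) b (Subgroup.mem_top b)).symm
    · exact h
  have hsq : ¬ p ^ 2 ∣ Nat.card G := by
    rintro ⟨k, hk⟩
    have hk0 : 0 < k := by
      rcases Nat.eq_zero_or_pos k with h | h
      · rw [h, mul_zero] at hk
        have := Nat.card_pos (α := G)
        omega
      · exact h
    have hkp : k < p := by
      rw [hk, pow_succ p 2] at hbig
      exact Nat.lt_of_mul_lt_mul_left hbig
    have hnd : ¬ p ∣ k := Nat.not_dvd_of_pos_of_lt hk0 hkp
    obtain ⟨h1, h2, h3, _⟩ := Lib.SmallSimple.sylow_facts hnc p 2 k hk hnd (by norm_num)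
    have h4 := Nat.le_of_dvd hk0 h1
    rw [Nat.mod_eq_of_lt (by omega)] at h2
    exact h3 h2
  obtain ⟨k, hk⟩ := hdvd
  have hnd : ¬ p ∣ k := by
    intro h
    apply hsq
    rw [hk, pow_two]
    exact mul_dvd_mul_left p h
  obtain ⟨h1, h2, h3, _, h4⟩ := Lib.SmallSimple.sylow_facts hnc p 1 k (by rw [pow_one, hk]) hnd one_ne_zero
  obtain ⟨P⟩ : Nonempty (Sylow p G) := inferInstance
  obtain ⟨hP, hPn⟩ := h4 P
  rw [pow_one] at hP
  obtain ⟨z, hz, hzP⟩ := Lib.SmallSimple.BA.exists_gen P hP
  obtain ⟨e, he1, he2, hN⟩ := Lib.SmallSimple.BA.norm_data hnc P hP hz hzP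
  have hzC : p ∣ Nat.card (Subgroup.centralizer ({z} : Set G)) := by
    rw [← hz, ← Nat.card_zpowers]
    apply Subgroup.card_dvd_of_le
    rw [Subgroup.zpowers_le, Subgroup.mem_centralizer_singleton_iff]
  obtain ⟨c, hc⟩ := hzC
  obtain ⟨n, hn⟩ : ∃ n, Nat.card (Sylow p G) = 1 + n * p := by
    refine ⟨Nat.card (Sylow p G) / p, ?_⟩
    have := Nat.div_add_mod (Nat.card (Sylow p G)) p
    rw [h2] at this
    rw [mul_comm]
    omega
  have hcardG : Nat.card G = p * ((e * c) * (1 + n * p)) := by
    rw [← hPn, hn, ← hzP, hN, hc]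
    ring
  have hn1 : 1 ≤ n := by
    rcases Nat.eq_zero_or_pos n with h | h
    · rw [h, zero_mul, add_zero] at hn
      exact absurd hn h3
    · exact h
  have hlt : (e * c) * (1 + n * p) < p ^ 2 := by
    rw [hcardG, pow_succ p 2, mul_comm (p ^ 2) p] at hbig
    exact Nat.lt_of_mul_lt_mul_left hbig
  have hbig' : (e * c) * n < p := by
    by_contra h
    push Not at h
    have h5 : p * p ≤ ((e * c) * n) * p := Nat.mul_le_mul_right _ h
    have h6 : (e * c) * (1 + n * p) = e * c + ((e * c) * n) * p := by ring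
    have h7 : p ^ 2 = p * p := pow_two p
    omega
  have hC : Subgroup.centralizer ({z} : Set G) = Subgroup.zpowers z := by
    rcases Nat.lt_or_ge n 2 with h | h
    · have hn3 : n = 1 := by omega
      have hn4 : Nat.card (Sylow p G) = p + 1 := by rw [hn, hn3]; ring
      refine Lib.BR.cent_eq_of_one hz hzP.symm hn4 ?_
      intro g hg
      rcases IsSimpleGroup.eq_bot_or_eq_top_of_normal (MulAction.toPermHom G (Sylow p G)).ker inferInstance with h5 | h5
      · have h6 : g ∈ (MulAction.toPermHom G (Sylow p G)).ker := by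
          rw [MonoidHom.mem_ker]
          apply Equiv.ext
          intro Q
          exact hg Q
        rw [h5, Subgroup.mem_bot] at h6
        exact h6
      · exfalso
        apply h3
        rw [Nat.card_eq_one_iff_unique]
        refine ⟨⟨fun Q₁ Q₂ => ?_⟩, ⟨P⟩⟩
        obtain ⟨x, hx⟩ := MulAction.exists_smul_eq G Q₁ Q₂
        have h6 : x ∈ (MulAction.toPermHom G (Sylow p G)).ker := by rw [h5]; trivial
        rw [MonoidHom.mem_ker] at h6
        have h7 := congrArg (fun f : Equiv.Perm (Sylow p G) => f Q₁) h6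
        change x • Q₁ = Q₁ at h7
        rw [← hx, h7]
    · exact Lib.BR.cent_eq_of_ge_two hnc hz hsq he2 hN hc hcardG h hbig'
  have he0 : e ≠ 0 := by
    rintro rfl
    have h5 := hp.two_le
    have := Nat.eq_zero_of_zero_dvd he1
    omega
  have hc0 : c ≠ 0 := by
    rintro rfl
    rw [mul_zero] at hc
    have := Nat.card_pos (α := Subgroup.centralizer ({z} : Set G))
    omega
  have hn' : 2 * Nat.card (Sylow p G) < (p + 1) * (p + 2) := by
    have h5 : 2 ≤ e * c := by
      have : 2 ≤ e := by omega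
      exact le_trans this (Nat.le_mul_of_pos_right _ (Nat.pos_of_ne_zero hc0))
    have h6 : 2 * (1 + n * p) ≤ (e * c) * (1 + n * p) := Nat.mul_le_mul_right _ h5
    have h7 : (p + 1) * (p + 2) = p ^ 2 + 3 * p + 2 := by ring
    rw [hn]
    omega
  exact Cfsg.Agent.S0996.result hperf p z hz hC hn'

end Cfsg.Agent.S0999
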