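import Cfsg.Statements.S1124
import Mathlib

set_option autoImplicit false
open scoped Pointwise
open Cfsg

namespace Cfsg.Agent.S1124


open scoped Pointwise in
private lemma sq_inj_aux {M : Type*} [Group M] [Finite M] (X : Subgroup M)
    (hodd : Odd (Nat.card X)) {a b : M} (ha : a ∈ X) (hb : b ∈ X) (h : a * a = b * b) : a = b := by
  obtain ⟨k, hk⟩ := hodd
  have hpow : ∀ c ∈ X, (c ^ 2) ^ (k + 1) = c := by
    intro c hc
    have : c ^ Nat.card X = 1 := by
      have h := congrArg Subtype.val (pow_card_eq_one' (x := (⟨c, hc⟩ : X)))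
      simpa only [SubmonoidClass.coe_pow, OneMemClass.coe_one] using h
    rw [← pow_mul, show 2 * (k + 1) = Nat.card X + 1 by omega, pow_succ, this, one_mul]
  rw [← hpow a ha, ← hpow b hb, pow_two, pow_two, h]

/-- Let `t` be an element of order 2 of a finite group normalising a subgroup `X` of odd order, `Y = C_X(t)` and `Z` the set of elements of `X` inverted by `t`. Then `(y, z) ↦ y z` is a bijection `Y × Z → X`, so `|X| = |Y| |Z|`, and the subgroup generated by `Z` is normal in `X`. -/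
theorem result {M : Type*} [Group M] [Finite M]
    (t : M) (ht : orderOf t = 2) (X : Subgroup M) (hodd : Odd (Nat.card X))
    (hnorm : ∀ x ∈ X, t * x * t⁻¹ ∈ X) :
    (∀ x ∈ X, ∃! p : M × M, p.1 ∈ X ⊓ Subgroup.centralizer {t} ∧ p.2 ∈ Cfsg.invertedBy X t ∧ x = p.1 * p.2) ∧
      Nat.card X = Nat.card ↥(X ⊓ Subgroup.centralizer {t}) * Nat.card (Cfsg.invertedBy X t) ∧
      ∀ x ∈ X, MulAut.conj x • Subgroup.closure (Cfsg.invertedBy X t) = Subgroup.closure (Cfsg.invertedBy X t) := by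
  classical
  have ht2 : t * t = 1 := by rw [← pow_two, ← ht, pow_orderOf_eq_one]
  have htinv : t⁻¹ = t := inv_eq_of_mul_eq_one_left ht2
  obtain ⟨k, hk⟩ := hodd
  have hpow : ∀ c ∈ X, (c ^ (k + 1)) ^ 2 = c := by
    intro c hc
    have : c ^ Nat.card X = 1 := by
      have h := congrArg Subtype.val (pow_card_eq_one' (x := (⟨c, hc⟩ : X)))
      simpa only [SubmonoidClass.coe_pow, OneMemClass.coe_one] using h
    rw [← pow_mul, show (k + 1) * 2 = Nat.card X + 1 by omega, pow_succ, this, one_mul]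
  have hconjpow : ∀ (c : M) (n : ℕ), t * c ^ n * t⁻¹ = (t * c * t⁻¹) ^ n := fun c n => (conj_pow).symm
  have hinvpow : ∀ c ∈ Cfsg.invertedBy X t, ∀ n : ℕ, c ^ n ∈ Cfsg.invertedBy X t := by
    intro c hc n
    refine ⟨X.pow_mem hc.1 n, ?_⟩
    rw [hconjpow, hc.2, inv_pow]
  -- existence and uniqueness
  have hex : ∀ x ∈ X, ∃! p : M × M, p.1 ∈ X ⊓ Subgroup.centralizer {t} ∧
      p.2 ∈ Cfsg.invertedBy X t ∧ x = p.1 * p.2 := by
    intro x hx
    set s := (t * x * t⁻¹)⁻¹ * x with hs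
    have hsX : s ∈ X := X.mul_mem (X.inv_mem (hnorm x hx)) hx
    have hsinv : s ∈ Cfsg.invertedBy X t := by
      refine ⟨hsX, ?_⟩
      simp only [hs, mul_inv_rev, inv_inv, htinv]
      have : t * ((t * x⁻¹ * t) * x) * t = (t * t) * x⁻¹ * (t * x * t) := by group
      simp only [ht2, one_mul] at this
      have h2 : t * (t⁻¹ * (x⁻¹ * t⁻¹) * x) * t = x⁻¹ * (t * x * t) := by
        rw [htinv]; convert this using 2
        simp [mul_assoc]
      simpa [htinv, mul_assoc] using h2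
    set z := s ^ (k + 1) with hz
    have hzZ : z ∈ Cfsg.invertedBy X t := hinvpow s hsinv _
    have hzsq : z ^ 2 = s := hpow s hsX
    refine ⟨(x * z⁻¹, z), ⟨⟨X.mul_mem hx (X.inv_mem hzZ.1), ?_⟩, hzZ, by simp⟩, ?_⟩
    · show _ ∈ Subgroup.centralizer {t}
      rw [Subgroup.mem_centralizer_singleton_iff]
      -- x z⁻¹ * t = t * (x z⁻¹)
      have h1 : t * z⁻¹ * t⁻¹ = z := by
        rw [← conj_inv, hzZ.2, inv_inv]
      have h2 : t * x * t⁻¹ * z * z = x := by
        rw [mul_assoc, ← pow_two, hzsq, hs]; group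
      have h3 : t * (x * z⁻¹) * t⁻¹ = x * z⁻¹ := by
        have : t * (x * z⁻¹) * t⁻¹ = (t * x * t⁻¹) * (t * z⁻¹ * t⁻¹) := by group
        rw [this, h1]
        exact eq_mul_inv_of_mul_eq h2
      exact (mul_inv_eq_iff_eq_mul.mp h3).symm
    · rintro ⟨y', z'⟩ ⟨⟨hy'X, hy'C⟩, hz'Z, hxe⟩
      simp only at hy'X hy'C hz'Z hxe
      replace hy'C : y' ∈ Subgroup.centralizer {t} := hy'C
      rw [Subgroup.mem_centralizer_singleton_iff] at hy'C
      have hy't : t * y' * t⁻¹ = y' := by rw [← hy'C]; group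
      have hs' : z' * z' = s := by
        have : t * x * t⁻¹ = y' * z'⁻¹ := by
          rw [hxe]
          have : t * (y' * z') * t⁻¹ = (t * y' * t⁻¹) * (t * z' * t⁻¹) := by group
          rw [this, hy't, hz'Z.2]
        rw [hs, this, hxe]; group
      have hzz : z' = z := sq_inj_aux X ⟨k, hk⟩ hz'Z.1 hzZ.1 (by rw [hs', ← pow_two, hzsq])
      have hyy : y' = x * z⁻¹ := by rw [hxe, hzz]; group
      rw [hzz, hyy]
  refine ⟨hex, ?_, ?_⟩
  · -- counting
    have hbij : Function.Bijective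
        (fun p : ↥(X ⊓ Subgroup.centralizer {t}) × ↥(Cfsg.invertedBy X t) =>
          (⟨(p.1 : M) * (p.2 : M), X.mul_mem p.1.2.1 p.2.2.1⟩ : X)) := by
      constructor
      · rintro ⟨⟨y, hy⟩, ⟨z, hz⟩⟩ ⟨⟨y', hy'⟩, ⟨z', hz'⟩⟩ h
        simp only [Subtype.mk.injEq] at h
        obtain ⟨p, -, hp⟩ := hex (y * z) (X.mul_mem hy.1 hz.1)
        have h1 := hp (y, z) ⟨hy, hz, rfl⟩
        have h2 := hp (y', z') ⟨hy', hz', h⟩
        have := h1.trans h2.symm
        simp only [Prod.mk.injEq] at this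
        simp [this.1, this.2]
      · rintro ⟨x, hx⟩
        obtain ⟨p, ⟨hp1, hp2, hp3⟩, -⟩ := hex x hx
        exact ⟨(⟨p.1, hp1⟩, ⟨p.2, hp2⟩), by simp [hp3]⟩
    rw [← Nat.card_congr (Equiv.ofBijective _ hbij), Nat.card_prod]
  · -- normality
    have hconj : ∀ x ∈ X, ∀ z ∈ Cfsg.invertedBy X t,
        x * z * x⁻¹ ∈ Subgroup.closure (Cfsg.invertedBy X t) := by
      intro x hx z hz
      obtain ⟨p, ⟨⟨hp1X, hp1C⟩, hp2, hp3⟩, -⟩ := hex x hx
      replace hp1C : p.1 ∈ Subgroup.centralizer {t} := hp1C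
      rw [Subgroup.mem_centralizer_singleton_iff] at hp1C
      have hy't : t * p.1 * t⁻¹ = p.1 := by rw [← hp1C]; group
      -- p.2 z p.2⁻¹ = (p.2 z p.2) * p.2⁻² ; conj by p.1 preserves inverted
      have hyconj : ∀ w ∈ Cfsg.invertedBy X t, p.1 * w * p.1⁻¹ ∈ Cfsg.invertedBy X t := by
        intro w hw
        refine ⟨X.mul_mem (X.mul_mem hp1X hw.1) (X.inv_mem hp1X), ?_⟩
        have : t * (p.1 * w * p.1⁻¹) * t⁻¹ = (t * p.1 * t⁻¹) * (t * w * t⁻¹) * (t * p.1 * t⁻¹)⁻¹ := by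
          group
        rw [this, hy't, hw.2]; group
      have hmid : p.2 * z * p.2 ∈ Cfsg.invertedBy X t := by
        refine ⟨X.mul_mem (X.mul_mem hp2.1 hz.1) hp2.1, ?_⟩
        have : t * (p.2 * z * p.2) * t⁻¹ = (t * p.2 * t⁻¹) * (t * z * t⁻¹) * (t * p.2 * t⁻¹) := by
          group
        rw [this, hp2.2, hz.2]; group
      have hinv : p.2⁻¹ ∈ Cfsg.invertedBy X t := by
        refine ⟨X.inv_mem hp2.1, ?_⟩
        have h0 := hp2.2
        have : t * p.2⁻¹ * t⁻¹ = (t * p.2 * t⁻¹)⁻¹ := by group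
        rw [this, h0]
      have he : x * z * x⁻¹ = (p.1 * (p.2 * z * p.2) * p.1⁻¹) * (p.1 * p.2⁻¹ * p.1⁻¹) *
          (p.1 * p.2⁻¹ * p.1⁻¹) := by
        rw [hp3]; group
      rw [he]
      exact Subgroup.mul_mem _ (Subgroup.mul_mem _ (Subgroup.subset_closure (hyconj _ hmid))
        (Subgroup.subset_closure (hyconj _ hinv))) (Subgroup.subset_closure (hyconj _ hinv))
    have hle : ∀ x ∈ X, MulAut.conj x • Subgroup.closure (Cfsg.invertedBy X t) ≤
        Subgroup.closure (Cfsg.invertedBy X t) := by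
      intro x hx
      intro w hw
      rw [Subgroup.mem_pointwise_smul_iff_inv_smul_mem] at hw
      have key : Subgroup.closure (Cfsg.invertedBy X t) ≤
          (Subgroup.closure (Cfsg.invertedBy X t)).comap (MulAut.conj x).toMonoidHom := by
        rw [Subgroup.closure_le]
        intro z hz
        exact hconj x hx z hz
      have := key hw
      have e : x * (x⁻¹ * w * x) * x⁻¹ = w := by group
      simpa [e] using this
    intro x hx
    apply le_antisymm (hle x hx)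
    intro w hw
    have h1 := hle x⁻¹ (X.inv_mem hx) (Subgroup.smul_mem_pointwise_smul w (MulAut.conj x⁻¹) _ hw)
    rw [Subgroup.mem_pointwise_smul_iff_inv_smul_mem]
    simpa using h1


end Cfsg.Agent.S1124
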