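import Cfsg.Statements.S1249
import Mathlib
import Cfsg.Agent.Lib.Invol.Isolated
import Cfsg.Agent.Lib.Techniques.SylowIn

set_option autoImplicit false
open Cfsg

namespace Cfsg.Agent.S1249

/-- Let P and Q be Sylow p-subgroups of the finite group G both containing the subgroup A. If A is strongly closed in P, then A is strongly closed in Q. -/
theorem result {G : Type*} [Group G] [Finite G] {p : ℕ} [Fact p.Prime] (P Q : Sylow p G) (A : Subgroup G) (hAQ : A ≤ Q) (hA : Cfsg.IsStronglyClosed A (P : Subgroup G)) : Cfsg.IsStronglyClosed A (Q : Subgroup G) := by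
  open Cfsg.Agent.Lib.Invol Cfsg.Agent.Lib.Techniques in
  obtain ⟨hAP, hcl⟩ := hA
  refine ⟨hAQ, fun x hx g hg => ?_⟩
  obtain ⟨k, hk⟩ := map_conj_le_of_sylow P Q
  have hk' : conjS k (P : Subgroup G) = Q := hk
  have hin : ∀ z, z ∈ (Q : Subgroup G) → k⁻¹ * z * k ∈ (P : Subgroup G) := by
    intro z hz
    rw [← hk'] at hz
    exact mem_conjS.1 hz
  have h1 : conjS k⁻¹ A ≤ A := by
    rintro _ ⟨a, ha, rfl⟩
    have := hcl a ha k⁻¹ (by rw [inv_inv]; exact hin a (hAQ ha))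
    exact this
  have h2 : conjS k⁻¹ A = A := Subgroup.eq_of_le_of_card_ge h1 (by rw [card_conjS])
  have h3 : k⁻¹ * (g * x * g⁻¹) * k ∈ A := by
    have e : k⁻¹ * (g * x * g⁻¹) * k = (k⁻¹ * g) * x * (k⁻¹ * g)⁻¹ := by group
    rw [e]
    apply hcl x hx
    rw [← e]
    exact hin _ hg
  rw [← h2, mem_conjS, inv_inv] at h3
  have e : k * (k⁻¹ * (g * x * g⁻¹) * k) * k⁻¹ = g * x * g⁻¹ := by group
  rwa [e] at h3

end Cfsg.Agent.S1249
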