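import Cfsg.Statements.S1250
import Mathlib
import Cfsg.Agent.Lib.Invol.Isolated
import Cfsg.Agent.Lib.Techniques.SylowIn

set_option autoImplicit false
open Cfsg

namespace Cfsg.Agent.S1250

/-- Let S be a Sylow p-subgroup of the finite group G, A ≤ S strongly closed in S, and N a normal subgroup. Then the image of A in G ⧸ N is strongly closed in the image of S (which is a Sylow p-subgroup of G ⧸ N). -/
theorem result {G : Type*} [Group G] [Finite G] {p : ℕ} [Fact p.Prime] (S : Sylow p G) (A : Subgroup G) (hA : Cfsg.IsStronglyClosed A (S : Subgroup G)) (N : Subgroup G) [N.Normal] : Cfsg.IsStronglyClosed (A.map (QuotientGroup.mk' N)) ((S : Subgroup G).map (QuotientGroup.mk' N)) := by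
  open Cfsg.Agent.Lib.Invol Cfsg.Agent.Lib.Techniques in
  obtain ⟨hAS, hcl⟩ := hA
  refine ⟨Subgroup.map_mono hAS, ?_⟩
  rintro _ ⟨a, ha, rfl⟩ xb hy
  obtain ⟨g, rfl⟩ := QuotientGroup.mk'_surjective N xb
  obtain ⟨s, hs, hsy⟩ := hy
  set y := g * a * g⁻¹ with hydef
  have hmk : QuotientGroup.mk' N s = QuotientGroup.mk' N y := by
    rw [hsy, hydef]; simp
  -- `y` lies in `S ⊔ N`
  have hyW : y ∈ (S : Subgroup G) ⊔ N := by
    have h1 : s⁻¹ * y ∈ N := QuotientGroup.eq.1 hmk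
    have : y = s * (s⁻¹ * y) := by group
    rw [this]
    exact Subgroup.mul_mem_sup hs h1
  -- `y` is a `p`-element
  have hap : ∃ n, orderOf a = p ^ n := by
    have := (IsPGroup.iff_orderOf.1 S.isPGroup') ⟨a, hAS ha⟩
    simpa using this
  obtain ⟨n, hn⟩ := hap
  have hyp : orderOf y = p ^ n := by rw [hydef, orderOf_conj_eq, hn]
  have hsyl : SylowIn p (S : Subgroup G) ((S : Subgroup G) ⊔ N) :=
    (sylowIn_top_of_sylow S).of_le le_sup_left le_top
  have hzle : Subgroup.zpowers y ≤ (S : Subgroup G) ⊔ N := by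
    rw [Subgroup.zpowers_le]; exact hyW
  obtain ⟨h, hhW, hle⟩ := hsyl.exists_conj_le hzle (isPGroup_zpowers_of_orderOf n hyp)
  have hyS : h * y * h⁻¹ ∈ (S : Subgroup G) := hle (conj_mem_conjS (Subgroup.mem_zpowers y))
  obtain ⟨s', hs', n', hn', rfl⟩ := Subgroup.mem_sup_of_normal_right.1 hhW
  -- `n' * y * n'⁻¹ ∈ A`
  have hb : n' * y * n'⁻¹ ∈ A := by
    have e : n' * y * n'⁻¹ = (s'⁻¹ * (s' * n') * g) * a * (s'⁻¹ * (s' * n') * g)⁻¹ := by
      rw [hydef]; group
    have hmem : n' * y * n'⁻¹ ∈ (S : Subgroup G) := by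
      have e2 : n' * y * n'⁻¹ = s'⁻¹ * ((s' * n') * y * (s' * n')⁻¹) * s' := by group
      rw [e2]
      exact Subgroup.mul_mem _ (Subgroup.mul_mem _ (Subgroup.inv_mem _ hs') hyS) hs'
    rw [e] at hmem ⊢
    exact hcl a ha _ hmem
  refine ⟨n' * y * n'⁻¹, hb, ?_⟩
  have h6 : QuotientGroup.mk' N n' = 1 := by
    rw [QuotientGroup.mk'_apply, QuotientGroup.eq_one_iff]; exact hn'
  rw [map_mul, map_mul, map_inv, h6, one_mul, inv_one, mul_one, hydef]
  simp

end Cfsg.Agent.S1250
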