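import Cfsg.Statements.S1251
import Mathlib
import Cfsg.Agent.Lib.Invol.ZCyc2

set_option autoImplicit false
open Cfsg

namespace Cfsg.Agent.S1251

open Subgroup Cfsg.Agent.Lib.Invol

/-- The core of the argument, in an abstract group `W = H A`. -/
theorem core {W : Type*} [Group W] [Finite W] (H A : Subgroup W) [hHn : H.Normal]
    (hO : ∀ N : Subgroup W, N ≤ H → (∀ h ∈ H, ∀ x ∈ N, h * x * h⁻¹ ∈ N) → Odd (Nat.card N) → N = ⊥)
    (hW : ∀ w : W, ∃ h ∈ H, ∃ b ∈ A, w = h * b) (hdisj : ∀ x ∈ A, x ∈ H → x = 1)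
    (T : Sylow 2 W) (hAT : A ≤ (T : Subgroup W))
    (hsc : ∀ x ∈ A, ∀ g : W, g * x * g⁻¹ ∈ (T : Subgroup W) → g * x * g⁻¹ ∈ A) :
    ∀ a ∈ A, ∀ h ∈ H, a * h = h * a := by
  classical
  haveI : Fact (Nat.Prime 2) := ⟨Nat.prime_two⟩
  -- the centralizer of `H` in `A`
  set A₀ : Subgroup W := A ⊓ Subgroup.centralizer (H : Set W) with hA₀
  have hcent : ∀ x : W, x ∈ Subgroup.centralizer (H : Set W) ↔ ∀ h ∈ H, h * x = x * h :=
    fun x => Subgroup.mem_centralizer_iff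
  have hA₀n : A₀.Normal := by
    constructor
    rintro x ⟨hxA, hxC⟩ g
    obtain ⟨h, hh, b, hb, rfl⟩ := hW g
    have hb1 : b * x * b⁻¹ ∈ A := A.mul_mem (A.mul_mem hb hxA) (A.inv_mem hb)
    have hb2 : b * x * b⁻¹ ∈ Subgroup.centralizer (H : Set W) := by
      rw [hcent]
      intro k hk
      have h1 := (hcent x).mp hxC _ (hHn.conj_mem k hk b⁻¹)
      simp only [inv_inv] at h1
      calc k * (b * x * b⁻¹) = b * (b⁻¹ * k * b * x) * b⁻¹ := by group
        _ = b * (x * (b⁻¹ * k * b)) * b⁻¹ := by rw [h1]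
        _ = b * x * b⁻¹ * k := by group
    have e : h * b * x * (h * b)⁻¹ = h * (b * x * b⁻¹) * h⁻¹ := by group
    rw [e]
    have h2 := (hcent _).mp hb2 h hh
    rw [h2]
    have e2 : b * x * b⁻¹ * h * h⁻¹ = b * x * b⁻¹ := by group
    rw [e2]
    exact ⟨hb1, hb2⟩
  by_cases hall : A ≤ A₀
  · intro a ha h hh
    exact ((hcent a).mp (hall ha).2 h hh).symm
  exfalso
  set π : W →* W ⧸ A₀ := QuotientGroup.mk' A₀ with hπ
  have hπs : Function.Surjective π := QuotientGroup.mk'_surjective A₀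
  have hAp : IsPGroup 2 A := T.isPGroup'.to_le hAT
  have hAb : A.map π ≠ ⊥ := by
    intro h
    apply hall
    intro a ha
    have h1 : π a = 1 := by
      have : π a ∈ A.map π := Subgroup.mem_map_of_mem _ ha
      rw [h, Subgroup.mem_bot] at this
      exact this
    exact (QuotientGroup.eq_one_iff a).mp h1
  obtain ⟨zb, hzb, hz2, hzc⟩ := exists_central_involution (A.map π) (hAp.map _) hAb
  obtain ⟨a, ha, rfl⟩ := hzb
  -- the map `π` is injective on `H`
  have hπH : ∀ x ∈ H, π x = 1 → x = 1 := by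
    intro x hx h1
    have h2 : x ∈ A₀ := (QuotientGroup.eq_one_iff x).mp h1
    exact hdisj x h2.1 hx
  -- isolated
  have hconj : ∀ g : W, π (g * a * g⁻¹) ∈ (T : Subgroup W).map π → π (g * a * g⁻¹) = π a := by
    intro g hg
    obtain ⟨t, ht, hte⟩ := hg
    have hmem : t⁻¹ * (g * a * g⁻¹) ∈ A₀ := by
      rw [← QuotientGroup.eq]
      exact hte
    have hA₀T : A₀ ≤ (T : Subgroup W) := inf_le_left.trans hAT
    have hmemT : g * a * g⁻¹ ∈ (T : Subgroup W) := by
      have e : g * a * g⁻¹ = t * (t⁻¹ * (g * a * g⁻¹)) := by group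
      rw [e]
      exact Subgroup.mul_mem _ ht (hA₀T hmem)
    have hmemA := hsc a ha g hmemT
    obtain ⟨h, hh, b, hb, rfl⟩ := hW g
    set c := b * a * b⁻¹ with hc
    have hcA : c ∈ A := A.mul_mem (A.mul_mem hb ha) (A.inv_mem hb)
    have e1 : h * b * a * (h * b)⁻¹ = h * c * h⁻¹ := by rw [hc]; group
    rw [e1] at hmemA ⊢
    have h3 : h * c * h⁻¹ * c⁻¹ ∈ A := A.mul_mem hmemA (A.inv_mem hcA)
    have h4 : h * c * h⁻¹ * c⁻¹ ∈ H := by
      have e2 : h * c * h⁻¹ * c⁻¹ = h * (c * h⁻¹ * c⁻¹) := by group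
      rw [e2]
      exact H.mul_mem hh (hHn.conj_mem _ (H.inv_mem hh) c)
    have h5 := hdisj _ h3 h4
    have h6 : h * c * h⁻¹ = c := mul_inv_eq_one.mp h5
    rw [h6, hc, map_mul, map_mul, map_inv]
    have h7 : π b * π a = π a * π b := hzc (π b) (Subgroup.mem_map_of_mem _ hb)
    rw [h7]
    group
  have hiso : IsIsolatedInvolution (π a) := by
    apply isolated_of_sylow (T.mapSurjective hπs) hz2
    intro gb hgb
    obtain ⟨g, rfl⟩ := hπs gb
    have hgb' : π g * π a * (π g)⁻¹ ∈ ((T.mapSurjective hπs : Sylow 2 _) : Subgroup _) := hgb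
    rw [Sylow.coe_mapSurjective] at hgb'
    have := hconj g (by rwa [map_mul, map_mul, map_inv])
    rwa [map_mul, map_mul, map_inv] at this
  -- the odd core of the quotient is trivial
  have hO' : oddCore (W ⧸ A₀) = ⊥ := by
    set Ob : Subgroup (W ⧸ A₀) := oddCore (W ⧸ A₀) with hOb
    haveI hObn : Ob.Normal := by
      rw [hOb]; unfold oddCore; infer_instance
    have hObo : Odd (Nat.card Ob) := odd_card_oddCore
    set L : Subgroup W := Ob.comap π with hL
    have hLn : L.Normal := Subgroup.Normal.comap hObn π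
    have hN : L ⊓ H = ⊥ := by
      apply hO _ inf_le_right
      · rintro h hh x ⟨hx1, hx2⟩
        exact ⟨hLn.conj_mem x hx1 h, H.mul_mem (H.mul_mem hh hx2) (H.inv_mem hh)⟩
      · let f : ↥(L ⊓ H) →* Ob := (π.comp (L ⊓ H).subtype).codRestrict Ob (fun x => x.2.1)
        have hf : Function.Injective f := by
          rw [injective_iff_map_eq_one]
          intro x hx
          have h1 : π x = 1 := congrArg Subtype.val hx
          exact Subtype.ext (hπH _ x.2.2 h1)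
        exact Odd.of_dvd_nat hObo (Subgroup.card_dvd_of_injective f hf)
    rw [eq_bot_iff]
    intro y hy
    obtain ⟨l, rfl⟩ := hπs y
    have hlL : l ∈ L := hy
    obtain ⟨h, hh, b, hb, rfl⟩ := hW l
    obtain ⟨m, hm⟩ := hAp ⟨b, hb⟩
    have hbm : b ^ (2 ^ m) = 1 := by
      have := congrArg Subtype.val hm
      simpa using this
    have hl1 : (h * b) ^ (2 ^ m) ∈ H := by
      have h1 : ((QuotientGroup.mk' H) (h * b)) = (QuotientGroup.mk' H) b := by
        have h0 : (QuotientGroup.mk' H) h = 1 := (QuotientGroup.eq_one_iff h).mpr hh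
        rw [map_mul, h0, one_mul]
      have h2 : (QuotientGroup.mk' H) ((h * b) ^ (2 ^ m)) = 1 := by
        rw [map_pow, h1, ← map_pow, hbm, map_one]
      exact (QuotientGroup.eq_one_iff _).mp h2
    have hl2 : (h * b) ^ (2 ^ m) ∈ L ⊓ H := ⟨L.pow_mem hlL _, hl1⟩
    rw [hN, Subgroup.mem_bot] at hl2
    have hy1 : (π (h * b)) ^ (2 ^ m) = 1 := by rw [← map_pow, hl2, map_one]
    have hy2 : (⟨π (h * b), hy⟩ : Ob) ^ (2 ^ m) = 1 := Subtype.ext (by simpa using hy1)
    have hy3 : orderOf (⟨π (h * b), hy⟩ : Ob) ∣ 2 ^ m := orderOf_dvd_of_pow_eq_one hy2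
    have hy4 : Odd (orderOf (⟨π (h * b), hy⟩ : Ob)) := Odd.of_dvd_nat hObo (orderOf_dvd_natCard _)
    have hy5 : orderOf (⟨π (h * b), hy⟩ : Ob) = 1 := by
      obtain ⟨k, _, hk⟩ := (Nat.dvd_prime_pow Nat.prime_two).mp hy3
      rcases k with _ | k
      · simpa using hk
      · rw [hk, pow_succ] at hy4
        exact absurd hy4 (by simp)
    have hy6 := orderOf_eq_one_iff.mp hy5
    rw [Subgroup.mem_bot]
    exact congrArg Subtype.val hy6
  have hcen := zstar_center hiso hO'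
  rw [Subgroup.mem_center_iff] at hcen
  have hae : a ∈ A₀ := by
    refine ⟨ha, (hcent a).mpr ?_⟩
    intro h hh
    have h1 : π (a * h * a⁻¹ * h⁻¹) = 1 := by
      rw [map_mul, map_mul, map_mul, map_inv, map_inv, ← hcen (π h)]
      group
    have h2 : a * h * a⁻¹ * h⁻¹ ∈ A₀ := (QuotientGroup.eq_one_iff _).mp h1
    have h3 : a * h * a⁻¹ * h⁻¹ ∈ H := H.mul_mem (hHn.conj_mem h hh a) (H.inv_mem hh)
    have h4 := hdisj _ h2.1 h3
    have h5 : a * h * a⁻¹ = h := mul_inv_eq_one.mp h4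
    calc h * a = a * h * a⁻¹ * a := by rw [h5]
      _ = a * h := by group
  have h1 : π a = 1 := (QuotientGroup.eq_one_iff a).mpr hae
  rw [h1, orderOf_one] at hz2
  exact absurd hz2 (by norm_num)


/-- Let S be a Sylow 2-subgroup of the finite group G and A ≤ S strongly closed in S. If H is a subgroup normalized by A with no nontrivial normal subgroup of odd order and A ∩ H = 1, then A ≤ C_G(H). -/
theorem result {G : Type*} [Group G] [Finite G] (S : Sylow 2 G) (A : Subgroup G) (hA : Cfsg.IsStronglyClosed A (S : Subgroup G)) (H : Subgroup G) (hAH : A ≤ Subgroup.normalizer (H : Set G)) (hO : Cfsg.oddCore ↥H = ⊥) (hdisj : A ⊓ H = ⊥) : A ≤ Subgroup.centralizer (H : Set G) := by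
  classical
  haveI : Fact (Nat.Prime 2) := ⟨Nat.prime_two⟩
  set W : Subgroup G := H ⊔ A with hWd
  have hHW : H ≤ W := le_sup_left
  have hAW : A ≤ W := le_sup_right
  set H' : Subgroup W := H.subgroupOf W with hH'
  set A' : Subgroup W := A.subgroupOf W with hA'
  have hH'n : H'.Normal := by
    rw [hH', Subgroup.normal_subgroupOf_iff_le_normalizer hHW]
    exact sup_le Subgroup.le_normalizer hAH
  have hsup : H' ⊔ A' = ⊤ := by
    rw [hH', hA', ← Subgroup.subgroupOf_sup hHW hAW, ← hWd, Subgroup.subgroupOf_self]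
  have hW : ∀ w : W, ∃ h ∈ H', ∃ b ∈ A', w = h * b := by
    intro w
    have h1 : (w : W) ∈ ((H' ⊔ A' : Subgroup W) : Set W) := by rw [hsup]; simp
    rw [Subgroup.normal_mul] at h1
    obtain ⟨h, hh, b, hb, e⟩ := Set.mem_mul.mp h1
    exact ⟨h, hh, b, hb, e.symm⟩
  have hAp : IsPGroup 2 A' := (S.isPGroup'.to_le hA.1).comap_of_injective W.subtype W.subtype_injective
  obtain ⟨T, hT⟩ := hAp.exists_le_sylow
  -- the image of `T` lies in a Sylow subgroup of `G`
  have hTp : IsPGroup 2 ((T : Subgroup W).map W.subtype) := T.isPGroup'.map _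
  obtain ⟨S', hS'⟩ := hTp.exists_le_sylow
  obtain ⟨g₀, hg₀⟩ : ∃ g₀ : G, g₀ • S = S' := MulAction.exists_smul_eq _ _ _
  have hAS' : A ≤ (S' : Subgroup G) := by
    intro x hx
    apply hS'
    exact ⟨⟨x, hAW hx⟩, hT hx, rfl⟩
  have hmemS' : ∀ x : G, x ∈ (S' : Subgroup G) ↔ g₀⁻¹ * x * g₀ ∈ (S : Subgroup G) := by
    intro x
    rw [← hg₀, Sylow.coe_subgroup_smul, Subgroup.mem_pointwise_smul_iff_inv_smul_mem]
    simp [MulAut.smul_def, MulAut.conj_apply]
  set A2 : Subgroup G := A.map (MulAut.conj g₀).toMonoidHom with hA2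
  have hA2mem : ∀ x, x ∈ A2 ↔ g₀⁻¹ * x * g₀ ∈ A := by
    intro x
    rw [hA2, Subgroup.mem_map_equiv]
    simp [MulAut.conj_symm_apply]
  have hclosed : ∀ x ∈ A2, ∀ g : G, g * x * g⁻¹ ∈ (S' : Subgroup G) → g * x * g⁻¹ ∈ A2 := by
    intro x hx g hg
    rw [hA2mem] at hx ⊢
    rw [hmemS'] at hg
    have := hA.2 _ hx (g₀⁻¹ * g * g₀) (by
      have e : g₀⁻¹ * g * g₀ * (g₀⁻¹ * x * g₀) * (g₀⁻¹ * g * g₀)⁻¹ = g₀⁻¹ * (g * x * g⁻¹) * g₀ := by group
      rw [e]; exact hg)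
    have e : g₀⁻¹ * g * g₀ * (g₀⁻¹ * x * g₀) * (g₀⁻¹ * g * g₀)⁻¹ = g₀⁻¹ * (g * x * g⁻¹) * g₀ := by group
    rwa [e] at this
  have hAA2 : A ≤ A2 := by
    intro x hx
    have h1 : g₀ * x * g₀⁻¹ ∈ A2 := by
      rw [hA2mem]
      have e : g₀⁻¹ * (g₀ * x * g₀⁻¹) * g₀ = x := by group
      rwa [e]
    have h2 := hclosed _ h1 g₀⁻¹ (by
      have e : g₀⁻¹ * (g₀ * x * g₀⁻¹) * g₀⁻¹⁻¹ = x := by group
      rw [e]; exact hAS' hx)
    have e : g₀⁻¹ * (g₀ * x * g₀⁻¹) * g₀⁻¹⁻¹ = x := by group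
    rwa [e] at h2
  have hAeq : A = A2 := by
    apply Subgroup.eq_of_le_of_card_ge hAA2
    rw [hA2, Subgroup.card_map_of_injective (MulAut.conj g₀).injective]
  have hsc : ∀ x ∈ A', ∀ g : W, g * x * g⁻¹ ∈ (T : Subgroup W) → g * x * g⁻¹ ∈ A' := by
    intro x hx g hg
    have h1 : (g : G) * x * (g : G)⁻¹ ∈ (S' : Subgroup G) := by
      apply hS'
      exact ⟨_, hg, rfl⟩
    have hx2 : (x : G) ∈ A2 := hAA2 hx
    have := hclosed _ hx2 _ h1
    rw [← hAeq] at this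
    exact this
  have hdisj' : ∀ x ∈ A', x ∈ H' → x = 1 := by
    intro x hx hx2
    have : (x : G) ∈ A ⊓ H := ⟨hx, hx2⟩
    rw [hdisj, Subgroup.mem_bot] at this
    exact Subtype.ext this
  have hO' : ∀ N : Subgroup W, N ≤ H' → (∀ h ∈ H', ∀ x ∈ N, h * x * h⁻¹ ∈ N) → Odd (Nat.card N) → N = ⊥ := by
    intro N hN hNn hNo
    set N₂ : Subgroup H := (N.map W.subtype).subgroupOf H with hN₂
    have hN₂n : N₂.Normal := by
      constructor
      rintro ⟨x, hxH⟩ ⟨y, hyN, hyx⟩ ⟨g, hgH⟩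
      have hyx' : (y : G) = x := hyx
      have hgW : g ∈ W := hHW hgH
      refine ⟨⟨g, hgW⟩ * y * (⟨g, hgW⟩ : W)⁻¹, hNn ⟨g, hgW⟩ hgH y hyN, ?_⟩
      simp [hyx']
    have hN₂o : Odd (Nat.card N₂) := by
      have hle : N.map W.subtype ≤ H := by
        rintro _ ⟨y, hy, rfl⟩
        exact hN hy
      rw [hN₂, Nat.card_congr (Subgroup.subgroupOfEquivOfLe hle).toEquiv,
        Subgroup.card_map_of_injective W.subtype_injective]
      exact hNo
    have h1 := le_oddCore_of_odd hN₂n hN₂o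
    rw [hO] at h1
    rw [eq_bot_iff]
    intro x hx
    have h2 : (⟨x, hN hx⟩ : H) ∈ N₂ := ⟨x, hx, rfl⟩
    have h3 := h1 h2
    rw [Subgroup.mem_bot] at h3 ⊢
    have h4 : ((⟨x, hN hx⟩ : H) : G) = 1 := congrArg Subtype.val h3
    exact Subtype.ext h4
  have hfin := core (H := H') (A := A') hO' hW hdisj' T hT hsc
  intro a ha
  rw [Subgroup.mem_centralizer_iff]
  intro h hh
  have := hfin ⟨a, hAW ha⟩ ha ⟨h, hHW hh⟩ hh
  exact (congrArg Subtype.val this).symm

end Cfsg.Agent.S1251
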