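import Cfsg.Statements.S1323
import Cfsg.Agent.Lib.FStar.Basic

set_option autoImplicit false
open Cfsg

namespace Cfsg.Agent.S1323

open Equiv Equiv.Perm Subgroup Cfsg.Agent.Lib.FStar

section aux

variable {α : Type*} [Fintype α] [DecidableEq α]

/-- The pointwise fixer of `D` in the alternating group. -/
def fixS (D : Finset α) : Subgroup (alternatingGroup α) where
  carrier := {y | ∀ a ∈ D, (y : Perm α) a = a}
  mul_mem' := by
    intro x y hx hy a ha
    show (x : Perm α) ((y : Perm α) a) = a
    rw [hy a ha, hx a ha]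
  one_mem' := fun a _ => rfl
  inv_mem' := by
    intro x hx a ha
    show (x : Perm α)⁻¹ a = a
    rw [Perm.inv_eq_iff_eq]
    exact (hx a ha).symm

theorem mem_fixS {D : Finset α} {y : alternatingGroup α} :
    y ∈ fixS D ↔ ∀ a ∈ D, (y : Perm α) a = a := Iff.rfl

/-- A three-cycle `a → b → c → a`. -/
def tc (a b c : α) (hab : a ≠ b) (hbc : b ≠ c) : alternatingGroup α :=
  ⟨swap a b * swap b c, by
    rw [mem_alternatingGroup, map_mul, sign_swap hab, sign_swap hbc]
    rfl⟩

theorem tc_a (a b c : α) (hab : a ≠ b) (hbc : b ≠ c) (hac : a ≠ c) :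
    ((tc a b c hab hbc : alternatingGroup α) : Perm α) a = b := by
  show (swap a b * swap b c) a = b
  rw [Perm.mul_apply, swap_apply_of_ne_of_ne hab hac, swap_apply_left]

theorem tc_other (a b c : α) (hab : a ≠ b) (hbc : b ≠ c) {x : α} (h1 : x ≠ a) (h2 : x ≠ b) (h3 : x ≠ c) :
    ((tc a b c hab hbc : alternatingGroup α) : Perm α) x = x := by
  show (swap a b * swap b c) x = x
  rw [Perm.mul_apply, swap_apply_of_ne_of_ne h2 h3, swap_apply_of_ne_of_ne h1 h2]

theorem tc_mem (D : Finset α) (a b c : α) (hab : a ≠ b) (hbc : b ≠ c) (ha : a ∉ D) (hb : b ∉ D)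
    (hc : c ∉ D) : tc a b c hab hbc ∈ fixS D := by
  intro x hx
  refine tc_other a b c hab hbc ?_ ?_ ?_
  · rintro rfl
    exact ha hx
  · rintro rfl
    exact hb hx
  · rintro rfl
    exact hc hx

theorem exists_not_mem (s : Finset α) (h : s.card < Fintype.card α) : ∃ u, u ∉ s := by
  by_contra hcon
  push_neg at hcon
  have : s = Finset.univ := Finset.eq_univ_iff_forall.mpr hcon
  rw [this, Finset.card_univ] at h
  exact lt_irrefl _ h

/-- `fixS D` carries `a` to `z`, outside `D`. -/
theorem exists_move (D : Finset α) {a z : α} (ha : a ∉ D) (hz : z ∉ D) (haz : a ≠ z)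
    (hc : D.card + 2 < Fintype.card α) :
    ∃ σ ∈ fixS D, (σ : Perm α) a = z := by
  obtain ⟨u, hu⟩ := exists_not_mem (D ∪ {a, z}) (by
    refine lt_of_le_of_lt (Finset.card_union_le _ _) ?_
    refine lt_of_le_of_lt (Nat.add_le_add_left (Finset.card_le_two) _) hc)
  simp only [Finset.mem_union, Finset.mem_insert, Finset.mem_singleton, not_or] at hu
  obtain ⟨huD, hua, huz⟩ := hu
  refine ⟨tc a z u haz (Ne.symm huz), tc_mem D _ _ _ _ _ ha hz huD, tc_a _ _ _ _ _ (Ne.symm hua)⟩

/-- Conjugating a fixer. -/
theorem conj_fixS (D : Finset α) (g : alternatingGroup α) :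
    (fixS D).map (MulAut.conj g).toMonoidHom = fixS (D.image (g : Perm α)) := by
  ext y
  constructor
  · rintro ⟨x, hx, rfl⟩
    intro a ha
    obtain ⟨b, hb, rfl⟩ := Finset.mem_image.mp ha
    show (g : Perm α) ((x : Perm α) ((g : Perm α)⁻¹ ((g : Perm α) b))) = (g : Perm α) b
    have h0 : (g : Perm α)⁻¹ ((g : Perm α) b) = b := by simp
    rw [h0, hx b hb]
  · intro hy
    refine ⟨g⁻¹ * y * g, ?_, by simp [mul_assoc]⟩
    intro a ha
    show (g : Perm α)⁻¹ ((y : Perm α) ((g : Perm α) a)) = a
    have h0 : (g : Perm α)⁻¹ ((g : Perm α) a) = a := by simp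
    rw [hy _ (Finset.mem_image_of_mem _ ha), h0]

theorem card_image_g (D : Finset α) (g : alternatingGroup α) :
    (D.image (g : Perm α)).card = D.card :=
  Finset.card_image_of_injective _ (g : Perm α).injective

/-- The points moved by the fixer of `D`: all points off `D`. -/
theorem fixS_eq_imp {D E : Finset α} (hc : D.card + 2 < Fintype.card α) (h : fixS D ≤ fixS E) : E ⊆ D := by
  intro a haE
  by_contra haD
  have hcompl : 2 < (Dᶜ).card := by
    rw [Finset.card_compl]
    omega
  obtain ⟨z, hz, hza⟩ : ∃ z ∈ Dᶜ, z ≠ a := Finset.exists_mem_ne (by omega) a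
  obtain ⟨σ, hσ, hσa⟩ := exists_move D haD (Finset.mem_compl.mp hz) (Ne.symm hza) hc
  have := h hσ a haE
  rw [hσa] at this
  exact hza this

theorem mem_normalizer_fixS {D : Finset α} (hc : D.card + 2 < Fintype.card α) (g : alternatingGroup α) :
    g ∈ normalizer (fixS D : Set (alternatingGroup α)) ↔ D.image (g : Perm α) = D := by
  constructor
  · intro hg
    have h1 : fixS D ≤ fixS (D.image (g : Perm α)) := by
      rw [← conj_fixS]
      intro y hy
      refine ⟨g⁻¹ * y * g, ?_, by simp [mul_assoc]⟩
      have := (mem_normalizer_iff.mp (inv_mem hg) y).mp hy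
      simpa using this
    exact Finset.eq_of_subset_of_card_le (fixS_eq_imp hc h1) (by rw [card_image_g])
  · intro h
    rw [mem_normalizer_iff]
    intro y
    have h1 : (fixS D).map (MulAut.conj g).toMonoidHom = fixS D := by
      rw [conj_fixS, h]
    constructor
    · intro hy
      rw [← h1]
      exact ⟨y, hy, rfl⟩
    · intro hy
      rw [← h1] at hy
      obtain ⟨x, hx, hxy⟩ := hy
      have : x = y := by
        have h2 : g * x * g⁻¹ = g * y * g⁻¹ := hxy
        exact mul_left_cancel (mul_right_cancel h2)
      rwa [← this]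

/-- The centralizer of the fixer of `D`. -/
theorem centralizer_fixS {D : Finset α} (hc : D.card + 4 < Fintype.card α) :
    centralizer (fixS D : Set (alternatingGroup α)) = fixS Dᶜ := by
  apply le_antisymm
  · intro x hx p hp
    rw [Finset.mem_compl] at hp
    by_contra hxp
    have hcomm : ∀ σ ∈ fixS D, (σ : Perm α) ((x : Perm α) p) = (x : Perm α) ((σ : Perm α) p) := by
      intro σ hσ
      have h1 := mem_centralizer_iff.mp hx σ hσ
      have h2 : (σ : Perm α) * (x : Perm α) = (x : Perm α) * (σ : Perm α) := congrArg Subtype.val h1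
      exact Perm.congr_fun h2 p
    by_cases hxD : (x : Perm α) p ∈ D
    · obtain ⟨u, hu⟩ := exists_not_mem (D ∪ {p}) (by
        refine lt_of_le_of_lt (Finset.card_union_le _ _) ?_
        simp only [Finset.card_singleton]
        omega)
      simp only [Finset.mem_union, Finset.mem_singleton, not_or] at hu
      obtain ⟨σ, hσ, hσp⟩ := exists_move D hp hu.1 (Ne.symm hu.2) (by omega)
      have h1 := hcomm σ hσ
      rw [hσ _ hxD, hσp] at h1
      exact hu.2 ((x : Perm α).injective h1).symm
    · obtain ⟨u, hu⟩ := exists_not_mem (D ∪ {p, (x : Perm α) p}) (by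
        refine lt_of_le_of_lt (Finset.card_union_le _ _) ?_
        refine lt_of_le_of_lt (Nat.add_le_add_left (Finset.card_le_two) _) ?_
        omega)
      simp only [Finset.mem_union, Finset.mem_insert, Finset.mem_singleton, not_or] at hu
      obtain ⟨huD, hup, huxp⟩ := hu
      obtain ⟨v, hv⟩ := exists_not_mem (D ∪ {p, (x : Perm α) p, u}) (by
        refine lt_of_le_of_lt (Finset.card_union_le _ _) ?_
        refine lt_of_le_of_lt (Nat.add_le_add_left (Finset.card_le_three) _) ?_
        omega)
      simp only [Finset.mem_union, Finset.mem_insert, Finset.mem_singleton, not_or] at hv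
      obtain ⟨hvD, hvp, hvxp, hvu⟩ := hv
      have hσ : tc ((x : Perm α) p) u v (Ne.symm huxp) (Ne.symm hvu) ∈ fixS D :=
        tc_mem D _ _ _ _ _ hxD huD hvD
      have h1 := hcomm _ hσ
      rw [tc_a _ _ _ _ _ (Ne.symm hvxp),
        tc_other _ _ _ _ _ (x := p) (Ne.symm hxp) (Ne.symm hup) (Ne.symm hvp)] at h1
      exact huxp h1
  · intro x hx
    rw [mem_centralizer_iff]
    intro y hy
    refine Subtype.ext ?_
    have hd : Perm.Disjoint (y : Perm α) (x : Perm α) := by
      intro a
      by_cases ha : a ∈ D
      · exact Or.inl (hy a ha)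
      · exact Or.inr (hx a (Finset.mem_compl.mpr ha))
    exact hd.commute.eq

/-- An involution in the alternating group moving at most four points moves exactly four. -/
theorem card_support_involution {t : alternatingGroup α} (ht : orderOf t = 2) {D : Finset α}
    (hD : D.card = 4) (hts : (t : Perm α).support ⊆ D) : (t : Perm α).support = D := by
  have ht2 : (t : Perm α) ^ 2 = 1 := by
    have h1 : t ^ 2 = 1 := ht ▸ pow_orderOf_eq_one t
    exact congrArg Subtype.val h1
  have ht1 : (t : Perm α) ≠ 1 := by
    intro h1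
    have : t = 1 := Subtype.ext h1
    rw [this, orderOf_one] at ht
    omega
  have hd : 2 ∣ (t : Perm α).support.card := Perm.two_dvd_card_support ht2
  have hle : (t : Perm α).support.card ≤ 4 := hD ▸ Finset.card_le_card hts
  have hne0 : (t : Perm α).support.card ≠ 0 := by
    intro h0
    exact ht1 (Perm.support_eq_empty_iff.mp (Finset.card_eq_zero.mp h0))
  have hne2 : (t : Perm α).support.card ≠ 2 := by
    intro h2
    have hsw := Perm.card_support_eq_two.mp h2
    have hs := hsw.sign_eq
    have := mem_alternatingGroup.mp t.2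
    rw [this] at hs
    exact absurd hs (by decide)
  have h4 : (t : Perm α).support.card = 4 := by omega
  exact Finset.eq_of_subset_of_card_le hts (by omega)

theorem support_subset_of_mem {D : Finset α} {t : alternatingGroup α} (ht : t ∈ fixS Dᶜ) :
    (t : Perm α).support ⊆ D := by
  intro a ha
  by_contra hnot
  exact (Perm.mem_support.mp ha) (ht a (Finset.mem_compl.mpr hnot))

/-- The centralizer of the fixer of `D` is tightly embedded. -/
theorem tight {D : Finset α} (hD : D.card = 4) (hc : 8 < Fintype.card α) :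
    IsTightlyEmbedded (fixS Dᶜ) := by
  classical
  constructor
  · obtain ⟨a, b, c, d, hab, hac, had, hbc, hbd, hcd, rfl⟩ : ∃ a b c d : α, a ≠ b ∧ a ≠ c ∧ a ≠ d ∧ b ≠ c ∧ b ≠ d ∧ c ≠ d ∧
        D = {a, b, c, d} := by
      obtain ⟨a, s, ha, rfl, hs⟩ := Finset.card_eq_succ.mp hD
      obtain ⟨b, s', hb, rfl, hs'⟩ := Finset.card_eq_succ.mp hs
      obtain ⟨c, d, hcd, rfl⟩ := Finset.card_eq_two.mp hs'
      simp only [Finset.mem_insert, Finset.mem_singleton, not_or] at ha hb
      exact ⟨a, b, c, d, ha.1, ha.2.1, ha.2.2, hb.1, hb.2, hcd, rfl⟩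
    let t0 : Perm α := swap a b * swap c d
    have hsgn : t0 ∈ alternatingGroup α := by
      rw [mem_alternatingGroup, map_mul, sign_swap hab, sign_swap hcd]
      rfl
    have ht0 : (⟨t0, hsgn⟩ : alternatingGroup α) ∈ fixS ({a, b, c, d} : Finset α)ᶜ := by
      intro x hx
      simp only [Finset.mem_compl, Finset.mem_insert, Finset.mem_singleton, not_or] at hx
      show (swap a b * swap c d) x = x
      rw [Perm.mul_apply, swap_apply_of_ne_of_ne hx.2.2.1 hx.2.2.2, swap_apply_of_ne_of_ne hx.1 hx.2.1]
    have hord : orderOf (⟨⟨t0, hsgn⟩, ht0⟩ : fixS ({a, b, c, d} : Finset α)ᶜ) = 2 := by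
      apply orderOf_eq_prime
      · apply Subtype.ext
        apply Subtype.ext
        show t0 ^ 2 = 1
        have hcm : Commute (swap a b) (swap c d) := by
          refine Perm.Disjoint.commute ?_
          intro x
          by_cases hx1 : x = a
          · subst hx1
            exact Or.inr (swap_apply_of_ne_of_ne hac had)
          · by_cases hx2 : x = b
            · subst hx2
              exact Or.inr (swap_apply_of_ne_of_ne hbc hbd)
            · exact Or.inl (swap_apply_of_ne_of_ne hx1 hx2)
        show (swap a b * swap c d) ^ 2 = 1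
        rw [hcm.mul_pow, pow_two, pow_two, swap_mul_self, swap_mul_self, mul_one]
      · intro h1
        have h2 : t0 = 1 := congrArg (fun z : fixS ({a, b, c, d} : Finset α)ᶜ => ((z : alternatingGroup α) : Perm α)) h1
        have h3 := Perm.congr_fun h2 a
        simp only [t0, Perm.mul_apply, Perm.one_apply] at h3
        rw [swap_apply_of_ne_of_ne hac had, swap_apply_left] at h3
        exact hab (Eq.symm h3)
    have hdv : 2 ∣ Nat.card (fixS ({a, b, c, d} : Finset α)ᶜ) := hord ▸ orderOf_dvd_natCard _
    exact even_iff_two_dvd.mpr hdv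
  · intro g hg
    by_contra hodd
    rw [Nat.not_odd_iff_even, even_iff_two_dvd] at hodd
    haveI : Fact (Nat.Prime 2) := ⟨Nat.prime_two⟩
    obtain ⟨t, ht⟩ := exists_prime_orderOf_dvd_card' 2 hodd
    have ht' : orderOf (t : alternatingGroup α) = 2 := by rwa [Subgroup.orderOf_coe]
    have ht1 : (t : alternatingGroup α) ∈ fixS Dᶜ := t.2.1
    have ht2 : (t : alternatingGroup α) ∈ fixS ((Dᶜ).image (g : Perm α)) := by
      rw [← conj_fixS]
      exact t.2.2
    have hgc : ((Dᶜ).image (g : Perm α)) = (D.image (g : Perm α))ᶜ := by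
      ext a
      simp only [Finset.mem_image, Finset.mem_compl]
      constructor
      · rintro ⟨b, hb, rfl⟩ ⟨c, hc', hcb⟩
        exact hb ((g : Perm α).injective hcb ▸ hc')
      · intro h
        refine ⟨(g : Perm α)⁻¹ a, fun hb => h ⟨_, hb, by simp⟩, by simp⟩
    rw [hgc] at ht2
    have h1 := card_support_involution ht' hD (support_subset_of_mem ht1)
    have h2 := card_support_involution ht' (D := D.image (g : Perm α)) (by rw [card_image_g, hD])
      (support_subset_of_mem ht2)
    have h3 : D.image (g : Perm α) = D := h2.symm.trans h1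
    apply hg
    rw [mem_normalizer_fixS (by rw [Finset.card_compl]; omega)]
    rw [hgc, h3]

/-- The hom from the alternating group of the complement to the fixer. -/
def toFix (D : Finset α) : alternatingGroup {x // x ∉ D} →* fixS D where
  toFun f := ⟨⟨ofSubtype (f : Perm {x // x ∉ D}), by
      rw [mem_alternatingGroup, sign_ofSubtype]
      exact mem_alternatingGroup.mp f.2⟩, fun a ha =>
      ofSubtype_apply_of_not_mem _ (by simpa using ha)⟩
  map_one' := by
    apply Subtype.ext
    apply Subtype.ext
    simp
  map_mul' := by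
    intro x y
    apply Subtype.ext
    apply Subtype.ext
    simp

theorem toFix_bijective (D : Finset α) : Function.Bijective (toFix D) := by
  constructor
  · intro x y h
    have h1 : ofSubtype (x : Perm {x // x ∉ D}) = ofSubtype (y : Perm {x // x ∉ D}) :=
      congrArg (fun z : fixS D => ((z : alternatingGroup α) : Perm α)) h
    exact Subtype.ext (ofSubtype_injective h1)
  · intro y
    have hy : ∀ x, ((y : alternatingGroup α) : Perm α) x ∉ D ↔ x ∉ D := by
      intro x
      constructor
      · intro hx hc
        have h1 := y.2 _ hc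
        exact hx (h1.symm ▸ hc)
      · intro hx hc
        have h1 := y.2 _ hc
        have h2 := ((y : alternatingGroup α) : Perm α).injective h1
        exact hx (h2 ▸ hc)
    let s : Perm {x // x ∉ D} := ((y : alternatingGroup α) : Perm α).subtypePerm hy
    have hs : ofSubtype s = ((y : alternatingGroup α) : Perm α) := by
      refine ofSubtype_subtypePerm hy ?_
      intro x hx hc
      exact hx (y.2 x hc)
    have hsgn : s ∈ alternatingGroup {x // x ∉ D} := by
      rw [mem_alternatingGroup, ← sign_ofSubtype, hs]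
      exact mem_alternatingGroup.mp (y : alternatingGroup α).2
    refine ⟨⟨s, hsgn⟩, ?_⟩
    apply Subtype.ext
    apply Subtype.ext
    exact hs

theorem qs_alt {β : Type*} [Fintype β] [DecidableEq β] (h5 : 5 ≤ Nat.card β) :
    IsQuasisimple (alternatingGroup β) := by
  haveI hs : IsSimpleGroup (alternatingGroup β) := alternatingGroup.isSimpleGroup h5
  have hc : center (alternatingGroup β) = ⊥ := alternatingGroup.center_eq_bot (by omega)
  constructor
  · refine ⟨?_⟩
    rcases (commutator_normal ⊤ ⊤ : (commutator (alternatingGroup β)).Normal).eq_bot_or_eq_top with h | h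
    · exfalso
      have h' : commutator (alternatingGroup β) = ⊥ := h
      rw [commutator_eq_bot_iff_center_eq_top, hc] at h'
      exact bot_ne_top h'
    · exact h
  · have hinj : Function.Injective (QuotientGroup.mk' (center (alternatingGroup β))) := by
      rw [← MonoidHom.ker_eq_bot_iff, QuotientGroup.ker_mk', hc]
    haveI : Nontrivial (alternatingGroup β ⧸ center (alternatingGroup β)) := hinj.nontrivial
    exact IsSimpleGroup.isSimpleGroup_of_surjective (QuotientGroup.mk' _) (QuotientGroup.mk'_surjective _)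

theorem standard_fixS {D : Finset α} (hD : D.card = 4) (hc : 9 ≤ Fintype.card α) :
    IsStandardSubgroup (fixS D) := by
  have hcc : Fintype.card {x // x ∉ D} = Fintype.card α - 4 := by
    rw [Fintype.card_subtype_compl, Fintype.card_coe, hD]
  refine ⟨?_, ?_, ?_, ?_⟩
  · have h1 : IsQuasisimple (alternatingGroup {x // x ∉ D}) := qs_alt (by
      rw [Nat.card_eq_fintype_card, hcc]
      omega)
    exact qs_of_mulEquiv (MulEquiv.ofBijective _ (toFix_bijective D)) h1
  · rw [centralizer_fixS (by omega)]
    exact tight hD (by omega)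
  · intro g hg hcomm
    rw [conj_fixS] at hg hcomm
    have hne : D.image (g : Perm α) ≠ D := fun h => hg (by rw [h])
    -- points
    have hcard : (D.image (g : Perm α)).card = D.card := card_image_g D g
    obtain ⟨z, hz1, hz2⟩ : ∃ z ∈ D.image (g : Perm α), z ∉ D := by
      by_contra hcon
      push_neg at hcon
      exact hne (Finset.eq_of_subset_of_card_le hcon (by omega))
    obtain ⟨y, hy1, hy2⟩ : ∃ y ∈ D, y ∉ D.image (g : Perm α) := by
      by_contra hcon
      push_neg at hcon
      exact hne (Finset.eq_of_subset_of_card_le hcon (by omega) |>.symm)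
    obtain ⟨a, ha⟩ := exists_not_mem (D ∪ D.image (g : Perm α)) (by
      refine lt_of_le_of_lt (Finset.card_union_le _ _) ?_
      omega)
    simp only [Finset.mem_union, not_or] at ha
    have haz : a ≠ z := fun h => ha.2 (h ▸ hz1)
    have hay : a ≠ y := fun h => ha.1 (h ▸ hy1)
    obtain ⟨σ, hσ, hσa⟩ := exists_move D ha.1 hz2 haz (by omega)
    obtain ⟨τ, hτ, hτa⟩ := exists_move (D.image (g : Perm α)) ha.2 hy2 hay (by omega)
    have h1 : σ * τ = τ * σ := mul_comm_of_commutator_eq_bot hcomm hσ hτ
    have h2 : (σ : Perm α) * (τ : Perm α) = (τ : Perm α) * (σ : Perm α) := congrArg Subtype.val h1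
    have h3 := Perm.congr_fun h2 a
    simp only [Perm.mul_apply] at h3
    rw [hτa, hσa, hσ y hy1, hτ z hz1] at h3
    exact hz2 (h3 ▸ hy1)
  · rw [centralizer_fixS (by omega)]
    ext g
    rw [mem_normalizer_fixS (by omega), mem_normalizer_fixS (by rw [Finset.card_compl]; omega)]
    have hgc : ((Dᶜ).image (g : Perm α)) = (D.image (g : Perm α))ᶜ := by
      ext a
      simp only [Finset.mem_image, Finset.mem_compl]
      constructor
      · rintro ⟨b, hb, rfl⟩ ⟨c, hc', hcb⟩
        exact hb ((g : Perm α).injective hcb ▸ hc')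
      · intro h
        refine ⟨(g : Perm α)⁻¹ a, fun hb => h ⟨_, hb, by simp⟩, by simp⟩
    rw [hgc]
    exact compl_inj_iff.symm

end aux

/-- For n ≥ 9, the subgroup of the alternating group on Fin n fixing each of the points 0, 1, 2, 3 is a standard subgroup. -/
theorem result (n : ℕ) (h4 : 4 ≤ n) (hn : 9 ≤ n) : Cfsg.IsStandardSubgroup (⨅ i : Fin 4, MulAction.stabilizer ↥(alternatingGroup (Fin n)) (Fin.castLE h4 i : Fin n)) := by
  have hD : (Finset.univ.image (Fin.castLE h4)).card = 4 := by
    rw [Finset.card_image_of_injective _ (Fin.castLE_injective h4)]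
    simp
  have h1 : (⨅ i : Fin 4, MulAction.stabilizer ↥(alternatingGroup (Fin n)) (Fin.castLE h4 i : Fin n)) =
      fixS (Finset.univ.image (Fin.castLE h4)) := by
    ext y
    rw [mem_iInf]
    constructor
    · intro h a ha
      obtain ⟨i, -, rfl⟩ := Finset.mem_image.mp ha
      exact h i
    · intro h i
      exact h _ (Finset.mem_image_of_mem _ (Finset.mem_univ i))
  rw [h1]
  exact standard_fixS hD (by simpa using hn)

end Cfsg.Agent.S1323
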