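import Cfsg.Statements.S1340
import Mathlib
import Cfsg.Agent.Lib.LBal.SLBlock
import Cfsg.Agent.Lib.Classical.ExcSL2

set_option autoImplicit false
open Cfsg

namespace Cfsg.Agent.S1340

open Matrix Subgroup Cfsg Cfsg.Agent.Lib.LBal Cfsg.Agent.Lib.FStar Cfsg.Agent.Lib.Core Cfsg.Agent.Lib.Techniques

/-- Reindexing `SL`. -/
def slReindex {κ κ' F : Type*} [Fintype κ] [Fintype κ'] [DecidableEq κ] [DecidableEq κ'] [Field F] (e : κ ≃ κ') :
    SpecialLinearGroup κ F ≃* SpecialLinearGroup κ' F where
  toFun B := ⟨Matrix.reindex e e (B : Matrix κ κ F), by rw [Matrix.det_reindex_self]; exact B.2⟩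
  invFun B := ⟨Matrix.reindex e.symm e.symm (B : Matrix κ' κ' F), by rw [Matrix.det_reindex_self]; exact B.2⟩
  left_inv B := by
    apply Subtype.ext
    ext i j
    simp
  right_inv B := by
    apply Subtype.ext
    ext i j
    simp
  map_mul' A B := by
    apply Subtype.ext
    change Matrix.reindex e e ((A : Matrix κ κ F) * (B : Matrix κ κ F)) =
      Matrix.reindex e e (A : Matrix κ κ F) * Matrix.reindex e e (B : Matrix κ κ F)
    simp [Matrix.reindex_apply, Matrix.submatrix_mul_equiv]

theorem qs_SL_two {κ F : Type*} [Fintype κ] [DecidableEq κ] [Field F] [Fintype F] (hκ : Fintype.card κ = 2)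
    (hF : 4 ≤ Fintype.card F) : IsQuasisimple (SpecialLinearGroup κ F) := by
  have e : κ ≃ Fin 2 := Fintype.equivFinOfCardEq hκ
  refine qs_of_mulEquiv (slReindex e).symm ?_
  exact ⟨⟨Cfsg.Agent.Lib.Classical.Exc.sl2_perfect hF⟩,
    Matrix.ProjectiveSpecialLinearGroup.rank_two_simple (by rwa [Nat.card_eq_fintype_card])⟩

theorem comm_block_mat {ι F : Type*} [Fintype ι] [DecidableEq ι] [Field F] (o : ι) (h2 : (2 : F) ≠ 0)
    {M : Matrix ι ι F} (h3 : M * diagonal (fun i => if i = o then (1 : F) else -1) =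
      diagonal (fun i => if i = o then (1 : F) else -1) * M) :
    (∀ i, i ≠ o → M i o = 0) ∧ (∀ j, j ≠ o → M o j = 0) := by
  constructor
  · intro i hi
    have h4 := congrFun (congrFun h3 i) o
    rw [Matrix.mul_diagonal, Matrix.diagonal_mul] at h4
    simp only [if_true, hi, if_false, mul_one] at h4
    have h5 : 2 * M i o = 0 := by linear_combination h4
    exact (mul_eq_zero.1 h5).resolve_left h2
  · intro j hj
    have h4 := congrFun (congrFun h3 o) j
    rw [Matrix.mul_diagonal, Matrix.diagonal_mul] at h4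
    simp only [if_true, hj, if_false, one_mul] at h4
    have h5 : 2 * M o j = 0 := by linear_combination -h4
    exact (mul_eq_zero.1 h5).resolve_left h2

theorem mul_oo {ι F : Type*} [Fintype ι] [DecidableEq ι] [Field F] (o : ι) {M N : Matrix ι ι F}
    (hh : ∀ k, k ≠ o → N k o = 0) : (M * N) o o = M o o * N o o := by
  rw [Matrix.mul_apply, Finset.sum_eq_single o]
  · intro k _ hk
    rw [hh k hk, mul_zero]
  · simp

/-- Let F be a finite field of odd order and n ≥ 3 with (n, |F|) ≠ (3, 3). Then GL(n, F) has a non-central involution t such that C(t) / O(C(t)) has a component. -/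
theorem result {F : Type*} [Field F] [Fintype F] [DecidableEq F] (hF : Odd (Fintype.card F)) (n : ℕ) (hn : 3 ≤ n) (h33 : ¬ (n = 3 ∧ Fintype.card F = 3)) : ∃ t : Matrix.GeneralLinearGroup (Fin n) F, orderOf t = 2 ∧ t ∉ Subgroup.center (Matrix.GeneralLinearGroup (Fin n) F) ∧ Cfsg.HasComponent (↥(Subgroup.centralizer ({t} : Set (Matrix.GeneralLinearGroup (Fin n) F))) ⧸ Cfsg.oddCore ↥(Subgroup.centralizer ({t} : Set (Matrix.GeneralLinearGroup (Fin n) F)))) := by
  classical
  haveI : Fact (Nat.Prime 2) := ⟨Nat.prime_two⟩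
  have h2 : (2 : F) ≠ 0 := by
    intro h
    have h3 : ringChar F = 2 := by
      rw [CharP.ringChar_of_prime_eq_zero Nat.prime_two]
      exact_mod_cast h
    have h4 := FiniteField.even_card_iff_char_two.1 h3
    obtain ⟨m, hm⟩ := hF
    omega
  have hn0 : n - 1 < n := by omega
  set o : Fin n := ⟨n - 1, hn0⟩ with ho
  have hcard : Fintype.card (SubIdx o) = n - 1 := by
    rw [Fintype.card_subtype_compl]
    simp
  have hq3 : 3 ≤ Fintype.card F := by
    have h1 : 2 ≤ Fintype.card F := Fintype.one_lt_card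
    obtain ⟨m, hm⟩ := hF
    omega
  have hqs : IsQuasisimple (SpecialLinearGroup (SubIdx o) F) := by
    by_cases h : 3 ≤ Fintype.card (SubIdx o)
    · exact isQuasisimple_SL h
    · have h3 : n = 3 := by omega
      have h5 : Fintype.card F ≠ 3 := fun h4 => h33 ⟨h3, h4⟩
      exact qs_SL_two (by omega) (by omega)
  obtain ⟨i₀, j₀, hij⟩ : ∃ i j : SubIdx o, i ≠ j := by
    haveI : Nontrivial (SubIdx o) := Fintype.one_lt_card_iff_nontrivial.1 (by omega)
    exact exists_pair_ne _
  have hm1 : (-1 : F) ≠ 1 := by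
    intro h
    apply h2
    linear_combination -h
  set D : Matrix (Fin n) (Fin n) F := diagonal (fun i => if i = o then (1 : F) else -1) with hD
  have hDD : D * D = 1 := by
    rw [hD, Matrix.diagonal_mul_diagonal, ← Matrix.diagonal_one]
    congr 1
    funext i
    by_cases hi : i = o <;> simp [hi]
  set t : Matrix.GeneralLinearGroup (Fin n) F := ⟨D, D, hDD, hDD⟩ with ht
  have htc : ((t : Matrix.GeneralLinearGroup (Fin n) F) : Matrix (Fin n) (Fin n) F) = D := rfl
  have ht2 : t ^ 2 = 1 := by
    rw [pow_two]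
    exact Units.ext hDD
  have ht1 : t ≠ 1 := by
    intro h
    have h3 : ((t : Matrix.GeneralLinearGroup (Fin n) F) : Matrix (Fin n) (Fin n) F) i₀ i₀ = 1 := by rw [h]; simp
    rw [htc, hD, Matrix.diagonal_apply_eq, if_neg i₀.2] at h3
    exact hm1 h3
  set Y := Subgroup.centralizer ({t} : Set (Matrix.GeneralLinearGroup (Fin n) F)) with hY
  have hYb : ∀ y : Matrix.GeneralLinearGroup (Fin n) F, y ∈ Y → (y : Matrix (Fin n) (Fin n) F) * D = D * y := by
    intro y hy
    exact congrArg Units.val (Subgroup.mem_centralizer_singleton_iff.1 hy)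
  have hYi : ∀ y : Matrix.GeneralLinearGroup (Fin n) F, (y : Matrix (Fin n) (Fin n) F) * D = D * y → y ∈ Y := by
    intro y hy
    rw [hY, Subgroup.mem_centralizer_singleton_iff]
    exact Units.ext hy
  -- the embedding
  have hψ : ∀ B : SpecialLinearGroup (SubIdx o) F,
      SpecialLinearGroup.toGL (slEmbed o B) ∈ Y := by
    intro B
    apply hYi
    change (blockMat o (B : Matrix _ _ F) : Matrix (Fin n) (Fin n) F) * D = D * blockMat o (B : Matrix _ _ F)
    ext i j
    rw [hD, Matrix.mul_diagonal, Matrix.diagonal_mul]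
    by_cases hi : i = o
    · rw [hi]
      by_cases hj : j = o
      · rw [hj]; simp
      · rw [blockMat_o_left o _ hj]; simp
    · by_cases hj : j = o
      · rw [hj, blockMat_o_right o _ hi]; simp
      · simp [hi, hj]
  let ψ : SpecialLinearGroup (SubIdx o) F →* Y :=
    (SpecialLinearGroup.toGL.comp (slEmbed o)).codRestrict Y hψ
  have hψinj : Function.Injective ψ := by
    intro a b h
    apply slEmbed_injective o
    apply SpecialLinearGroup.toGL_injective
    exact congrArg Subtype.val h
  set A' := ψ.range with hA'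
  have hA'q : IsQuasisimple A' := qs_of_mulEquiv (MonoidHom.ofInjective hψinj) hqs
  have hA'n : A'.Normal := by
    refine ⟨fun a ha y => ?_⟩
    obtain ⟨B, rfl⟩ := ha
    -- the conjugate, as an element of `SL`
    set m : Matrix (Fin n) (Fin n) F := (y * ψ B * y⁻¹ : Y).val.val with hm
    have hmD : m * D = D * m := hYb _ (y * ψ B * y⁻¹).2
    have hdet : m.det = 1 := by
      have e1 : m = (y : Matrix.GeneralLinearGroup (Fin n) F).val * (blockMat o (B : Matrix _ _ F)) *
        ((y : Matrix.GeneralLinearGroup (Fin n) F)⁻¹).val := rfl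
      rw [e1, Matrix.det_mul, Matrix.det_mul, det_blockMat, mul_right_comm, ← Matrix.det_mul]
      have e2 : (y : Matrix.GeneralLinearGroup (Fin n) F).val * ((y : Matrix.GeneralLinearGroup (Fin n) F)⁻¹).val = 1 :=
        Units.mul_inv _
      rw [e2, Matrix.det_one, one_mul]
      exact B.2
    obtain ⟨hb1, hb2⟩ := comm_block_mat o h2 hmD
    have hoo : m o o = 1 := by
      have e1 : m = (y : Matrix.GeneralLinearGroup (Fin n) F).val * (blockMat o (B : Matrix _ _ F)) *
        ((y : Matrix.GeneralLinearGroup (Fin n) F)⁻¹).val := rfl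
      have hyi : ((y⁻¹ : Y) : Matrix.GeneralLinearGroup (Fin n) F).val * D = D * ((y⁻¹ : Y) : Matrix.GeneralLinearGroup (Fin n) F).val :=
        hYb _ (y⁻¹).2
      have hyb := comm_block_mat o h2 hyi
      have e2 : ((y⁻¹ : Y) : Matrix.GeneralLinearGroup (Fin n) F).val = ((y : Matrix.GeneralLinearGroup (Fin n) F)⁻¹).val := rfl
      rw [e2] at hyb
      rw [e1, mul_oo o hyb.1, mul_oo o (fun k hk => blockMat_o_right o _ hk), blockMat_o_o, mul_one, ← mul_oo o hyb.1]
      have e3 : (y : Matrix.GeneralLinearGroup (Fin n) F).val * ((y : Matrix.GeneralLinearGroup (Fin n) F)⁻¹).val = 1 :=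
        Units.mul_inv _
      rw [e3]
      simp
    set g : SpecialLinearGroup (Fin n) F := ⟨m, hdet⟩ with hg
    obtain ⟨B', hB'⟩ := mem_range_slEmbed (g := g) o hb1 hb2 hoo
    refine ⟨B', ?_⟩
    apply Subtype.ext
    apply Units.ext
    exact congrArg Subtype.val hB'
  -- the even order
  have heven : 2 ∣ Nat.card A' := by
    have hne : (-1 : F) ≠ 0 := by
      intro h
      apply hm1
      rw [h]
      exact absurd h (neg_ne_zero.2 one_ne_zero)
    set d := SpecialLinearGroup.diag2n hij (-1 : F) hne with hd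
    have hd2 : d ^ 2 = 1 := by
      rw [pow_two]
      apply Subtype.ext
      change (d : Matrix (SubIdx o) (SubIdx o) F) * (d : Matrix (SubIdx o) (SubIdx o) F) = 1
      rw [hd, SpecialLinearGroup.diag2n_coe, Matrix.diagonal_mul_diagonal, ← Matrix.diagonal_one]
      congr 1
      funext k
      by_cases h1 : k = i₀
      · simp [h1]
      · by_cases h3 : k = j₀
        · simp [h3, hij.symm]
        · simp [h1, h3]
    have hd1 : d ≠ 1 := by
      intro h
      have h3 : (d : Matrix (SubIdx o) (SubIdx o) F) i₀ i₀ = 1 := by rw [h]; simp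
      rw [hd, SpecialLinearGroup.diag2n_coe, Matrix.diagonal_apply_eq, if_pos rfl] at h3
      exact hm1 h3
    have hdo : orderOf d = 2 := orderOf_eq_prime hd2 hd1
    have h3 := orderOf_dvd_natCard d
    rw [hdo] at h3
    have e : Nat.card A' = Nat.card (SpecialLinearGroup (SubIdx o) F) :=
      (Nat.card_congr (MonoidHom.ofInjective hψinj).toEquiv).symm
    rw [e]
    exact h3
  set O := Cfsg.oddCore ↥Y with hO
  have hOc : (Nat.card O).Coprime 2 := pPrimeCore_coprime 2 ↥Y
  have hcen : O.subgroupOf A' ≤ center A' := by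
    refine (qs_normal_eq_top_or_le_center hA'q (O.subgroupOf A')).resolve_left ?_
    intro h
    have h3 : A' ≤ O := by
      intro a ha
      have h4 : (⟨a, ha⟩ : A') ∈ O.subgroupOf A' := by rw [h]; trivial
      simpa [mem_subgroupOf] using h4
    have h4 : (Nat.card A').Coprime 2 := Nat.Coprime.coprime_dvd_left (Subgroup.card_dvd_of_le h3) hOc
    have := Nat.Coprime.eq_one_of_dvd h4.symm heven
    omega
  refine ⟨t, orderOf_eq_prime ht2 ht1, ?_, A'.map (QuotientGroup.mk' O), ?_, ?_⟩
  · intro hcent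
    have hi₀ : (i₀ : Fin n) ≠ o := i₀.2
    set τ := SpecialLinearGroup.toGL (SpecialLinearGroup.transvection hi₀ (1 : F)) with hτ
    have h3 : τ * t = t * τ := ((Subgroup.mem_center_iff.1 hcent) τ)
    have h4 : (τ : Matrix (Fin n) (Fin n) F) * D = D * τ := congrArg Units.val h3
    have hi₁ := (comm_block_mat o h2 h4).1 i₀ i₀.2
    have h5 : (τ : Matrix (Fin n) (Fin n) F) = 1 + Matrix.single (i₀ : Fin n) o 1 := rfl
    rw [h5] at hi₁
    simp [Matrix.single_apply, hi₀] at hi₁
  · exact (Subgroup.Normal.map hA'n _ (QuotientGroup.mk'_surjective O)).isSubnormal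
  · refine qs_of_surjective hA'q ((QuotientGroup.mk' O).subgroupMap A') ((QuotientGroup.mk' O).subgroupMap_surjective A') ?_
    rintro ⟨a, ha⟩ hk
    have h3 : QuotientGroup.mk' O a = 1 := congrArg Subtype.val hk
    have h4 : a ∈ O := (QuotientGroup.eq_one_iff _).1 h3
    exact hcen (by simpa [mem_subgroupOf] using h4)

end Cfsg.Agent.S1340
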