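import Cfsg.Statements.S1910
import Mathlib
import Cfsg.Agent.Lib.Techniques.SylowIn
import Cfsg.Agent.Lib.Techniques.NormChief
import Cfsg.Agent.Lib.FStar.Basic

set_option autoImplicit false
open Cfsg

namespace Cfsg.Agent.S1910


open Cfsg.Agent.Lib.Techniques in
theorem exists_inj_of_fixed {G : Type*} [Group G] [Finite G] {p : ℕ} [Fact p.Prime] {R X Y : Subgroup G}
    (hR : IsPGroup p R) (hX : IsPGroup p X) (hn : X ≤ Subgroup.normalizer (R : Set G)) (hYR : Y ≤ R)
    (hYX : ∀ y ∈ Y, ∀ x ∈ X, y * x = x * y) (hXR : X ⊓ R = ⊥)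
    (hC : ∀ x ∈ X, x ≠ 1 → ∀ v ∈ R, v * x = x * v → v ∈ Y) (hne : Y ≠ R) :
    ∃ f : X →* Y, Function.Injective f := by
  classical
  set Z : Subgroup G := R ⊔ X with hZ
  set D : Subgroup G := Y ⊔ X with hD
  have hZp : IsPGroup p Z := IsPGroup.to_sup_of_normal_left' hR hX hn
  have hDZ : D ≤ Z := sup_le (hYR.trans le_sup_left) le_sup_right
  have hmemD : ∀ h ∈ D, ∃ y ∈ Y, ∃ x ∈ X, y * x = h := fun h hh =>
    Cfsg.Agent.Lib.FStar.mem_sup_of_commuting hYX hh
  have hDR : ∀ h ∈ D, h ∈ R → h ∈ Y := by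
    intro h hh hhR
    obtain ⟨y, hy, x, hx, rfl⟩ := hmemD h hh
    have h3 : x ∈ R := by
      have : x = y⁻¹ * (y * x) := by group
      rw [this]
      exact mul_mem (inv_mem (hYR hy)) hhR
    have h4 : x = 1 := by
      have : x ∈ X ⊓ R := Subgroup.mem_inf.2 ⟨hx, h3⟩
      rw [hXR] at this
      exact (Subgroup.mem_bot).1 this
    rw [h4, mul_one]
    exact hy
  have hDlt : D.subgroupOf Z < ⊤ := by
    refine lt_top_iff_ne_top.2 ?_
    intro h
    rw [Subgroup.subgroupOf_eq_top] at h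
    apply hne
    apply le_antisymm hYR
    intro r hr
    exact hDR r (h (Subgroup.mem_sup_left hr)) hr
  haveI : Group.IsNilpotent ↥Z := hZp.isNilpotent
  have hnc := Group.normalizerCondition_of_isNilpotent (G := ↥Z) (D.subgroupOf Z) hDlt
  obtain ⟨z, hz, hzD⟩ := SetLike.exists_of_lt hnc
  have hz' : ∀ h ∈ D, (z : G) * h * (z : G)⁻¹ ∈ D := by
    intro h hh
    have h3 := (Subgroup.mem_normalizer_iff.1 hz ⟨h, hDZ hh⟩).1 (by rwa [Subgroup.mem_subgroupOf])
    rwa [Subgroup.mem_subgroupOf] at h3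
  have hzD' : (z : G) ∉ D := by
    intro h
    exact hzD (by rwa [Subgroup.mem_subgroupOf])
  obtain ⟨r, hr, x₀, hx₀, hzr⟩ := Cfsg.Agent.Lib.Techniques.mem_sup_of_le_normalizer hn z.2
  have hXD : X ≤ D := le_sup_right
  have hrD : r ∉ D := by
    intro h
    apply hzD'
    rw [hzr]
    exact mul_mem h (hXD hx₀)
  have hr' : ∀ h ∈ D, r * h * r⁻¹ ∈ D := by
    intro h hh
    have e : r = (z : G) * x₀⁻¹ := by rw [hzr]; group
    have h3 : x₀⁻¹ * h * x₀ ∈ D := mul_mem (mul_mem (inv_mem (hXD hx₀)) hh) (hXD hx₀)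
    have h4 := hz' _ h3
    have e2 : r * h * r⁻¹ = (z : G) * (x₀⁻¹ * h * x₀) * (z : G)⁻¹ := by rw [e]; group
    rw [e2]
    exact h4
  have hmem : ∀ x ∈ X, r * x * r⁻¹ * x⁻¹ ∈ Y := by
    intro x hx
    refine hDR _ (mul_mem (hr' x (hXD hx)) (inv_mem (hXD hx))) ?_
    have h3 : x * r⁻¹ * x⁻¹ ∈ R := (Subgroup.mem_normalizer_iff.1 (hn hx) r⁻¹).1 (inv_mem hr)
    have e : r * x * r⁻¹ * x⁻¹ = r * (x * r⁻¹ * x⁻¹) := by group
    rw [e]
    exact mul_mem hr h3
  let f : X →* Y := MonoidHom.mk' (fun x => ⟨r * (x : G) * r⁻¹ * (x : G)⁻¹, hmem x x.2⟩) (by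
    intro a b
    apply Subtype.ext
    show r * ((a : G) * (b : G)) * r⁻¹ * ((a : G) * (b : G))⁻¹ =
      (r * (a : G) * r⁻¹ * (a : G)⁻¹) * (r * (b : G) * r⁻¹ * (b : G)⁻¹)
    have h3 := hYX _ (hmem b b.2) a a.2
    have e : (r * (a : G) * r⁻¹ * (a : G)⁻¹) * (r * (b : G) * r⁻¹ * (b : G)⁻¹) =
        r * (a : G) * r⁻¹ * (a : G)⁻¹ * ((r * (b : G) * r⁻¹ * (b : G)⁻¹) * (a : G)) * (a : G)⁻¹ := by group
    rw [e, h3]
    group)
  refine ⟨f, (injective_iff_map_eq_one f).2 ?_⟩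
  intro x hx
  by_contra hx1
  have hx2 : r * (x : G) * r⁻¹ * (x : G)⁻¹ = 1 := congrArg Subtype.val hx
  have h3 : r * (x : G) = (x : G) * r := by
    have h4 : r * (x : G) * r⁻¹ = x := mul_inv_eq_one.1 hx2
    exact mul_inv_eq_iff_eq_mul.1 h4
  have hx1' : (x : G) ≠ 1 := fun h => hx1 (Subtype.ext h)
  exact hrD ((le_sup_left : Y ≤ D) (hC x x.2 hx1' r hr h3))

theorem two_dvd_orderOf_of_isPGroup {G : Type*} [Group G] {X : Subgroup G} (hX : IsPGroup 2 X) {x : G} (hx : x ∈ X)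
    (hx1 : x ≠ 1) : 2 ∣ orderOf x := by
  obtain ⟨k, hk⟩ := (IsPGroup.iff_orderOf.1 hX) ⟨x, hx⟩
  rw [Subgroup.orderOf_mk] at hk
  rcases Nat.eq_zero_or_pos k with rfl | hk0
  · rw [pow_zero, orderOf_eq_one_iff] at hk
    exact absurd hk hx1
  · rw [hk]
    exact dvd_pow_self 2 hk0.ne'

theorem inf_eq_bot_of_odd {G : Type*} [Group G] [Finite G] {X Y : Subgroup G} (hX : IsPGroup 2 X) (hY : Odd (Nat.card Y)) :
    X ⊓ Y = ⊥ := by
  rw [eq_bot_iff]
  intro x hx
  obtain ⟨h1, h2⟩ := Subgroup.mem_inf.1 hx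
  by_contra hx1
  have hx1' : x ≠ 1 := fun h => hx1 ((Subgroup.mem_bot).2 h)
  have h3 := two_dvd_orderOf_of_isPGroup hX h1 hx1'
  have h4 : orderOf x ∣ Nat.card Y := Subgroup.orderOf_dvd_natCard Y h2
  exact (Nat.not_even_iff_odd.2 hY) (even_iff_two_dvd.2 (h3.trans h4))

open Cfsg.Agent.Lib.Techniques in
theorem tight_key {G : Type*} [Group G] [Finite G] {Q : Subgroup G} (hQ : Cfsg.IsTightlyEmbedded Q) {x t : G} (ht : t ∈ Q)
    (ht' : t ∈ Q.map (MulAut.conj x).toMonoidHom) (h2 : 2 ∣ orderOf t) : x ∈ Subgroup.normalizer (Q : Set G) := by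
  by_contra h
  have h3 := hQ.2 x h
  have h4 : orderOf t ∣ Nat.card ↥(Q ⊓ Q.map (MulAut.conj x).toMonoidHom) :=
    Subgroup.orderOf_dvd_natCard _ (Subgroup.mem_inf.2 ⟨ht, ht'⟩)
  exact (Nat.not_even_iff_odd.2 h3) (even_iff_two_dvd.2 (h2.trans h4))

open Cfsg.Agent.Lib.Techniques in
theorem tight_conj {G : Type*} [Group G] [Finite G] {Q : Subgroup G} (hQ : Cfsg.IsTightlyEmbedded Q) (g : G) :
    Cfsg.IsTightlyEmbedded (Q.map (MulAut.conj g).toMonoidHom) := by
  refine ⟨?_, ?_⟩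
  · rw [Subgroup.card_map_of_injective (MulAut.conj g).injective]
    exact hQ.1
  · intro x hx
    have hx' : g⁻¹ * x * g ∉ Subgroup.normalizer (Q : Set G) := by
      intro h
      apply hx
      rw [show Q.map (MulAut.conj g).toMonoidHom = conjS g Q from rfl, conj_normalizer]
      refine (mem_conjS).2 h
    have h3 := hQ.2 _ hx'
    have e : (Q.map (MulAut.conj g).toMonoidHom) ⊓ (Q.map (MulAut.conj g).toMonoidHom).map (MulAut.conj x).toMonoidHom =
        conjS g (Q ⊓ Q.map (MulAut.conj (g⁻¹ * x * g)).toMonoidHom) := by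
      show conjS g Q ⊓ conjS x (conjS g Q) = conjS g (Q ⊓ conjS (g⁻¹ * x * g) Q)
      rw [conjS_inf, ← conjS_mul, ← conjS_mul]
      congr 2
      group
    rw [e]
    rw [show Nat.card ↥(conjS g (Q ⊓ Q.map (MulAut.conj (g⁻¹ * x * g)).toMonoidHom)) = _ from card_conjS g _]
    exact h3



/-- Let Q be a tightly embedded subgroup of a finite group G, g an element outside N_G(Q), T a nontrivial Sylow 2-subgroup of Q^g ∩ N_G(Q), and S a Sylow 2-subgroup of QT containing T. Then T ∩ Q = 1, and N_S(T) is the direct product of T and N_S(T) ∩ Q, with N_S(T) ∩ Q isomorphic to T. -/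
theorem result {G : Type*} [Group G] [Finite G] (Q : Subgroup G) (hQ : Cfsg.IsTightlyEmbedded Q)
    (g : G) (hg : g ∉ Subgroup.normalizer (Q : Set G))
    (T : Subgroup G) (hT1 : T ≠ ⊥) (hT : T ≤ Q.map (MulAut.conj g).toMonoidHom ⊓ Subgroup.normalizer (Q : Set G))
    (hTsyl : IsPGroup 2 T ∧ ¬ 2 ∣ T.relIndex (Q.map (MulAut.conj g).toMonoidHom ⊓ Subgroup.normalizer (Q : Set G)))
    (S : Subgroup G) (hTS : T ≤ S) (hS : S ≤ Q ⊔ T) (hSsyl : IsPGroup 2 S ∧ ¬ 2 ∣ S.relIndex (Q ⊔ T)) :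
    T ⊓ Q = ⊥ ∧
      T ⊓ (S ⊓ Subgroup.normalizer (T : Set G) ⊓ Q) = ⊥ ∧
      ⁅T, S ⊓ Subgroup.normalizer (T : Set G) ⊓ Q⁆ = ⊥ ∧
      T ⊔ (S ⊓ Subgroup.normalizer (T : Set G) ⊓ Q) = S ⊓ Subgroup.normalizer (T : Set G) ∧
      Nonempty (↥(S ⊓ Subgroup.normalizer (T : Set G) ⊓ Q) ≃* T) := by
  classical
  haveI : Fact (Nat.Prime 2) := ⟨Nat.prime_two⟩
  set Q' : Subgroup G := Q.map (MulAut.conj g).toMonoidHom with hQ'
  have hQ't := tight_conj hQ g
  have hodd := hQ.2 g hg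
  have hTQ' : T ≤ Q' := hT.trans inf_le_left
  have hTN : T ≤ Subgroup.normalizer (Q : Set G) := hT.trans inf_le_right
  have hTp : IsPGroup 2 T := hTsyl.1
  have hSp : IsPGroup 2 S := hSsyl.1
  have hTQ : T ⊓ Q = ⊥ := by
    have h1 : T ⊓ (Q ⊓ Q') = ⊥ := inf_eq_bot_of_odd hTp hodd
    rw [eq_bot_iff]
    intro x hx
    obtain ⟨h2, h3⟩ := Subgroup.mem_inf.1 hx
    have : x ∈ T ⊓ (Q ⊓ Q') := Subgroup.mem_inf.2 ⟨h2, Subgroup.mem_inf.2 ⟨h3, hTQ' h2⟩⟩
    rwa [h1] at this
  set U : Subgroup G := S ⊓ Subgroup.normalizer (T : Set G) ⊓ Q with hU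
  have hUQ : U ≤ Q := inf_le_right
  have hUS : U ≤ S := inf_le_left.trans inf_le_left
  have hUT : U ≤ Subgroup.normalizer (T : Set G) := inf_le_left.trans inf_le_right
  have hUp : IsPGroup 2 U := hSp.to_le hUS
  have hQTN : Q ⊔ T ≤ Subgroup.normalizer (Q : Set G) := sup_le Subgroup.le_normalizer hTN
  have hcomm : ∀ u ∈ U, ∀ t ∈ T, u * t = t * u := by
    intro u hu t ht
    have h1 : u * t * u⁻¹ ∈ T := (Subgroup.mem_normalizer_iff.1 (hUT hu) t).1 ht
    have h2 : t * u⁻¹ * t⁻¹ ∈ Q := (Subgroup.mem_normalizer_iff.1 (hTN ht) u⁻¹).1 (inv_mem (hUQ hu))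
    have h3 : u * t * u⁻¹ * t⁻¹ ∈ T ⊓ Q := by
      refine Subgroup.mem_inf.2 ⟨mul_mem h1 (inv_mem ht), ?_⟩
      have e : u * t * u⁻¹ * t⁻¹ = u * (t * u⁻¹ * t⁻¹) := by group
      rw [e]
      exact mul_mem (hUQ hu) h2
    rw [hTQ, Subgroup.mem_bot] at h3
    have h4 : u * t * u⁻¹ = t := mul_inv_eq_one.1 h3
    exact mul_inv_eq_iff_eq_mul.1 h4
  -- the first four parts
  refine ⟨hTQ, ?_, ?_, ?_, ?_⟩
  · rw [eq_bot_iff]
    intro x hx
    obtain ⟨h2, h3⟩ := Subgroup.mem_inf.1 hx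
    have : x ∈ T ⊓ Q := Subgroup.mem_inf.2 ⟨h2, hUQ h3⟩
    rwa [hTQ] at this
  · rw [Subgroup.commutator_eq_bot_iff_le_centralizer]
    intro t ht
    rw [Subgroup.mem_centralizer_iff]
    intro u hu
    exact hcomm u hu t ht
  · apply le_antisymm
    · exact sup_le (le_inf hTS Subgroup.le_normalizer) inf_le_left
    · intro x hx
      obtain ⟨hxS, hxN⟩ := Subgroup.mem_inf.1 hx
      obtain ⟨q, hq, t, ht, rfl⟩ := Cfsg.Agent.Lib.Techniques.mem_sup_of_le_normalizer hTN (hS hxS)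
      have hqS : q ∈ S := by
        have : q = q * t * t⁻¹ := by group
        rw [this]
        exact mul_mem hxS (inv_mem (hTS ht))
      have hqN : q ∈ Subgroup.normalizer (T : Set G) := by
        have : q = q * t * t⁻¹ := by group
        rw [this]
        exact mul_mem hxN (inv_mem (Subgroup.le_normalizer ht))
      rw [sup_comm]
      exact Subgroup.mul_mem_sup (Subgroup.mem_inf.2 ⟨Subgroup.mem_inf.2 ⟨hqS, hqN⟩, hq⟩) ht
  · -- the isomorphism
    have hSyl : Cfsg.Agent.Lib.Techniques.SylowIn 2 S (Q ⊔ T) := ⟨hS, hSsyl⟩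
    set R : Subgroup G := S ⊓ Q with hR
    have hRs : Cfsg.Agent.Lib.Techniques.SylowIn 2 R Q :=
      hSyl.inf_of_normal le_sup_left hQTN
    have hUR : U ≤ R := le_inf hUS hUQ
    have hTnR : T ≤ Subgroup.normalizer (R : Set G) := by
      intro t ht
      rw [Subgroup.mem_normalizer_iff]
      intro h
      rw [hR, Subgroup.mem_inf, Subgroup.mem_inf,
        (Subgroup.mem_normalizer_iff.1 (Subgroup.le_normalizer (hTS ht)) h),
        (Subgroup.mem_normalizer_iff.1 (hTN ht) h)]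
    -- `U` normalizes `Q'`
    have hUN : U ≤ Subgroup.normalizer (Q' : Set G) := by
      intro u hu
      obtain ⟨t, ht, ht1⟩ : ∃ t ∈ T, t ≠ 1 := by
        by_contra h
        push Not at h
        exact hT1 ((Subgroup.eq_bot_iff_forall _).2 h)
      refine tight_key hQ't (hTQ' ht) ?_ (two_dvd_orderOf_of_isPGroup hTp ht ht1)
      refine ⟨t, hTQ' ht, ?_⟩
      have := hcomm u hu t ht
      show u * t * u⁻¹ = t
      rw [this]; group
    -- first injection
    have hinj1 : U ≠ R → ∃ f : T →* U, Function.Injective f := by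
      intro hne
      refine exists_inj_of_fixed hRs.2.1 hTp hTnR hUR hcomm ?_ ?_ hne
      · rw [eq_bot_iff, ← hTQ]
        exact inf_le_inf_left _ inf_le_right
      · intro t ht ht1 v hv hvt
        have hvN : v ∈ Subgroup.normalizer (Q' : Set G) := by
          refine tight_key hQ't (hTQ' ht) ?_ (two_dvd_orderOf_of_isPGroup hTp ht ht1)
          refine ⟨t, hTQ' ht, ?_⟩
          show v * t * v⁻¹ = t
          rw [hvt]; group
        refine Subgroup.mem_inf.2 ⟨Subgroup.mem_inf.2 ⟨hv.1, ?_⟩, hv.2⟩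
        rw [Subgroup.mem_normalizer_iff]
        intro t'
        -- `v` centralizes `T`
        have key : ∀ t' ∈ T, v * t' * v⁻¹ = t' := by
          intro t' ht'
          have h1 : t' * v⁻¹ * t'⁻¹ ∈ R := (Subgroup.mem_normalizer_iff.1 (hTnR ht') v⁻¹).1 (inv_mem hv)
          have h2 : v * t' * v⁻¹ ∈ Q' := (Subgroup.mem_normalizer_iff.1 hvN t').1 (hTQ' ht')
          have h3 : v * t' * v⁻¹ * t'⁻¹ ∈ R := by
            have e : v * t' * v⁻¹ * t'⁻¹ = v * (t' * v⁻¹ * t'⁻¹) := by group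
            rw [e]
            exact mul_mem hv h1
          have h4 : v * t' * v⁻¹ * t'⁻¹ ∈ Q' := mul_mem h2 (inv_mem (hTQ' ht'))
          have h5 : R ⊓ (Q ⊓ Q') = ⊥ := inf_eq_bot_of_odd hRs.2.1 hodd
          have h6 : v * t' * v⁻¹ * t'⁻¹ ∈ R ⊓ (Q ⊓ Q') :=
            Subgroup.mem_inf.2 ⟨h3, Subgroup.mem_inf.2 ⟨hRs.1 h3, h4⟩⟩
          rw [h5, Subgroup.mem_bot] at h6
          exact mul_inv_eq_one.1 h6
        constructor
        · intro h
          rw [key t' h]
          exact h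
        · intro h
          have h1 : v⁻¹ * (v * t' * v⁻¹) * v⁻¹⁻¹ = t' := by group
          have h2 : v⁻¹ * (v * t' * v⁻¹) * v⁻¹⁻¹ ∈ T := by
            have h3 := key _ h
            have h4 : v⁻¹ * (v * t' * v⁻¹) * v = v * t' * v⁻¹ := by
              have : v * (v * t' * v⁻¹) * v⁻¹ = v * t' * v⁻¹ := h3
              have h5 : v * t' * v⁻¹ = v⁻¹ * (v * (v * t' * v⁻¹) * v⁻¹) * v := by group
              calc v⁻¹ * (v * t' * v⁻¹) * v = v⁻¹ * (v * (v * t' * v⁻¹) * v⁻¹) * v := by rw [h3]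
                _ = v * t' * v⁻¹ := h5.symm
            rw [inv_inv, h4]
            exact h
          rw [h1] at h2
          exact h2
    -- a `U`-invariant Sylow subgroup `R'` of `Q'` containing `T`
    have hUTp : IsPGroup 2 ↥(U ⊔ T) := by
      refine IsPGroup.to_sup_of_normal_left' hUp hTp ?_
      intro t ht
      rw [Subgroup.mem_normalizer_iff]
      intro h
      constructor
      · intro hh
        have := hcomm h hh t ht
        have e : t * h * t⁻¹ = h := by rw [← this]; group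
        rw [e]; exact hh
      · intro hh
        have := hcomm _ hh t ht
        have e : t * h * t⁻¹ * t = t * (t * h * t⁻¹) := this
        have e2 : h = t * h * t⁻¹ := by
          have : t * h = t * (t * h * t⁻¹) := by
            rw [← e]; group
          exact mul_left_cancel this
        rw [e2]; exact hh
    have hH' : Q' ≤ Q' ⊔ U := le_sup_left
    have hUH : U ⊔ T ≤ Q' ⊔ U := sup_le le_sup_right (hTQ'.trans le_sup_left)
    obtain ⟨S', hS', hS's⟩ := Cfsg.Agent.Lib.Techniques.exists_sylowIn_ge hUH hUTp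
    set R' : Subgroup G := S' ⊓ Q' with hR'
    have hQ'UN : Q' ⊔ U ≤ Subgroup.normalizer (Q' : Set G) := sup_le Subgroup.le_normalizer hUN
    have hR's : Cfsg.Agent.Lib.Techniques.SylowIn 2 R' Q' := hS's.inf_of_normal le_sup_left hQ'UN
    have hTR' : T ≤ R' := le_inf (le_sup_right.trans hS') hTQ'
    have hUnR' : U ≤ Subgroup.normalizer (R' : Set G) := by
      intro u hu
      rw [Subgroup.mem_normalizer_iff]
      intro h
      have hu' : u ∈ S' := hS' (Subgroup.mem_sup_left hu)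
      rw [hR', Subgroup.mem_inf, Subgroup.mem_inf,
        (Subgroup.mem_normalizer_iff.1 (Subgroup.le_normalizer hu') h),
        (Subgroup.mem_normalizer_iff.1 (hUN hu) h)]
    -- second injection
    have hTsylB : Cfsg.Agent.Lib.Techniques.SylowIn 2 T (Q' ⊓ Subgroup.normalizer (Q : Set G)) := ⟨hT, hTsyl⟩
    have hinj2 : T ≠ R' → ∃ f : U →* T, Function.Injective f := by
      intro hne
      refine exists_inj_of_fixed hR's.2.1 hUp hUnR' hTR' (fun t ht u hu => (hcomm u hu t ht).symm) ?_ ?_ hne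
      · have h5 : U ⊓ (Q ⊓ Q') = ⊥ := inf_eq_bot_of_odd hUp hodd
        rw [eq_bot_iff]
        intro x hx
        obtain ⟨h1, h2⟩ := Subgroup.mem_inf.1 hx
        have : x ∈ U ⊓ (Q ⊓ Q') := Subgroup.mem_inf.2 ⟨h1, Subgroup.mem_inf.2 ⟨hUQ h1, hR's.1 h2⟩⟩
        rwa [h5] at this
      · intro u hu hu1 v hv hvu
        have hvN : v ∈ Subgroup.normalizer (Q : Set G) := by
          refine tight_key hQ (hUQ hu) ?_ (two_dvd_orderOf_of_isPGroup hUp hu hu1)
          refine ⟨u, hUQ hu, ?_⟩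
          show v * u * v⁻¹ = u
          rw [hvu]; group
        -- `R' ⊓ B` is a 2-group containing `T`
        have hB : R' ⊓ (Q' ⊓ Subgroup.normalizer (Q : Set G)) = T := by
          refine hTsylB.eq_of_le (le_inf hTR' hT) inf_le_right ?_
          exact hR's.2.1.to_le inf_le_left
        rw [← hB]
        exact Subgroup.mem_inf.2 ⟨hv, Subgroup.mem_inf.2 ⟨hR's.1 hv, hvN⟩⟩
    -- cardinalities
    have hcardR : Nat.card R = Nat.card R' := by
      have h1 := hRs.conj g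
      have h2 := h1.card_eq hR's
      rw [← h2]
      exact (Cfsg.Agent.Lib.Techniques.card_conjS g R).symm
    have hbij : ∀ {A B : Subgroup G} (f : A →* B) (f' : B →* A), Function.Injective f → Function.Injective f' →
        Nonempty (↥B ≃* ↥A) := by
      intro A B f f' hf hf'
      have h1 : Nat.card A ≤ Nat.card B := Nat.card_le_card_of_injective f hf
      have h2 : Nat.card B ≤ Nat.card A := Nat.card_le_card_of_injective f' hf'
      have h3 : Function.Bijective f := (Nat.bijective_iff_injective_and_card f).2 ⟨hf, le_antisymm h1 h2⟩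
      exact ⟨(MulEquiv.ofBijective f h3).symm⟩
    by_cases h1 : U = R
    · by_cases h2 : T = R'
      · -- conjugate Sylow subgroups
        obtain ⟨c, -, hc⟩ := (hRs.conj g).exists_conj_eq hR's
        have e : Cfsg.Agent.Lib.Techniques.conjS (c * g) U = T := by
          rw [Cfsg.Agent.Lib.Techniques.conjS_mul, h1, hc, h2]
        exact ⟨((MulAut.conj (c * g)).subgroupMap U).trans (MulEquiv.subgroupCongr e)⟩
      · exfalso
        obtain ⟨f, hf⟩ := hinj2 h2
        have h3 : Nat.card U ≤ Nat.card T := Nat.card_le_card_of_injective f hf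
        have h5 : Nat.card T < Nat.card R' := lt_of_le_of_ne (Subgroup.card_le_of_le hTR')
          (fun h => h2 (Subgroup.eq_of_le_of_card_ge hTR' h.ge))
        rw [h1] at h3
        omega
    · by_cases h2 : T = R'
      · exfalso
        obtain ⟨f, hf⟩ := hinj1 h1
        have h3 : Nat.card T ≤ Nat.card U := Nat.card_le_card_of_injective f hf
        have h5 : Nat.card U < Nat.card R := lt_of_le_of_ne (Subgroup.card_le_of_le hUR)
          (fun h => h1 (Subgroup.eq_of_le_of_card_ge hUR h.ge))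
        rw [h2] at h3
        omega
      · obtain ⟨f, hf⟩ := hinj1 h1
        obtain ⟨f', hf'⟩ := hinj2 h2
        exact hbij f f' hf hf'


end Cfsg.Agent.S1910
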