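import Cfsg.Statements.S1921
import Mathlib
import Cfsg.Agent.Lib.FStar.Basic

set_option autoImplicit false
open Cfsg

namespace Cfsg.Agent.S1921

/-- Let a be an involution of a finite group H and L a component of H with a L a⁻¹ ≠ L; put M = ⟨L, aLa⁻¹⟩ and let J be the subgroup generated by the elements x · a x a⁻¹ with x ∈ L (the diagonal). Then every element of M outside J·Z(M) generates M together with J. -/
theorem result {H : Type*} [Group H] [Finite H] (a : H) (ha : orderOf a = 2) (L : Subgroup H) (hL : Cfsg.IsComponent L)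
    (hLa : L.map (MulAut.conj a).toMonoidHom ≠ L) (x : H) (hxM : x ∈ L ⊔ L.map (MulAut.conj a).toMonoidHom)
    (hxJ : x ∉ Subgroup.closure {y : H | ∃ l ∈ L, y = l * (a * l * a⁻¹)} ⊔
      ((L ⊔ L.map (MulAut.conj a).toMonoidHom) ⊓ Subgroup.centralizer ((L ⊔ L.map (MulAut.conj a).toMonoidHom : Subgroup H) : Set H))) :
    Subgroup.closure {y : H | ∃ l ∈ L, y = l * (a * l * a⁻¹)} ⊔ Subgroup.zpowers x = L ⊔ L.map (MulAut.conj a).toMonoidHom := by
  classical
  set La : Subgroup H := L.map (MulAut.conj a).toMonoidHom with hLa'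
  set J : Subgroup H := Subgroup.closure {y : H | ∃ l ∈ L, y = l * (a * l * a⁻¹)} with hJ
  have hmemLa : ∀ l ∈ L, a * l * a⁻¹ ∈ La := fun l hl => ⟨l, hl, rfl⟩
  have hLac : Cfsg.IsComponent La := Cfsg.Agent.Lib.FStar.component_map_conj a hL
  have hcomm := Cfsg.Agent.Lib.FStar.component_commute hL hLac (Ne.symm hLa)
  have hcm : ∀ u ∈ L, ∀ v ∈ La, u * v = v * u :=
    fun u hu v hv => Cfsg.Agent.Lib.FStar.mul_comm_of_commutator_eq_bot hcomm hu hv
  obtain ⟨l₁, hl₁, v, hv, hxe⟩ := Cfsg.Agent.Lib.FStar.mem_sup_of_commuting hcm hxM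
  obtain ⟨l₂, hl₂, rfl⟩ := hv
  have hve : (MulAut.conj a).toMonoidHom l₂ = a * l₂ * a⁻¹ := rfl
  rw [hve] at hxe
  set y : H := l₁ * l₂⁻¹ with hy
  have hyL : y ∈ L := mul_mem hl₁ (inv_mem hl₂)
  have hjJ : ∀ l ∈ L, l * (a * l * a⁻¹) ∈ J := fun l hl => Subgroup.subset_closure ⟨l, hl, rfl⟩
  have hxy : x = y * (l₂ * (a * l₂ * a⁻¹)) := by
    rw [← hxe, hy]; group
  apply le_antisymm
  · refine sup_le ?_ ((Subgroup.zpowers_le).2 hxM)
    refine (Subgroup.closure_le _).2 ?_
    rintro _ ⟨l, hl, rfl⟩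
    exact mul_mem (Subgroup.mem_sup_left hl) (Subgroup.mem_sup_right (hmemLa l hl))
  · set K : Subgroup H := J ⊔ Subgroup.zpowers x with hK
    have hJK : J ≤ K := le_sup_left
    have hxK : x ∈ K := Subgroup.mem_sup_right (Subgroup.mem_zpowers x)
    have hyK : y ∈ K := by
      have : y = x * (l₂ * (a * l₂ * a⁻¹))⁻¹ := by rw [hxy]; group
      rw [this]
      exact mul_mem hxK (inv_mem (hJK (hjJ l₂ hl₂)))
    -- `y` is not central in `L`
    have hyZ : ∃ l ∈ L, y * l ≠ l * y := by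
      by_contra hcon
      push Not at hcon
      apply hxJ
      rw [hxy]
      refine mul_mem (Subgroup.mem_sup_right ?_) (Subgroup.mem_sup_left (hjJ l₂ hl₂))
      refine Subgroup.mem_inf.2 ⟨Subgroup.mem_sup_left hyL, ?_⟩
      rw [Subgroup.mem_centralizer_iff]
      intro h hh
      have hh' : h ∈ L ⊔ La := hh
      obtain ⟨u, hu, w, hw, rfl⟩ := Cfsg.Agent.Lib.FStar.mem_sup_of_commuting hcm hh'
      have h1 := hcon u hu
      have h2 := hcm y hyL w hw
      calc u * w * y = u * (w * y) := by group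
        _ = u * (y * w) := by rw [h2]
        _ = (u * y) * w := by group
        _ = (y * u) * w := by rw [h1]
        _ = y * (u * w) := by group
    -- `K ⊓ L` is normal in `L`
    have hLK : L ≤ K := by
      let N : Subgroup ↥L := K.subgroupOf L
      haveI hNn : N.Normal := by
        constructor
        intro n hn g
        rw [Subgroup.mem_subgroupOf] at hn ⊢
        have hg := hjJ g g.2
        have hcg : (n : H) * (a * (g : H) * a⁻¹) = (a * (g : H) * a⁻¹) * n :=
          hcm n n.2 _ (hmemLa g g.2)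
        have e : (((g * n * g⁻¹ : ↥L)) : H) =
            ((g : H) * (a * (g : H) * a⁻¹)) * n * ((g : H) * (a * (g : H) * a⁻¹))⁻¹ := by
          calc (((g * n * g⁻¹ : ↥L)) : H) = (g : H) * n * (g : H)⁻¹ := rfl
            _ = (g : H) * (n * (a * (g : H) * a⁻¹)) * (a * (g : H) * a⁻¹)⁻¹ * (g : H)⁻¹ := by group
            _ = (g : H) * ((a * (g : H) * a⁻¹) * n) * (a * (g : H) * a⁻¹)⁻¹ * (g : H)⁻¹ := by rw [hcg]
            _ = _ := by group
        rw [e]
        exact mul_mem (mul_mem (hJK hg) hn) (inv_mem (hJK hg))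
      rcases Cfsg.Agent.Lib.FStar.qs_normal_eq_top_or_le_center hL.2 N with h | h
      · exact (Subgroup.subgroupOf_eq_top).1 h
      · exfalso
        obtain ⟨l, hl, hne⟩ := hyZ
        apply hne
        have h1 : (⟨y, hyL⟩ : ↥L) ∈ N := by
          rw [Subgroup.mem_subgroupOf]
          exact hyK
        have h2 := h h1
        rw [Subgroup.mem_center_iff] at h2
        have h3 := h2 ⟨l, hl⟩
        exact (congrArg Subtype.val h3).symm
    refine sup_le hLK ?_
    rintro _ ⟨l, hl, rfl⟩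
    show a * l * a⁻¹ ∈ K
    have : a * l * a⁻¹ = l⁻¹ * (l * (a * l * a⁻¹)) := by group
    rw [this]
    exact mul_mem (inv_mem (hLK hl)) (hJK (hjJ l hl))


end Cfsg.Agent.S1921
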