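import Cfsg.Statements.S1922
import Mathlib
import Cfsg.Agent.Lib.Core.Conj

set_option autoImplicit false
open Cfsg

namespace Cfsg.Agent.S1922

open Subgroup
open scoped Pointwise

section Aux

variable {G : Type*} [Group G]

theorem mem_map_conj (H : Subgroup G) (g x : G) :
    x ∈ H.map (MulAut.conj g).toMonoidHom ↔ g⁻¹ * x * g ∈ H := by
  constructor
  · rintro ⟨y, hy, rfl⟩
    have : g⁻¹ * ((MulAut.conj g).toMonoidHom y) * g = y := by
      simp [MulAut.conj_apply, mul_assoc]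
    rwa [this]
  · intro h
    exact ⟨_, h, by simp [MulAut.conj_apply, mul_assoc]⟩

/-- The reflections of the dihedral group generated by two conjugates are conjugates. -/
theorem reflection_conj {z a b : G} (ha : IsConj z a) (hb : IsConj z b) (haa : a * a = 1) (hbb : b * b = 1) :
    ∀ j : ℕ, IsConj z (a * (a * b) ^ j) ∧ IsConj z (a * (a * b) ^ (j + 1)) := by
  have haI : a⁻¹ = a := inv_eq_of_mul_eq_one_left haa
  have hbI : b⁻¹ = b := inv_eq_of_mul_eq_one_left hbb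
  intro j
  induction j with
  | zero =>
    refine ⟨by simpa using ha, ?_⟩
    have : a * (a * b) ^ (0 + 1) = b := by
      rw [zero_add, pow_one, ← mul_assoc, haa, one_mul]
    rw [this]; exact hb
  | succ j ih =>
    refine ⟨ih.2, ?_⟩
    have e : a * (a * b) ^ (j + 1 + 1) = (a * b)⁻¹ * (a * (a * b) ^ j) * (a * b) := by
      have e1 : (a * b)⁻¹ * (a * (a * b) ^ j) = b * (a * b) ^ j := by
        rw [mul_inv_rev, haI, hbI, mul_assoc, ← mul_assoc a a, haa, one_mul]
      rw [e1, pow_succ' (a * b) (j + 1), ← mul_assoc, ← mul_assoc, haa, one_mul, pow_succ, mul_assoc]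
    rw [e]
    refine ih.1.trans ?_
    rw [isConj_iff]
    exact ⟨(a * b)⁻¹, by rw [inv_inv]⟩

/-- Inverting the powers. -/
theorem conj_inv_pow {a ρ : G} (haI : a⁻¹ = a) (h : a * ρ * a = ρ⁻¹) (m : ℕ) : a * ρ ^ m * a = (ρ ^ m)⁻¹ := by
  have e := conj_pow (a := a) (b := ρ) (i := m)
  rw [haI, h, inv_pow] at e
  exact e.symm

end Aux

section Main

variable {G : Type*} [Group G] [Finite G] {z : G} {H : Subgroup G}

/-- The standing situation. -/
structure Sit (z : G) (H : Subgroup G) : Prop where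
  zz : z * z = 1
  h0 : ∀ g : G, g⁻¹ * z * g ∈ H ↔ g ∈ H
  h1 : ∀ t : G, IsConj z t → t ≠ z → t * z = z * t → ∀ g : G, g⁻¹ * (z * t) * g ∈ H ↔ g ∈ H

namespace Sit

variable (S : Sit z H)
include S

theorem z_mem : z ∈ H := by
  have := (S.h0 1).mpr H.one_mem
  simpa using this

theorem conj_mem_iff (f : G) : f * z * f⁻¹ ∈ H ↔ f ∈ H := by
  have := S.h0 f⁻¹
  simp only [inv_inv] at this
  rw [this]
  exact H.inv_mem_iff

theorem cent_le {c : G} (hc : c * z = z * c) : c ∈ H := by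
  apply (S.h0 c).mp
  have : c⁻¹ * z * c = z := by rw [mul_assoc, ← hc, inv_mul_cancel_left]
  rw [this]
  exact S.z_mem

theorem conj_sq (f : G) : (f * z * f⁻¹) * (f * z * f⁻¹) = 1 := by
  have : (f * z * f⁻¹) * (f * z * f⁻¹) = f * (z * z) * f⁻¹ := by group
  rw [this, S.zz]
  group

theorem conj_sq' {c : G} (hc : IsConj z c) : c * c = 1 := by
  obtain ⟨f, rfl⟩ := isConj_iff.mp hc
  exact S.conj_sq f

/-- Two conjugates with different fixed points have a product of odd order. -/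
theorem odd_order (f f' : G) (hff : f⁻¹ * f' ∉ H) :
    Odd (orderOf ((f' * z * f'⁻¹) * (f * z * f⁻¹))) := by
  have haC : IsConj z (f * z * f⁻¹) := isConj_iff.mpr ⟨f, rfl⟩
  have hbC : IsConj z (f' * z * f'⁻¹) := isConj_iff.mpr ⟨f', rfl⟩
  have haa := S.conj_sq f
  have hbb := S.conj_sq f'
  obtain ⟨a, hadef⟩ : ∃ a, a = f * z * f⁻¹ := ⟨_, rfl⟩
  obtain ⟨b, hbdef⟩ : ∃ b, b = f' * z * f'⁻¹ := ⟨_, rfl⟩
  rw [← hadef] at haC haa ⊢
  rw [← hbdef] at hbC hbb ⊢
  by_contra hodd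
  rw [Nat.not_odd_iff_even] at hodd
  obtain ⟨m, hm⟩ := hodd
  have hpos : 0 < orderOf (b * a) := orderOf_pos _
  have hm0 : 0 < m := by omega
  have haI : a⁻¹ = a := inv_eq_of_mul_eq_one_left haa
  have hbI : b⁻¹ = b := inv_eq_of_mul_eq_one_left hbb
  obtain ⟨c, hcdef⟩ : ∃ c, c = (b * a) ^ m := ⟨_, rfl⟩
  have hc1 : c ≠ 1 := by
    rw [hcdef]
    exact pow_ne_one_of_lt_orderOf hm0.ne' (by omega)
  have hcc : c * c = 1 := by
    rw [hcdef, ← pow_add, ← hm, pow_orderOf_eq_one]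
  have hcI : c⁻¹ = c := inv_eq_of_mul_eq_one_left hcc
  have hca : a * c * a = c := by
    have h1 : a * (b * a) * a = (b * a)⁻¹ := by
      rw [mul_inv_rev, haI, hbI, mul_assoc, mul_assoc, haa, mul_one]
    rw [hcdef, conj_inv_pow haI h1, ← hcdef, hcI]
  have hcb : b * c * b = c := by
    have h1 : b * (b * a) * b = (b * a)⁻¹ := by
      rw [mul_inv_rev, haI, hbI, ← mul_assoc, hbb, one_mul]
    rw [hcdef, conj_inv_pow hbI h1, ← hcdef, hcI]
  have hb2 : IsConj z (b * c) := by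
    rw [hcdef]
    exact (reflection_conj hbC haC hbb haa m).1
  obtain ⟨t, htdef⟩ : ∃ t, t = f'⁻¹ * (b * c) * f' := ⟨_, rfl⟩
  have ht : IsConj z t := by
    refine hb2.trans (isConj_iff.mpr ⟨f'⁻¹, ?_⟩)
    rw [htdef, inv_inv]
  have hb2t : b * c = f' * t * f'⁻¹ := by
    rw [htdef]; group
  have htz : t ≠ z := by
    intro h0
    rw [h0, ← hbdef] at hb2t
    apply hc1
    exact mul_left_cancel (a := b) (by rw [hb2t, mul_one])
  have hzf : z = f'⁻¹ * b * f' := by
    rw [hbdef]; group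
  have hzt : z * t = f'⁻¹ * c * f' := by
    rw [hzf, htdef]
    have : f'⁻¹ * b * f' * (f'⁻¹ * (b * c) * f') = f'⁻¹ * ((b * b) * c) * f' := by group
    rw [this, hbb, one_mul]
  have htc : t * z = z * t := by
    rw [hzt, hzf, htdef]
    have : f'⁻¹ * (b * c) * f' * (f'⁻¹ * b * f') = f'⁻¹ * (b * c * b) * f' := by group
    rw [this, hcb]
  have hw := S.h1 t ht htz htc
  rw [hzt] at hw
  have hwH : f'⁻¹ * c * f' ∈ H := by
    have := (hw 1).mpr H.one_mem
    simpa using this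
  have hacomm : a * c = c * a := by
    have : a * c * a * a = c * a := by rw [hca]
    rwa [mul_assoc, haa, mul_one] at this
  have hy : f'⁻¹ * a * f' ∈ H := by
    apply (hw _).mp
    have : (f'⁻¹ * a * f')⁻¹ * (f'⁻¹ * c * f') * (f'⁻¹ * a * f') = f'⁻¹ * (a⁻¹ * (c * a)) * f' := by group
    rw [this, ← hacomm, inv_mul_cancel_left]
    exact hwH
  apply hff
  apply (S.h0 _).mp
  have : (f⁻¹ * f')⁻¹ * z * (f⁻¹ * f') = f'⁻¹ * a * f' := by
    rw [hadef]; group
  rw [this]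
  exact hy

variable {g : G}

/-- `T` : the conjugates of `z` swapping the two points. -/
def T (z g : G) (H : Subgroup G) : Set G := {c | IsConj z c ∧ c * g ∈ H}

/-- `K`: the conjugates of `z` in `H`. -/
def K (z : G) (H : Subgroup G) : Set G := {a | ∃ h ∈ H, a = h * z * h⁻¹}

theorem T_not_mem (hg : g ∉ H) {c : G} (hc : c ∈ T z g H) : c ∉ H := fun h => hg (by
  have := H.mul_mem (H.inv_mem h) hc.2
  rwa [inv_mul_cancel_left] at this)

/-- `c` is determined by the image of `b` under conjugation. -/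
theorem det (hg : g ∉ H) {c : G} (hc : c ∈ T z g H) :
    c = (c * (g * z * g⁻¹) * c⁻¹) * ((c * (g * z * g⁻¹) * c⁻¹) * (g * z * g⁻¹)) ^
      ((orderOf ((c * (g * z * g⁻¹) * c⁻¹) * (g * z * g⁻¹)) + 1) / 2) := by
  obtain ⟨f, hf⟩ := isConj_iff.mp hc.1
  have hcc := S.conj_sq' hc.1
  have hcI : c⁻¹ = c := inv_eq_of_mul_eq_one_left hcc
  have hae : c * (g * z * g⁻¹) * c⁻¹ = (c * g) * z * (c * g)⁻¹ := by group
  have hodd : Odd (orderOf (c * (c * (g * z * g⁻¹) * c⁻¹))) := by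
    have hff : (c * g)⁻¹ * f ∉ H := by
      intro h
      have h1 : f ∈ H := by
        have := H.mul_mem hc.2 h
        rwa [mul_inv_cancel_left] at this
      apply S.T_not_mem hg hc
      rw [← hf]
      exact (S.conj_mem_iff f).mpr h1
    have := S.odd_order (c * g) f hff
    rwa [hf, ← hae] at this
  have haa0 : (c * (g * z * g⁻¹) * c⁻¹) * (c * (g * z * g⁻¹) * c⁻¹) = 1 := by
    rw [hae]; exact S.conj_sq _
  obtain ⟨a, hadef⟩ : ∃ a, a = c * (g * z * g⁻¹) * c⁻¹ := ⟨_, rfl⟩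
  obtain ⟨b, hbdef⟩ : ∃ b, b = g * z * g⁻¹ := ⟨_, rfl⟩
  rw [← hadef] at hodd haa0 ⊢
  rw [← hbdef] at hadef ⊢
  have haa : a * a = 1 := haa0
  have hcab : c * a * c = b := by
    rw [hadef, hcI]
    have : c * (c * b * c) * c = (c * c) * b * (c * c) := by group
    rw [this, hcc]
    group
  have hx2 : (a * c) ^ 2 = a * b := by
    rw [pow_two, ← hcab]
    group
  have hoddx : Odd (orderOf (a * c)) := by
    have : (c * a)⁻¹ = a * c := by
      rw [mul_inv_rev, hcI, inv_eq_of_mul_eq_one_left haa]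
    rw [← this, orderOf_inv]
    exact hodd
  have hco : (orderOf (a * c)).Coprime 2 := by
    exact Nat.coprime_two_right.mpr hoddx
  have hord : orderOf (a * b) = orderOf (a * c) := by
    rw [← hx2]
    exact hco.orderOf_pow
  obtain ⟨l, hl⟩ := hoddx
  have hpw : (a * b) ^ ((orderOf (a * b) + 1) / 2) = a * c := by
    rw [hord, hl]
    have : (2 * l + 1 + 1) / 2 = l + 1 := by omega
    rw [this, ← hx2, ← pow_mul]
    have h2 : 2 * (l + 1) = orderOf (a * c) + 1 := by omega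
    rw [h2, pow_succ, pow_orderOf_eq_one, one_mul]
  rw [hpw, ← mul_assoc, haa, one_mul]

/-- The surjectivity step: every conjugate of `z` in `H` is hit. -/
theorem surj (hg : g ∉ H) {a : G} (ha : a ∈ K z H) : ∃ c ∈ T z g H, c * (g * z * g⁻¹) * c⁻¹ = a := by
  obtain ⟨h, hh, rfl⟩ := ha
  have hbC : IsConj z (g * z * g⁻¹) := isConj_iff.mpr ⟨g, rfl⟩
  have haC : IsConj z (h * z * h⁻¹) := isConj_iff.mpr ⟨h, rfl⟩
  have haa := S.conj_sq h
  have hbb := S.conj_sq g
  have hff : h⁻¹ * g ∉ H := fun h1 => hg (by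
    have := H.mul_mem hh h1
    rwa [mul_inv_cancel_left] at this)
  have hodd := S.odd_order h g hff
  obtain ⟨a, hadef⟩ : ∃ a, a = h * z * h⁻¹ := ⟨_, rfl⟩
  obtain ⟨b, hbdef⟩ : ∃ b, b = g * z * g⁻¹ := ⟨_, rfl⟩
  rw [← hadef] at haC haa hodd ⊢
  rw [← hbdef] at hbC hbb hodd ⊢
  have haI : a⁻¹ = a := inv_eq_of_mul_eq_one_left haa
  have hbI : b⁻¹ = b := inv_eq_of_mul_eq_one_left hbb
  have hodd' : Odd (orderOf (a * b)) := by
    have : (b * a)⁻¹ = a * b := by rw [mul_inv_rev, haI, hbI]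
    rw [← this, orderOf_inv]
    exact hodd
  obtain ⟨l, hl⟩ := hodd'
  obtain ⟨x, hxdef⟩ : ∃ x, x = (a * b) ^ (l + 1) := ⟨_, rfl⟩
  have hxx : x * x = a * b := by
    rw [hxdef, ← pow_add]
    have : l + 1 + (l + 1) = orderOf (a * b) + 1 := by omega
    rw [this, pow_succ, pow_orderOf_eq_one, one_mul]
  have hinv1 : a * (a * b) * a = (a * b)⁻¹ := by
    rw [mul_inv_rev, haI, hbI, ← mul_assoc, haa, one_mul]
  have haxa : a * x * a = x⁻¹ := by
    rw [hxdef]
    exact conj_inv_pow haI hinv1 _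
  have hcC : IsConj z (a * x) := by
    rw [hxdef]
    exact (reflection_conj haC hbC haa hbb l).2
  have hbe : b = a * (x * x) := by
    rw [hxx, ← mul_assoc, haa, one_mul]
  have hax : a * x = x⁻¹ * a := by
    have : a * x * a * a = x⁻¹ * a := by rw [haxa]
    rwa [mul_assoc, haa, mul_one] at this
  have hxa : x * a = a * x⁻¹ := by
    have h1 : a * (x * a) = x⁻¹ := by rw [← mul_assoc]; exact haxa
    have h2 : x * a = a * (a * (x * a)) := by rw [← mul_assoc, haa, one_mul]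
    rw [h2, h1]
  have hcc : (a * x) * (a * x) = 1 := by
    rw [hax]
    have : x⁻¹ * a * (x⁻¹ * a) = x⁻¹ * (a * x⁻¹) * a := by group
    rw [this, ← hxa]
    have : x⁻¹ * (x * a) * a = a * a := by group
    rw [this, haa]
  have hcI : (a * x)⁻¹ = a * x := inv_eq_of_mul_eq_one_left hcc
  have hconj : (a * x) * b * (a * x)⁻¹ = a := by
    rw [hcI, hbe]
    have e1 : a * x * (a * (x * x)) * (a * x) = (a * x * a) * x * (x * a) * x := by group
    rw [e1, haxa, hxa]
    group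
  refine ⟨a * x, ⟨hcC, ?_⟩, hconj⟩
  -- `cg ∈ H`
  have hcg : (a * x) * g * z * ((a * x) * g)⁻¹ = h * z * h⁻¹ := by
    have e : (a * x) * g * z * ((a * x) * g)⁻¹ = (a * x) * (g * z * g⁻¹) * (a * x)⁻¹ := by group
    rw [e, ← hbdef, hconj, hadef]
  have hcen : (h⁻¹ * ((a * x) * g)) * z = z * (h⁻¹ * ((a * x) * g)) := by
    have e1 : (h⁻¹ * ((a * x) * g)) * z * (h⁻¹ * ((a * x) * g))⁻¹ = z := by
      have : (h⁻¹ * ((a * x) * g)) * z * (h⁻¹ * ((a * x) * g))⁻¹ = h⁻¹ * ((a * x) * g * z * ((a * x) * g)⁻¹) * h := by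
        group
      rw [this, hcg]
      group
    exact mul_inv_eq_iff_eq_mul.mp e1
  have h1 := S.cent_le hcen
  have h2 := H.mul_mem hh h1
  rwa [mul_inv_cancel_left] at h2

/-- `|T| = |K|`. -/
theorem card_T_eq (hg : g ∉ H) : Nat.card (T z g H) = Nat.card (K z H) := by
  apply Nat.card_congr
  refine Equiv.ofBijective (fun c => ⟨(c : G) * (g * z * g⁻¹) * (c : G)⁻¹, (c : G) * g, c.2.2, by group⟩) ⟨?_, ?_⟩
  · intro c c' h
    have h1 : (c : G) * (g * z * g⁻¹) * (c : G)⁻¹ = (c' : G) * (g * z * g⁻¹) * (c' : G)⁻¹ :=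
      congrArg (fun x : K z H => (x : G)) h
    apply Subtype.ext
    rw [S.det hg c.2, S.det hg c'.2, h1]
  · intro a
    obtain ⟨c, hc, e⟩ := S.surj hg a.2
    exact ⟨⟨c, hc⟩, Subtype.ext e⟩

/-- `|T|` is odd, hence so is `|K|`. -/
theorem odd_card_K (hg : g ∉ H) : Odd (Nat.card (K z H)) := by
  classical
  rw [← S.card_T_eq hg]
  haveI := Fintype.ofFinite (T z g H)
  have hzK : z ∈ K z H := ⟨1, H.one_mem, by group⟩
  obtain ⟨c₀, hc₀, -⟩ := S.surj hg hzK
  have hcc₀ := S.conj_sq' hc₀.1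
  have hI₀ : c₀⁻¹ = c₀ := inv_eq_of_mul_eq_one_left hcc₀
  have hmem : ∀ c ∈ T z g H, c₀ * c * c₀ ∈ T z g H := by
    intro c hc
    refine ⟨hc.1.trans (isConj_iff.mpr ⟨c₀, by rw [hI₀]⟩), ?_⟩
    have hcI : c⁻¹ = c := inv_eq_of_mul_eq_one_left (S.conj_sq' hc.1)
    have e : c₀ * c * c₀ * g = (c₀ * g) * (c * g)⁻¹ * (c₀ * g) := by
      rw [mul_inv_rev, hcI]
      group
    rw [e]
    exact H.mul_mem (H.mul_mem hc₀.2 (H.inv_mem hc.2)) hc₀.2
  let F : Function.End (T z g H) := fun c => ⟨c₀ * c * c₀, hmem c c.2⟩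
  have hF : F ^ 2 ^ 1 = 1 := by
    funext c
    apply Subtype.ext
    show c₀ * (c₀ * (c : G) * c₀) * c₀ = c
    have : c₀ * (c₀ * (c : G) * c₀) * c₀ = (c₀ * c₀) * c * (c₀ * c₀) := by group
    rw [this, hcc₀]
    group
  have hmod := Equiv.Perm.card_fixedPoints_modEq (p := 2) (n := 1) hF
  have hfix : Fintype.card (Function.fixedPoints F) = 1 := by
    rw [Fintype.card_eq_one_iff]
    have hF0 : F ⟨c₀, hc₀⟩ = ⟨c₀, hc₀⟩ := by
      apply Subtype.ext
      show c₀ * c₀ * c₀ = c₀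
      rw [hcc₀, one_mul]
    refine ⟨⟨⟨c₀, hc₀⟩, hF0⟩, ?_⟩
    rintro ⟨⟨c, hc⟩, hcF⟩
    apply Subtype.ext
    apply Subtype.ext
    show c = c₀
    have hfc : c₀ * c * c₀ = c := congrArg (fun x : T z g H => (x : G)) hcF
    have hcomm : c * c₀ = c₀ * c := by
      have : c₀ * c * c₀ * c₀ = c * c₀ := by rw [hfc]
      rwa [mul_assoc, hcc₀, mul_one, eq_comm] at this
    by_contra hne
    obtain ⟨f₀, hf₀⟩ := isConj_iff.mp hc₀.1
    have ht : IsConj z (f₀⁻¹ * c * f₀) := hc.1.trans (isConj_iff.mpr ⟨f₀⁻¹, by rw [inv_inv]⟩)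
    have hzf : z = f₀⁻¹ * c₀ * f₀ := by rw [← hf₀]; group
    have htz : f₀⁻¹ * c * f₀ ≠ z := by
      intro h0
      apply hne
      have : c = f₀ * (f₀⁻¹ * c * f₀) * f₀⁻¹ := by group
      rw [this, h0]
      exact hf₀
    have htc : (f₀⁻¹ * c * f₀) * z = z * (f₀⁻¹ * c * f₀) := by
      rw [hzf]
      have e1 : f₀⁻¹ * c * f₀ * (f₀⁻¹ * c₀ * f₀) = f₀⁻¹ * (c * c₀) * f₀ := by group
      have e2 : f₀⁻¹ * c₀ * f₀ * (f₀⁻¹ * c * f₀) = f₀⁻¹ * (c₀ * c) * f₀ := by group
      rw [e1, e2, hcomm]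
    have hw := S.h1 _ ht htz htc
    have hzt : z * (f₀⁻¹ * c * f₀) = f₀⁻¹ * (c₀ * c) * f₀ := by
      rw [hzf]; group
    rw [hzt] at hw
    have hu : c₀ * c ∈ H := by
      have e : c₀ * c = (c₀ * g) * (c * g)⁻¹ := by
        have hcI : c⁻¹ = c := inv_eq_of_mul_eq_one_left (S.conj_sq' hc.1)
        rw [mul_inv_rev, hcI]
        group
      rw [e]
      exact H.mul_mem hc₀.2 (H.inv_mem hc.2)
    have h1 : f₀⁻¹ ∈ H := by
      apply (hw _).mp
      have : (f₀⁻¹)⁻¹ * (f₀⁻¹ * (c₀ * c) * f₀) * f₀⁻¹ = c₀ * c := by group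
      rw [this]
      exact hu
    have h2 : f₀ ∈ H := H.inv_mem_iff.mp h1
    apply S.T_not_mem hg hc₀
    rw [← hf₀]
    exact (S.conj_mem_iff f₀).mpr h2
  rw [Nat.card_eq_fintype_card, Nat.odd_iff]
  rw [hfix] at hmod
  exact hmod

theorem index_not_dvd (hz : orderOf z = 2) : ¬ 2 ∣ Nat.card (G ⧸ H) := by
  classical
  have hz2 : IsPGroup 2 (Subgroup.zpowers z) :=
    IsPGroup.of_card (n := 1) (by rw [Nat.card_zpowers, hz, pow_one])
  have h := hz2.card_modEq_card_fixedPoints (G ⧸ H)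
  have hfix : Nat.card (MulAction.fixedPoints (Subgroup.zpowers z) (G ⧸ H)) = 1 := by
    rw [Nat.card_eq_one_iff_unique]
    constructor
    · constructor
      rintro ⟨q, hq⟩ ⟨q', hq'⟩
      have key : ∀ q : G ⧸ H, q ∈ MulAction.fixedPoints (Subgroup.zpowers z) (G ⧸ H) → q = ((1 : G) : G ⧸ H) := by
        intro q hq
        obtain ⟨x, rfl⟩ := QuotientGroup.mk_surjective q
        have h1 := hq ⟨z, Subgroup.mem_zpowers z⟩
        have h2 : ((z * x : G) : G ⧸ H) = (x : G ⧸ H) := h1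
        have h3 : (z * x)⁻¹ * x ∈ H := QuotientGroup.eq.mp h2
        have h4 : x ∈ H := by
          apply (S.h0 x).mp
          have e : x⁻¹ * z * x = ((z * x)⁻¹ * x)⁻¹ := by group
          rw [e]
          exact H.inv_mem h3
        apply QuotientGroup.eq.mpr
        simpa using H.inv_mem h4 |> fun h5 => h5
      exact Subtype.ext ((key q hq).trans (key q' hq').symm)
    · refine ⟨⟨((1 : G) : G ⧸ H), ?_⟩⟩
      rintro ⟨y, hy⟩
      obtain ⟨k, rfl⟩ := Subgroup.mem_zpowers_iff.mp hy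
      apply QuotientGroup.eq.mpr
      have h1 : z ^ k ∈ H := H.zpow_mem S.z_mem k
      show (z ^ k * 1)⁻¹ * 1 ∈ H
      simpa using h1
  rw [hfix] at h
  intro hd
  have h2 : Nat.card (G ⧸ H) % 2 = 1 := h
  omega

theorem exists_sylow_le (hz : orderOf z = 2) : ∃ Q : Sylow 2 G, (Q : Subgroup G) ≤ H := by
  classical
  haveI : Fact (Nat.Prime 2) := ⟨Nat.prime_two⟩
  obtain ⟨P⟩ := (inferInstance : Nonempty (Sylow 2 G))
  obtain ⟨q, hq⟩ := P.isPGroup'.nonempty_fixed_point_of_prime_not_dvd_card (G ⧸ H) (S.index_not_dvd hz)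
  obtain ⟨x, rfl⟩ := QuotientGroup.mk_surjective q
  refine ⟨x⁻¹ • P, ?_⟩
  intro y hy
  have h1 : y ∈ MulAut.conj x⁻¹ • (P : Subgroup G) := hy
  rw [Cfsg.Agent.Lib.Core.mem_conj_smul_iff, inv_inv] at h1
  have h2 := hq ⟨_, h1⟩
  have h3 : ((x * y * x⁻¹ * x : G) : G ⧸ H) = (x : G ⧸ H) := h2
  have h4 : (x * y * x⁻¹ * x)⁻¹ * x ∈ H := QuotientGroup.eq.mp h3
  have e : y = ((x * y * x⁻¹ * x)⁻¹ * x)⁻¹ := by group
  rw [e]
  exact H.inv_mem h4

/-- The central conclusion. -/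
theorem exists_central (hz : orderOf z = 2) (hg : g ∉ H) :
    ∃ P : Sylow 2 G, z ∈ (Subgroup.center ↥(P : Subgroup G)).map (P : Subgroup G).subtype := by
  classical
  haveI : Fact (Nat.Prime 2) := ⟨Nat.prime_two⟩
  obtain ⟨Q, hQ⟩ := S.exists_sylow_le hz
  letI act : MulAction ↥(Q : Subgroup G) ↥(K z H) :=
    { smul := fun p a => ⟨(p : G) * a * (p : G)⁻¹, by
        obtain ⟨a, h, hh, rfl⟩ := a
        exact ⟨(p : G) * h, H.mul_mem (hQ p.2) hh, by group⟩⟩
      one_smul := fun a => Subtype.ext (by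
        show ((1 : G)) * (a : G) * (1 : G)⁻¹ = a
        group)
      mul_smul := fun p p' a => Subtype.ext (by
        show ((p : G) * p') * (a : G) * ((p : G) * p')⁻¹ = p * (p' * (a : G) * (p' : G)⁻¹) * (p : G)⁻¹
        group) }
  have hnd : ¬ 2 ∣ Nat.card (K z H) := by
    have := S.odd_card_K hg
    rw [Nat.odd_iff] at this
    omega
  obtain ⟨a, ha⟩ := Q.isPGroup'.nonempty_fixed_point_of_prime_not_dvd_card (K z H) hnd
  obtain ⟨a, h, hh, rfl⟩ := a
  have hfix : ∀ p ∈ (Q : Subgroup G), p * (h * z * h⁻¹) * p⁻¹ = h * z * h⁻¹ := by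
    intro p hp
    exact congrArg (fun x : K z H => (x : G)) (ha ⟨p, hp⟩)
  have hcomm : ∀ y ∈ ((h⁻¹ • Q : Sylow 2 G) : Subgroup G), y * z = z * y := by
    intro y hy
    have h1 : y ∈ MulAut.conj h⁻¹ • (Q : Subgroup G) := hy
    rw [Cfsg.Agent.Lib.Core.mem_conj_smul_iff, inv_inv] at h1
    have h2 := hfix _ h1
    have e : y * z * y⁻¹ = z := by
      have e1 : y * z * y⁻¹ = h⁻¹ * (h * y * h⁻¹ * (h * z * h⁻¹) * (h * y * h⁻¹)⁻¹) * h := by group
      rw [e1, h2]
      group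
    exact mul_inv_eq_iff_eq_mul.mp e
  obtain ⟨R, hRdef⟩ : ∃ R : Sylow 2 G, R = h⁻¹ • Q := ⟨_, rfl⟩
  rw [← hRdef] at hcomm
  have hz2 : IsPGroup 2 (Subgroup.zpowers z) :=
    IsPGroup.of_card (n := 1) (by rw [Nat.card_zpowers, hz, pow_one])
  have hnorm : (R : Subgroup G) ≤ Subgroup.normalizer ((Subgroup.zpowers z : Subgroup G) : Set G) := by
    intro y hy
    rw [Subgroup.mem_normalizer_iff]
    intro w
    have hyz : Commute y z := hcomm y hy
    constructor
    · intro hw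
      obtain ⟨k, rfl⟩ := Subgroup.mem_zpowers_iff.mp hw
      have : y * z ^ k * y⁻¹ = z ^ k := by
        rw [(hyz.zpow_right k).eq, mul_inv_cancel_right]
      rw [this]
      exact Subgroup.zpow_mem _ (Subgroup.mem_zpowers z) k
    · intro hw
      obtain ⟨k, hk⟩ := Subgroup.mem_zpowers_iff.mp hw
      have : w = z ^ k := by
        have e : w = y⁻¹ * (y * w * y⁻¹) * y := by group
        rw [e, ← hk, mul_assoc, ← (hyz.zpow_right k).eq, inv_mul_cancel_left]
      rw [this]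
      exact Subgroup.zpow_mem _ (Subgroup.mem_zpowers z) k
  have hsup := R.isPGroup'.to_sup_of_normal_right' hz2 hnorm
  have hmax := R.is_maximal' hsup le_sup_left
  have hzR : z ∈ (R : Subgroup G) := by
    rw [← hmax]
    exact Subgroup.mem_sup_right (Subgroup.mem_zpowers z)
  refine ⟨R, ⟨z, hzR⟩, ?_, rfl⟩
  show (⟨z, hzR⟩ : ↥(R : Subgroup G)) ∈ Subgroup.center ↥(R : Subgroup G)
  rw [Subgroup.mem_center_iff]
  intro y
  apply Subtype.ext
  exact hcomm y y.2

end Sit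

end Main

/-- Let z be an involution of a finite group G and H a proper subgroup such that z lies in gHg⁻¹ exactly when g ∈ H. Then the following are equivalent: (1) for every conjugate t ≠ z of z commuting with z, the product zt lies in gHg⁻¹ exactly when g ∈ H; (2) z lies in the centre of some Sylow 2-subgroup of G, and for every conjugate t ≠ z of z commuting with z, the centralizer of zt is contained in H. -/
theorem result {G : Type*} [Group G] [Finite G] (z : G) (hz : orderOf z = 2) (H : Subgroup G) (hH : H ≠ ⊤)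
    (h0 : ∀ g : G, z ∈ H.map (MulAut.conj g).toMonoidHom ↔ g ∈ H) :
    (∀ t : G, IsConj z t → t ≠ z → t * z = z * t → ∀ g : G, z * t ∈ H.map (MulAut.conj g).toMonoidHom ↔ g ∈ H) ↔
      ((∃ P : Sylow 2 G, z ∈ (Subgroup.center ↥(P : Subgroup G)).map (P : Subgroup G).subtype) ∧
        ∀ t : G, IsConj z t → t ≠ z → t * z = z * t → Subgroup.centralizer ({z * t} : Set G) ≤ H) := by
  classical
  haveI : Fact (Nat.Prime 2) := ⟨Nat.prime_two⟩
  have h0' : ∀ g : G, g⁻¹ * z * g ∈ H ↔ g ∈ H := fun g => (mem_map_conj H g z).symm.trans (h0 g)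
  have hzz : z * z = 1 := by rw [← pow_two, ← hz, pow_orderOf_eq_one]
  have hzH : z ∈ H := by
    have := (h0' 1).mpr H.one_mem
    simpa using this
  have hcen : ∀ c : G, c * z = z * c → c ∈ H := by
    intro c hc
    apply (h0' c).mp
    have : c⁻¹ * z * c = z := by rw [mul_assoc, ← hc, inv_mul_cancel_left]
    rw [this]
    exact hzH
  constructor
  · intro h1
    have h1' : ∀ t : G, IsConj z t → t ≠ z → t * z = z * t → ∀ g : G, g⁻¹ * (z * t) * g ∈ H ↔ g ∈ H :=
      fun t ht hne hc g => (mem_map_conj H g _).symm.trans (h1 t ht hne hc g)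
    have S : Sit z H := ⟨hzz, h0', h1'⟩
    obtain ⟨g, hg⟩ : ∃ g, g ∉ H := by
      by_contra hcon
      push Not at hcon
      exact hH (eq_top_iff.mpr fun x _ => hcon x)
    refine ⟨S.exists_central hz hg, fun t ht hne hc x hx => ?_⟩
    rw [Subgroup.mem_centralizer_singleton_iff] at hx
    apply (h1' t ht hne hc x).mp
    have hm : z * t ∈ H := by
      have := (h1' t ht hne hc 1).mpr H.one_mem
      simpa using this
    have : x⁻¹ * (z * t) * x = z * t := by rw [mul_assoc, ← hx, inv_mul_cancel_left]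
    rw [this]
    exact hm
  · rintro ⟨⟨P, hP⟩, hC⟩ t ht hne hc g
    rw [mem_map_conj]
    have htH : t ∈ H := hcen t hc
    have huH : z * t ∈ H := H.mul_mem hzH htH
    constructor
    · intro hu
      -- `z` is central in `P`
      obtain ⟨z₀, hz₀, hz₀e⟩ := hP
      have hPc : ∀ y ∈ (P : Subgroup G), y * z = z * y := by
        intro y hy
        have h1 := (Subgroup.mem_center_iff.mp hz₀) ⟨y, hy⟩
        have h2 := congrArg (fun x : ↥(P : Subgroup G) => (x : G)) h1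
        have hz₁ : (z₀ : G) = z := hz₀e
        simp only [Subgroup.coe_mul, hz₁] at h2
        exact h2
      have hzP : z ∈ (P : Subgroup G) := by
        rw [← hz₀e]; exact z₀.2
      have hPH : (P : Subgroup G) ≤ H := fun y hy => hcen y (hPc y hy)
      -- conjugating into `P`
      obtain ⟨u₁, hu₁⟩ : ∃ u₁ : H, (u₁ : G) = g⁻¹ * (z * t) * g := ⟨⟨_, hu⟩, rfl⟩
      have htt : t * t = 1 := by
        obtain ⟨f, rfl⟩ := isConj_iff.mp ht
        have : (f * z * f⁻¹) * (f * z * f⁻¹) = f * (z * z) * f⁻¹ := by group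
        rw [this, hzz]
        group
      have hu2 : u₁ ^ 2 ^ 1 = 1 := by
        apply Subtype.ext
        rw [Subgroup.coe_pow, hu₁]
        have e1 : (g⁻¹ * (z * t) * g) ^ 2 ^ 1 = g⁻¹ * ((z * t) * (z * t)) * g := by
          simp only [pow_one, pow_two]
          group
        have e2 : (z * t) * (z * t) = (z * z) * (t * t) := by
          rw [mul_assoc, mul_assoc, ← mul_assoc t z t, hc, mul_assoc]
        rw [e1, e2, hzz, htt]
        simp
      have hpg : IsPGroup 2 (Subgroup.zpowers u₁) := by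
        obtain ⟨k, -, hk⟩ := (Nat.dvd_prime_pow Nat.prime_two).mp (orderOf_dvd_of_pow_eq_one hu2)
        exact IsPGroup.of_card (n := k) (by rw [Nat.card_zpowers, hk])
      obtain ⟨Q, hQ⟩ := hpg.exists_le_sylow
      obtain ⟨h, hh⟩ := MulAction.exists_smul_eq H (P.subtype hPH) Q
      have hmem : u₁ ∈ (Q : Subgroup H) := hQ (Subgroup.mem_zpowers u₁)
      rw [← hh] at hmem
      have hmem' : u₁ ∈ MulAut.conj h • ((P.subtype hPH : Sylow 2 H) : Subgroup H) := hmem
      rw [Cfsg.Agent.Lib.Core.mem_conj_smul_iff] at hmem'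
      have hw : ((h⁻¹ * u₁ * h : H) : G) ∈ (P : Subgroup G) := hmem'
      have hw' : (h : G)⁻¹ * (g⁻¹ * (z * t) * g) * h ∈ (P : Subgroup G) := by
        rw [← hu₁]; exact hw
      have hcom := hPc _ hw'
      -- the conjugate of `z` in `C(zt)`
      have hz₁ : (g * h) * z * (g * h)⁻¹ ∈ H := by
        apply hC t ht hne hc
        rw [Subgroup.mem_centralizer_singleton_iff]
        have e1 : (g * h) * z * (g * h)⁻¹ * (z * t) =
            (g * h) * (z * ((h : G)⁻¹ * (g⁻¹ * (z * t) * g) * h)) * (g * h)⁻¹ := by group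
        have e2 : (z * t) * ((g * h) * z * (g * h)⁻¹) =
            (g * h) * (((h : G)⁻¹ * (g⁻¹ * (z * t) * g) * h) * z) * (g * h)⁻¹ := by group
        rw [e1, e2, hcom]
      have hy : (g * h : G)⁻¹ ∈ H := by
        apply (h0' _).mp
        rw [inv_inv]
        exact hz₁
      have hy' : g * h ∈ H := H.inv_mem_iff.mp hy
      have := H.mul_mem hy' (H.inv_mem h.2)
      rwa [mul_inv_cancel_right] at this
    · intro hg
      exact H.mul_mem (H.mul_mem (H.inv_mem hg) huH) hg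

end Cfsg.Agent.S1922
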