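import Cfsg.Statements.S2071
import Cfsg.Agent.Lib.KnownSimple.Leech.Co3.Main

namespace Cfsg.Agent.S2071

theorem result : Nat.card (Cfsg.Out ↥Cfsg.Spor.Co3) = 1 :=
  Cfsg.Agent.Lib.KnownSimple.Leech.Co3.card_out_Co3

end Cfsg.Agent.S2071
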