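import Cfsg.Statements.S2251
import Mathlib
import Cfsg.Agent.Lib.Sz.SubD

set_option autoImplicit false
open Cfsg

namespace Cfsg.Agent.S2251

open Cfsg.Agent.SzT Cfsg.Agent.S3391 Cfsg.Agent.S2238 Cfsg.Agent.SzSub


/-- The subgroups of the Suzuki group: with q = 2^(2m+1), m ≥ 1, r = 2^m and the group realised as the stabiliser in SL₄ of the Suzuki–Tits ovoid, every proper subgroup is contained in the normalizer of a Sylow 2-subgroup, or in the normalizer of a cyclic subgroup of order q − 1, q + 2r + 1 or q − 2r + 1, or in a subgroup isomorphic to a smaller Suzuki group Sz(s) with s = 2^(2k+1) ≥ 8 and 2k+1 a proper divisor of 2m+1. -/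
theorem result {F : Type*} [Field F] [Fintype F] {m : ℕ} (hm : 1 ≤ m) (hF : Fintype.card F = 2 ^ (2 * m + 1)) (M : Subgroup ↥(Cfsg.Sz F m)) (hM : M ≠ ⊤) :
    (∃ P : Sylow 2 ↥(Cfsg.Sz F m), M ≤ Subgroup.normalizer ((P : Subgroup ↥(Cfsg.Sz F m)) : Set ↥(Cfsg.Sz F m))) ∨
    (∃ U : Subgroup ↥(Cfsg.Sz F m), IsCyclic ↥U ∧ Nat.card ↥U ∈ ({2 ^ (2 * m + 1) - 1, 2 ^ (2 * m + 1) + 2 ^ (m + 1) + 1, 2 ^ (2 * m + 1) - 2 ^ (m + 1) + 1} : Set ℕ) ∧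
      M ≤ Subgroup.normalizer (U : Set ↥(Cfsg.Sz F m))) ∨
    (∃ (K : Type) (_ : Field K) (_ : Fintype K) (k : ℕ), 1 ≤ k ∧ k < m ∧ Fintype.card K = 2 ^ (2 * k + 1) ∧ 2 * k + 1 ∣ 2 * m + 1 ∧
      ∃ S : Subgroup ↥(Cfsg.Sz F m), Nonempty (↥S ≃* ↥(Cfsg.Sz K k)) ∧ M ≤ S) := by
  revert M
  rw [← Cfsg.Agent.SzT.GG_eq m]
  intro M hM
  haveI hS : SzF F (2 ^ (m + 1)) := szF_of_card hm hF
  have hO : Ords (2 ^ (m + 1)) F = {2 ^ (2 * m + 1) - 1, 2 ^ (2 * m + 1) + 2 ^ (m + 1) + 1, 2 ^ (2 * m + 1) - 2 ^ (m + 1) + 1} := by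
    have hle := s_le (s := 2 ^ (m + 1)) (F := F)
    rw [hF] at hle
    unfold Ords
    rw [hF, Nat.sub_add_comm hle]
  rcases main_thm hm hF M hM with ⟨g, hg⟩ | ⟨x, hx, hle⟩ | h3
  · left
    haveI : Fact (Nat.Prime 2) := ⟨Nat.prime_two⟩
    refine ⟨g • UniS (2 ^ (m + 1)) F, ?_⟩
    have e1 : ((g • UniS (2 ^ (m + 1)) F : Sylow 2 _) : Subgroup _) = cj g (Uni (2 ^ (m + 1)) F) := rfl
    rw [e1]
    have e2 : Subgroup.normalizer ((cj g (Uni (2 ^ (m + 1)) F) : Subgroup _) : Set _) =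
        (Subgroup.normalizer ((Uni (2 ^ (m + 1)) F : Subgroup _) : Set _)).map (MulAut.conj g).toMonoidHom :=
      (Subgroup.map_equiv_normalizer_eq _ _).symm
    rw [e2, norm_Uni]
    exact hg
  · right
    left
    obtain ⟨hc1, hc2⟩ := cc_family hx
    exact ⟨CC x, hc1, hO ▸ hc2, hle⟩
  · right
    right
    obtain ⟨K, i1, i2, k, h1, h2, h3', h4, S, hiso, hle⟩ := h3
    refine ⟨K, i1, i2, k, h1, h2, h3', h4, S, ?_, hle⟩
    rw [← Cfsg.Agent.SzT.GG_eq k]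
    exact hiso


end Cfsg.Agent.S2251
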