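import Cfsg.Statements.S2259
import Mathlib
import Cfsg.Agent.Lib.Sz.Sol4

set_option autoImplicit false
open Cfsg

namespace Cfsg.Agent.S2259

/-- Let G be the Suzuki group Sz(q), q = 2^(2m+1) with 2m + 1 prime and m ≥ 1, realised inside Sp_4(F) for F the field of order q, write r = 2^(m+1) (so r² = 2q), and for x ∈ G call the solubilizer of x the set of y ∈ G such that x and y generate a solvable subgroup. Then the solubilizer of an involution has q²(4q − 3) elements; that of an element of order 4 has q²(q + 3) elements; that of a non-identity element of order dividing q − 1 has 2q²(q − 1) elements; that of a non-identity element of order dividing q + r + 1 has 4(q + r + 1) elements; and that of a non-identity element of order dividing q − r + 1 has 4(q − r + 1) elements. -/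
theorem result {F : Type*} [Field F] [Fintype F] {m : ℕ} (hm : 1 ≤ m)
    (hp : (2 * m + 1).Prime) (hF : Fintype.card F = 2 ^ (2 * m + 1)) (x : ↥(Cfsg.Lie.Sz F (2 ^ (m + 1)))) :
    (orderOf x = 2 → Nat.card {y : ↥(Cfsg.Lie.Sz F (2 ^ (m + 1))) // Group.IsSolvable ↥(Subgroup.closure ({x, y} : Set (↥(Cfsg.Lie.Sz F (2 ^ (m + 1))))))} = (2 ^ (2 * m + 1)) ^ 2 * (4 * 2 ^ (2 * m + 1) - 3)) ∧
    (orderOf x = 4 → Nat.card {y : ↥(Cfsg.Lie.Sz F (2 ^ (m + 1))) // Group.IsSolvable ↥(Subgroup.closure ({x, y} : Set (↥(Cfsg.Lie.Sz F (2 ^ (m + 1))))))} = (2 ^ (2 * m + 1)) ^ 2 * (2 ^ (2 * m + 1) + 3)) ∧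
    (x ≠ 1 → orderOf x ∣ 2 ^ (2 * m + 1) - 1 →
      Nat.card {y : ↥(Cfsg.Lie.Sz F (2 ^ (m + 1))) // Group.IsSolvable ↥(Subgroup.closure ({x, y} : Set (↥(Cfsg.Lie.Sz F (2 ^ (m + 1))))))} = 2 * (2 ^ (2 * m + 1)) ^ 2 * (2 ^ (2 * m + 1) - 1)) ∧
    (x ≠ 1 → orderOf x ∣ 2 ^ (2 * m + 1) + 2 ^ (m + 1) + 1 → Nat.card {y : ↥(Cfsg.Lie.Sz F (2 ^ (m + 1))) // Group.IsSolvable ↥(Subgroup.closure ({x, y} : Set (↥(Cfsg.Lie.Sz F (2 ^ (m + 1))))))} = 4 * (2 ^ (2 * m + 1) + 2 ^ (m + 1) + 1)) ∧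
    (x ≠ 1 → orderOf x ∣ 2 ^ (2 * m + 1) - 2 ^ (m + 1) + 1 → Nat.card {y : ↥(Cfsg.Lie.Sz F (2 ^ (m + 1))) // Group.IsSolvable ↥(Subgroup.closure ({x, y} : Set (↥(Cfsg.Lie.Sz F (2 ^ (m + 1))))))} = 4 * (2 ^ (2 * m + 1) - 2 ^ (m + 1) + 1)) := by
  haveI hSz : Cfsg.Agent.SzT.SzF F (2 ^ (m + 1)) := Cfsg.Agent.SzT.szF_of_card hm hF
  have hS := Cfsg.Agent.SzSub.solvHyp (F := F) hm hF hp
  let e := Cfsg.Agent.SzT.szEquiv (2 ^ (m + 1)) F
  obtain ⟨x₀, rfl⟩ := e.surjective x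
  have hc := Cfsg.Agent.SzSub.sol_card_equiv e x₀
  have ho : orderOf (e x₀) = orderOf x₀ := MulEquiv.orderOf_eq e x₀
  have h1 : e x₀ ≠ 1 → x₀ ≠ 1 := by
    rintro he rfl
    exact he (map_one e)
  have hle : 2 ^ (m + 1) ≤ 2 ^ (2 * m + 1) := by
    have := Cfsg.Agent.S2238.s_le (F := F) (s := 2 ^ (m + 1))
    rwa [hF] at this
  simp only [hc, ho]
  refine ⟨?_, ?_, ?_, ?_, ?_⟩
  · intro ho2
    have hx1 : x₀ ≠ 1 := by
      rintro rfl
      simp at ho2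
    have hx2 : x₀ * x₀ = 1 := by
      have e1 := pow_orderOf_eq_one x₀
      rw [ho2, pow_two] at e1
      exact e1
    rw [Cfsg.Agent.SzSub.sol_card_invol hS hx1 hx2, hF]
  · intro ho4
    have hx4 : x₀ ^ 4 = 1 := by
      have e1 := pow_orderOf_eq_one x₀
      rw [ho4] at e1
      exact e1
    have hx2 : x₀ * x₀ ≠ 1 := by
      intro he
      rw [← pow_two] at he
      have := orderOf_dvd_of_pow_eq_one he
      rw [ho4] at this
      omega
    rw [Cfsg.Agent.SzSub.sol_card_four hS hx4 hx2, hF]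
  · intro hne hd
    rw [Cfsg.Agent.SzSub.sol_card_q1 hS (h1 hne) (by rw [hF]; exact hd), hF]
    ring
  · intro hne hd
    rw [Cfsg.Agent.SzSub.sol_card_pm (n := 2 ^ (2 * m + 1) + 2 ^ (m + 1) + 1) hS (Or.inl (by rw [hF])) (h1 hne) hd]
  · intro hne hd
    rw [Cfsg.Agent.SzSub.sol_card_pm (n := 2 ^ (2 * m + 1) - 2 ^ (m + 1) + 1) hS
      (Or.inr (by rw [hF, Nat.sub_add_comm hle])) (h1 hne) hd]


end Cfsg.Agent.S2259
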