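import Cfsg.Statements.S2468
import Mathlib
import Cfsg.Agent.Lib.KS2.PGraph

set_option autoImplicit false
open Cfsg

namespace Cfsg.Agent.S2468




/-- Adjacency of two odd primes in the prime graph of PSL(n,q): let F be a finite field of characteristic p with q elements, n ≥ 2 with PSL(n,F) simple, and let r ≠ s be odd primes different from p dividing the order of PSL(n,F). Let k and l be the multiplicative orders of q modulo r and modulo s, and suppose 2 ≤ k ≤ l. Then PSL(n,F) has NO element of order r·s if and only if k + l > n and k does not divide l. -/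
theorem result {F : Type*} [Field F] [Fintype F] (p : ℕ) [Fact p.Prime] [CharP F p] (n : ℕ) (hn : 2 ≤ n) (hsmall : n = 2 → 4 ≤ Fintype.card F)
    (r s : ℕ) (hr : r.Prime) (hs : s.Prime) (hr2 : r ≠ 2) (hs2 : s ≠ 2) (hrp : r ≠ p) (hsp : s ≠ p) (hrs : r ≠ s)
    (hrG : r ∣ Nat.card (Matrix.ProjectiveSpecialLinearGroup (Fin n) F)) (hsG : s ∣ Nat.card (Matrix.ProjectiveSpecialLinearGroup (Fin n) F))
    (k l : ℕ) (hk : k = orderOf ((Fintype.card F : ℕ) : ZMod r)) (hl : l = orderOf ((Fintype.card F : ℕ) : ZMod s))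
    (h2k : 2 ≤ k) (hkl : k ≤ l) :
    (r * s ∉ Set.range (orderOf : Matrix.ProjectiveSpecialLinearGroup (Fin n) F → ℕ)) ↔ (n < k + l ∧ ¬ k ∣ l) := by

  classical
  set q := Fintype.card F with hq
  have hq2 : 2 ≤ q := Fintype.one_lt_card
  have hpp : p.Prime := Fact.out
  obtain ⟨a, ha⟩ := FiniteField.card F p
  have hq' : q = p ^ (a : ℕ) := ha.2
  have hrF : (r : F) ≠ 0 := by
    intro h
    exact hrp ((Nat.prime_dvd_prime_iff_eq hpp hr).mp ((CharP.cast_eq_zero_iff F p r).mp h)).symm
  have hsF : (s : F) ≠ 0 := by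
    intro h
    exact hsp ((Nat.prime_dvd_prime_iff_eq hpp hs).mp ((CharP.cast_eq_zero_iff F p s).mp h)).symm
  have hrd : ∀ d, r ∣ q ^ d - 1 ↔ k ∣ d := by
    intro d
    rw [hk]
    exact Cfsg.Agent.Lib.KS2.PGraph.prime_dvd_iff hr (by omega) d
  have hsd : ∀ d, s ∣ q ^ d - 1 ↔ l ∣ d := by
    intro d
    rw [hl]
    exact Cfsg.Agent.Lib.KS2.PGraph.prime_dvd_iff hs (by omega) d
  have hrq : ¬ r ∣ q - 1 := by
    intro h
    have h1 : r ∣ q ^ 1 - 1 := by simpa using h
    have h2 := Nat.le_of_dvd (by omega) ((hrd 1).mp h1)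
    omega
  have hsq : ¬ s ∣ q - 1 := by
    intro h
    have h1 : s ∣ q ^ 1 - 1 := by simpa using h
    have h2 := Nat.le_of_dvd (by omega) ((hsd 1).mp h1)
    omega
  have hcop : Nat.Coprime (r * s) (q - 1) := by
    apply Nat.Coprime.mul_left
    · exact (hr.coprime_iff_not_dvd).mpr hrq
    · exact (hs.coprime_iff_not_dvd).mpr hsq
  have hrscop : Nat.Coprime r s := (Nat.coprime_primes hr hs).mpr hrs
  -- `l ≤ n`
  have hln : l ≤ n := by
    have h1 : Nat.card (Matrix.ProjectiveSpecialLinearGroup (Fin n) F) ∣ Nat.card (Matrix.SpecialLinearGroup (Fin n) F) :=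
      Subgroup.card_quotient_dvd_card _
    have h2 : Nat.card (Matrix.SpecialLinearGroup (Fin n) F) ∣ Nat.card (GL (Fin n) F) :=
      Subgroup.card_dvd_of_injective Matrix.SpecialLinearGroup.toGL (by
        intro a b h
        apply Subtype.ext
        exact congrArg Units.val h)
    have h3 := (hsG.trans h1).trans h2
    rw [Matrix.card_GL_field, ← hq, Fin.prod_univ_eq_prod_range (fun i => q ^ n - q ^ i) n] at h3
    obtain ⟨i, hi, hsi⟩ := (Prime.dvd_finsetProd_iff hs.prime _).mp h3
    have hid : i < n := Finset.mem_range.mp hi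
    have h4 : q ^ n - q ^ i = q ^ i * (q ^ (n - i) - 1) := by
      rw [Nat.mul_sub, mul_one, ← pow_add]
      congr 2
      omega
    rw [h4] at hsi
    rcases (Nat.Prime.dvd_mul hs).mp hsi with h5 | h5
    · exfalso
      have h6 := hs.dvd_of_dvd_pow h5
      rw [hq'] at h6
      exact hsp ((Nat.prime_dvd_prime_iff_eq hs hpp).mp (hs.dvd_of_dvd_pow h6))
    · have h6 := Nat.le_of_dvd (by omega) ((hsd _).mp h5)
      omega
  constructor
  · intro hno
    by_contra hcon
    apply hno
    have hc : k + l ≤ n ∨ k ∣ l := by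
      by_contra h
      push Not at h
      apply hcon
      exact ⟨by omega, h.2⟩
    have hg : ∃ g : GL (Fin n) F, orderOf g = r * s := by
      rcases hc with hc | hc
      · obtain ⟨g, hg⟩ := Cfsg.Agent.Lib.KS2.PGraph.exists_gl_of_two (F := F) (n := n) (t₁ := r) (t₂ := s)
          (d₁ := k) (d₂ := l) (by omega) (by omega) hc ((hrd k).mpr dvd_rfl) ((hsd l).mpr dvd_rfl)
        rw [hrscop.lcm_eq_mul] at hg
        exact ⟨g, hg⟩
      · exact Cfsg.Agent.Lib.KS2.PGraph.exists_gl_of_dvd (F := F) (n := n) (t := r * s) (d := l) (by omega) hln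
          (hrscop.mul_dvd_of_dvd_of_dvd ((hrd l).mpr hc) ((hsd l).mpr dvd_rfl))
    obtain ⟨g, hg⟩ := hg
    obtain ⟨y, hy⟩ := Cfsg.Agent.Lib.KS2.PGraph.exists_psl_of_gl (by omega) g hg hcop
    exact ⟨y, hy⟩
  · rintro ⟨h1, h2⟩ ⟨y, hy⟩
    obtain ⟨x, hx1, hx2, hx3⟩ := Cfsg.Agent.Lib.KS2.PGraph.exists_lift_of_order (by omega) hr hs hrs hrq hsq y hy
    have hT := Cfsg.Agent.Lib.KS2.PGraph.dichotomy (F := F) (k := k) (l := l) hr hs hrF hsF
      (fun d hd h => Nat.le_of_dvd (by omega) ((hrd d).mp h))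
      (fun d hd h => Nat.le_of_dvd (by omega) ((hsd d).mp h))
      (Matrix.mulVecLin x)
      (by
        rw [← Cfsg.Agent.Lib.KS2.PGraph.mulVecLin_pow, hx1]
        exact LinearMap.ext fun v => by simp)
      (by
        rw [← Cfsg.Agent.Lib.KS2.PGraph.mulVecLin_pow]
        intro h
        apply hx2
        apply Cfsg.Agent.Lib.KS2.PGraph.mulVecLin_inj (F := F)
        rw [h]
        exact (LinearMap.ext fun v => by simp))
      (by
        rw [← Cfsg.Agent.Lib.KS2.PGraph.mulVecLin_pow]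
        intro h
        apply hx3
        apply Cfsg.Agent.Lib.KS2.PGraph.mulVecLin_inj (F := F)
        rw [h]
        exact (LinearMap.ext fun v => by simp))
    rw [Module.finrank_fin_fun] at hT
    rcases hT with h3 | ⟨d, hd1, hd2, hd3, hd4⟩
    · omega
    · have h4 : Nat.lcm k l ∣ d := Nat.lcm_dvd ((hrd d).mp hd3) ((hsd d).mp hd4)
      have h5 := Nat.le_of_dvd (by omega) h4
      obtain ⟨c, hc⟩ := Nat.dvd_lcm_right k l
      have hl0 : 0 < l := by omega
      have hc1 : c ≠ 1 := by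
        intro h
        rw [h, mul_one] at hc
        exact h2 (hc ▸ Nat.dvd_lcm_left k l)
      have hc0 : c ≠ 0 := by
        intro h
        rw [h, mul_zero] at hc
        have := Nat.lcm_pos (by omega : 0 < k) hl0
        omega
      have h6 : l * 2 ≤ l * c := Nat.mul_le_mul_left _ (by omega)
      omega

end Cfsg.Agent.S2468
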