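import Cfsg.Statements.S2470
import Mathlib
import Cfsg.Agent.Lib.KS2.PGraphP

set_option autoImplicit false
open Cfsg

namespace Cfsg.Agent.S2470




/-- Adjacency of an odd prime and the characteristic in the prime graph of PSL(n,q): let F be a finite field of characteristic p with q elements, n ≥ 2 with PSL(n,F) simple, and let r ≠ p be an odd prime dividing the order of PSL(n,F), with k the multiplicative order of q modulo r. Then PSL(n,F) has NO element of order r·p if and only if either k > n − 2, or n = 3, r = 3 and 3 divides q − 1 exactly once. -/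
theorem result {F : Type*} [Field F] [Fintype F] (p : ℕ) [Fact p.Prime] [CharP F p] (n : ℕ) (hn : 2 ≤ n) (hsmall : n = 2 → 4 ≤ Fintype.card F)
    (r : ℕ) (hr : r.Prime) (hr2 : r ≠ 2) (hrp : r ≠ p) (hrG : r ∣ Nat.card (Matrix.ProjectiveSpecialLinearGroup (Fin n) F))
    (k : ℕ) (hk : k = orderOf ((Fintype.card F : ℕ) : ZMod r)) :
    (r * p ∉ Set.range (orderOf : Matrix.ProjectiveSpecialLinearGroup (Fin n) F → ℕ)) ↔
      (n - 2 < k ∨ (n = 3 ∧ r = 3 ∧ 3 ∣ Fintype.card F - 1 ∧ ¬ 9 ∣ Fintype.card F - 1)) := by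

  classical
  set q := Fintype.card F with hq
  have hq2 : 2 ≤ q := Fintype.one_lt_card
  have hpp : p.Prime := Fact.out
  haveI : Fact r.Prime := ⟨hr⟩
  obtain ⟨a, ha⟩ := FiniteField.card F p
  have hq' : q = p ^ (a : ℕ) := ha.2
  have hrF : (r : F) ≠ 0 := by
    intro h
    exact hrp ((Nat.prime_dvd_prime_iff_eq hpp hr).mp ((CharP.cast_eq_zero_iff F p r).mp h)).symm
  have hrd : ∀ d, r ∣ q ^ d - 1 ↔ k ∣ d := by
    intro d
    rw [hk]
    exact Cfsg.Agent.Lib.KS2.PGraph.prime_dvd_iff hr (by omega) d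
  have hrnq : ¬ r ∣ q := by
    intro h
    rw [hq'] at h
    exact hrp ((Nat.prime_dvd_prime_iff_eq hr hpp).mp (hr.dvd_of_dvd_pow h))
  have hk0 : k ≠ 0 := by
    intro h0
    have h1 : ((q : ℕ) : ZMod r) ≠ 0 := by
      rw [Ne, ZMod.natCast_eq_zero_iff]
      exact hrnq
    have h2 := ZMod.pow_card_sub_one_eq_one h1
    have h3 := orderOf_dvd_of_pow_eq_one h2
    rw [← hk, h0] at h3
    have h4 := Nat.eq_zero_of_zero_dvd h3
    have := hr.two_le
    omega
  have hrkk : r ∣ q ^ k - 1 := (hrd k).mpr dvd_rfl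
  have hrq_iff : r ∣ q - 1 ↔ k = 1 := by
    have h1 := hrd 1
    rw [pow_one] at h1
    rw [h1]
    exact Nat.dvd_one
  constructor
  · intro hno
    by_contra hcon
    push Not at hcon
    obtain ⟨hc1, hc2⟩ := hcon
    apply hno
    by_cases hk1 : k = 1
    · have hrq : r ∣ q - 1 := hrq_iff.mpr hk1
      by_cases hn4 : 4 ≤ n
      · obtain ⟨y, hy⟩ := Cfsg.Agent.Lib.KS2.PGraphP.exists_of_k_one (p := p) hr hrF hn4 hrq
        exact ⟨y, hy⟩
      · obtain rfl : n = 3 := by omega
        obtain ⟨γ, hγ⟩ := IsCyclic.exists_generator (α := Fˣ)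
        have hγord : orderOf γ = q - 1 := by
          rw [orderOf_eq_card_of_forall_mem_zpowers hγ, Nat.card_units, Nat.card_eq_fintype_card]
        have hγ0 : orderOf γ ≠ 0 := (orderOf_pos γ).ne'
        by_cases hr3 : r = 3
        · subst hr3
          have h9 : 9 ∣ q - 1 := hc2 rfl rfl hrq
          obtain ⟨b, hb⟩ : ∃ b : Fˣ, orderOf b = 9 :=
            ⟨γ ^ (orderOf γ / 9), orderOf_pow_orderOf_div hγ0 (hγord ▸ h9)⟩
          have hb9 : (b : F) ^ 9 = 1 := by
            have := congrArg Units.val (show b ^ 9 = 1 by rw [← hb]; exact pow_orderOf_eq_one b)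
            simpa using this
          have hb3 : (b : F) ^ 3 ≠ 1 := by
            intro h
            have h1 : b ^ 3 = 1 := Units.ext (by simpa using h)
            have h2 := orderOf_dvd_of_pow_eq_one h1
            rw [hb] at h2
            omega
          have hb0 : (b : F) ≠ 0 := b.ne_zero
          obtain ⟨y, hy⟩ := Cfsg.Agent.Lib.KS2.PGraphP.exists_of_three (p := p) hr hrF (b : F) hb0 hb3 ((b : F) ^ 3)
            ⟨by
              field_simp
              linear_combination (-1 : F) * hb9, rfl⟩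
          exact ⟨y, hy⟩
        · obtain ⟨b, hb⟩ : ∃ b : Fˣ, orderOf b = r :=
            ⟨γ ^ (orderOf γ / r), orderOf_pow_orderOf_div hγ0 (hγord ▸ hrq)⟩
          have hbr : (b : F) ^ r = 1 := by
            have := congrArg Units.val (show b ^ r = 1 by rw [← hb]; exact pow_orderOf_eq_one b)
            simpa using this
          have hb3 : (b : F) ^ 3 ≠ 1 := by
            intro h
            have h1 : b ^ 3 = 1 := Units.ext (by simpa using h)
            have h2 := orderOf_dvd_of_pow_eq_one h1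
            rw [hb] at h2
            exact hr3 ((Nat.prime_dvd_prime_iff_eq hr Nat.prime_three).mp h2)
          have hb0 : (b : F) ≠ 0 := b.ne_zero
          obtain ⟨y, hy⟩ := Cfsg.Agent.Lib.KS2.PGraphP.exists_of_three (p := p) hr hrF (b : F) hb0 hb3 1
            ⟨by
              rw [inv_pow, ← pow_mul, mul_comm, pow_mul, hbr, one_pow, inv_one], hbr⟩
          exact ⟨y, hy⟩
    · have hrq : ¬ r ∣ q - 1 := fun h => hk1 (hrq_iff.mp h)
      obtain ⟨y, hy⟩ := Cfsg.Agent.Lib.KS2.PGraphP.exists_of_k_ge_two (p := p) (n := n) hr hrp (by omega) (by omega) hrkk hrq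
      exact ⟨y, hy⟩
  · rintro h ⟨y, hy⟩
    obtain ⟨A, N, c, hc0, hAr, hdet, hAs, hN0, hNN, hAN⟩ :=
      Cfsg.Agent.Lib.KS2.PGraphP.data_of_order (by omega) hr hrp y hy
    by_cases hk1 : k = 1
    · by_cases hn2 : n = 2
      · subst hn2
        exact Cfsg.Agent.Lib.KS2.PGraphP.two_impossible hrF A N c hAr hdet hAs hN0 hNN hAN
      · rcases h with h | ⟨rfl, rfl, h3, h9⟩
        · omega
        · apply h9
          exact Cfsg.Agent.Lib.KS2.PGraphP.nine_dvd (by simpa using hrF) A N c hAr hdet hAs hN0 hNN hAN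
    · have hrq : ¬ r ∣ q - 1 := fun h => hk1 (hrq_iff.mp h)
      have h2 := Cfsg.Agent.Lib.KS2.PGraphP.plus_two_of_data (k := k) hr hrF (by omega)
        (fun d hd h => Nat.le_of_dvd (by omega) ((hrd d).mp h)) hrq A N c hc0 hAr hAs hN0 hNN hAN
      rcases h with h | ⟨rfl, rfl, h3, h9⟩
      · omega
      · exact hrq h3

end Cfsg.Agent.S2470
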