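import Cfsg.Statements.S2477
import Mathlib

set_option autoImplicit false
open Cfsg

namespace Cfsg.Agent.S2477



lemma real (x : ℕ) (m : Multiset ℕ) (h2 : ∀ a ∈ m, 2 ≤ a) (hs : m.sum ≤ 10) (he : Even (m.sum + Multiset.card m))
    (hl : m.lcm = x) : ∃ g : alternatingGroup (Fin 10), orderOf g = x := by
  obtain ⟨g, hg⟩ := (Equiv.Perm.exists_with_cycleType_iff (α := Fin 10) (m := m)).mpr
    ⟨by simpa using hs, h2⟩
  have hsign : Equiv.Perm.sign g = 1 := by
    rw [Equiv.Perm.sign_of_cycleType, hg]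
    exact he.neg_one_pow
  refine ⟨⟨g, Equiv.Perm.mem_alternatingGroup.mpr hsign⟩, ?_⟩
  rw [← Subgroup.orderOf_coe]
  show orderOf g = x
  rw [← Equiv.Perm.lcm_cycleType, hg, hl]

/-- The numerical check over all multiplicity vectors. -/
lemma check : ∀ c2 ∈ Finset.range 6, ∀ c3 ∈ Finset.range 4, ∀ c4 ∈ Finset.range 3, ∀ c5 ∈ Finset.range 3,
    ∀ c6 ∈ Finset.range 2, ∀ c7 ∈ Finset.range 2, ∀ c8 ∈ Finset.range 2, ∀ c9 ∈ Finset.range 2, ∀ c10 ∈ Finset.range 2,
    2 * c2 + 3 * c3 + 4 * c4 + 5 * c5 + 6 * c6 + 7 * c7 + 8 * c8 + 9 * c9 + 10 * c10 ≤ 10 →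
    (3 * c2 + 4 * c3 + 5 * c4 + 6 * c5 + 7 * c6 + 8 * c7 + 9 * c8 + 10 * c9 + 11 * c10) % 2 = 0 →
    (Nat.lcm (if c2 = 0 then 1 else 2) (Nat.lcm (if c3 = 0 then 1 else 3) (Nat.lcm (if c4 = 0 then 1 else 4)
      (Nat.lcm (if c5 = 0 then 1 else 5) (Nat.lcm (if c6 = 0 then 1 else 6) (Nat.lcm (if c7 = 0 then 1 else 7)
      (Nat.lcm (if c8 = 0 then 1 else 8) (Nat.lcm (if c9 = 0 then 1 else 9) (if c10 = 0 then 1 else 10))))))))) ∈
      ([1, 2, 3, 4, 5, 6, 7, 8, 9, 10, 12, 15, 21] : List ℕ) := by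
  decide +kernel

lemma key (m : Multiset ℕ) (h2 : ∀ a ∈ m, 2 ≤ a) (hs : m.sum ≤ 10) (he : Even (m.sum + Multiset.card m)) :
    m.lcm = 1 ∨ m.lcm = 2 ∨ m.lcm = 3 ∨ m.lcm = 4 ∨ m.lcm = 5 ∨ m.lcm = 6 ∨ m.lcm = 7 ∨ m.lcm = 8 ∨ m.lcm = 9 ∨
      m.lcm = 10 ∨ m.lcm = 12 ∨ m.lcm = 15 ∨ m.lcm = 21 := by
  have hle : ∀ a ∈ m, a ≤ 10 := fun a ha => (Multiset.le_sum_of_mem ha).trans hs
  have hsub : ∀ a ∈ m, a ∈ Finset.Icc 2 10 := fun a ha => Finset.mem_Icc.mpr ⟨h2 a ha, hle a ha⟩
  have hsum : m.sum = ∑ a ∈ Finset.Icc 2 10, m.count a * a := by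
    have := Finset.sum_multiset_map_count m (fun a : ℕ => a)
    rw [Multiset.map_id'] at this
    rw [this, Finset.sum_subset (s₂ := Finset.Icc 2 10)]
    · simp only [smul_eq_mul]
    · intro a ha
      exact hsub a (Multiset.mem_toFinset.mp ha)
    · intro a _ ha
      have : m.count a = 0 := Multiset.count_eq_zero.mpr (fun h => ha (Multiset.mem_toFinset.mpr h))
      simp [this]
  have hcard : Multiset.card m = ∑ a ∈ Finset.Icc 2 10, m.count a := by
    rw [Multiset.sum_count_eq_card hsub]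
  have hIcc : Finset.Icc 2 10 = ({2, 3, 4, 5, 6, 7, 8, 9, 10} : Finset ℕ) := by decide
  rw [hIcc] at hsum hcard
  rw [Finset.sum_insert (by decide), Finset.sum_insert (by decide), Finset.sum_insert (by decide), Finset.sum_insert (by decide), Finset.sum_insert (by decide), Finset.sum_insert (by decide), Finset.sum_insert (by decide), Finset.sum_insert (by decide), Finset.sum_singleton] at hsum hcard
  set c2 := m.count 2
  set c3 := m.count 3
  set c4 := m.count 4
  set c5 := m.count 5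
  set c6 := m.count 6
  set c7 := m.count 7
  set c8 := m.count 8
  set c9 := m.count 9
  set c10 := m.count 10
  have hpar : (3 * c2 + 4 * c3 + 5 * c4 + 6 * c5 + 7 * c6 + 8 * c7 + 9 * c8 + 10 * c9 + 11 * c10) % 2 = 0 := by
    obtain ⟨k, hk⟩ := he
    rw [hsum, hcard] at hk
    omega
  have hbd : 2 * c2 + 3 * c3 + 4 * c4 + 5 * c5 + 6 * c6 + 7 * c7 + 8 * c8 + 9 * c9 + 10 * c10 ≤ 10 := by
    rw [hsum] at hs
    omega
  have hcheck := check c2 (Finset.mem_range.mpr (by omega)) c3 (Finset.mem_range.mpr (by omega)) c4 (Finset.mem_range.mpr (by omega))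
    c5 (Finset.mem_range.mpr (by omega)) c6 (Finset.mem_range.mpr (by omega)) c7 (Finset.mem_range.mpr (by omega))
    c8 (Finset.mem_range.mpr (by omega)) c9 (Finset.mem_range.mpr (by omega)) c10 (Finset.mem_range.mpr (by omega)) hbd hpar
  have hterm : ∀ k : ℕ, (if m.count k = 0 then 1 else k) ∣ m.lcm := by
    intro k
    split_ifs with hk
    · exact one_dvd _
    · exact Multiset.dvd_lcm (Multiset.count_ne_zero.mp hk)
  set L := Nat.lcm (if c2 = 0 then 1 else 2) (Nat.lcm (if c3 = 0 then 1 else 3) (Nat.lcm (if c4 = 0 then 1 else 4)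
      (Nat.lcm (if c5 = 0 then 1 else 5) (Nat.lcm (if c6 = 0 then 1 else 6) (Nat.lcm (if c7 = 0 then 1 else 7)
      (Nat.lcm (if c8 = 0 then 1 else 8) (Nat.lcm (if c9 = 0 then 1 else 9) (if c10 = 0 then 1 else 10)))))))) with hL
  have h1 : L ∣ m.lcm := by
    rw [hL]
    exact Nat.lcm_dvd (hterm 2) (Nat.lcm_dvd (hterm 3) (Nat.lcm_dvd (hterm 4) (Nat.lcm_dvd (hterm 5) (Nat.lcm_dvd (hterm 6)
      (Nat.lcm_dvd (hterm 7) (Nat.lcm_dvd (hterm 8) (Nat.lcm_dvd (hterm 9) (hterm 10))))))))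
  have h2' : m.lcm ∣ L := by
    rw [Multiset.lcm_dvd]
    intro a ha
    have ha2 := hsub a ha
    have hc : m.count a ≠ 0 := Multiset.count_ne_zero.mpr ha
    have hd : ∀ k : ℕ, m.count k ≠ 0 → (if m.count k = 0 then 1 else k) = k := fun k hk => if_neg hk
    have hsteps : Nat.lcm (if c2 = 0 then 1 else 2) (Nat.lcm (if c3 = 0 then 1 else 3) (Nat.lcm (if c4 = 0 then 1 else 4)
      (Nat.lcm (if c5 = 0 then 1 else 5) (Nat.lcm (if c6 = 0 then 1 else 6) (Nat.lcm (if c7 = 0 then 1 else 7)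
      (Nat.lcm (if c8 = 0 then 1 else 8) (Nat.lcm (if c9 = 0 then 1 else 9) (if c10 = 0 then 1 else 10)))))))) = L := rfl
    rw [Finset.mem_Icc] at ha2
    obtain ⟨h3, h4⟩ := ha2
    interval_cases a
    · have : (if c2 = 0 then 1 else 2) = 2 := if_neg hc
      rw [hL, this]
      exact Nat.dvd_lcm_left _ _
    · have : (if c3 = 0 then 1 else 3) = 3 := if_neg hc
      rw [hL, this]
      exact (Nat.dvd_lcm_left _ _).trans (Nat.dvd_lcm_right _ _)
    · have : (if c4 = 0 then 1 else 4) = 4 := if_neg hc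
      rw [hL, this]
      exact (Nat.dvd_lcm_left _ _).trans ((Nat.dvd_lcm_right _ _).trans (Nat.dvd_lcm_right _ _))
    · have : (if c5 = 0 then 1 else 5) = 5 := if_neg hc
      rw [hL, this]
      exact (Nat.dvd_lcm_left _ _).trans ((Nat.dvd_lcm_right _ _).trans ((Nat.dvd_lcm_right _ _).trans (Nat.dvd_lcm_right _ _)))
    · have : (if c6 = 0 then 1 else 6) = 6 := if_neg hc
      rw [hL, this]
      exact (Nat.dvd_lcm_left _ _).trans ((Nat.dvd_lcm_right _ _).trans ((Nat.dvd_lcm_right _ _).trans ((Nat.dvd_lcm_right _ _).trans (Nat.dvd_lcm_right _ _))))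
    · have : (if c7 = 0 then 1 else 7) = 7 := if_neg hc
      rw [hL, this]
      exact (Nat.dvd_lcm_left _ _).trans ((Nat.dvd_lcm_right _ _).trans ((Nat.dvd_lcm_right _ _).trans ((Nat.dvd_lcm_right _ _).trans ((Nat.dvd_lcm_right _ _).trans (Nat.dvd_lcm_right _ _)))))
    · have : (if c8 = 0 then 1 else 8) = 8 := if_neg hc
      rw [hL, this]
      exact (Nat.dvd_lcm_left _ _).trans ((Nat.dvd_lcm_right _ _).trans ((Nat.dvd_lcm_right _ _).trans ((Nat.dvd_lcm_right _ _).trans ((Nat.dvd_lcm_right _ _).trans ((Nat.dvd_lcm_right _ _).trans (Nat.dvd_lcm_right _ _))))))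
    · have : (if c9 = 0 then 1 else 9) = 9 := if_neg hc
      rw [hL, this]
      exact (Nat.dvd_lcm_left _ _).trans ((Nat.dvd_lcm_right _ _).trans ((Nat.dvd_lcm_right _ _).trans ((Nat.dvd_lcm_right _ _).trans ((Nat.dvd_lcm_right _ _).trans ((Nat.dvd_lcm_right _ _).trans ((Nat.dvd_lcm_right _ _).trans (Nat.dvd_lcm_right _ _)))))))
    · have : (if c10 = 0 then 1 else 10) = 10 := if_neg hc
      rw [hL, this]
      exact (Nat.dvd_lcm_right _ _).trans ((Nat.dvd_lcm_right _ _).trans ((Nat.dvd_lcm_right _ _).trans ((Nat.dvd_lcm_right _ _).trans ((Nat.dvd_lcm_right _ _).trans ((Nat.dvd_lcm_right _ _).trans ((Nat.dvd_lcm_right _ _).trans (Nat.dvd_lcm_right _ _)))))))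
  have heq : m.lcm = L := Nat.dvd_antisymm h2' h1
  rw [heq]
  simpa using hcheck


/-- The set of element orders of the alternating group of degree 10 is {1, 2, 3, 4, 5, 6, 7, 8, 9, 10, 12, 15, 21}. -/
theorem result : Set.range (orderOf : alternatingGroup (Fin 10) → ℕ) = {1, 2, 3, 4, 5, 6, 7, 8, 9, 10, 12, 15, 21} := by
  ext x
  simp only [Set.mem_range, Set.mem_insert_iff, Set.mem_singleton_iff]
  constructor
  · rintro ⟨g, rfl⟩
    have hg' : orderOf g = (g : Equiv.Perm (Fin 10)).cycleType.lcm := by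
      rw [Equiv.Perm.lcm_cycleType, Subgroup.orderOf_coe]
    have hsum : (g : Equiv.Perm (Fin 10)).cycleType.sum ≤ 10 := by
      have := Equiv.Perm.sum_cycleType_le (g : Equiv.Perm (Fin 10))
      simpa using this
    have hsgn : Equiv.Perm.sign (g : Equiv.Perm (Fin 10)) = 1 := Equiv.Perm.mem_alternatingGroup.mp g.2
    rw [Equiv.Perm.sign_of_cycleType] at hsgn
    have hev : Even ((g : Equiv.Perm (Fin 10)).cycleType.sum + Multiset.card (g : Equiv.Perm (Fin 10)).cycleType) := by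
      by_contra hne
      rw [Nat.not_even_iff_odd] at hne
      rw [hne.neg_one_pow] at hsgn
      exact absurd hsgn (by decide)
    have htwo : ∀ a ∈ (g : Equiv.Perm (Fin 10)).cycleType, 2 ≤ a := fun a ha => Equiv.Perm.two_le_of_mem_cycleType ha
    rw [hg']
    exact key _ htwo hsum hev
  · intro hx
    rcases hx with rfl | rfl | rfl | rfl | rfl | rfl | rfl | rfl | rfl | rfl | rfl | rfl | rfl
    · exact real _ ({} : Multiset ℕ) (by decide) (by decide) (by decide) (by decide)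
    · exact real _ ({2, 2} : Multiset ℕ) (by decide) (by decide) (by decide) (by decide)
    · exact real _ ({3} : Multiset ℕ) (by decide) (by decide) (by decide) (by decide)
    · exact real _ ({4, 2} : Multiset ℕ) (by decide) (by decide) (by decide) (by decide)
    · exact real _ ({5} : Multiset ℕ) (by decide) (by decide) (by decide) (by decide)
    · exact real _ ({3, 2, 2} : Multiset ℕ) (by decide) (by decide) (by decide) (by decide)
    · exact real _ ({7} : Multiset ℕ) (by decide) (by decide) (by decide) (by decide)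
    · exact real _ ({8, 2} : Multiset ℕ) (by decide) (by decide) (by decide) (by decide)
    · exact real _ ({9} : Multiset ℕ) (by decide) (by decide) (by decide) (by decide)
    · exact real _ ({5, 2, 2} : Multiset ℕ) (by decide) (by decide) (by decide) (by decide)
    · exact real _ ({4, 3, 2} : Multiset ℕ) (by decide) (by decide) (by decide) (by decide)
    · exact real _ ({5, 3} : Multiset ℕ) (by decide) (by decide) (by decide) (by decide)
    · exact real _ ({7, 3} : Multiset ℕ) (by decide) (by decide) (by decide) (by decide)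

end Cfsg.Agent.S2477
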