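import Cfsg.Statements.S2648
import Mathlib
import Cfsg.Agent.Lib.AltChar.SL2Der
import Cfsg.Agent.Lib.AltChar.SpWr
import Cfsg.Agent.S2250

set_option autoImplicit false
open Cfsg

namespace Cfsg.Agent.S2648


open Matrix Equiv Cfsg.Agent.Lib.AltChar
open scoped MatrixGroups commutatorElement

variable {F : Type*} [Field F] [Fintype F]

theorem card_model (hF : Odd (Fintype.card F)) (n : ℕ) (S₀ : Sylow 2 SL(2, F))
    (T : Subgroup (Perm (Fin n))) (hT : Nat.card T = 2 ^ padicValNat 2 n.factorial) :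
    Nat.card (wrSub (spWrData (F := F) (n := n)) (S₀ : Subgroup SL(2, F)) T) =
      2 ^ (Nat.card (symplecticGroup (Fin n) F)).factorization 2 := by
  classical
  haveI : Fact (Nat.Prime 2) := ⟨Nat.prime_two⟩
  set q := Fintype.card F with hq
  have hq2 : 2 ≤ q := Fintype.one_lt_card
  rw [card_wrSub, hT, Sylow.card_eq_multiplicity S₀, Nat.factorization_def _ Nat.prime_two,
    Nat.factorization_def _ Nat.prime_two, Cfsg.Agent.S0245.result hq.symm n,
    Cfsg.Agent.Lib.KS2.SL2.card_SL2, ← hq, ← pow_mul, ← pow_add]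
  congr 1
  have hnd : ¬ 2 ∣ q := by
    obtain ⟨c, hc⟩ := hF
    omega
  have hv : ∀ k, padicValNat 2 (q ^ k) = 0 := fun k =>
    padicValNat.eq_zero_of_not_dvd fun h => hnd (Nat.Prime.dvd_of_dvd_pow Nat.prime_two h)
  have hne1 : q ^ 2 - 1 ≠ 0 := by
    have : 1 < q ^ 2 := Nat.one_lt_pow (by omega) (by omega)
    omega
  have hne2 : ∏ i ∈ Finset.range n, (q ^ (2 * (i + 1)) - 1) ≠ 0 := by
    refine Finset.prod_ne_zero_iff.mpr fun i _ => ?_
    have : 1 < q ^ (2 * (i + 1)) := Nat.one_lt_pow (by omega) (by omega)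
    omega
  rw [padicValNat.mul (by positivity) hne2, padicValNat.mul (by omega) hne1, hv,
    padicValNat.eq_zero_of_not_dvd hnd, val_prod_sp hq2 hF]
  ring

/-- The Sylow subgroups of `SL₂(q)` are non-abelian. -/
theorem sl2_nonabelian (hF : Odd (Fintype.card F)) (S₀ : Sylow 2 SL(2, F)) :
    ∃ x ∈ (S₀ : Subgroup SL(2, F)), ∃ y ∈ (S₀ : Subgroup SL(2, F)), x * y ≠ y * x := by
  classical
  obtain ⟨hRk, -⟩ := Cfsg.Agent.S2250.rankData_sl2 hF S₀
  obtain ⟨a, ha, ha2⟩ := hRk.wit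
  by_contra hc
  push Not at hc
  have h1 : a ∈ Subgroup.centralizer ((S₀ : Subgroup SL(2, F)) : Set SL(2, F)) := by
    rw [Subgroup.mem_centralizer_iff]
    intro y hy
    exact hc y hy a ha
  have h3 := (Cfsg.Agent.Lib.KS2.SL2.sylow2_odd_main hF S₀).1
  rw [h3, Matrix.SpecialLinearGroup.mem_center_iff] at h1
  obtain ⟨r, hr, hra⟩ := h1
  apply ha2
  apply Subtype.ext
  have hr2 : r * r = 1 := by
    have : r ^ 2 = 1 := by simpa using hr
    rwa [pow_two] at this
  show a.1 ^ 2 = 1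
  rw [← hra, pow_two]
  ext i j
  fin_cases i <;> fin_cases j <;> simp [Matrix.mul_apply, Fin.sum_univ_two, hr2]

/-- Let q be odd, F a field with q elements and n ≥ 1. A Sylow 2-subgroup R of the symplectic group Sp_{2n}(F) has derived length exactly k + 1, where 2^k ≤ 2n < 2^{k+1}: the (k+1)-st term of its derived series is trivial and the k-th is not. -/
theorem result {F : Type*} [Field F] [Fintype F] [DecidableEq F] (q : ℕ) (hF : Fintype.card F = q) (hq : Odd q) (n : ℕ) (hn : 1 ≤ n) (R : Sylow 2 ↥(Matrix.symplecticGroup (Fin n) F)) : derivedSeries ↥(R : Subgroup ↥(Matrix.symplecticGroup (Fin n) F)) (Nat.log 2 (2 * n) + 1) = ⊥ ∧ derivedSeries ↥(R : Subgroup ↥(Matrix.symplecticGroup (Fin n) F)) (Nat.log 2 (2 * n)) ≠ ⊥ := by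
  classical
  subst hF
  haveI : Fact (Nat.Prime 2) := ⟨Nat.prime_two⟩
  obtain ⟨S₀, hS₀⟩ := sl2_sylow_der (F := F) hq
  obtain ⟨T, hT, hd, hs⟩ := exists_T 2 n
  obtain ⟨i₀, S, hS⟩ := hs hn
  obtain ⟨x, hx, y, hy, hxy⟩ := sl2_nonabelian hq S₀
  have hM := card_model hq n S₀ T hT
  have hlog : Nat.log 2 (2 * n) = Nat.log 2 n + 1 := by
    rw [mul_comm, Nat.log_mul_base (by norm_num) (by omega)]
  rw [hlog]
  have hW := spWrData (F := F) (n := n)
  set M := wrSub (spWrData (F := F) (n := n)) (S₀ : Subgroup SL(2, F)) T with hMdef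
  have h1 : dS M (Nat.log 2 n + 2) = ⊥ := dS_wr_bot _ _ T hd hS₀
  have h2 : dS M (Nat.log 2 n + 1) ≠ ⊥ := seq_ne_bot _ _ T hS hx hy hxy
  have e : (R : Subgroup ↥(Matrix.symplecticGroup (Fin n) F)) ≃* M :=
    Sylow.equiv R (Sylow.ofCard M hM)
  have hmap : ∀ l, (derivedSeries ↥(R : Subgroup ↥(Matrix.symplecticGroup (Fin n) F)) l).map e.toMonoidHom =
      derivedSeries M l := fun l => map_derivedSeries_eq e.surjective l
  have hbot : ∀ l, derivedSeries ↥(R : Subgroup ↥(Matrix.symplecticGroup (Fin n) F)) l = ⊥ ↔ dS M l = ⊥ := by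
    intro l
    rw [← derivedSeries_eq_bot_iff, ← hmap, Subgroup.map_eq_bot_iff_of_injective _ e.injective]
  exact ⟨(hbot _).mpr h1, fun h => h2 ((hbot _).mp h)⟩

end Cfsg.Agent.S2648
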