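import Cfsg.Statements.S2780
import Cfsg.Agent.Lib.Amalgam.NatSL2b

set_option autoImplicit false
open Cfsg Cfsg.Agent.Lib.Amalgam
open scoped commutatorElement

namespace Cfsg.Agent.S2780

/-- Let L act on the elementary abelian p-group V (inside a finite group, faithfully) as SL₂(F) on its natural module, F a field with p^n elements, S a Sylow p-subgroup of L. Then: for every g ∈ L not normalizing S, V is the internal direct product of C_V(S) and C_V(gSg⁻¹); every nonidentity element of L of order prime to p acts on V without nonidentity fixed points; and C_V(S) and V/C_V(S) are irreducible for N_L(S): the only N_L(S)-invariant subgroups of C_V(S) are 1 and C_V(S), and the only N_L(S)-invariant subgroups between C_V(S) and V are those two. -/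
theorem result {G : Type*} [Group G] [Finite G] {p : ℕ} [Fact p.Prime] {F : Type*} [Field F] [Fintype F] (n : ℕ) (hF : Fintype.card F = p ^ n) (V L : Subgroup G) (hnat : Cfsg.IsNaturalSL2Module F V L) (hf : L ⊓ Subgroup.centralizer (V : Set G) = ⊥) (S : Sylow p ↥L) (T : Subgroup G) (hT : T = ((S : Subgroup ↥L).map L.subtype)) : (∀ g ∈ L, g ∉ Subgroup.normalizer (T : Set G) → Cfsg.IsInternalDirectProduct (V ⊓ Subgroup.centralizer ((T : Subgroup G) : Set G)) (V ⊓ Subgroup.centralizer ((T.map (MulAut.conj g).toMonoidHom : Subgroup G) : Set G)) V) ∧ (∀ x ∈ L, x ≠ 1 → (orderOf x).Coprime p → (V ⊓ Subgroup.centralizer ({x} : Set G)) = ⊥) ∧ (∀ U : Subgroup G, U ≤ (V ⊓ Subgroup.centralizer ((T : Subgroup G) : Set G)) → L ⊓ Subgroup.normalizer (T : Set G) ≤ Subgroup.normalizer (U : Set G) → U = ⊥ ∨ U = (V ⊓ Subgroup.centralizer ((T : Subgroup G) : Set G))) ∧ (∀ U : Subgroup G, (V ⊓ Subgroup.centralizer ((T : Subgroup G) : Set G)) ≤ U → U ≤ V → L ⊓ Subgroup.normalizer (T :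 Set G) ≤ Subgroup.normalizer (U : Set G) → U = (V ⊓ Subgroup.centralizer ((T : Subgroup G) : Set G)) ∨ U = V) := by
  classical
  obtain ⟨D⟩ := exists_natCoord n hF V L hnat hf S T hT
  haveI : CharP F p := charP_of_card_eq_prime_pow hF
  have hC : V ⊓ Subgroup.centralizer ((T : Subgroup G) : Set G) = D.V₁ := D.inf_centralizer_T
  rw [hC]
  have hdiagN : ∀ (l : L) (d : F), (D.ρ l).1 = !![d, 0; 0, d⁻¹] →
      (l : G) ∈ L ⊓ Subgroup.normalizer ((T : Subgroup G) : Set G) := by
    intro l d hl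
    refine ⟨l.2, D.mem_normalizer_of_upper l ?_⟩
    rw [hl]
    rfl
  refine ⟨?_, ?_, ?_, ?_⟩
  · intro g hgL hgN
    set l : L := ⟨g, hgL⟩ with hl
    have hc : (D.ρ l).1 1 0 ≠ 0 := fun h => hgN (D.mem_normalizer_of_upper l h)
    have hW : ∀ v (hv : v ∈ V), v ∈ Subgroup.centralizer ((T.map (MulAut.conj g).toMonoidHom : Subgroup G) : Set G) ↔
        - (D.ρ l).1 1 0 * D.coord ⟨v, hv⟩ 0 + (D.ρ l).1 0 0 * D.coord ⟨v, hv⟩ 1 = 0 :=
      fun v hv => D.inf_centralizer_conj l v hv
    refine ⟨D.V₁_le, inf_le_left, ?_, ?_, ?_⟩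
    · intro a ha b hb
      exact congrArg Subtype.val (D.comm_V ⟨a, D.V₁_le ha⟩ ⟨b, hb.1⟩)
    · rw [eq_bot_iff]
      rintro x ⟨hx1, hx2, hx3⟩
      rw [Subgroup.mem_bot]
      have h1 := (hW x hx2).mp hx3
      have h2 : D.coord ⟨x, hx2⟩ 1 = 0 := (D.mem_V₁' ⟨x, hx2⟩).mp hx1
      rw [h2, mul_zero, add_zero, neg_mul, neg_eq_zero] at h1
      have h3 := (mul_eq_zero.mp h1).resolve_left hc
      have h4 : D.coord ⟨x, hx2⟩ = 0 := by
        ext i
        fin_cases i
        · exact h3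
        · exact h2
      exact congrArg Subtype.val (D.coord_eq_zero h4)
    · apply le_antisymm
      · exact sup_le D.V₁_le inf_le_left
      · intro v hv
        set a := (D.ρ l).1 0 0
        set c := (D.ρ l).1 1 0
        set x := D.coord ⟨v, hv⟩ 0
        set y := D.coord ⟨v, hv⟩ 1
        have hw₂ : ((D.vec ![a * y / c, y] : V) : G) ∈ V ⊓ Subgroup.centralizer ((T.map (MulAut.conj g).toMonoidHom : Subgroup G) : Set G) := by
          refine ⟨Subtype.property _, ?_⟩
          refine (hW _ (Subtype.property _)).mpr ?_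
          have : (⟨((D.vec ![a * y / c, y] : V) : G), Subtype.property _⟩ : V) = D.vec ![a * y / c, y] := rfl
          rw [this, D.coord_vec]
          simp
          field_simp
          ring
        have hw₁ : ((D.vec ![x - a * y / c, 0] : V) : G) ∈ D.V₁ := by
          rw [D.mem_V₁', D.coord_vec]
          rfl
        have he : (⟨v, hv⟩ : V) = D.vec ![x - a * y / c, 0] * D.vec ![a * y / c, y] := by
          apply D.coord_injective
          rw [D.coord_mul, D.coord_vec, D.coord_vec]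
          ext i
          fin_cases i
          · simp [x]
          · simp [y]
        have he' : v = ((D.vec ![x - a * y / c, 0] : V) : G) * ((D.vec ![a * y / c, y] : V) : G) :=
          congrArg Subtype.val he
        rw [he']
        exact Subgroup.mul_mem_sup hw₁ hw₂
  · intro x hx hx1 hcop
    exact D.inf_centralizer_of_coprime hx hx1 hcop
  · intro U hU hN
    by_cases hU1 : U = ⊥
    · exact Or.inl hU1
    right
    obtain ⟨u, hu, hu1⟩ := (Subgroup.bot_or_exists_ne_one U).resolve_left hU1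
    have huV₁ := hU hu
    apply le_antisymm hU
    intro w hw
    have hwV := D.V₁_le hw
    have huV := D.V₁_le huV₁
    have hu0 : D.coord ⟨u, huV⟩ 0 ≠ 0 := by
      intro h
      apply hu1
      have h4 : D.coord ⟨u, huV⟩ = 0 := by
        ext i
        fin_cases i
        · exact h
        · exact (D.mem_V₁' ⟨u, huV⟩).mp huV₁
      exact congrArg Subtype.val (D.coord_eq_zero h4)
    by_cases hw0 : D.coord ⟨w, hwV⟩ 0 = 0
    · have h4 : D.coord ⟨w, hwV⟩ = 0 := by
        ext i
        fin_cases i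
        · exact hw0
        · exact (D.mem_V₁' ⟨w, hwV⟩).mp hw
      have : w = 1 := congrArg Subtype.val (D.coord_eq_zero h4)
      rw [this]
      exact U.one_mem
    set d := D.coord ⟨w, hwV⟩ 0 / D.coord ⟨u, huV⟩ 0 with hd
    have hd0 : d ≠ 0 := div_ne_zero hw0 hu0
    obtain ⟨l, hl⟩ := D.exists_diag d hd0
    have h1 := D.coord_conj_diag hl ⟨u, huV⟩
    have h2 : (⟨(l : G) * u * (l : G)⁻¹, D.conj_mem l ⟨u, huV⟩⟩ : V) = ⟨w, hwV⟩ := by
      apply D.coord_injective
      rw [h1]
      ext i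
      fin_cases i
      · simp [hd]
        field_simp
      · simp
        rw [(D.mem_V₁' ⟨u, huV⟩).mp huV₁, (D.mem_V₁' ⟨w, hwV⟩).mp hw]
        simp
    have h3 : (l : G) * u * (l : G)⁻¹ = w := congrArg Subtype.val h2
    rw [← h3]
    exact (Subgroup.mem_normalizer_iff.mp (hN (hdiagN l d hl)) u).mp hu
  · intro U hU hUV hN
    by_cases hU1 : U ≤ D.V₁
    · exact Or.inl (le_antisymm hU1 hU)
    right
    obtain ⟨u, hu, hu1⟩ := SetLike.not_le_iff_exists.mp hU1
    have huV := hUV hu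
    have hy : D.coord ⟨u, huV⟩ 1 ≠ 0 := fun h => hu1 ⟨huV, h⟩
    apply le_antisymm hUV
    intro w hw
    by_cases hw1 : D.coord ⟨w, hw⟩ 1 = 0
    · exact hU ⟨hw, hw1⟩
    set d := D.coord ⟨u, huV⟩ 1 / D.coord ⟨w, hw⟩ 1 with hd
    have hd0 : d ≠ 0 := div_ne_zero hy hw1
    obtain ⟨l, hl⟩ := D.exists_diag d hd0
    have h1 := D.coord_conj_diag hl ⟨u, huV⟩
    have h2 : (l : G) * u * (l : G)⁻¹ ∈ U := (Subgroup.mem_normalizer_iff.mp (hN (hdiagN l d hl)) u).mp hu
    have h3 : w * ((l : G) * u * (l : G)⁻¹)⁻¹ ∈ D.V₁ := by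
      refine ⟨V.mul_mem hw (V.inv_mem (hUV h2)), ?_⟩
      have e : (⟨w * ((l : G) * u * (l : G)⁻¹)⁻¹, V.mul_mem hw (V.inv_mem (hUV h2))⟩ : V) =
          ⟨w, hw⟩ * (⟨(l : G) * u * (l : G)⁻¹, D.conj_mem l ⟨u, huV⟩⟩ : V)⁻¹ := rfl
      rw [e, D.coord_mul, D.coord_inv, h1]
      simp [hd]
      field_simp
      ring
    have h4 : w = (w * ((l : G) * u * (l : G)⁻¹)⁻¹) * ((l : G) * u * (l : G)⁻¹) := by group
    rw [h4]
    exact U.mul_mem (hU h3) h2

end Cfsg.Agent.S2780
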