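import Cfsg.Statements.S2804
import Cfsg.Agent.Lib.Amalgam.Red

set_option autoImplicit false
open Cfsg Cfsg.Agent.Lib.Amalgam
open scoped commutatorElement

namespace Cfsg.Agent.S2804

/-- Let L be a finite group and p a prime with C_L(O_p(L)) ≤ O_p(L), V a p-reduced normal subgroup of L and K a subnormal subgroup of L. Then [V, O^p(K)] is contained in K and is a p-reduced normal subgroup of K, where O^p(K) is the subgroup of K generated by its elements of order prime to p. -/
theorem result {L : Type*} [Group L] [Finite L] {p : ℕ} [Fact p.Prime] (hchar : Subgroup.centralizer (Cfsg.pCore p L : Set L) ≤ Cfsg.pCore p L) (V : Subgroup L) (hV : Cfsg.IsPReducedNormal p V) (K : Subgroup L) (hK : K.IsSubnormal) : ⁅V, (Cfsg.pResidual p ↥K).map K.subtype⁆ ≤ K ∧ Cfsg.IsPReducedNormal p ((⁅V, (Cfsg.pResidual p ↥K).map K.subtype⁆).subgroupOf K) := by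
  obtain ⟨hVn, hVE, -⟩ := id hV
  haveI := hVn
  have hVp := isPGroup_of_isElementaryAbelian hVE
  set B := (pResidual p ↥K).map K.subtype with hB
  have hVB : V ≤ Subgroup.normalizer (B : Set L) := le_normalizer_map_pResidual_of_subnormal hVn hVp hK
  have hBK : B ≤ K := map_pResidual_le
  have h1 : ⁅V, B⁆ ≤ K := (commutator_le_right_of_normalizer hVB).trans hBK
  refine ⟨h1, ?_⟩
  have hVnorm : K ≤ Subgroup.normalizer (V : Set L) := by
    rw [Subgroup.normalizer_eq_top_iff.mpr hVn]; exact le_top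
  have hKB : K ≤ Subgroup.normalizer (B : Set L) := Subgroup.le_normalizer.trans le_normalizer_map_pResidual
  have hKW : K ≤ Subgroup.normalizer ((⁅V, B⁆ : Subgroup L) : Set L) := le_normalizer_commutator hVnorm hKB
  have hWV : ⁅V, B⁆ ≤ V := commutator_le_left_of_normalizer (by
    rw [Subgroup.normalizer_eq_top_iff.mpr hVn]; exact le_top)
  have hVc := le_centralizer_of_isElementaryAbelian hVE
  refine isPReducedNormal_mk (subgroupOf_normal_of_le_normalizer hKW)
    (isElementaryAbelian_subgroupOf (isElementaryAbelian_mono hVE hWV) K) ?_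
  intro R hR hr
  have hRs : (R.map K.subtype).IsSubnormal := hR.isSubnormal.trans' hK
  have hRV : R.map K.subtype ≤ Subgroup.centralizer (V : Set L) := by
    apply subnormal_reduced_le_centralizer hV hRs
    rintro _ ⟨r, hrR, rfl⟩
    obtain ⟨a, ha⟩ := Cfsg.Agent.Lib.Techniques.exists_pow_coprime_order (p := p) r
    obtain ⟨k, hk⟩ := hr r hrR
    have hy := pow_mem_of_pow_mem hk ha
    refine ⟨a, ?_⟩
    set y := r ^ p ^ a with hydef
    have hyB : (y : L) ∈ B := ⟨y, Subgroup.subset_closure ha, rfl⟩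
    have hyo : (orderOf (y : L)).Coprime p := by rwa [Subgroup.orderOf_coe]
    have e : K.subtype r ^ p ^ a = (y : L) := rfl
    rw [e, Subgroup.mem_centralizer_iff]
    intro v hv
    have hc : ⁅(y : L), v⁆ ∈ ⁅V, B⁆ := by
      have e2 : ⁅(y : L), v⁆ = ⁅v, (y : L)⁆⁻¹ := by rw [commutatorElement_inv]
      rw [e2]
      exact Subgroup.inv_mem _ (Subgroup.commutator_mem_commutator hv hyB)
    have hcK : ⁅(y : L), v⁆ ∈ K := h1 hc
    have h2 : (⟨⁅(y : L), v⁆, hcK⟩ : ↥K) ∈ (⁅V, B⁆ : Subgroup L).subgroupOf K := hc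
    have h3 := Subgroup.mem_centralizer_iff.mp hy _ h2
    have hb : ⁅(y : L), v⁆ * (y : L) = (y : L) * ⁅(y : L), v⁆ := congrArg Subtype.val h3
    have hab : v * ⁅(y : L), v⁆ = ⁅(y : L), v⁆ * v :=
      Subgroup.mem_centralizer_iff.mp (hVc (hWV hc)) v hv
    have hyN : (y : L) ∈ Subgroup.normalizer (V : Set L) := by
      rw [Subgroup.normalizer_eq_top_iff.mpr hVn]; exact Subgroup.mem_top _
    exact (commute_of_quadratic hVp hyo hv hb hyN hab).symm
  intro r hrR
  rw [Subgroup.mem_centralizer_iff]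
  intro w hw
  apply Subtype.ext
  have h3 : (r : L) ∈ R.map K.subtype := ⟨r, hrR, rfl⟩
  have h4 : (w : L) ∈ V := hWV hw
  exact Subgroup.mem_centralizer_iff.mp (hRV h3) _ h4

end Cfsg.Agent.S2804
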