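import Cfsg.Statements.S2809
import Cfsg.Agent.Lib.Amalgam.ResOf

set_option autoImplicit false
open Cfsg Cfsg.Agent.Lib.Amalgam
open scoped commutatorElement

namespace Cfsg.Agent.S2809

/-- Let H be a finite group, p a prime, R a p-subgroup of H with C_H(R) ≤ R, and L a subgroup of N_H(R) acting nilpotently on R (some iterated commutator [R, L, …, L] is trivial). Then L is a p-group. -/
theorem result {H : Type*} [Group H] [Finite H] {p : ℕ} [Fact p.Prime] (R : Subgroup H) (hR : IsPGroup p ↥R) (hC : Subgroup.centralizer (R : Set H) ≤ R) (L : Subgroup H) (hL : L ≤ Subgroup.normalizer (R : Set H)) (hnil : ∃ n : ℕ, Cfsg.iterCommutator R L n = ⊥) : IsPGroup p ↥L := by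
  have hle : ∀ i, Cfsg.iterCommutator R L i ≤ R := by
    intro i
    induction i with
    | zero => exact le_rfl
    | succ i ih =>
      show ⁅Cfsg.iterCommutator R L i, L⁆ ≤ R
      rw [Subgroup.commutator_le]
      intro r hr l hl
      rw [commutatorElement_def]
      have h1 : l * r⁻¹ * l⁻¹ ∈ R :=
        (Subgroup.mem_normalizer_iff.mp (hL hl) r⁻¹).mp (R.inv_mem (ih hr))
      have h2 : r * l * r⁻¹ * l⁻¹ = r * (l * r⁻¹ * l⁻¹) := by group
      rw [h2]
      exact R.mul_mem (ih hr) h1
  apply isPGroup_subgroup_of_coprime_eq_one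
  intro x hx hco
  obtain ⟨n, hn⟩ := hnil
  have key : ∀ k i, i + k = n → x ∈ Subgroup.centralizer (Cfsg.iterCommutator R L i : Set H) := by
    intro k
    induction k with
    | zero =>
      intro i hi
      have : i = n := by omega
      rw [this, hn]
      rw [Subgroup.mem_centralizer_iff]
      intro h hh
      have : h = 1 := hh
      rw [this]; group
    | succ k ih =>
      intro i hi
      refine centralizes_step hR (hle (i + 1)) hco ?_ (ih (i + 1) (by omega))
      intro r hr
      exact Subgroup.commutator_mem_commutator hr hx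
  have h0 := key n 0 (by omega)
  exact eq_one_of_mem_isPGroup_coprime hR (hC h0) hco


end Cfsg.Agent.S2809
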