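import Cfsg.Statements.S2810
import Cfsg.Agent.Lib.Amalgam.ResOf

set_option autoImplicit false
open Cfsg Cfsg.Agent.Lib.Amalgam
open scoped commutatorElement

namespace Cfsg.Agent.S2810


/-- The stabilizer of a normal chain. -/
def chainStab {H : Type*} [Group H] {n : ℕ} (A : Fin (n + 1) → Subgroup H) (hnorm : ∀ i, (A i).Normal) :
    Subgroup H where
  carrier := {h | ∀ i : Fin n, ∀ a ∈ A i.succ, ⁅a, h⁆ ∈ A i.castSucc}
  mul_mem' := by
    intro h k hh hk i a ha
    have e : ⁅a, h * k⁆ = ⁅a, h⁆ * (h * ⁅a, k⁆ * h⁻¹) := by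
      simp only [commutatorElement_def]; group
    rw [e]
    exact (A i.castSucc).mul_mem (hh i a ha) ((hnorm _).conj_mem _ (hk i a ha) h)
  one_mem' := by
    intro i a ha
    simp
  inv_mem' := by
    intro h hh i a ha
    have e : ⁅a, h⁻¹⁆ = h⁻¹ * ⁅a, h⁆⁻¹ * h⁻¹⁻¹ := by
      simp only [commutatorElement_def]; group
    rw [e]
    exact (hnorm _).conj_mem _ ((A i.castSucc).inv_mem (hh i a ha)) h⁻¹

theorem chainStab_normal {H : Type*} [Group H] {n : ℕ} (A : Fin (n + 1) → Subgroup H)
    (hnorm : ∀ i, (A i).Normal) : (chainStab A hnorm).Normal := by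
  constructor
  intro h hh g i a ha
  have e : ⁅a, g * h * g⁻¹⁆ = g * ⁅g⁻¹ * a * g, h⁆ * g⁻¹ := by
    simp only [commutatorElement_def]; group
  rw [e]
  refine (hnorm _).conj_mem _ (hh i _ ?_) g
  have := (hnorm i.succ).conj_mem a ha g⁻¹
  simpa using this


/-- Let H be a finite group of characteristic p and L a subgroup of H centralizing every factor of some H-invariant chain 1 = A₀ ≤ A₁ ≤ … ≤ Aₙ = O_p(H) of normal subgroups (that is, [A_{i+1}, L] ≤ Aᵢ for each i). Then L ≤ O_p(H). -/
theorem result {H : Type*} [Group H] [Finite H] {p : ℕ} [Fact p.Prime] (hchar : Subgroup.centralizer (Cfsg.pCore p H : Set H) ≤ Cfsg.pCore p H) (L : Subgroup H) (n : ℕ) (A : Fin (n + 1) → Subgroup H) (h0 : A 0 = ⊥) (hn : A (Fin.last n) = Cfsg.pCore p H) (hmono : Monotone A) (hnorm : ∀ i, (A i).Normal) (hcent : ∀ i : Fin n, ⁅A i.succ, L⁆ ≤ A i.castSucc) : L ≤ Cfsg.pCore p H := by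
  have hS : IsPGroup p (chainStab A hnorm) := by
    apply isPGroup_subgroup_of_coprime_eq_one
    intro x hx hco
    have key : ∀ (i : ℕ) (hi : i < n + 1), x ∈ Subgroup.centralizer (A ⟨i, hi⟩ : Set H) := by
      intro i
      induction i with
      | zero =>
        intro hi
        have : (⟨0, hi⟩ : Fin (n + 1)) = 0 := rfl
        rw [this, h0, Subgroup.mem_centralizer_iff]
        intro h hh
        have : h = 1 := hh
        rw [this]; group
      | succ i ih =>
        intro hi
        have hi' : i < n := by omega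
        refine centralizes_step (Cfsg.Agent.Lib.Core.pCore_isPGroup p H) ?_ hco ?_ (ih (by omega))
        · rw [← hn]
          exact hmono (Fin.le_last _)
        · intro r hr
          exact hx ⟨i, hi'⟩ r hr
    have hx1 := key n (by omega)
    have : (⟨n, by omega⟩ : Fin (n + 1)) = Fin.last n := rfl
    rw [this, hn] at hx1
    exact eq_one_of_mem_isPGroup_coprime (Cfsg.Agent.Lib.Core.pCore_isPGroup p H) (hchar hx1) hco
  have hLS : L ≤ chainStab A hnorm := by
    intro l hl i a ha
    exact hcent i (Subgroup.commutator_mem_commutator ha hl)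
  exact hLS.trans (Cfsg.Agent.Lib.Core.le_pCore (chainStab_normal A hnorm) hS)


end Cfsg.Agent.S2810
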