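import Cfsg.Statements.S2813
import Cfsg.Agent.Lib.PGroup.Pairing
import Cfsg.Agent.Lib.Amalgam.ResOf

set_option autoImplicit false
open Cfsg Cfsg.Agent.Lib.Amalgam
open scoped commutatorElement

namespace Cfsg.Agent.S2813

/-- Let K be a subgroup of the finite group H with O_p(K) = 1 and Y a p-subgroup of N_H(K) with [K, Y, Y] = 1. Then [K, Y] = 1. -/
theorem result {H : Type*} [Group H] [Finite H] {p : ℕ} [Fact p.Prime] (K : Subgroup H) (hO : Cfsg.pCore p ↥K = ⊥) (Y : Subgroup H) (hY : IsPGroup p ↥Y) (hYK : Y ≤ Subgroup.normalizer (K : Set H)) (hq : ⁅⁅K, Y⁆, Y⁆ = ⊥) : ⁅K, Y⁆ = ⊥ := by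
  set W : Subgroup H := ⁅K, Y⁆ with hW
  have hWK : W ≤ K := by
    rw [hW, Subgroup.commutator_le]
    intro k hk y hy
    rw [commutatorElement_def]
    have h1 : y * k⁻¹ * y⁻¹ ∈ K := (Subgroup.mem_normalizer_iff.mp (hYK hy) k⁻¹).mp (K.inv_mem hk)
    have h2 : k * y * k⁻¹ * y⁻¹ = k * (y * k⁻¹ * y⁻¹) := by group
    rw [h2]
    exact K.mul_mem hk h1
  have hcY : ∀ w ∈ W, ∀ y ∈ Y, w * y = y * w := by
    intro w hw y hy
    have h1 : ⁅w, y⁆ ∈ ⁅W, Y⁆ := Subgroup.commutator_mem_commutator hw hy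
    rw [hq] at h1
    have h2 : ⁅w, y⁆ = 1 := h1
    exact commutatorElement_eq_one_iff_mul_comm.mp h2
  have hconjK : ∀ k ∈ K, ∀ w ∈ W, k * w * k⁻¹ ∈ W :=
    fun k hk w hw => Cfsg.Agent.Lib.PGroup.conj_mem_commutator_left K Y hk hw
  -- conjugates of `Y` centralize `W`
  have hcYk : ∀ k ∈ K, ∀ y ∈ Y, ∀ w ∈ W, (k * y * k⁻¹) * w = w * (k * y * k⁻¹) := by
    intro k hk y hy w hw
    have h1 := hconjK k⁻¹ (K.inv_mem hk) w hw
    have h2 := hcY _ h1 y hy
    have h3 : k⁻¹ * w * k⁻¹⁻¹ * y = y * (k⁻¹ * w * k⁻¹⁻¹) := h2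
    calc (k * y * k⁻¹) * w = k * (y * (k⁻¹ * w * k⁻¹⁻¹)) * k⁻¹ := by group
      _ = k * (k⁻¹ * w * k⁻¹⁻¹ * y) * k⁻¹ := by rw [h3]
      _ = w * (k * y * k⁻¹) := by group
  have hgen : ∀ k ∈ K, ∀ y ∈ Y, ∀ w ∈ W, ⁅k, y⁆ * w = w * ⁅k, y⁆ := by
    intro k hk y hy w hw
    have e : ⁅k, y⁆ = (k * y * k⁻¹) * y⁻¹ := rfl
    rw [e]
    have h1 := hcYk k hk y hy w hw
    have h2 := hcY w hw y⁻¹ (Y.inv_mem hy)
    calc (k * y * k⁻¹) * y⁻¹ * w = (k * y * k⁻¹) * (y⁻¹ * w) := by group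
      _ = (k * y * k⁻¹) * (w * y⁻¹) := by rw [h2]
      _ = ((k * y * k⁻¹) * w) * y⁻¹ := by group
      _ = (w * (k * y * k⁻¹)) * y⁻¹ := by rw [h1]
      _ = w * ((k * y * k⁻¹) * y⁻¹) := by group
  -- `W` is abelian
  have habel : ∀ w₁ ∈ W, ∀ w₂ ∈ W, w₁ * w₂ = w₂ * w₁ := by
    intro w₁ hw₁ w₂ hw₂
    have hle : W ≤ Subgroup.centralizer (W : Set H) := by
      rw [hW, Subgroup.commutator_def, Subgroup.closure_le]
      rintro _ ⟨k, hk, y, hy, rfl⟩
      rw [SetLike.mem_coe, Subgroup.mem_centralizer_iff]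
      intro w hw
      exact (hgen k hk y hy w hw).symm
    exact (Subgroup.mem_centralizer_iff.mp (hle hw₂) w₁ hw₁)
  -- `W` is a `p`-group
  have hpow : ∀ w ∈ W, ∃ n : ℕ, w ^ p ^ n = 1 := by
    intro w hw
    rw [hW, Subgroup.commutator_def] at hw
    induction hw using Subgroup.closure_induction with
    | mem x hx =>
      obtain ⟨k, hk, y, hy, rfl⟩ := hx
      obtain ⟨n, hn⟩ := hY ⟨y, hy⟩
      have hn' : y ^ p ^ n = 1 := by simpa using congrArg Subtype.val hn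
      refine ⟨n, ?_⟩
      have hmem : ⁅k, y⁆ ∈ W := Subgroup.commutator_mem_commutator hk hy
      have hcomm : Commute (k * y * k⁻¹) y⁻¹ := by
        have h1 := hcY _ hmem y hy
        have e : ⁅k, y⁆ = (k * y * k⁻¹) * y⁻¹ := rfl
        rw [e] at h1
        have h2 : (k * y * k⁻¹) * y = y * (k * y * k⁻¹) := by
          calc (k * y * k⁻¹) * y = ((k * y * k⁻¹) * y⁻¹ * y) * y := by group
            _ = (y * ((k * y * k⁻¹) * y⁻¹)) * y := by rw [h1]
            _ = y * (k * y * k⁻¹) := by group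
        exact Commute.inv_right h2
      have e : ⁅k, y⁆ = (k * y * k⁻¹) * y⁻¹ := rfl
      rw [e, hcomm.mul_pow, conj_pow, hn', inv_pow, hn']
      simp
    | one => exact ⟨0, by simp⟩
    | mul a b ha hb ia ib =>
      have ha' : a ∈ W := by rw [hW, Subgroup.commutator_def]; exact ha
      have hb' : b ∈ W := by rw [hW, Subgroup.commutator_def]; exact hb
      obtain ⟨n, hn⟩ := ia
      obtain ⟨m, hm⟩ := ib
      have hcomm : Commute a b := habel a ha' b hb'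
      refine ⟨n + m, ?_⟩
      rw [hcomm.mul_pow, pow_add p n m, pow_mul, hn, one_pow, mul_comm (p ^ n), pow_mul, hm, one_pow,
        one_mul]
    | inv a ha ia =>
      obtain ⟨n, hn⟩ := ia
      exact ⟨n, by rw [inv_pow, hn, inv_one]⟩
  have hNW : (W.subgroupOf K).Normal := by
    constructor
    intro w hw k
    rw [Subgroup.mem_subgroupOf] at hw ⊢
    exact hconjK k k.2 w hw
  have hPW : IsPGroup p (W.subgroupOf K) := by
    intro w
    have hw : ((w : K) : H) ∈ W := by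
      have := w.2
      rwa [Subgroup.mem_subgroupOf] at this
    obtain ⟨n, hn⟩ := hpow _ hw
    refine ⟨n, ?_⟩
    apply Subtype.ext
    apply Subtype.ext
    simpa using hn
  have hbot := Cfsg.Agent.Lib.Core.le_pCore hNW hPW
  rw [hO, le_bot_iff] at hbot
  rw [eq_bot_iff]
  intro w hw
  have h1 : (⟨w, hWK hw⟩ : K) ∈ W.subgroupOf K := by rwa [Subgroup.mem_subgroupOf]
  rw [hbot] at h1
  have h2 := congrArg Subtype.val (Subgroup.mem_bot.mp h1)
  exact h2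

end Cfsg.Agent.S2813
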