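import Cfsg.Statements.S2814
import Cfsg.Agent.Lib.Amalgam.SubClosure
import Cfsg.Agent.Lib.Amalgam.Asym
import Cfsg.Agent.Lib.Hall.CoprimeCommutator

set_option autoImplicit false
open Cfsg Cfsg.Agent.Lib.Amalgam Cfsg.Agent.Lib.Subnormal Cfsg.Agent.Lib.FF
open scoped commutatorElement

namespace Cfsg.Agent.S2814

/-- Let A be a subgroup of the finite group H and K the subnormal closure of A (intersection of the subnormal subgroups containing A). Then K is the normal closure of A inside K and N_H(A) ≤ N_H(K); K = A·O^p(K), O^p(K) being generated by the elements of K of order prime to p; and if A is a p-group, O^p(K) = [O^p(K), A]. -/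
theorem result {H : Type*} [Group H] [Finite H] {p : ℕ} [Fact p.Prime] (A : Subgroup H) (K : Subgroup H) (hK : K = Cfsg.subnormalClosure A) : (Subgroup.normalClosure ((A.subgroupOf K : Subgroup ↥K) : Set ↥K)).map K.subtype = K ∧ Subgroup.normalizer (A : Set H) ≤ Subgroup.normalizer (K : Set H) ∧ A ⊔ (Cfsg.pResidual p ↥K).map K.subtype = K ∧ (IsPGroup p ↥A → ⁅(Cfsg.pResidual p ↥K).map K.subtype, A⁆ = (Cfsg.pResidual p ↥K).map K.subtype) := by
  classical
  have hK1 : SN ⊤ K := by rw [hK]; exact sn_subnormalClosure A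
  have hAK : A ≤ K := by rw [hK]; exact le_subnormalClosure A
  have hmin : ∀ L : Subgroup H, A ≤ L → SN ⊤ L → K ≤ L := by
    intro L hAL hL
    rw [hK]; exact subnormalClosure_le hAL hL
  have hKK : ∀ U : Subgroup H, A ≤ U → SN K U → U = K := fun U hAU hU =>
    le_antisymm hU.le (hmin U hAU (hK1.trans hU))
  refine ⟨?_, ?_, ?_, ?_⟩
  · apply hKK
    · intro a ha
      exact ⟨⟨a, hAK ha⟩, Subgroup.subset_normalClosure ha, rfl⟩
    · have h1 : SN (⊤ : Subgroup K) (Subgroup.normalClosure ((A.subgroupOf K : Subgroup ↥K) : Set ↥K)) :=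
        SN.of_normal le_top (by
          rw [Subgroup.normalizer_eq_top_iff.mpr inferInstance])
      have h2 := h1.map K.subtype
      rwa [← MonoidHom.range_eq_map, Subgroup.range_subtype] at h2
  · intro n hn
    have hn' := Cfsg.Agent.Lib.FF.mem_normalizer_iff_conj.mp hn
    have h1 : A ≤ K.map (MulAut.conj n).toMonoidHom := by
      rw [← hn']
      exact Subgroup.map_mono hAK
    have h2 : K ≤ K.map (MulAut.conj n).toMonoidHom :=
      hmin _ h1 (by
        have := hK1.conj n
        rwa [Subgroup.map_top_of_surjective _ (MulAut.conj n).surjective] at this)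
    have h3 : K.map (MulAut.conj n).toMonoidHom = K :=
      (Subgroup.eq_of_le_of_card_ge h2 (by
        rw [Subgroup.card_map_of_injective (MulAut.conj n).injective])).symm
    exact Cfsg.Agent.Lib.FF.mem_normalizer_iff_conj.mpr h3
  · exact hKK _ le_sup_left (sn_sup_pResidual hAK)
  · intro hA
    set R := (Cfsg.pResidual p ↥K).map K.subtype with hR
    have hRK : R ≤ K := map_pResidual_le
    have hsup : A ⊔ R = K := hKK _ le_sup_left (sn_sup_pResidual hAK)
    have hKR : K ≤ Subgroup.normalizer (R : Set H) := by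
      intro x hx
      haveI := Cfsg.Agent.Lib.Techniques.pResidual_normal K p
      refine Cfsg.Agent.Lib.FF.mem_normalizer_iff_conj.mpr ?_
      exact Cfsg.Agent.Lib.FF.mem_normalizer_iff_conj.mp (le_normalizer_map_pResidual (K := K) (Subgroup.le_normalizer hx))
    have hAR : A ≤ Subgroup.normalizer (R : Set H) := hAK.trans hKR
    have hRR : R ≤ Subgroup.normalizer (R : Set H) := hRK.trans hKR
    have hAA : A ≤ Subgroup.normalizer (A : Set H) := Subgroup.le_normalizer
    set R₁ : Subgroup H := ⁅R, A⁆ with hR₁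
    have hR₁R : R₁ ≤ R := commutator_le_left_of_normalizer hAR
    have hAN : A ≤ Subgroup.normalizer (R₁ : Set H) := le_normalizer_commutator hAR hAA
    have hRN : R ≤ Subgroup.normalizer (R₁ : Set H) := Cfsg.Agent.Lib.Hall.le_normalizer_commutator_left A R
    have hKN : K ≤ Subgroup.normalizer (R₁ : Set H) := by
      rw [← hsup]; exact sup_le hAN hRN
    -- `A ⊔ R₁` is normal in `K`
    have hnormal : K ≤ Subgroup.normalizer ((A ⊔ R₁ : Subgroup H) : Set H) := by
      rw [← hsup]
      refine sup_le ?_ ?_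
      · exact le_normalizer_sup hAA hAN
      · intro r hr
        refine mem_normalizer_of_map_conj_le ?_
        rintro _ ⟨y, hy, rfl⟩
        have hr' : (MulAut.conj r).toMonoidHom y ∈ (A ⊔ R₁ : Subgroup H).map (MulAut.conj r).toMonoidHom := ⟨y, hy, rfl⟩
        rw [Subgroup.map_sup, Cfsg.Agent.Lib.FF.mem_normalizer_iff_conj.mp (hRN hr)] at hr'
        refine (sup_le ?_ le_sup_right : (A.map (MulAut.conj r).toMonoidHom ⊔ R₁) ≤ A ⊔ R₁) hr'
        rintro _ ⟨a, ha, rfl⟩
        have e : (MulAut.conj r).toMonoidHom a = ⁅r, a⁆ * a := by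
          simp [commutatorElement_def]
        rw [e]
        exact Subgroup.mul_mem _ (Subgroup.mem_sup_right (Subgroup.commutator_mem_commutator hr ha)) (Subgroup.mem_sup_left ha)
    have hAR₁ : A ⊔ R₁ = K := hKK _ le_sup_left
      (SN.of_normal (sup_le hAK (hR₁R.trans hRK)) hnormal)
    refine le_antisymm hR₁R ?_
    rw [hR, map_pResidual_eq_closure, Subgroup.closure_le]
    rintro g ⟨hgK, hgc⟩
    rw [← hAR₁, sup_comm] at hgK
    have hg0 : orderOf g ≠ 0 := (orderOf_pos g).ne'
    exact mem_of_coprime_of_mem_sup (hAN) hA hgK hg0 hgc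

end Cfsg.Agent.S2814
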