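import Cfsg.Statements.S2815
import Cfsg.Agent.Lib.Amalgam.FStarY

set_option autoImplicit false
open Cfsg Cfsg.Agent.Lib.Amalgam
open scoped commutatorElement

namespace Cfsg.Agent.S2815

/-- Let H be a finite group and p a prime dividing its order with O_p(H) = 1, and suppose K = O^p(H) (generated by the elements of order prime to p) is quasisimple. Then K = F*(H); for every nontrivial p-subgroup Y of H, K = [K, Y] and K lies in the subgroup generated by the K-conjugates of Y; every normal subgroup of H not containing K has order prime to p; and H is p-irreducible. -/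
theorem result {H : Type*} [Group H] [Finite H] {p : ℕ} [Fact p.Prime] (hp : p ∣ Nat.card H) (hO : Cfsg.pCore p H = ⊥) (hq : Cfsg.IsQuasisimple ↥(Cfsg.pResidual p H)) : Cfsg.pResidual p H = Cfsg.generalizedFittingSubgroup H ∧ (∀ Y : Subgroup H, IsPGroup p ↥Y → Y ≠ ⊥ → ⁅Cfsg.pResidual p H, Y⁆ = Cfsg.pResidual p H ∧ Cfsg.pResidual p H ≤ ⨆ k : ↥(Cfsg.pResidual p H), Y.map (MulAut.conj (k : H)).toMonoidHom) ∧ (∀ C : Subgroup H, C.Normal → ¬ Cfsg.pResidual p H ≤ C → (Nat.card ↥C).Coprime p) ∧ Cfsg.IsPIrreducible p H := by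
  classical
  have hpp : p.Prime := Fact.out
  set R := Cfsg.pResidual p H with hR
  haveI hRn : R.Normal := Cfsg.Agent.Lib.Techniques.pResidual_normal H p
  have hRc : Cfsg.IsComponent R := ⟨hRn.isSubnormal, hq⟩
  have hperf : ⁅R, R⁆ = R := Cfsg.Agent.Lib.FStar.qs_subgroup_perfect hq
  have hlayer : Cfsg.layer H = R := by
    apply le_antisymm
    · refine sSup_le fun L hL => ?_
      exact perfect_le_pResidual (Cfsg.Agent.Lib.FStar.qs_subgroup_perfect hL.2)
    · exact Cfsg.Agent.Lib.FStar.component_le_layer hRc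
  have hfit : Cfsg.fittingSubgroup H ≤ R := le_pResidual_of_not_dvd (fitting_not_dvd hO)
  have hgen : R = Cfsg.generalizedFittingSubgroup H := by
    rw [Cfsg.generalizedFittingSubgroup, hlayer]
    exact (sup_eq_left.mpr hfit).symm
  have hC : ∀ X : Subgroup H, IsPGroup p X → X ≤ Subgroup.centralizer (R : Set H) → X = ⊥ := by
    intro X hX hXC
    apply fstar_aux' hO X hX
    rw [← hgen]
    exact hXC
  have hNtop : ∀ X : Subgroup H, X ≤ Subgroup.normalizer (R : Set H) := fun X => by
    rw [Subgroup.normalizer_eq_top_iff.mpr hRn]; exact le_top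
  have hnotdvd : ∀ C : Subgroup H, C ≤ Subgroup.centralizer (R : Set H) → ¬ p ∣ Nat.card C := by
    intro C hC' hd
    obtain ⟨x, hx⟩ := exists_prime_orderOf_dvd_card' (G := C) p hd
    have h1 : IsPGroup p (Subgroup.zpowers (x : H)) := by
      rw [IsPGroup.iff_card, Nat.card_zpowers, Subgroup.orderOf_coe, hx]
      exact ⟨1, (pow_one p).symm⟩
    have h2 := hC _ h1 ((Subgroup.zpowers_le.mpr x.2).trans hC')
    have h3 : (x : H) = 1 := by
      rw [← Subgroup.zpowers_eq_bot]; exact h2
    have h4 : x = 1 := Subtype.ext h3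
    rw [h4, orderOf_one] at hx
    exact hpp.one_lt.ne hx
  have hnormal : ∀ C : Subgroup H, C.Normal → ¬ R ≤ C → C ≤ Subgroup.centralizer (R : Set H) := by
    intro C hCn hRC
    have h1 : ⁅R, C⁆ ≤ R ⊓ C := by
      rw [Subgroup.commutator_le]
      intro r hr c hc
      refine ⟨?_, ?_⟩
      · exact commutator_le_left_of_normalizer (hNtop C) (Subgroup.commutator_mem_commutator hr hc)
      · have e : ⁅r, c⁆ = (r * c * r⁻¹) * c⁻¹ := rfl
        rw [e]
        exact C.mul_mem (hCn.conj_mem c hc r) (C.inv_mem hc)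
    haveI hn : ((R ⊓ C).subgroupOf R).Normal := by
      haveI : (R ⊓ C).Normal := inferInstance
      exact Subgroup.Normal.subgroupOf inferInstance R
    rcases Cfsg.Agent.Lib.FStar.qs_normal_eq_top_or_le_center hq ((R ⊓ C).subgroupOf R) with h | h
    · exfalso
      apply hRC
      exact (Subgroup.subgroupOf_eq_top.mp h).trans inf_le_right
    · have h2 : ⁅⁅R, C⁆, R⁆ = ⊥ := by
        rw [Subgroup.commutator_eq_bot_iff_le_centralizer]
        intro w hw
        rw [Subgroup.mem_centralizer_iff]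
        intro r hr
        have hw' := h1 hw
        have h3 : (⟨w, hw'.1⟩ : R) ∈ Subgroup.center R := h (Subgroup.mem_subgroupOf.mpr hw')
        exact congrArg Subtype.val (Subgroup.mem_center_iff.mp h3 ⟨r, hr⟩)
      have h3 := comm_eq_bot_of_perfect hperf h2
      rw [Subgroup.commutator_eq_bot_iff_le_centralizer] at h3
      exact Subgroup.le_centralizer_iff.mp h3
  have hclosed : ∀ N : Subgroup H, ¬ p ∣ Nat.card N → Cfsg.IsPClosed p ↥N := by
    intro N hN T
    have h3 := T.isPGroup'
    obtain ⟨k, hk⟩ := IsPGroup.iff_card.mp h3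
    have h4 : Nat.card (T : Subgroup N) ∣ Nat.card N := Subgroup.card_subgroup_dvd_card _
    have h5 : k = 0 := by
      by_contra hk0
      apply hN
      apply Dvd.dvd.trans _ h4
      rw [hk]
      exact dvd_pow_self p hk0
    rw [h5, pow_zero] at hk
    have h2 : (T : Subgroup N) = ⊥ := Subgroup.eq_bot_of_card_eq _ hk
    have h6 : ((⊥ : Subgroup N)).Normal := inferInstance
    exact h2.symm ▸ h6
  refine ⟨hgen, ?_, ?_, ?_, ?_⟩
  · intro Y hY hne
    have hYC : ¬ Y ≤ Subgroup.centralizer (R : Set H) := fun h => hne (hC Y hY h)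
    have h1 : ⁅R, Y⁆ = R := by
      rcases qs_comm_dichotomy hq (hNtop Y) with h | h
      · exfalso
        apply hYC
        rw [Subgroup.commutator_eq_bot_iff_le_centralizer] at h
        exact Subgroup.le_centralizer_iff.mp h
      · exact le_antisymm (Cfsg.Agent.Lib.Hall.commutator_le_of_normalizes (hNtop Y)) h
    refine ⟨h1, ?_⟩
    refine le_trans (le_of_eq h1.symm) ?_
    rw [Subgroup.commutator_le]
    intro r hr y hy
    have e : ⁅r, y⁆ = (r * y * r⁻¹) * y⁻¹ := rfl
    rw [e]
    refine Subgroup.mul_mem _ ?_ ?_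
    · have h₁ : r * y * r⁻¹ ∈ Y.map (MulAut.conj r).toMonoidHom := ⟨y, hy, rfl⟩
      have h₂ := le_iSup (fun k : ↥R => Y.map (MulAut.conj (k : H)).toMonoidHom) ⟨r, hr⟩
      exact h₂ h₁
    · have h₁ : y⁻¹ ∈ Y.map (MulAut.conj ((1 : ↥R) : H)).toMonoidHom := by
        refine ⟨y⁻¹, Y.inv_mem hy, ?_⟩
        simp
      have h₂ := le_iSup (fun k : ↥R => Y.map (MulAut.conj (k : H)).toMonoidHom) (1 : ↥R)
      exact h₂ h₁
  · intro C hCn hRC
    exact ((Nat.Prime.coprime_iff_not_dvd hpp).mpr (hnotdvd C (hnormal C hCn hRC))).symm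
  · -- `H` is not `p`-closed
    intro hcl
    let T : Sylow p H := default
    have h1 : (T : Subgroup H) ≤ Cfsg.pCore p H :=
      Cfsg.Agent.Lib.Core.le_pCore (hcl T) T.isPGroup'
    rw [hO] at h1
    have h2 := T.not_dvd_index
    rw [le_bot_iff.mp h1, Subgroup.index_bot] at h2
    exact h2 hp
  · intro N hN hNc
    by_contra hRN
    exact hNc (hclosed N (hnotdvd N (hnormal N hN hRN)))

end Cfsg.Agent.S2815
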