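import Cfsg.Statements.S2816
import Cfsg.Agent.Lib.Amalgam.FStarY

set_option autoImplicit false
open Cfsg Cfsg.Agent.Lib.Amalgam
open scoped commutatorElement

namespace Cfsg.Agent.S2816

/-- Let H be a finite group and p a prime with O_p(H) = 1, and Y a p-subgroup of H. Then for every subnormal subgroup K of H containing Y, [F*(H), Y] = [F*(K), Y] = [F*(K), Y, Y]; and if Y₀ ≤ Y with [F*(H), Y, Y₀] = 1 then Y₀ = 1 (in particular [F*(H), Y] = 1 forces Y = 1). -/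
theorem result {H : Type*} [Group H] [Finite H] {p : ℕ} [Fact p.Prime] (hO : Cfsg.pCore p H = ⊥) (Y : Subgroup H) (hY : IsPGroup p ↥Y) : (∀ K : Subgroup H, K.IsSubnormal → Y ≤ K → ⁅Cfsg.generalizedFittingSubgroup H, Y⁆ = ⁅(Cfsg.generalizedFittingSubgroup ↥K).map K.subtype, Y⁆ ∧ ⁅(Cfsg.generalizedFittingSubgroup ↥K).map K.subtype, Y⁆ = ⁅⁅(Cfsg.generalizedFittingSubgroup ↥K).map K.subtype, Y⁆, Y⁆) ∧ (∀ Y₀ : Subgroup H, Y₀ ≤ Y → ⁅⁅Cfsg.generalizedFittingSubgroup H, Y⁆, Y₀⁆ = ⊥ → Y₀ = ⊥) := by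
  classical
  set Fs := Cfsg.generalizedFittingSubgroup H with hFs
  haveI hFn : Fs.Normal := Cfsg.Agent.Lib.FStar.gen_normal H
  have hNtop : ∀ X : Subgroup H, X ≤ Subgroup.normalizer (Fs : Set H) := fun X => by
    rw [Subgroup.normalizer_eq_top_iff.mpr hFn]; exact le_top
  have hcore : ∀ X : Subgroup H, IsPGroup p X → ⁅Fs, X⁆ = ⁅⁅Fs, X⁆, X⁆ := fun X hX =>
    (fstarY_top hO hX le_rfl hFn.isSubnormal (hNtop X)).2
  constructor
  · intro K hK hYK
    set W : Subgroup H := ⁅Fs, Y⁆ with hW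
    have hWW : ⁅W, Y⁆ = W := (hcore Y hY).symm
    have hWK : W ≤ K := le_of_comm_fixed hWW hK hYK
    have hinf := gen_inf_subnormal K hK
    have hWF : W ≤ Fs := Cfsg.Agent.Lib.Hall.commutator_le_of_normalizes (hNtop Y)
    have hWFK : W ≤ (Cfsg.generalizedFittingSubgroup ↥K).map K.subtype := by
      rw [← hinf]; exact le_inf hWF hWK
    have hFKF : (Cfsg.generalizedFittingSubgroup ↥K).map K.subtype ≤ Fs := by
      rw [← hinf]; exact inf_le_left
    have h1 : W = ⁅(Cfsg.generalizedFittingSubgroup ↥K).map K.subtype, Y⁆ := by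
      apply le_antisymm
      · calc W = ⁅W, Y⁆ := hWW.symm
          _ ≤ _ := Subgroup.commutator_mono hWFK le_rfl
      · exact Subgroup.commutator_mono hFKF le_rfl
    refine ⟨h1, ?_⟩
    rw [← h1]
    exact hWW.symm
  · intro Y₀ hY₀ h
    have hY₀p : IsPGroup p Y₀ := hY.to_le hY₀
    have h1 : ⁅⁅Fs, Y₀⁆, Y₀⁆ = ⊥ := by
      rw [eq_bot_iff, ← h]
      exact Subgroup.commutator_mono (Subgroup.commutator_mono le_rfl hY₀) le_rfl
    have h2 : ⁅Fs, Y₀⁆ = ⊥ := by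
      rw [hcore Y₀ hY₀p, h1]
    have h3 : Y₀ ≤ Subgroup.centralizer (Fs : Set H) := by
      rw [Subgroup.commutator_eq_bot_iff_le_centralizer] at h2
      exact Subgroup.le_centralizer_iff.mp h2
    exact fstar_aux' hO Y₀ hY₀p h3

end Cfsg.Agent.S2816
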