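import Cfsg.Statements.S2817
import Cfsg.Agent.Lib.Amalgam.FStarY2

set_option autoImplicit false
open Cfsg Cfsg.Agent.Lib.Amalgam Cfsg.Agent.Lib.Subnormal
open scoped commutatorElement

namespace Cfsg.Agent.S2817

/-- Let H be a finite group and p a prime with O_p(H) = 1, Q a p-subgroup of H, L = [F*(H), Q], and F the largest normal subgroup of F*(H) centralized by Q (a normal subgroup of F*(H) centralized by Q and containing every such). Then F = C_{F*(H)}(LQ); L = [L, Q]; L ∩ F ≤ Φ(L); every p-subgroup B of N_H(Q) with [L, B] ≤ F satisfies [L, B] = 1; and C_H(FL) has order prime to p. -/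
theorem result {H : Type*} [Group H] [Finite H] {p : ℕ} [Fact p.Prime] (hO : Cfsg.pCore p H = ⊥) (Q : Subgroup H) (hQ : IsPGroup p ↥Q) (L : Subgroup H) (hL : L = ⁅Cfsg.generalizedFittingSubgroup H, Q⁆) (F : Subgroup H) (hF : F ≤ Cfsg.generalizedFittingSubgroup H ∧ Cfsg.generalizedFittingSubgroup H ≤ Subgroup.normalizer (F : Set H) ∧ Q ≤ Subgroup.centralizer (F : Set H) ∧ ∀ N : Subgroup H, N ≤ Cfsg.generalizedFittingSubgroup H → Cfsg.generalizedFittingSubgroup H ≤ Subgroup.normalizer (N : Set H) → Q ≤ Subgroup.centralizer (N : Set H) → N ≤ F) : F = Cfsg.generalizedFittingSubgroup H ⊓ Subgroup.centralizer ((L ⊔ Q : Subgroup H) : Set H) ∧ ⁅L, Q⁆ = L ∧ L ⊓ F ≤ (frattini ↥L).map L.subtype ∧ (∀ B : Subgroup H, IsPGroup p ↥B → B ≤ Subgroup.normalizer (Q : Set H) → ⁅L, B⁆ ≤ F → ⁅L, B⁆ = ⊥) ∧ (Nat.card ↥(Subgroup.centralizer ((F ⊔ L : Subgroup H) : Set H))).Coprime p := by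
  classical
  obtain ⟨hFF, hFN, hQF, hFmax⟩ := hF
  set Fs := Cfsg.generalizedFittingSubgroup H with hFs
  haveI hFn : Fs.Normal := Cfsg.Agent.Lib.FStar.gen_normal H
  have hNtop : ∀ X : Subgroup H, X ≤ Subgroup.normalizer (Fs : Set H) := fun X => by
    rw [Subgroup.normalizer_eq_top_iff.mpr hFn]; exact le_top
  have hFsn : Fs.IsSubnormal := hFn.isSubnormal
  obtain ⟨h1, h2⟩ : ⁅Fs, Q⁆ ⊔ (Fs ⊓ Subgroup.centralizer (Q : Set H)) = Fs ∧ ⁅Fs, Q⁆ = ⁅⁅Fs, Q⁆, Q⁆ :=
    fstarY_top hO hQ le_rfl hFsn (hNtop Q)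
  rw [← hL] at h1 h2
  have hLF : L ≤ Fs := by
    rw [hL]; exact Cfsg.Agent.Lib.Hall.commutator_le_of_normalizes (hNtop Q)
  have hQL : Q ≤ Subgroup.normalizer (L : Set H) := by
    rw [hL]; exact Cfsg.Agent.Lib.Hall.le_normalizer_commutator_right (hNtop Q)
  have hFsL : Fs ≤ Subgroup.normalizer (L : Set H) := by
    rw [hL]; exact Cfsg.Agent.Lib.Hall.le_normalizer_commutator_left Q Fs
  have hLsn : L.IsSubnormal :=
    isSubnormal_of_sn_top ((sn_top_of_isSubnormal hFsn).trans (SN.of_normal hLF hFsL))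
  have hFQ : ⁅F, Q⁆ = ⊥ := by
    rw [Subgroup.commutator_eq_bot_iff_le_centralizer]
    exact Subgroup.le_centralizer_iff.mp hQF
  have hFLc : ⁅L, F⁆ = ⊥ := by
    rw [hL]
    apply Subgroup.commutator_commutator_eq_bot_of_rotate
    · rw [Subgroup.commutator_comm Q F, hFQ, Subgroup.commutator_bot_left]
    · rw [eq_bot_iff, ← hFQ]
      exact Subgroup.commutator_mono (commutator_le_left_of_normalizer hFN) le_rfl
  have hFCL : F ≤ Subgroup.centralizer (L : Set H) := by
    rw [Subgroup.commutator_comm, Subgroup.commutator_eq_bot_iff_le_centralizer] at hFLc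
    exact hFLc
  have hFeq : F = Fs ⊓ Subgroup.centralizer ((L ⊔ Q : Subgroup H) : Set H) := by
    apply le_antisymm
    · refine le_inf hFF ?_
      rw [Subgroup.le_centralizer_iff]
      exact sup_le (Subgroup.le_centralizer_iff.mp hFCL) hQF
    · apply hFmax _ inf_le_left
      · have hDL : Fs ⊓ Subgroup.centralizer ((L ⊔ Q : Subgroup H) : Set H) ≤ Subgroup.centralizer (L : Set H) :=
          inf_le_right.trans (Subgroup.centralizer_le (le_sup_left : L ≤ L ⊔ Q))
        conv_lhs => rw [← h1]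
        refine sup_le ?_ ?_
        · exact (Subgroup.le_centralizer_iff.mp hDL).trans (centralizer_le_normalizer' _)
        · refine le_normalizer_inf (hNtop _) ((le_normalizer_sup ?_ ?_).trans
            (normalizer_le_normalizer_centralizer _))
          · exact inf_le_left.trans hFsL
          · exact inf_le_right.trans (centralizer_le_normalizer' Q)
      · rw [Subgroup.le_centralizer_iff]
        exact inf_le_right.trans (Subgroup.centralizer_le (le_sup_right : Q ≤ L ⊔ Q))
  refine ⟨hFeq, h2.symm, ?_, ?_, ?_⟩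
  · -- the Frattini clause
    intro z hz
    have hzcop : ¬ p ∣ orderOf z := by
      refine not_dvd_orderOf_of_abelian (A := L ⊓ F) hO (inf_le_right.trans hFF) ?_ ?_ hz
      · exact le_normalizer_inf hFsL hFN
      · intro a ha b hb
        exact (Subgroup.mem_centralizer_iff.mp (hFCL hb.2) a ha.1)
    have hcop : (orderOf z).Coprime (Nat.card Q) := by
      obtain ⟨k, hk⟩ := IsPGroup.iff_card.mp hQ
      rw [hk]
      exact Nat.Coprime.pow_right k (((Nat.Prime.coprime_iff_not_dvd Fact.out).mpr hzcop).symm)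
    have hmem := central_fixed_mem_frattini hQL h2.symm hz.1
      (fun l hl => Subgroup.mem_centralizer_iff.mp (hFCL hz.2) l hl)
      (fun q hq => Subgroup.mem_centralizer_iff.mp (Subgroup.le_centralizer_iff.mp hQF hz.2) q hq) hcop
    exact ⟨⟨z, hz.1⟩, hmem, rfl⟩
  · -- the clause on `B`
    intro B hBp hBQ hLB
    have hBL : B ≤ Subgroup.normalizer (L : Set H) := by
      rw [hL]
      intro b hb
      exact Cfsg.Agent.Lib.Hall.le_normalizer_commutator_of_normalizes (hNtop B hb) (hBQ hb)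
    set W : Subgroup H := ⁅L, B⁆ with hW
    have hQW : ⁅W, Q⁆ = ⊥ := by
      rw [eq_bot_iff, ← hFQ]
      exact Subgroup.commutator_mono hLB le_rfl
    have hQNW : Q ≤ Subgroup.normalizer (W : Set H) := by
      rw [Subgroup.commutator_eq_bot_iff_le_centralizer] at hQW
      exact (Subgroup.le_centralizer_iff.mp hQW).trans (centralizer_le_normalizer' W)
    have hBNW : B ≤ Subgroup.normalizer (W : Set H) :=
      Cfsg.Agent.Lib.Hall.le_normalizer_commutator_right hBL
    set St : Subgroup H := commStab L W with hSt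
    have hBSt : B ≤ St := fun b hb =>
      ⟨hBNW hb, fun l hl => Subgroup.commutator_mem_commutator hl hb⟩
    have hQSt : Q ≤ Subgroup.normalizer (St : Set H) := le_normalizer_commStab hQL hQNW
    set Q₂ : Subgroup H := Q ⊓ St with hQ₂
    have hQ₂p : IsPGroup p Q₂ := hQ.to_le inf_le_left
    have hQ₂L : Q₂ ≤ Subgroup.normalizer (L : Set H) := inf_le_left.trans hQL
    have hQ₂c : ⁅L, Q₂⁆ = ⊥ := by
      have h3 := (fstarY_top hO hQ₂p hLF hLsn hQ₂L).2
      rw [h3, eq_bot_iff, ← hQW]
      refine Subgroup.commutator_mono ?_ inf_le_left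
      rw [Subgroup.commutator_le]
      intro l hl q hq
      have := hq.2.2 l hl
      exact this
    have hQB : ⁅Q, B⁆ ≤ Q₂ := by
      rw [Subgroup.commutator_le]
      intro q hq b hb
      have e : ⁅q, b⁆ = (q * b * q⁻¹) * b⁻¹ := rfl
      refine ⟨?_, ?_⟩
      · have e2 : ⁅q, b⁆ = q * (b * q⁻¹ * b⁻¹) := by
          simp only [commutatorElement_def]; group
        rw [e2]
        exact Q.mul_mem hq ((Subgroup.mem_normalizer_iff.mp (hBQ hb) _).mp (Q.inv_mem hq))
      · rw [e]
        exact St.mul_mem ((Subgroup.mem_normalizer_iff.mp (hQSt hq) _).mp (hBSt hb)) (St.inv_mem (hBSt hb))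
    have h3 : ⁅⁅L, Q⁆, B⁆ = ⊥ := by
      apply Subgroup.commutator_commutator_eq_bot_of_rotate
      · rw [eq_bot_iff, Subgroup.commutator_comm, ← hQ₂c]
        exact Subgroup.commutator_mono le_rfl hQB
      · rw [Subgroup.commutator_comm B L]
        exact hQW
    rwa [← h2] at h3
  · -- the last clause
    refine ((Nat.Prime.coprime_iff_not_dvd Fact.out).mpr ?_).symm
    intro hd
    obtain ⟨x, hx⟩ := exists_prime_orderOf_dvd_card' (G := Subgroup.centralizer ((F ⊔ L : Subgroup H) : Set H)) p hd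
    set Y₁ : Subgroup H := Subgroup.zpowers (x : H) with hY₁
    have hY₁p : IsPGroup p Y₁ := by
      rw [IsPGroup.iff_card, Nat.card_zpowers, Subgroup.orderOf_coe, hx]
      exact ⟨1, (pow_one p).symm⟩
    have hY₁C : Y₁ ≤ Subgroup.centralizer ((F ⊔ L : Subgroup H) : Set H) :=
      Subgroup.zpowers_le.mpr x.2
    have hFLn : Fs ≤ Subgroup.normalizer ((F ⊔ L : Subgroup H) : Set H) := le_normalizer_sup hFN hFsL
    set Z₁ : Subgroup H := Fs ⊓ Subgroup.centralizer ((F ⊔ L : Subgroup H) : Set H) with hZ₁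
    have h3 : ⁅Fs, Y₁⁆ ≤ Z₁ := by
      refine le_inf (Cfsg.Agent.Lib.Hall.commutator_le_of_normalizes (hNtop _)) ?_
      rw [← Subgroup.commutator_eq_bot_iff_le_centralizer]
      apply Subgroup.commutator_commutator_eq_bot_of_rotate
      · have h4 : ⁅Y₁, F ⊔ L⁆ = ⊥ := by
          rw [Subgroup.commutator_comm, Subgroup.commutator_eq_bot_iff_le_centralizer]
          exact Subgroup.le_centralizer_iff.mp hY₁C
        rw [h4, Subgroup.commutator_bot_left]
      · have h4 : ⁅F ⊔ L, Y₁⁆ = ⊥ := by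
          rw [Subgroup.commutator_eq_bot_iff_le_centralizer]
          exact Subgroup.le_centralizer_iff.mp hY₁C
        rw [eq_bot_iff, ← h4]
        exact Subgroup.commutator_mono (commutator_le_left_of_normalizer hFLn) le_rfl
    have hFsZ : Fs ≤ Subgroup.normalizer (Z₁ : Set H) :=
      le_normalizer_inf (hNtop _) (hFLn.trans (normalizer_le_normalizer_centralizer _))
    have hZ₁sn : Z₁.IsSubnormal :=
      isSubnormal_of_sn_top ((sn_top_of_isSubnormal hFsn).trans (SN.of_normal inf_le_left hFsZ))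
    have hQZ : Q ≤ Subgroup.normalizer (Z₁ : Set H) := by
      refine le_normalizer_inf (hNtop _) ((le_normalizer_sup ?_ hQL).trans (normalizer_le_normalizer_centralizer _))
      exact hQF.trans (centralizer_le_normalizer' F)
    have h4 : ⁅Z₁, Q⁆ ⊔ (Z₁ ⊓ Subgroup.centralizer (Q : Set H)) = Z₁ :=
      (fstarY_top hO hQ inf_le_left hZ₁sn hQZ).1
    have hZle : Z₁ ≤ F ⊔ L := by
      rw [← h4]
      refine sup_le ?_ ?_
      · refine le_trans ?_ le_sup_right
        rw [hL]
        exact Subgroup.commutator_mono inf_le_left le_rfl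
      · refine le_trans ?_ le_sup_left
        rw [hFeq]
        refine le_inf (inf_le_left.trans inf_le_left) ?_
        rw [Subgroup.le_centralizer_iff]
        refine sup_le ?_ ?_
        · rw [← Subgroup.le_centralizer_iff]
          refine (inf_le_left.trans inf_le_right).trans (Subgroup.centralizer_le (le_sup_right : L ≤ F ⊔ L))
        · rw [← Subgroup.le_centralizer_iff]
          exact inf_le_right
    have h5 : ⁅⁅Fs, Y₁⁆, Y₁⁆ = ⊥ := by
      rw [eq_bot_iff]
      have h6 : ⁅F ⊔ L, Y₁⁆ = ⊥ := by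
        rw [Subgroup.commutator_eq_bot_iff_le_centralizer]
        exact Subgroup.le_centralizer_iff.mp hY₁C
      rw [← h6]
      exact Subgroup.commutator_mono (h3.trans hZle) le_rfl
    have h6 : ⁅Fs, Y₁⁆ = ⁅⁅Fs, Y₁⁆, Y₁⁆ := (fstarY_top hO hY₁p le_rfl hFsn (hNtop Y₁)).2
    rw [h5] at h6
    have h7 : Y₁ ≤ Subgroup.centralizer (Fs : Set H) := by
      rw [Subgroup.commutator_eq_bot_iff_le_centralizer] at h6
      exact Subgroup.le_centralizer_iff.mp h6
    have h8 := fstar_aux' hO Y₁ hY₁p h7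
    have h9 : (x : H) = 1 := by
      rw [← Subgroup.zpowers_eq_bot]; exact h8
    have h10 : x = 1 := Subtype.ext h9
    rw [h10, orderOf_one] at hx
    exact (Fact.out : p.Prime).one_lt.ne hx

end Cfsg.Agent.S2817
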