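import Cfsg.Statements.S2818
import Cfsg.Agent.Lib.Amalgam.ResOf

set_option autoImplicit false
open Cfsg Cfsg.Agent.Lib.Amalgam
open scoped commutatorElement

namespace Cfsg.Agent.S2818

/-- Let P be a finite p-subgroup of a group G and H a subgroup of N_G(P) with [P, H] ≤ Ω₁(Z(P)) (the elements of order dividing p in the centre of P). Then H centralizes the Frattini subgroup of P. -/
theorem result {G : Type*} [Group G] [Finite G] {p : ℕ} [Fact p.Prime] (P : Subgroup G) (hP : IsPGroup p ↥P) (H : Subgroup G) (hH : H ≤ Subgroup.normalizer (P : Set G)) (h : ⁅P, H⁆ ≤ Cfsg.omegaOne p (P ⊓ Subgroup.centralizer (P : Set G))) : ⁅(frattini ↥P).map P.subtype, H⁆ = ⊥ := by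
  have hyp := h
  -- Properties of `E = Ω₁(Z(P))`
  have hE : ∀ z ∈ Cfsg.omegaOne p (P ⊓ Subgroup.centralizer (P : Set G)),
      z ∈ P ⊓ Subgroup.centralizer (P : Set G) ∧ z ^ p = 1 := by
    intro z hz
    unfold Cfsg.omegaOne at hz
    induction hz using Subgroup.closure_induction with
    | mem x hx => exact hx
    | one => exact ⟨Subgroup.one_mem _, one_pow _⟩
    | mul a b _ _ ia ib =>
      refine ⟨Subgroup.mul_mem _ ia.1 ib.1, ?_⟩
      have hcomm : Commute a b :=
        (Subgroup.mem_centralizer_iff.mp ib.1.2 a ia.1.1)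
      rw [hcomm.mul_pow, ia.2, ib.2, one_mul]
    | inv a _ ia =>
      refine ⟨Subgroup.inv_mem _ ia.1, ?_⟩
      rw [inv_pow, ia.2, inv_one]
  rw [eq_bot_iff, Subgroup.commutator_le]
  rintro _ ⟨x, hx, rfl⟩ h hh
  -- the centralizer of `h` in `P`
  set K : Subgroup ↥P := (Subgroup.centralizer ({h} : Set G)).subgroupOf P with hK
  have hmemK : ∀ a : ↥P, a ∈ K ↔ h * (a : G) = (a : G) * h := by
    intro a
    rw [hK, Subgroup.mem_subgroupOf, Subgroup.mem_centralizer_iff]
    constructor
    · intro h1
      exact h1 h rfl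
    · intro h1 y hy
      rw [Set.mem_singleton_iff] at hy
      rw [hy]
      exact h1
  -- `h a h⁻¹ = c a` with `c` central of order `p`
  have hc : ∀ a ∈ P, ∃ c, c ∈ P ⊓ Subgroup.centralizer (P : Set G) ∧ c ^ p = 1 ∧ h * a * h⁻¹ = c * a := by
    intro a ha
    have h1 : ⁅a, h⁆ ∈ ⁅P, H⁆ := Subgroup.commutator_mem_commutator ha hh
    obtain ⟨h2, h3⟩ := hE _ (hyp h1)
    refine ⟨⁅a, h⁆⁻¹, Subgroup.inv_mem _ h2, by rw [inv_pow, h3, inv_one], ?_⟩
    rw [commutatorElement_inv, commutatorElement_def]
    group
  have hfr : frattini ↥P ≤ K := by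
    refine frattini_le_of_elementary_quotient (p := p) K ?_ ?_
    · intro a b
      rw [hmemK]
      obtain ⟨c, hc1, -, hc3⟩ := hc a a.2
      obtain ⟨d, hd1, -, hd3⟩ := hc b b.2
      have hca : ∀ y ∈ P, c * y = y * c := fun y hy =>
        (Subgroup.mem_centralizer_iff.mp hc1.2 y hy).symm
      have hda : ∀ y ∈ P, d * y = y * d := fun y hy =>
        (Subgroup.mem_centralizer_iff.mp hd1.2 y hy).symm
      have hcd : c * d = d * c := hca d hd1.1
      have e1 : h * (a : G) = c * a * h := by rw [← hc3]; group
      have e2 : h * (b : G) = d * b * h := by rw [← hd3]; group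
      have e3 : h * (a : G)⁻¹ = (c * a)⁻¹ * h := by
        rw [← hc3]; group
      have e4 : h * (b : G)⁻¹ = (d * b)⁻¹ * h := by
        rw [← hd3]; group
      have hcb := hca b b.2
      have hda' := hda a a.2
      have hcai := hca (a : G)⁻¹ (P.inv_mem a.2)
      have hdbi := hda (b : G)⁻¹ (P.inv_mem b.2)
      show h * ((⁅a, b⁆ : ↥P) : G) = ((⁅a, b⁆ : ↥P) : G) * h
      have hcoe : ((⁅a, b⁆ : ↥P) : G) = (a : G) * b * (a : G)⁻¹ * (b : G)⁻¹ := by
        rw [commutatorElement_def]; rfl
      rw [hcoe]
      calc h * ((a : G) * b * (a : G)⁻¹ * (b : G)⁻¹)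
          = (h * a) * b * (a : G)⁻¹ * (b : G)⁻¹ := by group
        _ = c * a * (h * b) * (a : G)⁻¹ * (b : G)⁻¹ := by rw [e1]; group
        _ = c * a * (d * b * h) * (a : G)⁻¹ * (b : G)⁻¹ := by rw [e2]
        _ = c * a * d * b * (h * (a : G)⁻¹) * (b : G)⁻¹ := by group
        _ = c * a * d * b * ((c * a)⁻¹ * h) * (b : G)⁻¹ := by rw [e3]
        _ = c * a * d * b * (c * a)⁻¹ * (h * (b : G)⁻¹) := by group
        _ = c * a * d * b * (c * a)⁻¹ * ((d * b)⁻¹ * h) := by rw [e4]
        _ = (c * a) * (d * b) * (c * a)⁻¹ * (d * b)⁻¹ * h := by group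
        _ = (a : G) * b * (a : G)⁻¹ * (b : G)⁻¹ * h := by
            congr 1
            -- central elements cancel
            have t1 : (c * a) * (d * b) = d * c * (a * b) := by
              calc (c * (a : G)) * (d * b) = c * ((a : G) * d) * b := by group
                _ = c * (d * a) * b := by rw [← hda']
                _ = (c * d) * (a * b) := by group
                _ = (d * c) * (a * b) := by rw [hcd]
            have t2 : (c * (a : G))⁻¹ * (d * b)⁻¹ = (d * c)⁻¹ * ((a : G)⁻¹ * (b : G)⁻¹) := by
              have t3 : d * c * (b * a : G) = (d * b) * (c * a) := by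
                calc d * c * ((b : G) * a) = d * (c * b) * a := by group
                  _ = d * (b * c) * a := by rw [hcb]
                  _ = (d * b) * (c * a) := by group
              calc (c * (a : G))⁻¹ * (d * b)⁻¹ = ((d * b) * (c * a))⁻¹ := by group
                _ = (d * c * (b * a : G))⁻¹ := by rw [t3]
                _ = ((b * a : G))⁻¹ * (d * c)⁻¹ := by group
                _ = (d * c)⁻¹ * (b * a : G)⁻¹ := by
                    have hdc : ∀ y ∈ P, (d * c) * y = y * (d * c) := by
                      intro y hy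
                      calc (d * c) * y = d * (c * y) := by group
                        _ = d * (y * c) := by rw [hca y hy]
                        _ = (d * y) * c := by group
                        _ = (y * d) * c := by rw [hda y hy]
                        _ = y * (d * c) := by group
                    have h9 := hdc _ (P.mul_mem b.2 a.2)
                    have : (b * a : G)⁻¹ * (d * c)⁻¹ = ((d * c) * (b * a : G))⁻¹ := by group
                    rw [this, h9]
                    group
                _ = (d * c)⁻¹ * ((a : G)⁻¹ * (b : G)⁻¹) := by group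
            calc (c * a) * (d * b) * (c * a)⁻¹ * (d * b)⁻¹
                = ((c * a) * (d * b)) * ((c * (a : G))⁻¹ * (d * b)⁻¹) := by group
              _ = (d * c * (a * b)) * ((d * c)⁻¹ * ((a : G)⁻¹ * (b : G)⁻¹)) := by rw [t1, t2]
              _ = (a : G) * b * (a : G)⁻¹ * (b : G)⁻¹ := by
                  have hdc : ∀ y ∈ P, (d * c) * y = y * (d * c) := by
                    intro y hy
                    calc (d * c) * y = d * (c * y) := by group
                      _ = d * (y * c) := by rw [hca y hy]
                      _ = (d * y) * c := by group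
                      _ = (y * d) * c := by rw [hda y hy]
                      _ = y * (d * c) := by group
                  have h9 := hdc _ (P.mul_mem a.2 b.2)
                  have h8 : (d * c) * ((a : G) * b) = ((a : G) * b) * (d * c) := h9
                  rw [h8]
                  group
    · intro a
      rw [hmemK]
      obtain ⟨c, hc1, hc2, hc3⟩ := hc a a.2
      have hcomm : Commute c (a : G) := (Subgroup.mem_centralizer_iff.mp hc1.2 a a.2).symm
      have hp1 : h * ((a : G) ^ p) * h⁻¹ = (a : G) ^ p := by
        rw [← conj_pow, hc3, hcomm.mul_pow, hc2, one_mul]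
      have hcoe : ((a ^ p : ↥P) : G) = (a : G) ^ p := rfl
      rw [hcoe]
      calc h * (a : G) ^ p = (h * ((a : G) ^ p) * h⁻¹) * h := by group
        _ = (a : G) ^ p * h := by rw [hp1]
  have h1 := (hmemK x).mp (hfr hx)
  show ⁅(x : G), h⁆ = 1
  rw [commutatorElement_eq_one_iff_mul_comm]
  exact h1.symm


end Cfsg.Agent.S2818
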