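import Cfsg.Statements.S2819
import Cfsg.Agent.Lib.Transfer.Frat
import Cfsg.Agent.Lib.Amalgam.FrakH

set_option autoImplicit false
open Cfsg Cfsg.Agent.Lib.Amalgam
open scoped commutatorElement

namespace Cfsg.Agent.S2819

/-- Let P be a finite p-subgroup of a group G, H a subgroup of N_G(P), and Y a subgroup of H centralizing the derived subgroup P' such that [P, Y] is elementary abelian. Then O^p(⟨Y^H⟩), the subgroup of the normal closure of Y in H generated by its elements of order prime to p, centralizes the Frattini subgroup of P. -/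
theorem result {G : Type*} [Group G] [Finite G] {p : ℕ} [Fact p.Prime] (P : Subgroup G) (hP : IsPGroup p ↥P) (H : Subgroup G) (hH : H ≤ Subgroup.normalizer (P : Set G)) (Y : Subgroup G) (hYH : Y ≤ H) (hYc : Y ≤ Subgroup.centralizer ((⁅P, P⁆ : Subgroup G) : Set G)) (hel : Cfsg.IsElementaryAbelian p ⁅P, Y⁆) (NY : Subgroup G) (hNY : NY = (Subgroup.normalClosure ((Y.subgroupOf H : Subgroup ↥H) : Set ↥H)).map H.subtype) : (Cfsg.pResidual p ↥NY).map NY.subtype ≤ Subgroup.centralizer (((frattini ↥P).map P.subtype : Subgroup G) : Set G) := by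
  subst hNY
  set A : Subgroup G := ⁅P, P⁆ with hA
  haveI hNn : (Subgroup.normalClosure ((Y.subgroupOf H : Subgroup ↥H) : Set ↥H)).Normal :=
    Subgroup.normalClosure_normal
  set N := (Subgroup.normalClosure ((Y.subgroupOf H : Subgroup ↥H) : Set ↥H)).map H.subtype with hN
  have hYN : Y ≤ N := by
    intro y hy
    exact ⟨⟨y, hYH hy⟩, Subgroup.subset_normalClosure (Subgroup.mem_subgroupOf.mpr hy), rfl⟩
  have hNH : N ≤ H := Subgroup.map_subtype_le _
  have hHA : H ≤ Subgroup.normalizer (A : Set G) := le_normalizer_commutator hH hH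
  have hPA : P ≤ Subgroup.normalizer (A : Set G) := le_normalizer_commutator Subgroup.le_normalizer Subgroup.le_normalizer
  have hAP : A ≤ P := commutator_le_left_of_normalizer Subgroup.le_normalizer
  -- closure under the normal closure
  have hcl : ∀ E : Subgroup G, H ≤ Subgroup.normalizer (E : Set G) → Y ≤ E → N ≤ E := by
    intro E hE hYE
    haveI : (E.subgroupOf H).Normal := subgroupOf_normal_of_le_normalizer hE
    have h1 : Subgroup.normalClosure ((Y.subgroupOf H : Subgroup ↥H) : Set ↥H) ≤ E.subgroupOf H := by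
      apply Subgroup.normalClosure_le_normal
      intro y hy
      exact Subgroup.mem_subgroupOf.mpr (hYE (Subgroup.mem_subgroupOf.mp hy))
    rintro _ ⟨x, hx, rfl⟩
    exact Subgroup.mem_subgroupOf.mp (h1 hx)
  have hNC : N ≤ Subgroup.centralizer (A : Set G) :=
    hcl _ (hHA.trans (normalizer_le_normalizer_centralizer A)) hYc
  set Ψ : Subgroup G := Subgroup.closure {z | ∃ x ∈ P, z = x ^ p} ⊔ A with hΨ
  have hHΨ : H ≤ Subgroup.normalizer (Ψ : Set G) := by
    refine le_normalizer_sup ?_ hHA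
    intro h hh
    apply mem_normalizer_of_map_conj_le
    rw [MonoidHom.map_closure, Subgroup.closure_le]
    rintro _ ⟨z, ⟨x, hx, rfl⟩, rfl⟩
    apply Subgroup.subset_closure
    refine ⟨h * x * h⁻¹, (Subgroup.mem_normalizer_iff.mp (hH hh) x).mp hx, ?_⟩
    simp [conj_pow]
  -- the key computation
  have hkey : ∀ y ∈ Y, ∀ x ∈ P, ⁅y, x ^ p⁆ ∈ A := by
    intro y hy x hx
    set xx : ↥P := ⟨x, hx⟩
    have hyx : y * x * y⁻¹ ∈ P := (Subgroup.mem_normalizer_iff.mp (hH (hYH hy)) x).mp hx
    set cc : ↥P := ⟨y * x * y⁻¹ * x⁻¹, P.mul_mem hyx (P.inv_mem hx)⟩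
    have hc : (y * x * y⁻¹ * x⁻¹) ^ p = 1 := by
      apply hel.2
      have : y * x * y⁻¹ * x⁻¹ = ⁅x, y⁆⁻¹ := by
        simp only [commutatorElement_def]; group
      rw [this]
      exact Subgroup.inv_mem _ (Subgroup.commutator_mem_commutator hx hy)
    have h1 : Abelianization.of ((cc * xx) ^ p * xx⁻¹ ^ p) = 1 := by
      rw [map_mul, map_pow, map_pow, map_mul, mul_pow, map_inv, inv_pow, ← map_pow Abelianization.of cc]
      have : cc ^ p = 1 := Subtype.ext (by simpa [cc] using hc)
      rw [this, map_one, one_mul, mul_inv_cancel]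
    have h2 : (cc * xx) ^ p * xx⁻¹ ^ p ∈ commutator ↥P := by
      rw [← Abelianization.ker_of (G := ↥P), MonoidHom.mem_ker]
      exact h1
    have h3 : ((cc * xx) ^ p * xx⁻¹ ^ p : ↥P).1 ∈ A := by
      rw [hA, ← Subgroup.map_subtype_commutator]
      exact ⟨_, h2, rfl⟩
    have h4 : ((cc * xx) ^ p * xx⁻¹ ^ p : ↥P).1 = ⁅y, x ^ p⁆ := by
      have e : ((cc * xx : ↥P) : G) = y * x * y⁻¹ := by
        simp [cc, xx]
      simp only [Subgroup.coe_mul, Subgroup.coe_pow, Subgroup.coe_inv, e, commutatorElement_def, conj_pow, inv_pow]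
      simp [xx]
    rwa [h4] at h3
  have hΨ1 : Ψ ≤ commStab Y A := by
    refine sup_le ?_ ?_
    · rw [Subgroup.closure_le]
      rintro _ ⟨x, hx, rfl⟩
      exact ⟨hPA (P.pow_mem hx _), fun y hy => hkey y hy x hx⟩
    · intro a ha
      refine ⟨hPA (hAP ha), fun y hy => ?_⟩
      have := Subgroup.mem_centralizer_iff.mp (hYc hy) a ha
      rw [commutatorElement_eq_one_iff_mul_comm.mpr this.symm]
      exact Subgroup.one_mem _
  have hYS : Y ≤ commStab Ψ A := by
    intro y hy
    refine ⟨hHA (hYH hy), fun z hz => ?_⟩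
    rw [← commutatorElement_inv]
    exact Subgroup.inv_mem _ ((hΨ1 hz).2 y hy)
  have hNS : N ≤ commStab Ψ A := hcl _ (le_normalizer_commStab hHΨ hHA) hYS
  have hAΨ : A ≤ Ψ := le_sup_right
  -- the Frattini subgroup
  have hcomP : commutator ↥P ≤ Ψ.subgroupOf P := by
    intro z hz
    rw [Subgroup.mem_subgroupOf]
    apply hAΨ
    rw [hA, ← Subgroup.map_subtype_commutator]
    exact ⟨z, hz, rfl⟩
  haveI hΨn : (Ψ.subgroupOf P).Normal := by
    constructor
    intro m hm g
    have : g * m * g⁻¹ = ⁅g, m⁆ * m := by rw [commutatorElement_def]; group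
    rw [this]
    exact Subgroup.mul_mem _ (hcomP (Subgroup.commutator_mem_commutator (Subgroup.mem_top g) (Subgroup.mem_top m))) hm
  have hΦ : frattini ↥P ≤ Ψ.subgroupOf P := by
    apply Cfsg.Agent.Lib.Transfer.frattini_le_of_elementary hP _ hcomP
    intro x
    rw [Subgroup.mem_subgroupOf]
    exact Subgroup.mem_sup_left (Subgroup.subset_closure ⟨x, x.2, by simp⟩)
  -- conclusion
  rw [map_pResidual_eq_closure, Subgroup.closure_le]
  rintro r ⟨hr, hrc⟩
  show r ∈ Subgroup.centralizer _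
  rw [Subgroup.mem_centralizer_iff]
  rintro _ ⟨z, hz, rfl⟩
  have hzΨ : (z : G) ∈ Ψ := Subgroup.mem_subgroupOf.mp (hΦ hz)
  have h1 : ⁅(z : G), r⁆ ∈ A := (hNS hr).2 _ hzΨ
  have h2 : ⁅r, (z : G)⁆ ∈ A := by
    rw [← commutatorElement_inv]
    exact Subgroup.inv_mem _ h1
  have h3 := Subgroup.mem_centralizer_iff.mp (hNC hr) _ h2
  exact (commute_of_quadratic' hP hrc z.2 h3 (hH (hNH hr))).symm

end Cfsg.Agent.S2819
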