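import Cfsg.Statements.S2820
import Cfsg.Agent.Lib.Amalgam.ResOf

set_option autoImplicit false
open Cfsg Cfsg.Agent.Lib.Amalgam
open scoped commutatorElement

namespace Cfsg.Agent.S2820

/-- Let A and B be subnormal subgroups of the finite group H with A a p-group and B = O^p(B) (B generated by its elements of order prime to p). Then A normalizes B and B = O^p(AB), the subgroup of ⟨A, B⟩ generated by its elements of order prime to p. -/
theorem result {H : Type*} [Group H] [Finite H] {p : ℕ} [Fact p.Prime] (A B : Subgroup H) (hA : A.IsSubnormal) (hB : B.IsSubnormal) (hAp : IsPGroup p ↥A) (hBres : (Cfsg.pResidual p ↥B).map B.subtype = B) : A ≤ Subgroup.normalizer (B : Set H) ∧ (Cfsg.pResidual p ↥(A ⊔ B)).map (A ⊔ B).subtype = B := by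
  have hAQ : A ≤ Cfsg.pCore p H := Cfsg.Agent.Lib.Core.subnormal_pgroup_le_pCore p A hA hAp
  have hQ : Cfsg.pCore p H ≤ Subgroup.normalizer (((Cfsg.pResidual p ↥B).map B.subtype : Subgroup H) : Set H) :=
    le_normalizer_map_pResidual_of_subnormal inferInstance (Cfsg.Agent.Lib.Core.pCore_isPGroup p H) hB
  rw [hBres] at hQ
  have hAN : A ≤ Subgroup.normalizer (B : Set H) := hAQ.trans hQ
  refine ⟨hAN, le_antisymm ?_ ?_⟩
  · rw [map_pResidual_eq_closure, Subgroup.closure_le]
    rintro g ⟨hg, hc⟩
    have hg' : g ∈ B ⊔ A := by rwa [sup_comm]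
    exact Cfsg.Agent.Lib.FF.mem_of_coprime_of_mem_sup hAN hAp hg' (orderOf_pos g).ne' hc
  · conv_lhs => rw [← hBres]
    exact map_pResidual_mono le_sup_right


end Cfsg.Agent.S2820
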