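import Cfsg.Statements.S2821
import Cfsg.Agent.Lib.Amalgam.YL

set_option autoImplicit false
open Cfsg Cfsg.Agent.Lib.Amalgam
open scoped commutatorElement

namespace Cfsg.Agent.S2821

/-- Let H be a finite group, p a prime, T a Sylow p-subgroup and L a subgroup of characteristic p containing T; let Y_L be the largest p-reduced normal subgroup of L (the join of the normal elementary abelian p-subgroups V of L with O_p(L/C_L(V)) = 1). Then T₀ := C_T(Y_L) is a Sylow p-subgroup of C_H(Y_L); moreover O_p(L) ≤ T₀ ≤ C_L(Y_L) and Ω₁(Z(T)) ≤ Z_L ≤ Y_L ≤ Ω₁(Z(O_p(L))), where Z_L is generated by the Ω₁(Z(S)) over the Sylow p-subgroups S of L. -/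
theorem result {H : Type*} [Group H] [Finite H] {p : ℕ} [Fact p.Prime] (T : Sylow p H) (L : Subgroup H) (hTL : (T : Subgroup H) ≤ L) (hL : Subgroup.centralizer (Cfsg.pCore p ↥L : Set ↥L) ≤ Cfsg.pCore p ↥L) (T₀ : Subgroup H) (hT₀ : T₀ = (T : Subgroup H) ⊓ Subgroup.centralizer (((Cfsg.largestPReducedOf p L) : Subgroup H) : Set H)) : (∃ P : Sylow p ↥(Subgroup.centralizer (((Cfsg.largestPReducedOf p L) : Subgroup H) : Set H)), (P : Subgroup ↥(Subgroup.centralizer (((Cfsg.largestPReducedOf p L) : Subgroup H) : Set H))) = T₀.subgroupOf (Subgroup.centralizer (((Cfsg.largestPReducedOf p L) : Subgroup H) : Set H))) ∧ (Cfsg.pCoreOf p L) ≤ T₀ ∧ T₀ ≤ L ⊓ Subgroup.centralizer (((Cfsg.largestPReducedOf p L) : Subgroup H) : Set H) ∧ (Cfsg.omegaOne p ((T : Subgroup H) ⊓ Subgroup.centralizer (((T : Subgroup H) : Subgroup H) : Set H))) ≤ Cfsg.sylowCenterClosure p L ∧ Cfsg.sylowCenterClosure p L ≤ (Cfsg.largestPReducedOf p L) ∧ (Cfsg.largestPReducedOf p L) ≤ (Cfsg.omegaOne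 p ((Cfsg.pCoreOf p L) ⊓ Subgroup.centralizer (((Cfsg.pCoreOf p L) : Subgroup H) : Set H))) := by
  subst hT₀
  set Y := largestPReducedOf p L with hY
  set A := Subgroup.centralizer (Y : Set H) with hA
  have hTN : (T : Subgroup H) ≤ Subgroup.normalizer (A : Set H) :=
    (hTL.trans (le_normalizer_largestPReducedOf L)).trans (normalizer_le_normalizer_centralizer Y)
  have hAN : A ⊔ (T : Subgroup H) ≤ Subgroup.normalizer (A : Set H) :=
    sup_le (Subgroup.le_normalizer) hTN
  have hS := Cfsg.Agent.Lib.FF.isSylowIn_of_sylow_le T (le_sup_right : (T : Subgroup H) ≤ A ⊔ (T : Subgroup H))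
  have hS' := hS.inf_normal (le_sup_left : A ≤ A ⊔ (T : Subgroup H)) hAN
  refine ⟨⟨hS'.toSylow, rfl⟩, ?_, ?_, ?_, ?_, le_largestPReducedOf_omega L hL⟩
  · exact le_inf (pCoreOf_le_sylow' T hTL) (pCoreOf_le_centralizer L hL)
  · exact le_inf (inf_le_left.trans hTL) inf_le_right
  · have hTS := (Cfsg.Agent.Lib.FF.isSylowIn_of_sylow_le T hTL)
    have h1 := omegaOne_sylow_le_sylowCenterClosure (p := p) hTS.toSylow
    have h2 : ((hTS.toSylow : Sylow p L) : Subgroup L).map L.subtype = (T : Subgroup H) := by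
      rw [Cfsg.Agent.Lib.FF.IsSylowIn.coe_toSylow, Subgroup.subgroupOf_map_subtype]
      exact inf_eq_left.2 hTL
    rwa [h2] at h1
  · have h1 := le_largestPReduced (isPReducedNormal_sylowCenterClosure L hL)
    have hZL : sylowCenterClosure p L ≤ L :=
      (sylowCenterClosure_le_pCoreOf hL).trans (pCoreOf_le_self L)
    intro z hz
    exact ⟨⟨z, hZL hz⟩, h1 (by rw [Subgroup.mem_subgroupOf]; exact hz), rfl⟩

end Cfsg.Agent.S2821
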