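import Cfsg.Statements.S2823
import Cfsg.Agent.Lib.Transfer.Basic
import Cfsg.Agent.Lib.Amalgam.ResOf
import Cfsg.Agent.Lib.Amalgam.NormMap

set_option autoImplicit false
open Cfsg Cfsg.Agent.Lib.Amalgam
open scoped commutatorElement

namespace Cfsg.Agent.S2823

/-- Let H be a finite group, p a prime, T a Sylow p-subgroup and L a subgroup of characteristic p containing T; let Z_L be the subgroup generated by the Ω₁(Z(S)) over the Sylow p-subgroups S of L and O^p(L) the subgroup generated by the elements of L of order prime to p. Then Z_L = Ω₁(Z(L))·[Z_L, O^p(L)] and [Z_L, L] = [Z_L, O^p(L)]. -/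
theorem result {H : Type*} [Group H] [Finite H] {p : ℕ} [Fact p.Prime] (T : Sylow p H) (L : Subgroup H) (hTL : (T : Subgroup H) ≤ L) (hL : Subgroup.centralizer (Cfsg.pCore p ↥L : Set ↥L) ≤ Cfsg.pCore p ↥L) : Cfsg.sylowCenterClosure p L = (Cfsg.omegaOne p (L ⊓ Subgroup.centralizer ((L : Subgroup H) : Set H))) ⊔ ⁅Cfsg.sylowCenterClosure p L, (Cfsg.pResidual p ↥L).map L.subtype⁆ ∧ ⁅Cfsg.sylowCenterClosure p L, L⁆ = ⁅Cfsg.sylowCenterClosure p L, (Cfsg.pResidual p ↥L).map L.subtype⁆ := by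
  set Z := sylowCenterClosure p L with hZ
  set Rp := (pResidual p ↥L).map L.subtype with hRp
  set W := ⁅Z, Rp⁆ with hW
  set Z0 := omegaOne p ((T : Subgroup H) ⊓ Subgroup.centralizer ((T : Subgroup H) : Set H)) with hZ0
  have hZE : IsElementaryAbelian p Z :=
    isElementaryAbelian_mono (isElementaryAbelian_omegaOne_center _) (sylowCenterClosure_le_omega L hL)
  have hZc : Z ≤ Subgroup.centralizer (Z : Set H) := by
    intro x hx
    rw [Subgroup.mem_centralizer_iff]
    intro y hy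
    have := hZE.1.is_comm.comm ⟨y, hy⟩ ⟨x, hx⟩
    exact congrArg (fun z : Z => (z : H)) this
  have hZL : Z ≤ L := (sylowCenterClosure_le_pCoreOf hL).trans (pCoreOf_le_self L)
  have hLZ : L ≤ Subgroup.normalizer (Z : Set H) := le_normalizer_sylowCenterClosure L
  have hRpL : Rp ≤ L := map_pResidual_le
  have hLRp : L ≤ Subgroup.normalizer (Rp : Set H) := Subgroup.le_normalizer.trans le_normalizer_map_pResidual
  have hLW : L ≤ Subgroup.normalizer (W : Set H) := le_normalizer_commutator hLZ hLRp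
  have hWZ : W ≤ Z := commutator_le_left_of_normalizer (hRpL.trans hLZ)
  have hTS := Cfsg.Agent.Lib.FF.isSylowIn_of_sylow_le T hTL
  have hZ0Z : Z0 ≤ Z := by
    have h1 := omegaOne_sylow_le_sylowCenterClosure (p := p) hTS.toSylow
    have h2 : ((hTS.toSylow : Sylow p L) : Subgroup L).map L.subtype = (T : Subgroup H) := by
      rw [Cfsg.Agent.Lib.FF.IsSylowIn.coe_toSylow, Subgroup.subgroupOf_map_subtype]
      exact inf_eq_left.2 hTL
    rwa [h2] at h1
  have hsup : Rp ⊔ (T : Subgroup H) = L := by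
    have h1 := Cfsg.Agent.Lib.Transfer.sup_pResidual_sylow hTS.toSylow
    have h2 := congrArg (Subgroup.map L.subtype) h1
    rw [Subgroup.map_sup, Cfsg.Agent.Lib.FF.IsSylowIn.coe_toSylow, Subgroup.subgroupOf_map_subtype,
      inf_eq_left.2 hTL] at h2
    rw [h2]
    ext x
    simp
  -- `Z ≤ W ⊔ Z0`
  have hc : Z ≤ W ⊔ Z0 := by
    refine iSup_le fun S => omegaOne_le ?_
    intro x hx hxp
    obtain ⟨l, hl, hlT⟩ := hTS.exists_conj (Cfsg.Agent.Lib.FF.isSylowIn_of_sylow S)
    rw [← hlT] at hx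
    have hx2 := hx.2
    rw [← map_conj_centralizer] at hx2
    obtain ⟨z, hzT, rfl⟩ := hx.1
    obtain ⟨z', hz', hzz'⟩ := hx2
    have hzz : z' = z := (MulAut.conj l).injective hzz'
    subst hzz
    have hzp : z' ^ p = 1 := by
      have : (MulAut.conj l).toMonoidHom (z' ^ p) = 1 := by rw [map_pow]; exact hxp
      exact (map_eq_one_iff _ (MulAut.conj l).injective).mp this
    have hzZ0 : z' ∈ Z0 := mem_omegaOne_of _ ⟨hzT, hz'⟩ hzp
    have hlm : l ∈ Rp ⊔ (T : Subgroup H) := hsup ▸ hl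
    obtain ⟨k, hk, t, ht, rfl⟩ := Cfsg.Agent.Lib.FF.exists_mul_of_mem_sup (hTL.trans hLRp) hlm
    have htz := Subgroup.mem_centralizer_iff.mp hz' t ht
    have e : (MulAut.conj (k * t)).toMonoidHom z' = ⁅z', k⁆⁻¹ * z' := by
      show (k * t) * z' * (k * t)⁻¹ = _
      rw [commutatorElement_def]
      calc (k * t) * z' * (k * t)⁻¹ = k * (t * z') * t⁻¹ * k⁻¹ := by group
        _ = k * (z' * t) * t⁻¹ * k⁻¹ := by rw [htz]
        _ = _ := by group
    rw [e]
    exact Subgroup.mul_mem _ (Subgroup.mem_sup_left (W.inv_mem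
      (Subgroup.commutator_mem_commutator (hZ0Z hzZ0) hk))) (Subgroup.mem_sup_right hzZ0)
  -- `[Z, L] ≤ W`
  have hd : ⁅Z, L⁆ ≤ W := by
    have h1 : ⁅Z, (T : Subgroup H)⁆ ≤ W := by
      rw [Subgroup.commutator_le]
      intro z hz t ht
      have hZ0W : Z0 ≤ Subgroup.normalizer (W : Set H) := (hZ0Z.trans hZL).trans hLW
      obtain ⟨w, hw, z0, hz0, rfl⟩ := Cfsg.Agent.Lib.FF.exists_mul_of_mem_sup hZ0W (hc hz)
      have htz : t * z0 = z0 * t := by
        have h2 : z0 ∈ Subgroup.centralizer ((T : Subgroup H) : Set H) := by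
          have : Z0 ≤ (T : Subgroup H) ⊓ Subgroup.centralizer ((T : Subgroup H) : Set H) := omegaOne_le_self _
          exact (this hz0).2
        exact Subgroup.mem_centralizer_iff.mp h2 t ht
      have e : ⁅w * z0, t⁆ = w * (t * w⁻¹ * t⁻¹) := by
        rw [commutatorElement_def]
        calc w * z0 * t * (w * z0)⁻¹ * t⁻¹ = w * (z0 * t) * z0⁻¹ * w⁻¹ * t⁻¹ := by group
          _ = w * (t * z0) * z0⁻¹ * w⁻¹ * t⁻¹ := by rw [htz]
          _ = _ := by group
      rw [e]
      exact W.mul_mem hw ((Subgroup.mem_normalizer_iff.mp (hLW (hTL ht)) _).mp (W.inv_mem hw))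
    have h2 := commutator_sup_le (hRpL.trans hLW) (hTL.trans hLW) le_rfl h1
    rwa [hsup] at h2
  -- `Z0 ≤ W ⊔ Ω₁Z(L)`
  have he : Z0 ≤ W ⊔ omegaOne p (L ⊓ Subgroup.centralizer (L : Set H)) := by
    apply omegaOne_le
    intro v hv hvp
    have hvZ : v ∈ Z := hZ0Z (mem_omegaOne_of _ hv hvp)
    have hco : (orderOf v).Coprime ((T : Subgroup H).relIndex L) :=
      Nat.Coprime.coprime_dvd_left (orderOf_dvd_of_pow_eq_one hvp)
        ((Nat.Prime.coprime_iff_not_dvd (Fact.out)).mpr hTS.not_dvd)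
    have h1 := mem_commutator_sup_fixed Z L (T : Subgroup H) hLZ hZc hvZ hv.2 hco
    refine (sup_le_sup hd ?_) h1
    rintro u ⟨hu, hu'⟩
    exact mem_omegaOne_of _ ⟨hZL hu, hu'⟩ (hZE.2 u hu)
  -- `Ω₁Z(L) ≤ Z`
  have hf : omegaOne p (L ⊓ Subgroup.centralizer (L : Set H)) ≤ Z := by
    apply omegaOne_le
    rintro x ⟨hxL, hxC⟩ hxp
    have hzp : IsPGroup p (Subgroup.zpowers x) := by
      rintro ⟨y, hy⟩
      obtain ⟨n, rfl⟩ := Subgroup.mem_zpowers_iff.mp hy
      refine ⟨1, Subtype.ext ?_⟩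
      show (x ^ n) ^ p ^ 1 = 1
      rw [pow_one, ← zpow_natCast, ← zpow_mul, mul_comm, zpow_mul, zpow_natCast, hxp, one_zpow]
    have hzc : L ≤ Subgroup.centralizer ((Subgroup.zpowers x : Subgroup H) : Set H) := by
      rw [Subgroup.le_centralizer_iff]
      rw [Subgroup.zpowers_le]
      exact hxC
    have h1 : IsPGroup p ↥((T : Subgroup H) ⊔ Subgroup.zpowers x) :=
      IsPGroup.to_sup_of_normal_right' T.2 hzp (hTL.trans (hzc.trans (centralizer_le_normalizer' _)))
    have h2 := T.is_maximal' h1 le_sup_left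
    have hxT : x ∈ (T : Subgroup H) := by
      rw [← h2]
      exact Subgroup.mem_sup_right (Subgroup.mem_zpowers x)
    apply hZ0Z
    refine mem_omegaOne_of _ ⟨hxT, ?_⟩ hxp
    exact Subgroup.centralizer_le hTL hxC
  constructor
  · apply le_antisymm
    · intro z hz
      have h1 := hc hz
      have h2 : W ⊔ Z0 ≤ omegaOne p (L ⊓ Subgroup.centralizer (L : Set H)) ⊔ W :=
        sup_le le_sup_right (he.trans (sup_le le_sup_right le_sup_left))
      exact h2 h1
    · exact sup_le hf hWZ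
  · exact le_antisymm hd (Subgroup.commutator_mono le_rfl hRpL)

end Cfsg.Agent.S2823
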