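import Cfsg.Statements.S2825
import Cfsg.Agent.Lib.Amalgam.Red2

set_option autoImplicit false
open Cfsg Cfsg.Agent.Lib.Amalgam
open scoped commutatorElement

namespace Cfsg.Agent.S2825

/-- Let L be a subnormal subgroup of the finite group H, p a prime, Y_H and Y_L the largest p-reduced normal subgroups. Then Y_H ∩ L = Y_H ∩ Y_L and this subgroup is a p-reduced normal subgroup of L; C_L(Y_L) = C_L(Y_H) = C_L(Y_H ∩ L); and if O^p(H) ≤ L, then [Y_L, L] = 1 if and only if [Y_H, H] = 1. -/
theorem result {H : Type*} [Group H] [Finite H] {p : ℕ} [Fact p.Prime] (L : Subgroup H) (hL : L.IsSubnormal) : Cfsg.largestPReduced p H ⊓ L = Cfsg.largestPReduced p H ⊓ (Cfsg.largestPReducedOf p L) ∧ Cfsg.IsPReducedNormal p ((Cfsg.largestPReduced p H ⊓ L).subgroupOf L) ∧ L ⊓ Subgroup.centralizer ((Cfsg.largestPReducedOf p L : Subgroup H) : Set H) = L ⊓ Subgroup.centralizer (Cfsg.largestPReduced p H : Set H) ∧ L ⊓ Subgroup.centralizer (Cfsg.largestPReduced p H : Set H) = L ⊓ Subgroup.centralizer ((Cfsg.largestPReduced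 p H ⊓ L : Subgroup H) : Set H) ∧ (Cfsg.pResidual p H ≤ L → (⁅(Cfsg.largestPReducedOf p L), L⁆ = ⊥ ↔ ⁅Cfsg.largestPReduced p H, (⊤ : Subgroup H)⁆ = ⊥)) := by
  set V := largestPReduced p H with hV
  set YL := largestPReducedOf p L with hYL
  have hVr : IsPReducedNormal p V := isPReducedNormal_largestPReduced'
  obtain ⟨hVn, hVE, -⟩ := id hVr
  haveI := hVn
  have hVp := isPGroup_of_isElementaryAbelian hVE
  have hVab := le_centralizer_of_isElementaryAbelian hVE
  have hVL : L ≤ Subgroup.normalizer (V : Set H) := by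
    rw [Subgroup.normalizer_eq_top_iff.mpr hVn]; exact le_top
  have hLVL : L ≤ Subgroup.normalizer ((V ⊓ L : Subgroup H) : Set H) :=
    le_normalizer_inf hVL Subgroup.le_normalizer
  have h4 : L ⊓ Subgroup.centralizer ((V ⊓ L : Subgroup H) : Set H) ≤ Subgroup.centralizer (V : Set H) := by
    have hLC : L ≤ Subgroup.normalizer ((L ⊓ Subgroup.centralizer ((V ⊓ L : Subgroup H) : Set H) : Subgroup H) : Set H) :=
      le_normalizer_inf Subgroup.le_normalizer (hLVL.trans (normalizer_le_normalizer_centralizer _))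
    have hD : (L ⊓ Subgroup.centralizer ((V ⊓ L : Subgroup H) : Set H)).IsSubnormal :=
      Subgroup.IsSubnormal.trans inf_le_left (subgroupOf_normal_of_le_normalizer hLC).isSubnormal hL
    apply subnormal_reduced_le_centralizer hVr hD
    intro d hd
    obtain ⟨a, ha⟩ := Cfsg.Agent.Lib.Techniques.exists_pow_coprime_order (p := p) d
    exact ⟨a, centralizes_of_inf_subnormal hVn hVp hVab hL _ (L.pow_mem hd.1 _) ha (Subgroup.pow_mem _ hd.2 _)⟩
  have h4' : L ⊓ Subgroup.centralizer (V : Set H) = L ⊓ Subgroup.centralizer ((V ⊓ L : Subgroup H) : Set H) :=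
    le_antisymm (inf_le_inf_left _ (Subgroup.centralizer_le inf_le_left)) (le_inf inf_le_left h4)
  have hCC : Subgroup.centralizer ((((V ⊓ L).subgroupOf L).map L.subtype : Subgroup H) : Set H) =
      Subgroup.centralizer ((V ⊓ L : Subgroup H) : Set H) := by
    rw [Subgroup.subgroupOf_map_subtype, inf_eq_left.2 inf_le_right]
  have h2 : IsPReducedNormal p ((V ⊓ L).subgroupOf L) := by
    refine isPReducedNormal_mk (subgroupOf_normal_of_le_normalizer hLVL)
      (isElementaryAbelian_subgroupOf (isElementaryAbelian_mono hVE inf_le_left) L) ?_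
    intro R hR hr
    have hRs : (R.map L.subtype).IsSubnormal := hR.isSubnormal.trans' hL
    have hRC : R.map L.subtype ≤ Subgroup.centralizer (V : Set H) := by
      apply subnormal_reduced_le_centralizer hVr hRs
      rintro _ ⟨r, hrR, rfl⟩
      obtain ⟨k, hk⟩ := hr r hrR
      refine ⟨k, ?_⟩
      rw [mem_centralizer_subtype_iff, hCC] at hk
      exact h4 ⟨L.pow_mem r.2 _, hk⟩
    intro r hrR
    rw [mem_centralizer_subtype_iff, hCC]
    exact Subgroup.centralizer_le inf_le_left (hRC ⟨r, hrR, rfl⟩)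
  have h1le : V ⊓ L ≤ YL := by
    intro x hx
    exact ⟨⟨x, hx.2⟩, le_largestPReduced h2 (show (⟨x, hx.2⟩ : ↥L) ∈ (V ⊓ L).subgroupOf L from hx), rfl⟩
  have h1 : V ⊓ L = V ⊓ YL :=
    le_antisymm (le_inf inf_le_left h1le) (inf_le_inf_left _ (largestPReducedOf_le L))
  have h3 : L ⊓ Subgroup.centralizer (YL : Set H) = L ⊓ Subgroup.centralizer (V : Set H) := by
    apply le_antisymm
    · intro x hx
      exact ⟨hx.1, h4 ⟨hx.1, Subgroup.centralizer_le h1le hx.2⟩⟩
    · intro x hx
      exact ⟨hx.1, inf_centralizer_largest_le_of_subnormal hL hx⟩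
  refine ⟨h1, h2, h3, h4', ?_⟩
  intro hres
  constructor
  · intro hc
    have hLC : L ≤ Subgroup.centralizer (YL : Set H) := by
      rw [Subgroup.commutator_eq_bot_iff_le_centralizer] at hc
      rwa [Subgroup.le_centralizer_iff]
    rw [Subgroup.commutator_eq_bot_iff_le_centralizer, Subgroup.le_centralizer_iff]
    apply reduced_le_centralizer hVr ⊤ inferInstance
    intro r _
    obtain ⟨a, ha⟩ := Cfsg.Agent.Lib.Techniques.exists_pow_coprime_order (p := p) r
    refine ⟨a, ?_⟩
    have hyL : r ^ p ^ a ∈ L := hres (Subgroup.subset_closure ha)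
    exact h4 ⟨hyL, Subgroup.centralizer_le h1le (hLC hyL)⟩
  · intro hc
    rw [Subgroup.commutator_eq_bot_iff_le_centralizer, Subgroup.le_centralizer_iff] at hc
    rw [Subgroup.commutator_eq_bot_iff_le_centralizer, Subgroup.le_centralizer_iff]
    have h5 : L ≤ L ⊓ Subgroup.centralizer (V : Set H) := le_inf le_rfl (le_top.trans hc)
    rw [← h3] at h5
    exact h5.trans inf_le_right

end Cfsg.Agent.S2825
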