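import Cfsg.Statements.S2826
import Cfsg.Agent.Lib.Amalgam.Red

set_option autoImplicit false
open Cfsg Cfsg.Agent.Lib.Amalgam
open scoped commutatorElement

namespace Cfsg.Agent.S2826

/-- Let H be a finite group of characteristic p, T a Sylow p-subgroup, and V a normal elementary abelian p-subgroup of H containing Ω₁(Z(T)). Then C_H(Ω₁(Z(T))) = C_H([V, O^p(H)] ∩ Ω₁(Z(T))), O^p(H) being generated by the elements of order prime to p. -/
theorem result {H : Type*} [Group H] [Finite H] {p : ℕ} [Fact p.Prime] (hH : Subgroup.centralizer (Cfsg.pCore p H : Set H) ≤ Cfsg.pCore p H) (T : Sylow p H) (V : Subgroup H) [V.Normal] (hV : Cfsg.IsElementaryAbelian p V) (hZV : (Cfsg.omegaOne p ((T : Subgroup H) ⊓ Subgroup.centralizer (((T : Subgroup H) : Subgroup H) : Set H))) ≤ V) : Subgroup.centralizer ((Cfsg.omegaOne p ((T : Subgroup H) ⊓ Subgroup.centralizer (((T : Subgroup H) : Subgroup H) : Set H))) : Set H) = Subgroup.centralizer (((⁅V, Cfsg.pResidual p H⁆ ⊓ (Cfsg.omegaOne p ((T : Subgroup H) ⊓ Subgroup.centralizer (((T : Subgroup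 H) : Subgroup H) : Set H)))) : Subgroup H) : Set H) := by
  set Z := omegaOne p ((T : Subgroup H) ⊓ Subgroup.centralizer (((T : Subgroup H) : Subgroup H) : Set H)) with hZ
  set X := pResidual p H with hX
  set W : Subgroup H := ⁅V, X⁆ with hW
  haveI hXn : X.Normal := Cfsg.Agent.Lib.Techniques.pResidual_normal H p
  haveI hWn : W.Normal := Subgroup.commutator_normal V X
  have hVc := le_centralizer_of_isElementaryAbelian hV
  have hVp := isPGroup_of_isElementaryAbelian hV
  have hVT : V ≤ (T : Subgroup H) :=
    (Cfsg.Agent.Lib.Core.le_pCore inferInstance hVp).trans (Cfsg.Agent.Lib.Core.pCore_le_sylow T)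
  have htop : ∀ K : Subgroup H, K.Normal → ∀ A : Subgroup H, A ≤ Subgroup.normalizer (K : Set H) := by
    intro K hK A
    rw [Subgroup.normalizer_eq_top_iff.mpr hK]
    exact le_top
  have hWV : W ≤ V := commutator_le_left_of_normalizer (htop V inferInstance X)
  have hZT : Z ≤ (T : Subgroup H) ⊓ Subgroup.centralizer (((T : Subgroup H) : Subgroup H) : Set H) := omegaOne_le_self _
  apply le_antisymm
  · exact Subgroup.centralizer_le inf_le_right
  · intro d hd
    set D : Subgroup H := Subgroup.centralizer (((W ⊓ Z : Subgroup H)) : Set H) with hD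
    rw [Subgroup.mem_centralizer_iff]
    intro z hz
    have hTD : (T : Subgroup H) ≤ D := by
      intro t ht
      rw [hD, Subgroup.mem_centralizer_iff]
      intro w hw
      exact (Subgroup.mem_centralizer_iff.mp (hZT hw.2).2 t ht).symm
    have hTS := Cfsg.Agent.Lib.FF.isSylowIn_of_sylow_le T hTD
    have hzV := hZV hz
    have hzp : z ^ p = 1 := hV.2 z hzV
    have hcop : (orderOf z).Coprime ((T : Subgroup H).relIndex D) :=
      Nat.Coprime.coprime_dvd_left (orderOf_dvd_of_pow_eq_one hzp)
        ((Nat.Prime.coprime_iff_not_dvd (Fact.out : p.Prime)).2 hTS.not_dvd)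
    have hsup := Cfsg.Agent.Lib.Transfer.sup_pResidual_sylow T
    have hcom : ⁅Z, X ⊔ (T : Subgroup H)⁆ ≤ W := by
      apply commutator_sup_le (htop W hWn _) (htop W hWn _)
      · exact Subgroup.commutator_mono hZV le_rfl
      · rw [Subgroup.commutator_le]
        intro a ha b hb
        have h1 := Subgroup.mem_centralizer_iff.mp (hZT ha).2 b hb
        have h2 : ⁅a, b⁆ = 1 := commutatorElement_eq_one_iff_mul_comm.mpr h1.symm
        rw [h2]
        exact W.one_mem
    rw [hsup] at hcom
    have hzD := central_of_fixed_part (D := D) (S := (T : Subgroup H)) (W := W) (z := z) hTD hcop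
      (htop W hWn D) (hWV.trans (hVc.trans (Subgroup.centralizer_le hWV)))
      (Subgroup.centralizer_le hWV (hVc hzV)) (hZT hz).2
      (fun c _ => hcom (Subgroup.commutator_mem_commutator hz (Subgroup.mem_top c)))
      (fun w hw hwT => by
        have hw1 : w ∈ Z := by
          rw [hZ]
          exact mem_omegaOne_of _ ⟨hVT (hWV hw), hwT⟩ (hV.2 w (hWV hw))
        rw [Subgroup.mem_centralizer_iff]
        intro c hc
        exact (Subgroup.mem_centralizer_iff.mp hc w ⟨hw, hw1⟩).symm)
    exact (Subgroup.mem_centralizer_iff.mp hzD d hd).symm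

end Cfsg.Agent.S2826
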