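import Cfsg.Statements.S2827
import Cfsg.Agent.Lib.PGroup.Pairing
import Cfsg.Agent.Lib.Amalgam.Embedded2
import Cfsg.Agent.Lib.Amalgam.PClosed

set_option autoImplicit false
open Cfsg Cfsg.Agent.Lib.Amalgam
open scoped commutatorElement

namespace Cfsg.Agent.S2827

/-- Let H be a finite p-irreducible group (not p-closed, and O^p(H) lies in every normal subgroup that is not p-closed) and T a Sylow p-subgroup. Then H is generated by the conjugates of T and H = H'·T; O^p(H) ≤ H'; and for every normal subgroup Y of T not contained in O_p(H), O^p(H) = [O^p(H), Y] and O^p(H) is contained in the normal closure of Y in H. -/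
theorem result {H : Type*} [Group H] [Finite H] {p : ℕ} [Fact p.Prime] (hH : Cfsg.IsPIrreducible p H) (T : Sylow p H) : Subgroup.normalClosure ((T : Subgroup H) : Set H) = ⊤ ∧ commutator H ⊔ (T : Subgroup H) = ⊤ ∧ Cfsg.pResidual p H ≤ commutator H ∧ ∀ Y : Subgroup H, Y ≤ (T : Subgroup H) → (T : Subgroup H) ≤ Subgroup.normalizer (Y : Set H) → ¬ Y ≤ Cfsg.pCore p H → ⁅Cfsg.pResidual p H, Y⁆ = Cfsg.pResidual p H ∧ Cfsg.pResidual p H ≤ Subgroup.normalClosure (Y : Set H) := by
  have hhN := hH
  set K := Cfsg.pResidual p H with hK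
  -- general step: a `p`-subgroup outside `O_p(H)` has normal closure containing `K`
  have hstep : ∀ Y : Subgroup H, IsPGroup p Y → ¬ Y ≤ Cfsg.pCore p H →
      K ≤ Subgroup.normalClosure (Y : Set H) := by
    intro Y hY hnot
    apply hH.2 _ (Subgroup.normalClosure_normal)
    intro hcl
    rw [isPClosed_iff_le_pCore _ Subgroup.normalClosure_normal] at hcl
    exact hnot (hcl Y (Subgroup.subset_normalClosure) hY)
  have hsupT : K ⊔ (T : Subgroup H) = ⊤ := Cfsg.Agent.Lib.Transfer.sup_pResidual_sylow T
  have hTnot : ¬ (T : Subgroup H) ≤ Cfsg.pCore p H := by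
    intro h
    apply hH.1
    have h1 : Cfsg.pCore p H = T :=
      T.is_maximal' (Cfsg.Agent.Lib.Core.pCore_isPGroup p H) h
    refine isPClosed_of_normal_sylow T ?_
    rw [← h1]
    infer_instance
  have h1 : Subgroup.normalClosure ((T : Subgroup H) : Set H) = ⊤ := by
    rw [eq_top_iff, ← hsupT]
    exact sup_le (hstep _ T.isPGroup' hTnot) Subgroup.subset_normalClosure
  have hcommN : ∀ M : Subgroup H, commutator H ≤ M → M.Normal := by
    intro M hM
    constructor
    intro z hz g
    have e : g * z * g⁻¹ = ⁅g, z⁆ * z := by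
      rw [commutatorElement_def]; group
    rw [e]
    refine M.mul_mem (hM ?_) hz
    exact Subgroup.commutator_mem_commutator (Subgroup.mem_top g) (Subgroup.mem_top z)
  have h2 : commutator H ⊔ (T : Subgroup H) = ⊤ := by
    haveI := hcommN (commutator H ⊔ (T : Subgroup H)) le_sup_left
    rw [eq_top_iff, ← h1]
    exact Subgroup.normalClosure_le_normal (fun t ht => Subgroup.mem_sup_right ht)
  have h3 : K ≤ commutator H := by
    apply Cfsg.Agent.Lib.Transfer.pResidual_le_of_forall
    intro g hg
    have hN : (T : Subgroup H) ≤ Subgroup.normalizer (commutator H : Set H) := by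
      rw [Subgroup.normalizer_eq_top_iff.mpr inferInstance]
      exact le_top
    exact Cfsg.Agent.Lib.FF.mem_of_coprime_of_mem_sup hN T.isPGroup'
      (h2 ▸ Subgroup.mem_top g) (orderOf_pos g).ne' hg
  refine ⟨h1, h2, h3, ?_⟩
  intro Y hYT hTY hYnot
  have hYp : IsPGroup p Y := T.isPGroup'.to_le hYT
  have h4 := hstep Y hYp hYnot
  refine ⟨?_, h4⟩
  apply le_antisymm (Subgroup.commutator_le_left K Y)
  -- `W = [K, Y]` is normal in `H`
  set W : Subgroup H := ⁅K, Y⁆ with hW
  have hWn : W.Normal := by
    rw [← Subgroup.normalizer_eq_top_iff, eq_top_iff, ← hsupT]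
    refine sup_le (Cfsg.Agent.Lib.PGroup.le_normalizer_commutator_left K Y) ?_
    intro t ht
    apply mem_normalizer_of_map_conj_eq
    rw [hW, Subgroup.map_commutator, map_conj_eq_of_mem_normalizer (hTY ht)]
    have : K.map (MulAut.conj t).toMonoidHom = K := by
      apply map_conj_eq_of_mem_normalizer
      rw [Subgroup.normalizer_eq_top_iff.mpr inferInstance]
      trivial
    rw [this]
  haveI := hWn
  set π := QuotientGroup.mk' W with hπ
  have hπW : ∀ x : H, π x = 1 ↔ x ∈ W := by
    intro x
    rw [hπ, QuotientGroup.mk'_apply, QuotientGroup.eq_one_iff]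
  have hπs : Function.Surjective π := QuotientGroup.mk'_surjective W
  set N := Subgroup.normalClosure (Y : Set H) with hN
  -- `π K` is centralized by `π N`
  have hcentN : N ≤ (Subgroup.centralizer ((K.map π : Subgroup _) : Set _)).comap π := by
    haveI hKπ : (K.map π).Normal := Subgroup.Normal.map inferInstance _ hπs
    haveI : ((Subgroup.centralizer ((K.map π : Subgroup _) : Set _)).comap π).Normal := inferInstance
    apply Subgroup.normalClosure_le_normal
    intro y hy
    show π y ∈ Subgroup.centralizer _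
    rw [Subgroup.mem_centralizer_iff]
    rintro _ ⟨k, hk, rfl⟩
    have h5 : ⁅k, y⁆ ∈ W := Subgroup.commutator_mem_commutator hk hy
    have h6 := (hπW _).mpr h5
    rw [map_commutatorElement, commutatorElement_eq_one_iff_mul_comm] at h6
    exact h6
  have hNp : IsPGroup p ↥(N.map π) := by
    refine isPGroup_of_central_of_gen (N.map π) (K.map π) (Subgroup.map_mono h4) ?_ ?_
      (π '' (Group.conjugatesOfSet (Y : Set H))) ?_ ?_
    · rw [Subgroup.le_centralizer_iff]
      rintro _ ⟨n, hn, rfl⟩
      exact hcentN hn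
    · rintro _ ⟨n, hn, rfl⟩
      obtain ⟨a, ha⟩ := (Cfsg.Agent.Lib.Transfer.isPGroup_quotient_pResidual (p := p) (G := H))
        (QuotientGroup.mk' K n)
      refine ⟨a, ?_⟩
      rw [← map_pow]
      refine ⟨n ^ p ^ a, ?_, rfl⟩
      rw [← map_pow, QuotientGroup.mk'_apply, QuotientGroup.eq_one_iff] at ha
      exact ha
    · rw [hN, Subgroup.normalClosure, MonoidHom.map_closure]
    · rintro _ ⟨c, hc, rfl⟩
      obtain ⟨y, hy, hcj⟩ := Group.mem_conjugatesOfSet_iff.mp hc
      obtain ⟨u, hu⟩ := isConj_iff.mp hcj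
      obtain ⟨k, hk⟩ := hYp ⟨y, hy⟩
      have hk' : y ^ p ^ k = 1 := by simpa using congrArg Subtype.val hk
      refine ⟨k, ?_⟩
      rw [← map_pow, ← hu, conj_pow, hk']
      simp
  apply Cfsg.Agent.Lib.Transfer.pResidual_le_of_forall
  intro x hx
  have hxN : x ∈ N := h4 (Cfsg.Agent.Lib.Transfer.mem_pResidual_of_coprime hx)
  have h7 : π x = 1 := by
    have h8 := eq_one_of_mem_isPGroup_coprime hNp (x := π x) ⟨x, hxN, rfl⟩
      (Nat.Coprime.coprime_dvd_left (orderOf_map_dvd π x) hx)
    exact h8
  exact (hπW x).mp h7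


end Cfsg.Agent.S2827
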