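import Cfsg.Statements.S2829
import Cfsg.Agent.Lib.Amalgam.PClosed

set_option autoImplicit false
open Cfsg Cfsg.Agent.Lib.Amalgam
open scoped commutatorElement

namespace Cfsg.Agent.S2829

/-- Every strongly p-irreducible finite group is p-irreducible. -/
theorem result {H : Type*} [Group H] [Finite H] {p : ℕ} [Fact p.Prime] (hH : Cfsg.IsStronglyPIrreducible p H) : Cfsg.IsPIrreducible p H := by
  refine ⟨hH.1, fun N hN hncl => hH.2 N hN ?_⟩
  intro hle
  apply hncl
  rw [isPClosed_iff_le_pCore N hN]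
  intro Y hYN hY
  have hZ : (Y ⊔ Cfsg.pCore p H).Normal := by
    constructor
    intro z hz g
    obtain ⟨y, hy, c, hc, rfl⟩ := Subgroup.mem_sup_of_normal_right.mp hz
    have hc1 : ⁅y, g⁆⁻¹ ∈ Cfsg.pCore p H :=
      Subgroup.inv_mem _ (hle (Subgroup.commutator_mem_commutator (hYN hy) (Subgroup.mem_top g)))
    have hc2 : g * c * g⁻¹ ∈ Cfsg.pCore p H := (inferInstance : (Cfsg.pCore p H).Normal).conj_mem c hc g
    have e : g * (y * c) * g⁻¹ = ⁅y, g⁆⁻¹ * y * (g * c * g⁻¹) := by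
      rw [commutatorElement_inv, commutatorElement_def]; group
    rw [e]
    have h3 : ⁅y, g⁆⁻¹ * y = y * (y⁻¹ * ⁅y, g⁆⁻¹ * y) := by group
    refine Subgroup.mul_mem _ ?_ (Subgroup.mem_sup_right hc2)
    rw [h3]
    refine Subgroup.mul_mem _ (Subgroup.mem_sup_left hy) (Subgroup.mem_sup_right ?_)
    have h4 := (inferInstance : (Cfsg.pCore p H).Normal).conj_mem _ hc1 y⁻¹
    rwa [inv_inv] at h4
  have hZp : IsPGroup p ↥(Y ⊔ Cfsg.pCore p H) :=
    hY.to_sup_of_normal_right (Cfsg.Agent.Lib.Core.pCore_isPGroup p H)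
  exact le_sup_left.trans (Cfsg.Agent.Lib.Core.le_pCore hZ hZp)


end Cfsg.Agent.S2829
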