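import Cfsg.Statements.S2830
import Cfsg.Agent.Lib.PGroup.Pairing
import Cfsg.Agent.Lib.Amalgam.Embedded2
import Cfsg.Agent.Lib.Amalgam.PClosed

set_option autoImplicit false
open Cfsg Cfsg.Agent.Lib.Amalgam
open scoped commutatorElement

namespace Cfsg.Agent.S2830

/-- Let H act by conjugation on the elementary abelian p-subgroup V of a finite group G (H ≤ N(V)), with H p-irreducible and O^p(H) not centralizing V. Then C_H(V) is p-closed and C_T(V) ≤ O_p(H) for every p-subgroup T of H. If in addition O_p(H) centralizes V, then C_T(V) = T ∩ O_p(H) for every p-subgroup T of H, and V is p-reduced for H: O_p(H/C_H(V)) = 1. -/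
theorem result {G : Type*} [Group G] [Finite G] {p : ℕ} [Fact p.Prime] (V H : Subgroup G) (hV : Cfsg.IsElementaryAbelian p V) (hHV : H ≤ Subgroup.normalizer (V : Set G)) (hH : Cfsg.IsPIrreducible p ↥H) (hnc : ¬ (Cfsg.pResidual p ↥H).map H.subtype ≤ Subgroup.centralizer (V : Set G)) [hn : ((Subgroup.centralizer (V : Set G)).subgroupOf H).Normal] : Cfsg.IsPClosed p ↥(H ⊓ Subgroup.centralizer (V : Set G)) ∧ (∀ T : Subgroup G, T ≤ H → IsPGroup p ↥T → T ⊓ Subgroup.centralizer (V : Set G) ≤ Cfsg.pCoreOf p H) ∧ (Cfsg.pCoreOf p H ≤ Subgroup.centralizer (V : Set G) → (∀ T : Subgroup G, T ≤ H → IsPGroup p ↥T → T ⊓ Subgroup.centralizer (V : Set G) = T ⊓ Cfsg.pCoreOf p H) ∧ Cfsg.pCore p (↥H ⧸ (Subgroup.centralizer (V : Set G)).subgroupOf H) = ⊥) := by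
  set C : Subgroup G := Subgroup.centralizer (V : Set G) with hC
  have hclC : Cfsg.IsPClosed p ↥(C.subgroupOf H) := by
    by_contra hnot
    apply hnc
    have h1 := hH.2 _ hn hnot
    rintro _ ⟨x, hx, rfl⟩
    have := h1 hx
    rwa [Subgroup.mem_subgroupOf] at this
  have hclC' : ∀ Y : Subgroup ↥H, Y ≤ C.subgroupOf H → IsPGroup p Y → Y ≤ Cfsg.pCore p ↥H :=
    (isPClosed_iff_le_pCore _ hn).mp hclC
  have h2 : ∀ T : Subgroup G, T ≤ H → IsPGroup p ↥T → T ⊓ C ≤ Cfsg.pCoreOf p H := by
    intro T hTH hT x hx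
    have hY : ((T ⊓ C).subgroupOf H) ≤ C.subgroupOf H := by
      intro y hy
      rw [Subgroup.mem_subgroupOf] at hy ⊢
      exact hy.2
    have hYp : IsPGroup p ((T ⊓ C).subgroupOf H) :=
      (hT.to_le inf_le_left).comap_of_injective H.subtype H.subtype_injective
    have h3 := hclC' _ hY hYp
    have h4 : (⟨x, hTH hx.1⟩ : H) ∈ (T ⊓ C).subgroupOf H := by
      rw [Subgroup.mem_subgroupOf]; exact hx
    exact ⟨_, h3 h4, rfl⟩
  refine ⟨?_, h2, ?_⟩
  · refine isPClosed_of_mulEquiv ?_ hclC
    exact (MulEquiv.subgroupCongr (Subgroup.inf_subgroupOf_left C H).symm).trans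
      (Subgroup.subgroupOfEquivOfLe inf_le_left)
  · intro hle
    refine ⟨?_, ?_⟩
    · intro T hTH hT
      apply le_antisymm
      · exact le_inf inf_le_left (h2 T hTH hT)
      · exact le_inf inf_le_left (inf_le_right.trans hle)
    · -- `O_p(H / C_H(V)) = 1`
      set π := QuotientGroup.mk' (C.subgroupOf H) with hπ
      have hπC : ∀ x : ↥H, π x = 1 ↔ (x : G) ∈ C := by
        intro x
        rw [hπ, QuotientGroup.mk'_apply, QuotientGroup.eq_one_iff, Subgroup.mem_subgroupOf]
      have hπs : Function.Surjective π := QuotientGroup.mk'_surjective _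
      set R : Subgroup ↥H := (Cfsg.pCore p (↥H ⧸ C.subgroupOf H)).comap π with hR
      haveI hRn : R.Normal := Subgroup.Normal.comap inferInstance π
      have hRp : ∀ r ∈ R, ∃ k : ℕ, (π r) ^ p ^ k = 1 := by
        intro r hr
        obtain ⟨k, hk⟩ := (Cfsg.Agent.Lib.Core.pCore_isPGroup p (↥H ⧸ C.subgroupOf H)) ⟨π r, hr⟩
        exact ⟨k, by simpa using congrArg Subtype.val hk⟩
      have hp' : ∀ r ∈ R, Nat.Coprime (orderOf r) p → π r = 1 := by
        intro r hr hco
        obtain ⟨k, hk⟩ := hRp r hr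
        have h1 : orderOf (π r) ∣ p ^ k := orderOf_dvd_of_pow_eq_one hk
        have h3 : orderOf (π r) ∣ orderOf r := orderOf_map_dvd π r
        exact orderOf_eq_one_iff.mp (Nat.eq_one_of_dvd_coprimes (hco.pow_right k) h3 h1)
      have hRC : R ≤ C.subgroupOf H := by
        by_cases hRcl : Cfsg.IsPClosed p R
        · have hRle := (isPClosed_iff_le_pCore R hRn).mp hRcl
          intro r hr
          obtain ⟨a, b, hab, hcomm, ⟨k, hk⟩, hb, ha', hb'⟩ :=
            Cfsg.Agent.Lib.Transfer.exists_parts (Fact.out : p.Prime) r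
          have hzr : Subgroup.zpowers r ≤ R := Subgroup.zpowers_le.mpr hr
          have haR : a ∈ R := hzr ha'
          have hbR : b ∈ R := hzr hb'
          have hza : IsPGroup p (Subgroup.zpowers a) := by
            apply IsPGroup.of_card_dvd_pow (n := k)
            rw [Nat.card_zpowers]
            exact orderOf_dvd_of_pow_eq_one hk
          have hac : a ∈ Cfsg.pCore p ↥H :=
            hRle _ (Subgroup.zpowers_le.mpr haR) hza (Subgroup.mem_zpowers a)
          have haC : (a : G) ∈ C := hle ⟨a, hac, rfl⟩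
          have hbC : (b : G) ∈ C := (hπC b).mp (hp' b hbR hb)
          rw [Subgroup.mem_subgroupOf, hab]
          exact C.mul_mem haC hbC
        · exfalso
          apply hnc
          have hK := hH.2 R hRn hRcl
          rw [map_pResidual_eq_closure, Subgroup.closure_le]
          rintro g ⟨hg, hco⟩
          have h5 : (⟨g, hg⟩ : H) ∈ Cfsg.pResidual p ↥H :=
            Cfsg.Agent.Lib.Transfer.mem_pResidual_of_coprime (by rwa [Subgroup.orderOf_mk])
          have h6 := hp' _ (hK h5) (by rwa [Subgroup.orderOf_mk])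
          exact (hπC _).mp h6
      rw [eq_bot_iff]
      intro q hq
      obtain ⟨r, rfl⟩ := hπs q
      have hr : r ∈ R := hq
      have := hRC hr
      rw [Subgroup.mem_subgroupOf] at this
      rw [Subgroup.mem_bot]
      exact (hπC r).mpr this


end Cfsg.Agent.S2830
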