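import Cfsg.Statements.S2831
import Cfsg.Agent.Lib.Amalgam.PClosed

set_option autoImplicit false
open Cfsg Cfsg.Agent.Lib.Amalgam
open scoped commutatorElement

namespace Cfsg.Agent.S2831

/-- Let H be a finite group with Sylow p-subgroup T such that H is T-minimal (H is generated by the conjugates of T and T lies in exactly one maximal subgroup of H). Then H is p-irreducible: H is not p-closed and O^p(H) lies in every normal subgroup of H that is not p-closed. -/
theorem result {H : Type*} [Group H] [Finite H] {p : ℕ} [Fact p.Prime] (T : Sylow p H) (hmin : Cfsg.IsMinimalOver (T : Subgroup H)) : Cfsg.IsPIrreducible p H := by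
  obtain ⟨hcl, M, ⟨hMc, hTM⟩, hMu⟩ := hmin
  have hunique : ∀ X : Subgroup H, (T : Subgroup H) ≤ X → X ≠ ⊤ → X ≤ M := by
    intro X hTX hX
    obtain h | ⟨b, hb, hXb⟩ := eq_top_or_exists_le_coatom X
    · exact absurd h hX
    · rw [← hMu b ⟨hb, hTX.trans hXb⟩]
      exact hXb
  constructor
  · intro hclosed
    haveI hn := hclosed T
    have h1 : Subgroup.normalClosure ((T : Subgroup H) : Set H) ≤ T :=
      Subgroup.normalClosure_le_normal subset_rfl
    rw [hcl] at h1
    exact hMc.1 (top_le_iff.mp (h1.trans hTM))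
  · intro N hN hncl
    by_contra hnot
    haveI := hN
    have hTN : (T : Subgroup H) ≤ Subgroup.normalizer (N : Set H) := by
      rw [Subgroup.normalizer_eq_top_iff.mpr hN]
      exact le_top
    have hsup : N ⊔ (T : Subgroup H) ≠ ⊤ := by
      intro h
      apply hnot
      apply Cfsg.Agent.Lib.Transfer.pResidual_le_of_forall
      intro g hg
      exact Cfsg.Agent.Lib.FF.mem_of_coprime_of_mem_sup hTN T.isPGroup'
        (h ▸ Subgroup.mem_top g) (orderOf_pos g).ne' hg
    have hNM : N ≤ M := le_sup_left.trans (hunique _ le_sup_right hsup)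
    obtain ⟨Q, hQ⟩ := Cfsg.Agent.Lib.Core.sylow_inf_normal p N T
    have hF := Sylow.normalizer_sup_eq_top Q
    have hQmap : (Q : Subgroup N).map N.subtype = (T : Subgroup H) ⊓ N := by
      rw [hQ]
      exact Subgroup.subgroupOf_map_subtype _ _
    have hQc : Q.map N.subtype = (T : Subgroup H) ⊓ N := hQmap
    rw [hQc] at hF
    have hTnorm : (T : Subgroup H) ≤ Subgroup.normalizer (((T : Subgroup H) ⊓ N : Subgroup H) : Set H) := by
      intro t ht
      rw [Subgroup.mem_normalizer_iff]
      intro x
      have h1 : x ∈ (T : Subgroup H) ↔ t * x * t⁻¹ ∈ (T : Subgroup H) :=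
        Subgroup.mem_normalizer_iff.mp (Subgroup.le_normalizer ht) x
      have h2 : x ∈ N ↔ t * x * t⁻¹ ∈ N := Subgroup.mem_normalizer_iff.mp (hTN ht) x
      simp only [Subgroup.mem_inf, h1, h2]
    by_cases hnt : Subgroup.normalizer (((T : Subgroup H) ⊓ N : Subgroup H) : Set H) = ⊤
    · apply hncl
      have hn : ((T : Subgroup H) ⊓ N).Normal := Subgroup.normalizer_eq_top_iff.mp hnt
      refine isPClosed_of_normal_sylow Q ?_
      rw [hQ]
      have : (T : Subgroup H).subgroupOf N = ((T : Subgroup H) ⊓ N).subgroupOf N := by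
        ext x
        simp [Subgroup.mem_subgroupOf]
      rw [this]
      infer_instance
    · have hle := hunique _ hTnorm hnt
      have : (⊤ : Subgroup H) ≤ M := by
        rw [← hF]
        exact sup_le hle hNM
      exact hMc.1 (top_le_iff.mp this)


end Cfsg.Agent.S2831
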