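import Cfsg.Statements.S2832
import Cfsg.Agent.Lib.Amalgam.PClosed

set_option autoImplicit false
open Cfsg Cfsg.Agent.Lib.Amalgam
open scoped commutatorElement

namespace Cfsg.Agent.S2832

/-- Let H be a finite group with Sylow p-subgroup T such that H is T-minimal (generated by the conjugates of T, with T in exactly one maximal subgroup), and let N be a normal subgroup of H. Then either H/N is a p-group or H/N is minimal over the image of T in the same sense. -/
theorem result {H : Type*} [Group H] [Finite H] {p : ℕ} [Fact p.Prime] (T : Sylow p H) (hmin : Cfsg.IsMinimalOver (T : Subgroup H)) (N : Subgroup H) [N.Normal] : IsPGroup p (H ⧸ N) ∨ Cfsg.IsMinimalOver ((T : Subgroup H).map (QuotientGroup.mk' N)) := by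
  obtain ⟨hcl, M, ⟨hMc, hTM⟩, hMu⟩ := hmin
  have hunique : ∀ X : Subgroup H, (T : Subgroup H) ≤ X → X ≠ ⊤ → X ≤ M := by
    intro X hTX hX
    obtain h | ⟨b, hb, hXb⟩ := eq_top_or_exists_le_coatom X
    · exact absurd h hX
    · rw [← hMu b ⟨hb, hTX.trans hXb⟩]
      exact hXb
  set π := QuotientGroup.mk' N with hπ
  have hπs : Function.Surjective π := QuotientGroup.mk'_surjective N
  by_cases hsup : N ⊔ (T : Subgroup H) = ⊤
  · left
    intro q
    obtain ⟨h, rfl⟩ := hπs q
    obtain ⟨n, hn, t, ht, rfl⟩ := Subgroup.mem_sup_of_normal_left.mp (hsup ▸ Subgroup.mem_top h)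
    obtain ⟨k, hk⟩ := T.isPGroup' ⟨t, ht⟩
    have hk' : t ^ p ^ k = 1 := by simpa using congrArg Subtype.val hk
    refine ⟨k, ?_⟩
    have hn1 : π n = 1 := by
      rw [hπ, QuotientGroup.mk'_apply, QuotientGroup.eq_one_iff]; exact hn
    rw [map_mul, hn1, one_mul, ← map_pow, hk', map_one]
  · right
    have hNM : N ≤ M := le_sup_left.trans (hunique _ le_sup_right hsup)
    have hker : π.ker = N := QuotientGroup.ker_mk' N
    have hcm : ∀ X : Subgroup H, N ≤ X → (X.map π).comap π = X := by
      intro X hX
      rw [Subgroup.comap_map_eq, hker, sup_of_le_left hX]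
    have hmc : ∀ Y : Subgroup (H ⧸ N), (Y.comap π).map π = Y :=
      fun Y => Subgroup.map_comap_eq_self_of_surjective hπs Y
    have hMbar : IsCoatom (M.map π) := by
      constructor
      · intro h
        have h1 := hcm M hNM
        rw [h, Subgroup.comap_top] at h1
        exact hMc.1 h1.symm
      · intro Y hY
        have h1 : M ≤ Y.comap π := by
          rw [← hcm M hNM]
          exact Subgroup.comap_mono hY.le
        have h2 : M ≠ Y.comap π := by
          intro h
          apply hY.ne
          rw [← hmc Y, ← h]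
        have h3 : Y.comap π = ⊤ := hMc.2 _ (lt_of_le_of_ne h1 h2)
        rw [← hmc Y, h3, Subgroup.map_top_of_surjective _ hπs]
    refine ⟨?_, M.map π, ⟨hMbar, Subgroup.map_mono hTM⟩, ?_⟩
    · have h1 := Subgroup.map_normalClosure ((T : Subgroup H) : Set H) π hπs
      rw [hcl, Subgroup.map_top_of_surjective _ hπs] at h1
      rw [Subgroup.coe_map]
      exact h1.symm
    · rintro Y ⟨hYc, hTY⟩
      have h1 : (T : Subgroup H) ≤ Y.comap π := by
        intro t ht
        exact hTY ⟨t, ht, rfl⟩
      have h2 : Y.comap π ≠ ⊤ := by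
        intro h
        have := hmc Y
        rw [h, Subgroup.map_top_of_surjective _ hπs] at this
        exact hYc.1 this.symm
      have h3 := hunique _ h1 h2
      have h4 : Y ≤ M.map π := by
        rw [← hmc Y]
        exact Subgroup.map_mono h3
      exact (hYc.le_iff.mp h4).resolve_left hMbar.1 |>.symm


end Cfsg.Agent.S2832
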