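import Cfsg.Statements.S2833
import Cfsg.Agent.Lib.PGroup.Pairing
import Cfsg.Agent.Lib.Amalgam.Embedded2
import Cfsg.Agent.Lib.Amalgam.PClosed

set_option autoImplicit false
open Cfsg Cfsg.Agent.Lib.Amalgam
open scoped commutatorElement

namespace Cfsg.Agent.S2833

/-- Let V be a subgroup of a finite group G normalized by the subgroup L, let X ≤ L and g ∈ L with [V, X, X] = 1 and L generated by X and gXg⁻¹. Put W = [V, L]. Then W = [V, X]·[V, gXg⁻¹], C_W(X) = [V, X], and C_W(L) = [V, X] ∩ [V, gXg⁻¹]. -/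
theorem result {G : Type*} [Group G] [Finite G] (V L : Subgroup G) (hLV : L ≤ Subgroup.normalizer (V : Set G)) (X : Subgroup G) (hX : X ≤ L) (g : G) (hg : g ∈ L) (hq : ⁅⁅V, X⁆, X⁆ = ⊥) (hgen : X ⊔ X.map (MulAut.conj g).toMonoidHom = L) (W : Subgroup G) (hW : W = ⁅V, L⁆) : ⁅V, X⁆ ⊔ ⁅V, X.map (MulAut.conj g).toMonoidHom⁆ = W ∧ W ⊓ Subgroup.centralizer (X : Set G) = ⁅V, X⁆ ∧ W ⊓ Subgroup.centralizer (L : Set G) = ⁅V, X⁆ ⊓ ⁅V, X.map (MulAut.conj g).toMonoidHom⁆ := by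
  subst hW
  set X' : Subgroup G := X.map (MulAut.conj g).toMonoidHom with hX'
  set U₁ : Subgroup G := ⁅V, X⁆ with hU₁
  set U₂ : Subgroup G := ⁅V, X'⁆ with hU₂
  have hgV : V.map (MulAut.conj g).toMonoidHom = V := map_conj_eq_of_mem_normalizer (hLV hg)
  have hU₂eq : U₂ = U₁.map (MulAut.conj g).toMonoidHom := by
    rw [hU₂, hU₁, Subgroup.map_commutator, hgV]
  have hXL : X ≤ L := hX
  have hX'L : X' ≤ L := le_sup_right.trans hgen.le
  have hU₁V : U₁ ≤ V := by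
    rw [hU₁, Subgroup.commutator_le]
    intro v hv x hx
    rw [commutatorElement_def]
    have : v * x * v⁻¹ * x⁻¹ = v * (x * v⁻¹ * x⁻¹) := by group
    rw [this]
    exact V.mul_mem hv ((Subgroup.mem_normalizer_iff.mp (hLV (hXL hx)) v⁻¹).mp (V.inv_mem hv))
  have hU₂V : U₂ ≤ V := by
    rw [hU₂, Subgroup.commutator_le]
    intro v hv x hx
    rw [commutatorElement_def]
    have : v * x * v⁻¹ * x⁻¹ = v * (x * v⁻¹ * x⁻¹) := by group
    rw [this]
    exact V.mul_mem hv ((Subgroup.mem_normalizer_iff.mp (hLV (hX'L hx)) v⁻¹).mp (V.inv_mem hv))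
  -- `X` centralizes `U₁`, `X'` centralizes `U₂`
  have hcX : ∀ u ∈ U₁, ∀ x ∈ X, u * x = x * u := by
    intro u hu x hx
    have h1 : ⁅u, x⁆ ∈ ⁅U₁, X⁆ := Subgroup.commutator_mem_commutator hu hx
    rw [hq] at h1
    exact commutatorElement_eq_one_iff_mul_comm.mp h1
  have hcX' : ∀ u ∈ U₂, ∀ x ∈ X', u * x = x * u := by
    intro u hu x hx
    rw [hU₂eq] at hu
    obtain ⟨u', hu', rfl⟩ := hu
    obtain ⟨x', hx', rfl⟩ := hx
    have := hcX u' hu' x' hx'
    simp only [MulEquiv.coe_toMonoidHom, MulAut.conj_apply]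
    calc g * u' * g⁻¹ * (g * x' * g⁻¹) = g * (u' * x') * g⁻¹ := by group
      _ = g * (x' * u') * g⁻¹ := by rw [this]
      _ = g * x' * g⁻¹ * (g * u' * g⁻¹) := by group
  -- normalization of `Ũ`
  set Ũ : Subgroup G := U₁ ⊔ U₂ with hŨ
  have hcomm_mem₁ : ∀ v ∈ V, ∀ x ∈ X, ⁅v, x⁆ ∈ U₁ := fun v hv x hx =>
    Subgroup.commutator_mem_commutator hv hx
  have hcomm_mem₂ : ∀ v ∈ V, ∀ x ∈ X', ⁅v, x⁆ ∈ U₂ := fun v hv x hx =>
    Subgroup.commutator_mem_commutator hv hx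
  have hconjGen : ∀ (A A' : Subgroup G), A ≤ L → (∀ u ∈ ⁅V, A⁆, ∀ x ∈ A, u * x = x * u) →
      (∀ v ∈ V, ∀ x ∈ A, ⁅v, x⁆ ∈ ⁅V, A⁆) → ⁅V, A'⁆ ≤ V → ∀ x ∈ A, ∀ z ∈ ⁅V, A⁆ ⊔ ⁅V, A'⁆,
      x * z * x⁻¹ ∈ ⁅V, A⁆ ⊔ ⁅V, A'⁆ := by
    intro A A' _ hc hm hA'V x hx z hz
    have hle : ⁅V, A⁆ ⊔ ⁅V, A'⁆ ≤ (⁅V, A⁆ ⊔ ⁅V, A'⁆).comap (MulAut.conj x).toMonoidHom := by
      refine sup_le ?_ ?_
      · intro u hu
        rw [Subgroup.mem_comap]
        show x * u * x⁻¹ ∈ ⁅V, A⁆ ⊔ ⁅V, A'⁆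
        have : x * u * x⁻¹ = u := by rw [← hc u hu x hx]; group
        rw [this]
        exact Subgroup.mem_sup_left hu
      · intro u hu
        rw [Subgroup.mem_comap]
        show x * u * x⁻¹ ∈ ⁅V, A⁆ ⊔ ⁅V, A'⁆
        have huV := hA'V hu
        have e : x * u * x⁻¹ = ⁅u, x⁆⁻¹ * u := by
          rw [commutatorElement_inv, commutatorElement_def]; group
        rw [e]
        exact Subgroup.mul_mem _ (Subgroup.mem_sup_left (Subgroup.inv_mem _ (hm u huV x hx)))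
          (Subgroup.mem_sup_right hu)
    exact hle hz
  have hXŨ : X ≤ Subgroup.normalizer (Ũ : Set G) := by
    intro x hx
    rw [Subgroup.mem_normalizer_iff]
    intro z
    have key := hconjGen X X' hXL hcX hcomm_mem₁ hU₂V
    refine ⟨key x hx z, fun hz => ?_⟩
    have := key x⁻¹ (X.inv_mem hx) _ hz
    simpa [mul_assoc] using this
  have hX'Ũ : X' ≤ Subgroup.normalizer (Ũ : Set G) := by
    intro x hx
    rw [Subgroup.mem_normalizer_iff]
    intro z
    have key := hconjGen X' X hX'L hcX' hcomm_mem₂ hU₁V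
    have hsw : Ũ = ⁅V, X'⁆ ⊔ ⁅V, X⁆ := by rw [hŨ, sup_comm]
    rw [hsw]
    refine ⟨key x hx z, fun hz => ?_⟩
    have := key x⁻¹ (X'.inv_mem hx) _ hz
    simpa [mul_assoc] using this
  have hLŨ : L ≤ Subgroup.normalizer (Ũ : Set G) := by
    rw [← hgen]
    exact sup_le hXŨ hX'Ũ
  -- `[V, L] ≤ Ũ`
  have hWle : ⁅V, L⁆ ≤ Ũ := by
    let S : Subgroup G :=
      { carrier := {l | l ∈ L ∧ ∀ v ∈ V, ⁅v, l⁆ ∈ Ũ}
        mul_mem' := by
          rintro a b ⟨ha, ha'⟩ ⟨hb, hb'⟩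
          refine ⟨L.mul_mem ha hb, fun v hv => ?_⟩
          have e : ⁅v, a * b⁆ = ⁅v, a⁆ * (a * ⁅v, b⁆ * a⁻¹) := by
            simp only [commutatorElement_def]; group
          rw [e]
          exact Ũ.mul_mem (ha' v hv) ((Subgroup.mem_normalizer_iff.mp (hLŨ ha) _).mp (hb' v hv))
        one_mem' := ⟨L.one_mem, fun v _ => by simp⟩
        inv_mem' := by
          rintro a ⟨ha, ha'⟩
          refine ⟨L.inv_mem ha, fun v hv => ?_⟩
          have e : ⁅v, a⁻¹⁆ = a⁻¹ * ⁅v, a⁆⁻¹ * a⁻¹⁻¹ := by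
            simp only [commutatorElement_def]; group
          rw [e]
          exact (Subgroup.mem_normalizer_iff.mp (hLŨ (L.inv_mem ha)) _).mp
            (Ũ.inv_mem (ha' v hv)) }
    have hLS : L ≤ S := by
      rw [← hgen]
      refine sup_le ?_ ?_
      · intro x hx
        exact ⟨hXL hx, fun v hv => Subgroup.mem_sup_left (hcomm_mem₁ v hv x hx)⟩
      · intro x hx
        exact ⟨hX'L hx, fun v hv => Subgroup.mem_sup_right (hcomm_mem₂ v hv x hx)⟩
    rw [Subgroup.commutator_le]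
    intro v hv l hl
    exact (hLS hl).2 v hv
  have hU₁W : U₁ ≤ ⁅V, L⁆ := Subgroup.commutator_mono le_rfl hXL
  have hU₂W : U₂ ≤ ⁅V, L⁆ := Subgroup.commutator_mono le_rfl hX'L
  have h1 : Ũ = ⁅V, L⁆ := le_antisymm (sup_le hU₁W hU₂W) hWle
  -- central elements of `L`
  have hcentL : ∀ u : G, (∀ x ∈ X, x * u = u * x) → (∀ x ∈ X', x * u = u * x) →
      u ∈ Subgroup.centralizer (L : Set G) := by
    intro u h₁ h₂
    have : L ≤ Subgroup.centralizer ({u} : Set G) := by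
      rw [← hgen]
      refine sup_le ?_ ?_
      · intro x hx
        rw [Subgroup.mem_centralizer_iff]
        rintro y hy
        rw [Set.mem_singleton_iff] at hy
        rw [hy]
        exact (h₁ x hx).symm
      · intro x hx
        rw [Subgroup.mem_centralizer_iff]
        rintro y hy
        rw [Set.mem_singleton_iff] at hy
        rw [hy]
        exact (h₂ x hx).symm
    rw [Subgroup.mem_centralizer_iff]
    intro l hl
    have := Subgroup.mem_centralizer_iff.mp (this hl) u rfl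
    exact this.symm
  have h2 : ⁅V, L⁆ ⊓ Subgroup.centralizer (X : Set G) = U₁ := by
    apply le_antisymm
    · rintro w ⟨hw, hwc⟩
      rw [← h1] at hw
      have hJ : U₂ ≤ Subgroup.normalizer (U₁ : Set G) :=
        hU₂V.trans (Cfsg.Agent.Lib.PGroup.le_normalizer_commutator_left V X)
      obtain ⟨u₁, hu₁, u₂, hu₂, rfl⟩ := Cfsg.Agent.Lib.FF.exists_mul_of_mem_sup hJ hw
      have hu₂X : ∀ x ∈ X, x * u₂ = u₂ * x := by
        intro x hx
        have h3 := Subgroup.mem_centralizer_iff.mp hwc x hx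
        have h4 := hcX u₁ hu₁ x hx
        have h5 : u₁ * (x * u₂) = u₁ * (u₂ * x) := by
          calc u₁ * (x * u₂) = (u₁ * x) * u₂ := by group
            _ = (x * u₁) * u₂ := by rw [h4]
            _ = x * (u₁ * u₂) := by group
            _ = (u₁ * u₂) * x := h3
            _ = u₁ * (u₂ * x) := by group
        exact mul_left_cancel h5
      have hu₂L := hcentL u₂ hu₂X (fun x hx => (hcX' u₂ hu₂ x hx).symm)
      have hu₂U₁ : u₂ ∈ U₁ := by
        rw [hU₂eq] at hu₂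
        obtain ⟨u', hu', hu'e⟩ := hu₂
        have h6 := Subgroup.mem_centralizer_iff.mp hu₂L g hg
        have h7 : u' = u₂ := by
          simp only [MulEquiv.coe_toMonoidHom, MulAut.conj_apply] at hu'e
          calc u' = g⁻¹ * (g * u' * g⁻¹) * g := by group
            _ = g⁻¹ * u₂ * g := by rw [hu'e]
            _ = g⁻¹ * (g * u₂) := by rw [mul_assoc, ← h6]
            _ = u₂ := by group
        rw [← h7]; exact hu'
      exact U₁.mul_mem hu₁ hu₂U₁
    · intro u hu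
      exact ⟨hU₁W hu, Subgroup.mem_centralizer_iff.mpr fun x hx => (hcX u hu x hx).symm⟩
  refine ⟨h1, h2, ?_⟩
  apply le_antisymm
  · rintro w ⟨hw, hwc⟩
    have hwX : w ∈ Subgroup.centralizer (X : Set G) := by
      rw [Subgroup.mem_centralizer_iff]
      intro x hx
      exact Subgroup.mem_centralizer_iff.mp hwc x (hXL hx)
    have hwU₁ : w ∈ U₁ := by
      rw [← h2]
      exact ⟨hw, hwX⟩
    refine ⟨hwU₁, ?_⟩
    rw [hU₂eq]
    refine ⟨w, hwU₁, ?_⟩
    have := Subgroup.mem_centralizer_iff.mp hwc g hg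
    simp only [MulEquiv.coe_toMonoidHom, MulAut.conj_apply]
    rw [this]; group
  · rintro u ⟨hu₁, hu₂⟩
    refine ⟨hU₁W hu₁, hcentL u (fun x hx => (hcX u hu₁ x hx).symm)
      (fun x hx => (hcX' u hu₂ x hx).symm)⟩


end Cfsg.Agent.S2833
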