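import Cfsg.Statements.S2835
import Cfsg.Agent.Lib.Amalgam.Embedded2
import Cfsg.Agent.Lib.Amalgam.PClosed

set_option autoImplicit false
open Cfsg Cfsg.Agent.Lib.Amalgam
open scoped commutatorElement

namespace Cfsg.Agent.S2835

/-- Let L be a finite group, L₀ a maximal subgroup, T a Sylow p-subgroup of L₀ and Y ≤ T, and suppose L is Y-minimal (generated by the conjugates of Y, with Y in exactly one maximal subgroup, necessarily L₀). Then N_L(T) ≤ L₀, O_p(L) ≤ L₀ and T is a Sylow p-subgroup of L; N_L(L₀) = L₀; L = ⟨Y, gYg⁻¹⟩ for each g ∈ L outside L₀; and if Y is abelian then Y ∩ gYg⁻¹ = C_Y(L) for each such g. -/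
theorem result {L : Type*} [Group L] [Finite L] {p : ℕ} [Fact p.Prime] (L₀ : Subgroup L) (hL₀ : IsCoatom L₀) (T : Sylow p ↥L₀) (Y : Subgroup L) (hYT : Y ≤ (T : Subgroup ↥L₀).map L₀.subtype) (hmin : Cfsg.IsMinimalOver Y) : Subgroup.normalizer (((T : Subgroup ↥L₀).map L₀.subtype : Subgroup L) : Set L) ≤ L₀ ∧ Cfsg.pCore p L ≤ L₀ ∧ (∃ P : Sylow p L, (P : Subgroup L) = (T : Subgroup ↥L₀).map L₀.subtype) ∧ Subgroup.normalizer (L₀ : Set L) = L₀ ∧ (∀ g : L, g ∉ L₀ → Y ⊔ Y.map (MulAut.conj g).toMonoidHom = ⊤) ∧ (IsMulCommutative ↥Y → ∀ g : L, g ∉ L₀ → Y ⊓ Y.map (MulAut.conj g).toMonoidHom = Y ⊓ Subgroup.center L) := by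
  set T' : Subgroup L := (T : Subgroup ↥L₀).map L₀.subtype with hT'
  have hT'L₀ : T' ≤ L₀ := by
    rintro _ ⟨x, _, rfl⟩
    exact x.2
  have hT'p : IsPGroup p T' := T.isPGroup'.map L₀.subtype
  have hYp : IsPGroup p Y := hT'p.to_le hYT
  obtain ⟨hcl, M, ⟨hMc, hYM⟩, hMu⟩ := hmin
  have hML₀ : L₀ = M := hMu L₀ ⟨hL₀, hYT.trans hT'L₀⟩
  subst hML₀
  have hunique : ∀ X : Subgroup L, Y ≤ X → X ≠ ⊤ → X ≤ L₀ := by
    intro X hYX hX
    obtain h | ⟨b, hb, hXb⟩ := eq_top_or_exists_le_coatom X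
    · exact absurd h hX
    · rw [← hMu b ⟨hb, hYX.trans hXb⟩]
      exact hXb
  have hnormal : ∀ X : Subgroup L, X.Normal → Y ≤ X → X = ⊤ := by
    intro X hX hYX
    have : Subgroup.normalClosure (Y : Set L) ≤ X := Subgroup.normalClosure_le_normal hYX
    rw [hcl] at this
    exact top_le_iff.mp this
  have hL₀ne : L₀ ≠ ⊤ := hL₀.1
  have ha : Subgroup.normalizer (T' : Set L) ≤ L₀ := by
    apply hunique _ (hYT.trans Subgroup.le_normalizer)
    intro h
    have hn : T'.Normal := Subgroup.normalizer_eq_top_iff.mp h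
    have := hnormal T' hn hYT
    exact hL₀ne (top_le_iff.mp (this ▸ hT'L₀))
  have hd : Subgroup.normalizer (L₀ : Set L) = L₀ := by
    apply le_antisymm _ Subgroup.le_normalizer
    by_contra hcon
    have hlt : L₀ < Subgroup.normalizer (L₀ : Set L) :=
      lt_of_le_of_ne Subgroup.le_normalizer (fun h => hcon h.ge)
    have htop := hL₀.2 _ hlt
    have hn : L₀.Normal := Subgroup.normalizer_eq_top_iff.mp htop
    exact hL₀ne (hnormal L₀ hn (hYT.trans hT'L₀))
  have hb : Cfsg.pCore p L ≤ L₀ := by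
    refine le_sup_right.trans (hunique (Y ⊔ Cfsg.pCore p L) le_sup_left ?_)
    intro htop
    have hpg : IsPGroup p ↥(Y ⊔ Cfsg.pCore p L) :=
      hYp.to_sup_of_normal_right (Cfsg.Agent.Lib.Core.pCore_isPGroup p L)
    rw [htop] at hpg
    have hLp : IsPGroup p L := by
      intro g
      obtain ⟨k, hk⟩ := hpg ⟨g, Subgroup.mem_top g⟩
      exact ⟨k, by simpa using congrArg Subtype.val hk⟩
    haveI : Group.IsNilpotent L := hLp.isNilpotent
    have hcond : NormalizerCondition L := Group.normalizerCondition_of_isNilpotent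
    have hlt := hcond L₀ (lt_top_iff_ne_top.mpr hL₀ne)
    rw [hd] at hlt
    exact lt_irrefl _ hlt
  have hc : ∃ P : Sylow p L, (P : Subgroup L) = T' := by
    obtain ⟨P, hP⟩ := hT'p.exists_le_sylow
    refine ⟨P, ?_⟩
    apply le_antisymm _ hP
    by_contra hcon
    have hlt : T' < P := lt_of_le_of_ne hP (fun h => hcon h.ge)
    obtain ⟨x, hxP, hxT, hxN⟩ := Cfsg.Agent.Lib.FF.exists_mem_normalizer_of_lt P.isPGroup' hlt
    have hxL₀ := ha hxN
    have hmax : ((P : Subgroup L) ⊓ L₀).subgroupOf L₀ = (T : Subgroup ↥L₀) := by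
      apply T.is_maximal'
      · exact (P.isPGroup'.to_le inf_le_left).comap_of_injective L₀.subtype L₀.subtype_injective
      · intro t ht
        rw [Subgroup.mem_subgroupOf]
        exact ⟨hP ⟨t, ht, rfl⟩, t.2⟩
    apply hxT
    have h1 : (⟨x, hxL₀⟩ : L₀) ∈ ((P : Subgroup L) ⊓ L₀).subgroupOf L₀ := by
      rw [Subgroup.mem_subgroupOf]
      exact ⟨hxP, hxL₀⟩
    rw [hmax] at h1
    exact ⟨_, h1, rfl⟩
  have he : ∀ g : L, g ∉ L₀ → Y ⊔ Y.map (MulAut.conj g).toMonoidHom = ⊤ := by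
    intro g hg
    by_contra hcon
    have hJ := hunique _ le_sup_left hcon
    set M' : Subgroup L := L₀.map (MulAut.conj g⁻¹).toMonoidHom with hM'
    have hM'c : IsCoatom M' :=
      (OrderIso.isCoatom_iff (MulEquiv.mapSubgroup (MulAut.conj g⁻¹)) L₀).mpr hL₀
    have hYM' : Y ≤ M' := by
      intro y hy
      have h1 : g * y * g⁻¹ ∈ L₀ := hJ (Subgroup.mem_sup_right ⟨y, hy, rfl⟩)
      refine ⟨_, h1, ?_⟩
      simp [MulAut.conj_apply]
      group
    have hEq : M' = L₀ := hMu M' ⟨hM'c, hYM'⟩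
    have hgi : g⁻¹ ∈ Subgroup.normalizer (L₀ : Set L) :=
      mem_normalizer_of_map_conj_eq hEq
    rw [hd] at hgi
    exact hg (by simpa using L₀.inv_mem hgi)
  refine ⟨ha, hb, hc, hd, he, ?_⟩
  intro hab g hg
  apply le_antisymm
  · rintro u ⟨huY, huY'⟩
    refine ⟨huY, ?_⟩
    show u ∈ Subgroup.center L
    rw [Subgroup.mem_center_iff]
    have hcu : Y ⊔ Y.map (MulAut.conj g).toMonoidHom ≤ Subgroup.centralizer ({u} : Set L) := by
      refine sup_le ?_ ?_
      · intro y hy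
        rw [Subgroup.mem_centralizer_iff]
        intro v hv
        rw [Set.mem_singleton_iff] at hv
        rw [hv]
        have := hab.is_comm.comm (⟨u, huY⟩ : Y) ⟨y, hy⟩
        exact congrArg Subtype.val this
      · rintro _ ⟨y, hy, rfl⟩
        rw [Subgroup.mem_centralizer_iff]
        intro v hv
        rw [Set.mem_singleton_iff] at hv
        rw [hv]
        obtain ⟨w, hw, hwu⟩ := huY'
        simp only [MulEquiv.coe_toMonoidHom, MulAut.conj_apply] at hwu ⊢
        have := hab.is_comm.comm (⟨w, hw⟩ : Y) ⟨y, hy⟩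
        have h2 : w * y = y * w := congrArg Subtype.val this
        rw [← hwu]
        calc g * w * g⁻¹ * (g * y * g⁻¹) = g * (w * y) * g⁻¹ := by group
          _ = g * (y * w) * g⁻¹ := by rw [h2]
          _ = g * y * g⁻¹ * (g * w * g⁻¹) := by group
    intro x
    rw [he g hg] at hcu
    have := Subgroup.mem_centralizer_iff.mp (hcu (Subgroup.mem_top x)) u rfl
    exact this.symm
  · rintro z ⟨hzY, hzc⟩
    refine ⟨hzY, ⟨z, hzY, ?_⟩⟩
    simp only [MulEquiv.coe_toMonoidHom, MulAut.conj_apply]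
    have := Subgroup.mem_center_iff.mp (show z ∈ Subgroup.center L from hzc) g
    rw [this]; group


end Cfsg.Agent.S2835
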