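import Cfsg.Statements.S2836
import Cfsg.Agent.Lib.Amalgam.PClosed
import Cfsg.Agent.Lib.Amalgam.PMinimal3

set_option autoImplicit false
open Cfsg Cfsg.Agent.Lib.Amalgam Cfsg.Agent.Lib.FF
open scoped commutatorElement

namespace Cfsg.Agent.S2836

/-- Let L be a finite group, L₀ a maximal subgroup, T a Sylow p-subgroup of L₀, Y ≤ T, and suppose L is Y-minimal. Let D be the intersection of the conjugates of L₀ (the core of L₀). Then D contains O_p(L) and D/O_p(L) is the Frattini subgroup of L/O_p(L), so D is p-closed; and every normal subgroup N of L contained in L₀ is p-closed with N/O_p(N) a nilpotent group of order prime to p. -/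
theorem result {L : Type*} [Group L] [Finite L] {p : ℕ} [Fact p.Prime] (L₀ : Subgroup L) (hL₀ : IsCoatom L₀) (T : Sylow p ↥L₀) (Y : Subgroup L) (hYT : Y ≤ (T : Subgroup ↥L₀).map L₀.subtype) (hmin : Cfsg.IsMinimalOver Y) : (Cfsg.pCore p L ≤ L₀.normalCore ∧ (L₀.normalCore).map (QuotientGroup.mk' (Cfsg.pCore p L)) = frattini (L ⧸ Cfsg.pCore p L) ∧ Cfsg.IsPClosed p ↥(L₀.normalCore)) ∧ ∀ (N : Subgroup L) [N.Normal], N ≤ L₀ → Cfsg.IsPClosed p ↥N ∧ Group.IsNilpotent (↥N ⧸ Cfsg.pCore p ↥N) ∧ (Nat.card (↥N ⧸ Cfsg.pCore p ↥N)).Coprime p := by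
  classical
  set P₀ : Subgroup L := (T : Subgroup ↥L₀).map L₀.subtype with hP₀
  have hP₀syl : IsSylowIn p P₀ L₀ := isSylowIn_of_sylow T
  obtain ⟨hgen, M', ⟨hM', hYM'⟩, huniq⟩ := hmin
  have hYL₀ : Y ≤ L₀ := hYT.trans hP₀syl.le
  have hYp : IsPGroup p Y := hP₀syl.isPGroup.to_le hYT
  have huL : ∀ X : Subgroup L, IsCoatom X → Y ≤ X → X = L₀ := by
    intro X hX hYX
    rw [huniq X ⟨hX, hYX⟩, ← huniq L₀ ⟨hL₀, hYL₀⟩]
  have hX : ∀ X : Subgroup L, Y ≤ X → X ≤ L₀ ∨ X = ⊤ := by
    intro X hYX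
    rcases eq_top_or_exists_le_coatom X with h | ⟨N, hN, hXN⟩
    · exact Or.inr h
    · left
      rw [← huL N hN (hYX.trans hXN)]
      exact hXN
  set O := Cfsg.pCore p L with hO
  haveI hOn : O.Normal := inferInstance
  have hOp : IsPGroup p O := Cfsg.Agent.Lib.Core.pCore_isPGroup p L
  set D := L₀.normalCore with hD
  have hDL₀ : D ≤ L₀ := Subgroup.normalCore_le L₀
  -- `O_p(L) ≤ L₀`
  have hOL₀ : O ≤ L₀ := by
    by_contra hOL
    have h1 : Y ⊔ O = ⊤ := by
      rcases hX _ (le_sup_left : Y ≤ Y ⊔ O) with h | h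
      · exact absurd (le_sup_right.trans h) hOL
      · exact h
    have h2 : IsPGroup p (Y ⊔ O : Subgroup L) := hYp.to_sup_of_normal_right hOp
    rw [h1] at h2
    have hLp : IsPGroup p L := fun g => by
      obtain ⟨k, hk⟩ := h2 ⟨g, Subgroup.mem_top g⟩
      exact ⟨k, congrArg Subtype.val hk⟩
    haveI := hLp.isNilpotent
    have hn : L₀.Normal := (Subgroup.NormalizerCondition.normal_of_coatom L₀ (Group.normalizerCondition_of_isNilpotent (G := L)) hL₀)
    have h3 : Subgroup.normalClosure (Y : Set L) ≤ L₀ := Subgroup.normalClosure_le_normal hYL₀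
    rw [hgen] at h3
    exact hL₀.1 (top_le_iff.mp h3)
  have hOD : O ≤ D := Subgroup.normal_le_normalCore.mpr hOL₀
  have hDn : L₀ ≤ Subgroup.normalizer (D : Set L) := by
    rw [Subgroup.normalizer_eq_top_iff.mpr inferInstance]; exact le_top
  -- the Sylow subgroup of `D`
  have hQ : IsSylowIn p (P₀ ⊓ D) D := hP₀syl.inf_normal hDL₀ hDn
  have hYQ : Y ≤ Subgroup.normalizer ((P₀ ⊓ D : Subgroup L) : Set L) :=
    le_normalizer_inf (hYT.trans Subgroup.le_normalizer) (by
      rw [Subgroup.normalizer_eq_top_iff.mpr inferInstance]; exact le_top)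
  have hNQ : Subgroup.normalizer ((P₀ ⊓ D : Subgroup L) : Set L) = ⊤ := by
    rcases hX _ hYQ with h | h
    · exfalso
      apply hL₀.1
      rw [eq_top_iff]
      intro g _
      obtain ⟨a, ha, c, hc, rfl⟩ := frattini_factor (M := ⊤) (C := D) (by
        rw [Subgroup.normalizer_eq_top_iff.mpr inferInstance]) le_top hQ (Subgroup.mem_top g)
      exact L₀.mul_mem (h ha.2) (hDL₀ hc)
    · exact h
  have hQO : P₀ ⊓ D ≤ O :=
    Cfsg.Agent.Lib.Core.le_pCore (Subgroup.normalizer_eq_top_iff.mp hNQ) hQ.isPGroup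
  have hQeq : P₀ ⊓ D = O := hQ.eq_of_le hOp hOD hQO
  have hOsyl : IsSylowIn p O D := hQeq ▸ hQ
  have hDclosed : Cfsg.IsPClosed p ↥D := by
    apply isPClosed_of_normal_sylow hOsyl.toSylow
    exact Subgroup.Normal.subgroupOf hOn D
  set π := QuotientGroup.mk' O with hπ
  have hπs : Function.Surjective π := QuotientGroup.mk'_surjective O
  have hker : ∀ x : L, π x = 1 ↔ x ∈ O := fun x => QuotientGroup.eq_one_iff x
  -- coatoms and the quotient
  have hcomapco : ∀ Mb : Subgroup (L ⧸ O), IsCoatom Mb → IsCoatom (Mb.comap π) := by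
    intro Mb hMb
    refine ⟨fun h => hMb.1 ?_, fun b hb => ?_⟩
    · rw [eq_top_iff]
      intro q _
      obtain ⟨g, rfl⟩ := hπs q
      have : g ∈ Mb.comap π := by rw [h]; trivial
      exact this
    · have hlt : Mb < b.map π := by
        refine lt_of_le_of_ne ?_ ?_
        · have := Subgroup.map_mono (f := π) hb.le
          rwa [Subgroup.map_comap_eq_self_of_surjective hπs] at this
        · intro he
          apply not_le_of_gt hb
          intro x hx
          show π x ∈ Mb
          rw [he]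
          exact ⟨x, hx, rfl⟩
      have h1 := hMb.2 _ hlt
      rw [eq_top_iff]
      intro g _
      have h2 : π g ∈ b.map π := by rw [h1]; trivial
      obtain ⟨b', hb', hb'g⟩ := h2
      have h3 : b'⁻¹ * g ∈ O := by
        rw [← QuotientGroup.eq]
        exact hb'g
      have h4 : O ≤ b := by
        intro o ho
        apply hb.le
        show π o ∈ Mb
        rw [(hker o).mpr ho]
        exact Mb.one_mem
      have h5 : g = b' * (b'⁻¹ * g) := by group
      rw [h5]
      exact b.mul_mem hb' (h4 h3)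
  have hmapco : ∀ X : Subgroup L, IsCoatom X → O ≤ X → IsCoatom (X.map π) := by
    intro X hXc hOX
    have hcomap : ∀ K : Subgroup L, O ≤ K → (K.map π).comap π = K := by
      intro K hK
      rw [Subgroup.comap_map_eq, sup_eq_left]
      rw [hπ, QuotientGroup.ker_mk']
      exact hK
    refine ⟨fun h => hXc.1 ?_, fun b hb => ?_⟩
    · rw [← hcomap X hOX, h, Subgroup.comap_top]
    · have hlt : X < b.comap π := by
        refine lt_of_le_of_ne ?_ ?_
        · rw [← Subgroup.map_le_iff_le_comap]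
          exact hb.le
        · intro he
          apply not_le_of_gt hb
          rw [he, Subgroup.map_comap_eq_self_of_surjective hπs]
      have h1 := hXc.2 _ hlt
      rw [eq_top_iff]
      intro q _
      obtain ⟨g, rfl⟩ := hπs q
      have : g ∈ b.comap π := by rw [h1]; trivial
      exact this
  have hconjco : ∀ (X : Subgroup L) (g : L), IsCoatom X → IsCoatom (X.map (MulAut.conj g).toMonoidHom) :=
    fun X g hXc => (OrderIso.isCoatom_iff (MulAut.conj g).mapSubgroup X).mpr hXc
  -- `D` lies in each maximal subgroup containing `O`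
  have hDX : ∀ X : Subgroup L, IsCoatom X → O ≤ X → D ≤ X := by
    intro X hXc hOX
    by_contra hDX
    have hsup : X ⊔ D = ⊤ := hXc.2 _ (lt_of_le_of_ne le_sup_left (fun h => hDX (by
      rw [h]; exact le_sup_right)))
    have hidx : ¬ p ∣ X.index := by
      have h1 := relIndex_sup_eq' X D
      rw [hsup, Subgroup.relIndex_top_right, ← Subgroup.inf_relIndex_right] at h1
      rw [h1]
      intro hd
      exact hOsyl.not_dvd (hd.trans (Subgroup.relIndex_dvd_of_le_left D (le_inf hOX hOD)))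
    obtain ⟨S₁, hS₁⟩ := exists_isSylowIn (p := p) X
    have hS₁top : IsSylowIn p S₁ ⊤ := by
      refine ⟨le_top, hS₁.isPGroup, ?_⟩
      rw [Subgroup.relIndex_top_right, ← Subgroup.relIndex_mul_index hS₁.le]
      intro hd
      rcases (Nat.Prime.dvd_mul Fact.out).mp hd with h | h
      · exact hS₁.not_dvd h
      · exact hidx h
    obtain ⟨V, hYV, hV⟩ := exists_isSylowIn_of_le hYp (le_top : Y ≤ ⊤)
    obtain ⟨l, -, hl⟩ := hS₁top.exists_conj hV
    have hYXl : Y ≤ X.map (MulAut.conj l).toMonoidHom := by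
      refine hYV.trans ?_
      rw [← hl]
      exact Subgroup.map_mono hS₁.le
    have hXl := huL _ (hconjco X l hXc) hYXl
    apply hDX
    intro d hd
    have h1 : l * d * l⁻¹ ∈ D := (inferInstance : D.Normal).conj_mem d hd l
    have h2 : l * d * l⁻¹ ∈ X.map (MulAut.conj l).toMonoidHom := by
      rw [hXl]; exact hDL₀ h1
    obtain ⟨x, hx, hxe⟩ := h2
    have h3 : x = d := by
      have : l * x * l⁻¹ = l * d * l⁻¹ := hxe
      simpa using this
    rwa [← h3]
  have hfratt : D.map π = frattini (L ⧸ O) := by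
    apply le_antisymm
    · rw [Subgroup.map_le_iff_le_comap]
      intro d hd
      show π d ∈ frattini (L ⧸ O)
      rw [Cfsg.Agent.Lib.Core.mem_frattini_iff]
      intro Mb hMb
      have h1 : O ≤ Mb.comap π := by
        intro o ho
        show π o ∈ Mb
        rw [(hker o).mpr ho]
        exact Mb.one_mem
      exact hDX _ (hcomapco Mb hMb) h1 hd
    · intro q hq
      obtain ⟨x, rfl⟩ := hπs q
      refine ⟨x, ?_, rfl⟩
      show ∀ b : L, b * x * b⁻¹ ∈ L₀
      intro b
      have h1 : L₀.map (MulAut.conj b⁻¹).toMonoidHom ≥ O := by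
        intro o ho
        refine ⟨b * o * b⁻¹, hOL₀ (hOn.conj_mem o ho b), ?_⟩
        show b⁻¹ * (b * o * b⁻¹) * b⁻¹⁻¹ = o
        group
      have h2 := hmapco _ (hconjco L₀ b⁻¹ hL₀) h1
      have h3 := (Cfsg.Agent.Lib.Core.mem_frattini_iff.mp hq) _ h2
      obtain ⟨y, ⟨z, hz, rfl⟩, hy⟩ := h3
      have h4 : ((MulAut.conj b⁻¹).toMonoidHom z)⁻¹ * x ∈ O := by
        rw [← QuotientGroup.eq]
        exact hy
      have h5 : x = (MulAut.conj b⁻¹).toMonoidHom z * (((MulAut.conj b⁻¹).toMonoidHom z)⁻¹ * x) := by group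
      have h6 : b * x * b⁻¹ = z * (b * (((MulAut.conj b⁻¹).toMonoidHom z)⁻¹ * x) * b⁻¹) := by
        conv_lhs => rw [h5]
        show b * ((b⁻¹ * z * b⁻¹⁻¹) * (((MulAut.conj b⁻¹).toMonoidHom z)⁻¹ * x)) * b⁻¹ = _
        group
      rw [h6]
      exact L₀.mul_mem hz (hOL₀ (hOn.conj_mem _ h4 b))
  refine ⟨⟨hOD, hfratt, hDclosed⟩, ?_⟩
  intro N hNn hNL₀
  have hND : N ≤ D := Subgroup.normal_le_normalCore.mpr hNL₀
  have hDN : D ≤ Subgroup.normalizer (N : Set L) := by
    rw [Subgroup.normalizer_eq_top_iff.mpr hNn]; exact le_top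
  have hNsyl : IsSylowIn p (O ⊓ N) N := hOsyl.inf_normal hND hDN
  have hcore : Cfsg.pCore p ↥N = (O ⊓ N).subgroupOf N := by
    have h1 := Cfsg.Agent.Lib.Core.map_pCore_of_normal (p := p) N
    have h2 : Cfsg.pCore p ↥N = ((Cfsg.pCore p ↥N).map N.subtype).comap N.subtype :=
      (Subgroup.comap_map_eq_self_of_injective N.subtype_injective _).symm
    rw [h2, h1, inf_comm]
    rfl
  refine ⟨?_, ?_, ?_⟩
  · apply isPClosed_of_normal_sylow hNsyl.toSylow
    exact Subgroup.Normal.subgroupOf inferInstance N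
  · have hf : ∀ n : N, π (n : L) ∈ frattini (L ⧸ O) := fun n => by
      rw [← hfratt]
      exact ⟨n, hND n.2, rfl⟩
    let f' : N →* frattini (L ⧸ O) := (π.comp N.subtype).codRestrict _ hf
    have hf' : ∀ x ∈ Cfsg.pCore p ↥N, f' x = 1 := by
      intro x hx
      rw [hcore, Subgroup.mem_subgroupOf] at hx
      apply Subtype.ext
      exact (hker _).mpr hx.1
    let g : ↥N ⧸ Cfsg.pCore p ↥N →* frattini (L ⧸ O) := QuotientGroup.lift (Cfsg.pCore p ↥N) f' hf'
    have hinj : Function.Injective g := by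
      rw [injective_iff_map_eq_one]
      intro a ha
      obtain ⟨x, rfl⟩ := QuotientGroup.mk_surjective a
      have h1 : f' x = 1 := ha
      have h2 : π (x : L) = 1 := congrArg Subtype.val h1
      rw [QuotientGroup.eq_one_iff, hcore, Subgroup.mem_subgroupOf]
      exact ⟨(hker _).mp h2, x.2⟩
    haveI : Group.IsNilpotent (frattini (L ⧸ O)) := frattini_nilpotent
    exact Cfsg.Agent.Lib.Core.isNilpotent_of_injective g hinj
  · rw [← Subgroup.index_eq_card, hcore]
    exact ((Nat.Prime.coprime_iff_not_dvd Fact.out).mpr hNsyl.not_dvd).symm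

end Cfsg.Agent.S2836
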