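import Cfsg.Statements.S2837
import Cfsg.Agent.Lib.FF.Basic
import Cfsg.Agent.Lib.Transfer.Frat
import Cfsg.Agent.Lib.Amalgam.NormMap
import Cfsg.Agent.Lib.Amalgam.Asym
import Cfsg.Agent.Lib.Amalgam.PMinimal3
import Cfsg.Agent.Lib.Amalgam.PClosed

set_option autoImplicit false
open Cfsg Cfsg.Agent.Lib.Amalgam Cfsg.Agent.Lib.FF
open scoped commutatorElement

namespace Cfsg.Agent.S2837

/-- Let L be a finite group of characteristic p, L₀ a maximal subgroup, Y an elementary abelian p-subgroup of L₀ with L Y-minimal and O_p(L) ≤ N_L(Y). Put A = the normal closure of O_p(L) ∩ Y in L. Then for every g ∈ L outside L₀: Φ(A) = A' = [A ∩ Y, A] = [A ∩ Y, A ∩ gYg⁻¹] ≤ C_Y(L), and Y ∩ gYg⁻¹ = (A ∩ Y) ∩ (A ∩ gYg⁻¹) = C_Y(L) = C_A(L). -/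
theorem result {L : Type*} [Group L] [Finite L] {p : ℕ} [Fact p.Prime] (hchar : Subgroup.centralizer (Cfsg.pCore p L : Set L) ≤ Cfsg.pCore p L) (L₀ : Subgroup L) (hL₀ : IsCoatom L₀) (Y : Subgroup L) (hYL₀ : Y ≤ L₀) (hYel : Cfsg.IsElementaryAbelian p Y) (hmin : Cfsg.IsMinimalOver Y) (hOY : Cfsg.pCore p L ≤ Subgroup.normalizer (Y : Set L)) (A : Subgroup L) (hA : A = Subgroup.normalClosure (((Cfsg.pCore p L ⊓ Y : Subgroup L)) : Set L)) (g : L) (hg : g ∉ L₀) : (frattini ↥A).map A.subtype = ⁅A, A⁆ ∧ ⁅A, A⁆ = ⁅A ⊓ Y, A⁆ ∧ ⁅A ⊓ Y, A⁆ = ⁅A ⊓ Y, A ⊓ Y.map (MulAut.conj g).toMonoidHom⁆ ∧ ⁅A ⊓ Y, A⁆ ≤ Y ⊓ Subgroup.center L ∧ Y ⊓ Y.map (MulAut.conj g).toMonoidHom = Y ⊓ Subgroup.center L ∧ (A ⊓ Y) ⊓ (A ⊓ Y.map (MulAut.conj g).toMonoidHom) = Y ⊓ Subgroup.center L ∧ A ⊓ Subgroup.center L = Y ⊓ Subgroup.center L := by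
  classical
  obtain ⟨hgen, M', ⟨hM', hYM'⟩, huniq⟩ := hmin
  have huL : ∀ X : Subgroup L, IsCoatom X → Y ≤ X → X = L₀ := by
    intro X hX hYX
    rw [huniq X ⟨hX, hYX⟩, ← huniq L₀ ⟨hL₀, hYL₀⟩]
  have hX : ∀ X : Subgroup L, Y ≤ X → X ≤ L₀ ∨ X = ⊤ := by
    intro X hYX
    rcases eq_top_or_exists_le_coatom X with h | ⟨N, hN, hXN⟩
    · exact Or.inr h
    · left
      rw [← huL N hN (hYX.trans hXN)]
      exact hXN
  set Q := Cfsg.pCore p L with hQ
  haveI hQn : Q.Normal := inferInstance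
  have hQp : IsPGroup p Q := Cfsg.Agent.Lib.Core.pCore_isPGroup p L
  set Yg := Y.map (MulAut.conj g).toMonoidHom with hYg
  have hmemYg : ∀ x, x ∈ Yg ↔ g⁻¹ * x * g ∈ Y := by
    intro x
    constructor
    · rintro ⟨y, hy, rfl⟩
      have : g⁻¹ * ((MulAut.conj g).toMonoidHom y) * g = y := by
        show g⁻¹ * (g * y * g⁻¹) * g = y
        group
      rw [this]; exact hy
    · intro h
      exact ⟨_, h, by show g * (g⁻¹ * x * g) * g⁻¹ = x; group⟩
  have hYab : ∀ x ∈ Y, ∀ y ∈ Y, x * y = y * x := by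
    intro x hx y hy
    haveI := hYel.1
    have := mul_comm' (⟨x, hx⟩ : Y) ⟨y, hy⟩
    exact congrArg Subtype.val this
  have hYgab : ∀ x ∈ Yg, ∀ y ∈ Yg, x * y = y * x := by
    intro x hx y hy
    have h := hYab _ ((hmemYg x).mp hx) _ ((hmemYg y).mp hy)
    have h2 : g⁻¹ * (x * y) * g = g⁻¹ * (y * x) * g := by
      calc g⁻¹ * (x * y) * g = (g⁻¹ * x * g) * (g⁻¹ * y * g) := by group
        _ = (g⁻¹ * y * g) * (g⁻¹ * x * g) := h
        _ = g⁻¹ * (y * x) * g := by group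
    simpa using h2
  have hYpow : ∀ x ∈ Y, x ^ p = 1 := hYel.2
  have hYgpow : ∀ x ∈ Yg, x ^ p = 1 := by
    intro x hx
    have h := hYpow _ ((hmemYg x).mp hx)
    have h2 : g⁻¹ * x ^ p * g = 1 := by
      rw [← h]
      have := conj_pow (a := g⁻¹) (b := x) (i := p)
      simpa using this.symm
    have h3 : x ^ p = g * 1 * g⁻¹ := by
      rw [← h2]; group
    simpa using h3
  -- `L₀` is self-normalizing
  have hL₀n : Subgroup.normalizer (L₀ : Set L) = L₀ := by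
    rcases hL₀.le_iff.mp (Subgroup.le_normalizer (H := L₀)) with h | h
    · exfalso
      haveI : L₀.Normal := Subgroup.normalizer_eq_top_iff.mp h
      have h3 : Subgroup.normalClosure (Y : Set L) ≤ L₀ := Subgroup.normalClosure_le_normal hYL₀
      rw [hgen] at h3
      exact hL₀.1 (top_le_iff.mp h3)
    · exact h
  -- `Y^g ≰ L₀`
  have hYgL₀ : ¬ Yg ≤ L₀ := by
    intro hle
    have hcoat : IsCoatom (L₀.map (MulAut.conj g⁻¹).toMonoidHom) := by
      refine ⟨?_, ?_⟩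
      · intro ht
        apply hL₀.1
        rw [eq_top_iff]
        intro x _
        have hx : g⁻¹ * x * g⁻¹⁻¹ ∈ L₀.map (MulAut.conj g⁻¹).toMonoidHom := by rw [ht]; trivial
        obtain ⟨z, hz, hzx⟩ := hx
        have : z = x := by
          have hzx' : g⁻¹ * z * g⁻¹⁻¹ = g⁻¹ * x * g⁻¹⁻¹ := hzx
          simpa using hzx'
        rwa [← this]
      · intro b hb
        have hlt : L₀ < b.map (MulAut.conj g).toMonoidHom := by
          refine lt_of_le_of_ne ?_ ?_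
          · intro x hx
            have h0 : (MulAut.conj g⁻¹).toMonoidHom x ∈ b := hb.le ⟨x, hx, rfl⟩
            refine ⟨_, h0, ?_⟩
            show g * (g⁻¹ * x * g⁻¹⁻¹) * g⁻¹ = x
            group
          · intro he
            apply not_le_of_gt hb
            intro x hx
            have : g * x * g⁻¹ ∈ L₀ := by rw [he]; exact ⟨x, hx, rfl⟩
            exact ⟨_, this, by show g⁻¹ * (g * x * g⁻¹) * g⁻¹⁻¹ = x; group⟩
        have h1 := hL₀.2 _ hlt
        rw [eq_top_iff]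
        intro x _
        have hx : g * x * g⁻¹ ∈ b.map (MulAut.conj g).toMonoidHom := by rw [h1]; trivial
        obtain ⟨z, hz, hzx⟩ := hx
        have : z = x := by
          have hzx' : g * z * g⁻¹ = g * x * g⁻¹ := hzx
          simpa using hzx'
        rwa [← this]
    have hYle : Y ≤ L₀.map (MulAut.conj g⁻¹).toMonoidHom := by
      intro y hy
      have h1 : g * y * g⁻¹ ∈ Yg := ⟨y, hy, rfl⟩
      exact ⟨_, hle h1, by show g⁻¹ * (g * y * g⁻¹) * g⁻¹⁻¹ = y; group⟩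
    have heq := huL _ hcoat hYle
    have hgn : g⁻¹ ∈ Subgroup.normalizer (L₀ : Set L) := mem_normalizer_of_map_conj_eq heq
    rw [hL₀n] at hgn
    exact hg (by simpa using hgn)
  have hsup : Y ⊔ Yg = ⊤ := by
    rcases hX _ (le_sup_left : Y ≤ Y ⊔ Yg) with h | h
    · exact absurd (le_sup_right.trans h) hYgL₀
    · exact h
  -- central elements
  have hcent : ∀ x, (∀ y ∈ Y, y * x = x * y) → (∀ y ∈ Yg, y * x = x * y) → x ∈ Subgroup.center L := by
    intro x h1 h2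
    have hle : Y ⊔ Yg ≤ Subgroup.centralizer ({x} : Set L) := by
      refine sup_le ?_ ?_
      · intro y hy
        rw [Subgroup.mem_centralizer_iff]
        rintro _ rfl
        exact (h1 y hy).symm
      · intro y hy
        rw [Subgroup.mem_centralizer_iff]
        rintro _ rfl
        exact (h2 y hy).symm
    rw [hsup] at hle
    rw [Subgroup.mem_center_iff]
    intro y
    have := Subgroup.mem_centralizer_iff.mp (hle (Subgroup.mem_top y)) x rfl
    exact this.symm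
  have hinterc : Y ⊓ Yg ≤ Subgroup.center L := by
    rintro x ⟨hx, hxg⟩
    exact hcent x (fun y hy => hYab y hy x hx) (fun y hy => hYgab y hy x hxg)
  have hconjc : ∀ x ∈ Subgroup.center L, g⁻¹ * x * g = x := by
    intro x hx
    have := Subgroup.mem_center_iff.mp hx g
    rw [mul_assoc, ← this]
    group
  have hcY : Y ⊓ Subgroup.center L ≤ Yg := by
    rintro x ⟨hx, hc⟩
    rw [hmemYg, hconjc x hc]
    exact hx
  have hcQ : Subgroup.center L ≤ Q := by
    refine le_trans ?_ hchar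
    intro x hx
    rw [Subgroup.mem_centralizer_iff]
    intro y _
    exact Subgroup.mem_center_iff.mp hx y
  have hQnY : Q ≤ Subgroup.normalizer (Y : Set L) := hOY
  have hQnYg : Q ≤ Subgroup.normalizer (Yg : Set L) := by
    intro x hx
    rw [Subgroup.mem_normalizer_iff]
    intro h
    have hxg : g⁻¹ * x * g ∈ Q := by
      have := hQn.conj_mem x hx g⁻¹
      simpa using this
    have hn := Subgroup.mem_normalizer_iff.mp (hQnY hxg) (g⁻¹ * h * g)
    rw [hmemYg, hmemYg, hn]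
    have : g⁻¹ * x * g * (g⁻¹ * h * g) * (g⁻¹ * x * g)⁻¹ = g⁻¹ * (x * h * x⁻¹) * g := by group
    rw [this]
  -- commutators with `Q`
  have hcomm : ∀ Z : Subgroup L, Q ≤ Subgroup.normalizer (Z : Set L) → ∀ z ∈ Z, ∀ x ∈ Q,
      z * x * z⁻¹ * x⁻¹ ∈ Q ⊓ Z := by
    intro Z hZ z hz x hx
    refine ⟨?_, ?_⟩
    · exact Q.mul_mem (hQn.conj_mem x hx z) (Q.inv_mem hx)
    · have h1 : x * z⁻¹ * x⁻¹ ∈ Z := (Subgroup.mem_normalizer_iff.mp (hZ hx) z⁻¹).mp (Z.inv_mem hz)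
      have h2 : z * x * z⁻¹ * x⁻¹ = z * (x * z⁻¹ * x⁻¹) := by group
      rw [h2]
      exact Z.mul_mem hz h1
  set Y₀ := Q ⊓ Y with hY₀
  set Y₁ := Q ⊓ Yg with hY₁
  -- normalisation
  have hQnY₀ : Q ≤ Subgroup.normalizer (Y₀ : Set L) := by
    refine le_normalizer_inf ?_ hQnY
    rw [Subgroup.normalizer_eq_top_iff.mpr hQn]; exact le_top
  have hQnY₁ : Q ≤ Subgroup.normalizer (Y₁ : Set L) := by
    refine le_normalizer_inf ?_ hQnYg
    rw [Subgroup.normalizer_eq_top_iff.mpr hQn]; exact le_top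
  have hYnY₀ : Y ≤ Subgroup.normalizer (Y₀ : Set L) := by
    refine le_normalizer_inf ?_ Subgroup.le_normalizer
    rw [Subgroup.normalizer_eq_top_iff.mpr hQn]; exact le_top
  have hYgnY₁ : Yg ≤ Subgroup.normalizer (Y₁ : Set L) := by
    refine le_normalizer_inf ?_ Subgroup.le_normalizer
    rw [Subgroup.normalizer_eq_top_iff.mpr hQn]; exact le_top
  have hY₀Q : Y₀ ≤ Q := inf_le_left
  have hY₁Q : Y₁ ≤ Q := inf_le_left
  have hY₀Y : Y₀ ≤ Y := inf_le_right
  have hY₁Yg : Y₁ ≤ Yg := inf_le_right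
  -- `A`
  haveI hAn : A.Normal := by rw [hA]; exact Subgroup.normalClosure_normal
  have hY₀A : Y₀ ≤ A := by
    rw [hA]; exact Subgroup.subset_normalClosure
  have hY₁A : Y₁ ≤ A := by
    rintro x ⟨hxQ, hxY⟩
    have h1 : g⁻¹ * x * g ∈ Y₀ := by
      refine ⟨?_, (hmemYg x).mp hxY⟩
      have := hQn.conj_mem x hxQ g⁻¹
      simpa using this
    have h2 := hAn.conj_mem _ (hY₀A h1) g
    have h3 : g * (g⁻¹ * x * g) * g⁻¹ = x := by group
    rwa [h3] at h2
  have hAQ : A ≤ Q := by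
    rw [hA]; exact Subgroup.normalClosure_le_normal hY₀Q
  have hAY : A ⊓ Y = Y₀ :=
    le_antisymm (fun x hx => ⟨hAQ hx.1, hx.2⟩) (fun x hx => ⟨hY₀A hx, hY₀Y hx⟩)
  have hAYg : A ⊓ Yg = Y₁ :=
    le_antisymm (fun x hx => ⟨hAQ hx.1, hx.2⟩) (fun x hx => ⟨hY₁A hx, hY₁Yg hx⟩)
  -- `A = Y₀ ⊔ Y₁`
  have hnormsup : (Y₀ ⊔ Y₁).Normal := by
    rw [← Subgroup.normalizer_eq_top_iff, eq_top_iff, ← hsup]
    refine sup_le ?_ ?_
    · intro y hy
      apply mem_normalizer_of_map_conj_le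
      rw [Subgroup.map_sup]
      refine sup_le ?_ ?_
      · have : Y₀.map (MulAut.conj y).toMonoidHom ≤ Y₀ := by
          rintro _ ⟨x, hx, rfl⟩
          exact (Subgroup.mem_normalizer_iff.mp (hYnY₀ hy) x).mp hx
        exact this.trans le_sup_left
      · rintro _ ⟨x, hx, rfl⟩
        have h1 := hcomm Y hQnY y hy x (hY₁Q hx)
        have h2 : (MulAut.conj y).toMonoidHom x = (y * x * y⁻¹ * x⁻¹) * x := by
          show y * x * y⁻¹ = _
          group
        rw [h2]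
        exact Subgroup.mul_mem _ (Subgroup.mem_sup_left h1) (Subgroup.mem_sup_right hx)
    · intro y hy
      apply mem_normalizer_of_map_conj_le
      rw [Subgroup.map_sup]
      refine sup_le ?_ ?_
      · rintro _ ⟨x, hx, rfl⟩
        have h1 := hcomm Yg hQnYg y hy x (hY₀Q hx)
        have h2 : (MulAut.conj y).toMonoidHom x = (y * x * y⁻¹ * x⁻¹) * x := by
          show y * x * y⁻¹ = _
          group
        rw [h2]
        exact Subgroup.mul_mem _ (Subgroup.mem_sup_right h1) (Subgroup.mem_sup_left hx)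
      · have : Y₁.map (MulAut.conj y).toMonoidHom ≤ Y₁ := by
          rintro _ ⟨x, hx, rfl⟩
          exact (Subgroup.mem_normalizer_iff.mp (hYgnY₁ hy) x).mp hx
        exact this.trans le_sup_right
  have hAeq : A = Y₀ ⊔ Y₁ := by
    apply le_antisymm
    · rw [hA]; exact Subgroup.normalClosure_le_normal (le_sup_left : Y₀ ≤ Y₀ ⊔ Y₁)
    · exact sup_le hY₀A hY₁A
  -- commutators
  have hinter : Y₀ ⊓ Y₁ = Y ⊓ Subgroup.center L := by
    apply le_antisymm
    · rintro x ⟨h0, h1⟩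
      exact ⟨h0.2, hinterc ⟨h0.2, h1.2⟩⟩
    · rintro x ⟨hx, hc⟩
      exact ⟨⟨hcQ hc, hx⟩, ⟨hcQ hc, hcY ⟨hx, hc⟩⟩⟩
  set W := ⁅Y₀, Y₁⁆ with hW
  have hWle : W ≤ Y ⊓ Subgroup.center L := by
    rw [← hinter, hW, Subgroup.commutator_le]
    intro a ha b hb
    have h1 := hcomm Y₀ hQnY₀ a ha b (hY₁Q hb)
    have h2 := hcomm Y₁ hQnY₁ b hb a (hY₀Q ha)
    refine ⟨h1.2, ?_⟩
    have h3 : ⁅a, b⁆ = (b * a * b⁻¹ * a⁻¹)⁻¹ := by
      simp only [commutatorElement_def]; group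
    rw [h3]
    exact Y₁.inv_mem h2.2
  have hWc : W ≤ Subgroup.center L := hWle.trans inf_le_right
  have hWn : ∀ K : Subgroup L, K ≤ Subgroup.normalizer (W : Set L) := by
    intro K
    have : W.Normal := by
      constructor
      intro n hn h
      have := Subgroup.mem_center_iff.mp (hWc hn) h
      rw [this]
      simpa using hn
    rw [Subgroup.normalizer_eq_top_iff.mpr this]
    exact le_top
  have hY₀ab : ⁅Y₀, Y₀⁆ ≤ W := by
    have : ⁅Y₀, Y₀⁆ = ⊥ := by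
      rw [Subgroup.commutator_eq_bot_iff_le_centralizer]
      intro x hx
      rw [Subgroup.mem_centralizer_iff]
      intro y hy
      exact hYab y (hY₀Y hy) x (hY₀Y hx)
    rw [this]; exact bot_le
  have hY₁ab : ⁅Y₁, Y₁⁆ ≤ W := by
    have : ⁅Y₁, Y₁⁆ = ⊥ := by
      rw [Subgroup.commutator_eq_bot_iff_le_centralizer]
      intro x hx
      rw [Subgroup.mem_centralizer_iff]
      intro y hy
      exact hYgab y (hY₁Yg hy) x (hY₁Yg hx)
    rw [this]; exact bot_le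
  have hY₁Y₀ : ⁅Y₁, Y₀⁆ ≤ W := by
    rw [hW, Subgroup.commutator_comm]
  have hAW0 : ⁅Y₀, A⁆ ≤ W := by
    rw [hAeq]
    exact commutator_sup_le (hWn _) (hWn _) hY₀ab le_rfl
  have hAW1 : ⁅Y₁, A⁆ ≤ W := by
    rw [hAeq]
    exact commutator_sup_le (hWn _) (hWn _) hY₁Y₀ hY₁ab
  have hAA : ⁅A, A⁆ ≤ W := by
    have h1 : ⁅A, Y₀ ⊔ Y₁⁆ ≤ W := commutator_sup_le (hWn _) (hWn _)
      (by rw [Subgroup.commutator_comm]; exact hAW0) (by rw [Subgroup.commutator_comm]; exact hAW1)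
    rwa [← hAeq] at h1
  have hYA : ⁅A ⊓ Y, A⁆ = W := by
    rw [hAY]
    exact le_antisymm hAW0 (Subgroup.commutator_mono le_rfl hY₁A)
  have hAAW : ⁅A, A⁆ = W := le_antisymm hAA (Subgroup.commutator_mono hY₀A hY₁A)
  refine ⟨?_, hAAW.trans hYA.symm, ?_, hYA.trans_le hWle, ?_, ?_, ?_⟩
  · have hAp : IsPGroup p A := hQp.to_le hAQ
    have hfrat : frattini ↥A = commutator ↥A := by
      apply le_antisymm
      · refine Cfsg.Agent.Lib.Transfer.frattini_le_of_elementary hAp (commutator ↥A) le_rfl ?_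
        intro x
        obtain ⟨x, hx⟩ := x
        have hx' := hx
        rw [hAeq] at hx'
        obtain ⟨y₀, hy₀, y₁, hy₁, rfl⟩ := exists_mul_of_mem_sup (hY₁Q.trans hQnY₀) hx'
        let a : A := ⟨y₀, hY₀A hy₀⟩
        let b : A := ⟨y₁, hY₁A hy₁⟩
        have hba : (⟨y₀ * y₁, hx⟩ : A) = a * b := rfl
        have hc : (⁅b, a⁆ : A).1 ∈ Subgroup.center L :=
          hWc (hY₁Y₀ (Subgroup.commutator_mem_commutator hy₁ hy₀))
        have h1 : Commute ⁅b, a⁆ a := Subtype.ext (Subgroup.mem_center_iff.mp hc _).symm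
        have h2 : Commute ⁅b, a⁆ b := Subtype.ext (Subgroup.mem_center_iff.mp hc _).symm
        rw [hba, Cfsg.Agent.Lib.Transfer.mul_pow_class2 h1 h2]
        have h3 : a ^ p = 1 := Subtype.ext (hYpow _ (hY₀Y hy₀))
        have h4 : b ^ p = 1 := Subtype.ext (hYgpow _ (hY₁Yg hy₁))
        rw [h3, h4, one_mul, one_mul]
        have h5 : ⁅b, a⁆ ∈ commutator ↥A :=
          Subgroup.commutator_mem_commutator (Subgroup.mem_top _) (Subgroup.mem_top _)
        exact Subgroup.pow_mem _ h5 _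
      · exact Cfsg.Agent.Lib.Transfer.commutator_le_frattini hAp
    rw [hfrat, Subgroup.map_subtype_commutator]
  · rw [hYA, hAY, hAYg]
  · exact le_antisymm (fun x hx => ⟨hx.1, hinterc hx⟩) (fun x hx => ⟨hx.1, hcY hx⟩)
  · rw [hAY, hAYg]; exact hinter
  · apply le_antisymm
    · rintro z ⟨hzA, hzc⟩
      rw [hAeq] at hzA
      obtain ⟨y₀, hy₀, y₁, hy₁, rfl⟩ := exists_mul_of_mem_sup (hY₁Q.trans hQnY₀) hzA
      have hy₁c : y₁ ∈ Subgroup.center L := by
        have hy₁e : y₁ = y₀⁻¹ * (y₀ * y₁) := by group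
        apply hcent
        · intro y hy
          have h1 := Subgroup.mem_center_iff.mp hzc y
          have h2 := hYab y hy y₀⁻¹ (Y.inv_mem (hY₀Y hy₀))
          calc y * y₁ = y * (y₀⁻¹ * (y₀ * y₁)) := by rw [← hy₁e]
            _ = (y * y₀⁻¹) * (y₀ * y₁) := by group
            _ = (y₀⁻¹ * y) * (y₀ * y₁) := by rw [h2]
            _ = y₀⁻¹ * (y * (y₀ * y₁)) := by group
            _ = y₀⁻¹ * ((y₀ * y₁) * y) := by rw [h1]
            _ = y₁ * y := by group
        · intro y hy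
          exact hYgab y hy y₁ (hY₁Yg hy₁)
      have hy₁Y : y₁ ∈ Y := by
        have := (hmemYg y₁).mp (hY₁Yg hy₁)
        rwa [hconjc y₁ hy₁c] at this
      exact ⟨Y.mul_mem (hY₀Y hy₀) hy₁Y, hzc⟩
    · rintro x ⟨hx, hc⟩
      exact ⟨hY₀A ⟨hcQ hc, hx⟩, hc⟩

end Cfsg.Agent.S2837
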