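import Cfsg.Statements.S2839
import Cfsg.Agent.Lib.Transfer.Basic
import Cfsg.Agent.Lib.Amalgam.WeakClosed

set_option autoImplicit false
open Cfsg Cfsg.Agent.Lib.Amalgam
open scoped commutatorElement

namespace Cfsg.Agent.S2839

/-- Let Q be a nontrivial p-subgroup of the finite group H that is a weakly closed subgroup, K a subgroup containing Q and N a normal subgroup of H. Then Q is a weakly closed subgroup of K; every H-conjugate of Q contained in K is a K-conjugate of Q; N_K(Q) contains a Sylow p-subgroup of K; N = N_N(Q)·O^p(N); and QN/N is a weakly closed subgroup of H/N. -/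
theorem result {H : Type*} [Group H] [Finite H] {p : ℕ} [Fact p.Prime] (Q : Subgroup H) (hQp : IsPGroup p ↥Q) (hQ1 : Q ≠ ⊥) (hwc : Cfsg.IsWeaklyClosedSubgroup p Q) (K : Subgroup H) (hQK : Q ≤ K) (N' : Subgroup H) [N'.Normal] : Cfsg.IsWeaklyClosedSubgroup p (Q.subgroupOf K) ∧ (∀ g : H, ((Q : Subgroup H).map (MulAut.conj (g : H)).toMonoidHom) ≤ K → ∃ k ∈ K, ((Q : Subgroup H).map (MulAut.conj (g : H)).toMonoidHom) = ((Q : Subgroup H).map (MulAut.conj (k : H)).toMonoidHom)) ∧ Cfsg.IsParabolic p ((Subgroup.normalizer ((Q : Subgroup H) : Set H)).subgroupOf K) ∧ (N' ⊓ Subgroup.normalizer ((Q : Subgroup H) : Set H)) ⊔ (Cfsg.pResidual p ↥N').map N'.subtype = N' ∧ Cfsg.IsWeaklyClosedSubgroup p (Q.map (QuotientGroup.mk' N')) := by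
  obtain ⟨T, hT⟩ := hQp.exists_le_sylow
  have hTN : (T : Subgroup H) ≤ Subgroup.normalizer (Q : Set H) :=
    wc_le_normalizer hwc T.isPGroup' hT
  refine ⟨wc_subgroupOf hQp hwc hQK, fun g hg => wc_exists_conj hQp hwc hQK hg,
    wc_parabolic hQp hwc hQK, ?_, ?_⟩
  · apply le_antisymm
    · refine sup_le inf_le_left ?_
      rintro _ ⟨x, _, rfl⟩
      exact x.2
    · obtain ⟨S, hS⟩ := Cfsg.Agent.Lib.Core.sylow_inf_normal p N' T
      have h1 := Cfsg.Agent.Lib.Transfer.sup_pResidual_sylow S
      have h2 := congrArg (Subgroup.map N'.subtype) h1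
      rw [Subgroup.map_sup, ← MonoidHom.range_eq_map, Subgroup.range_subtype, hS,
        Subgroup.subgroupOf_map_subtype] at h2
      refine h2.symm.le.trans ?_
      exact sup_le le_sup_right (le_sup_of_le_left (le_inf inf_le_right (inf_le_left.trans hTN)))
  · set π := QuotientGroup.mk' N' with hπ
    have hπs : Function.Surjective π := QuotientGroup.mk'_surjective N'
    have hcoe : ((T.mapSurjective hπs : Sylow p (H ⧸ N')) : Subgroup (H ⧸ N')) = (T : Subgroup H).map π :=
      Sylow.coe_mapSurjective hπs T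
    refine ⟨T.mapSurjective hπs, ?_, ?_⟩
    · rw [hcoe]
      exact Subgroup.map_mono hT
    · intro gb hgb
      obtain ⟨g, rfl⟩ := hπs gb
      rw [hcoe] at hgb
      have hcomm : (Q.map π).map (MulAut.conj (π g)).toMonoidHom =
          (Q.map (MulAut.conj g).toMonoidHom).map π := by
        ext x
        simp only [Subgroup.mem_map, MulEquiv.coe_toMonoidHom, MulAut.conj_apply, exists_exists_and_eq_and,
          map_mul, map_inv]
      rw [hcomm] at hgb ⊢
      -- `Q^g` lies in `T N'`
      have hle : Q.map (MulAut.conj g).toMonoidHom ≤ N' ⊔ (T : Subgroup H) := by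
        intro x hx
        obtain ⟨t, ht, hte⟩ := hgb ⟨x, hx, rfl⟩
        have h1 : t⁻¹ * x ∈ N' := QuotientGroup.eq.mp hte
        have h2 : x = t * (t⁻¹ * x) := by group
        rw [h2]
        exact Subgroup.mul_mem _ (Subgroup.mem_sup_right ht) (Subgroup.mem_sup_left h1)
      obtain ⟨S₂, hS₂, hS₂s⟩ := Cfsg.Agent.Lib.FF.exists_isSylowIn_of_le
        (hQp.map (MulAut.conj g).toMonoidHom) hle
      obtain ⟨l, hl, hlS⟩ := (Cfsg.Agent.Lib.FF.isSylowIn_of_sylow_le T
        (le_sup_right : (T : Subgroup H) ≤ N' ⊔ (T : Subgroup H))).exists_conj hS₂s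
      obtain ⟨n, hn, t, ht, rfl⟩ := Subgroup.mem_sup_of_normal_left.mp hl
      have hlS' : (T : Subgroup H).map (MulAut.conj n).toMonoidHom = S₂ := by
        rw [← hlS, ← map_conj_conj, map_conj_self ht]
      have h3 : Q.map (MulAut.conj g).toMonoidHom ≤ (T : Subgroup H).map (MulAut.conj n).toMonoidHom := by
        rw [hlS']; exact hS₂
      have h4 : Q.map (MulAut.conj g).toMonoidHom = Q.map (MulAut.conj n).toMonoidHom :=
        wc_key hwc ((T.isPGroup').map _) h3 (map_conj_mono n hT)
      rw [h4]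
      ext x
      simp only [Subgroup.mem_map, MulEquiv.coe_toMonoidHom, MulAut.conj_apply, exists_exists_and_eq_and]
      have hn1 : π n = 1 := by
        rw [hπ, QuotientGroup.mk'_apply, QuotientGroup.eq_one_iff]; exact hn
      simp [hn1]


end Cfsg.Agent.S2839
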