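import Cfsg.Statements.S2840
import Cfsg.Agent.Lib.Amalgam.WeakClosed

set_option autoImplicit false
open Cfsg Cfsg.Agent.Lib.Amalgam
open scoped commutatorElement

namespace Cfsg.Agent.S2840

/-- Let Q be a nontrivial p-subgroup of the finite group H that is a weakly closed subgroup and K a subgroup containing Q; let K° be the weak closure of Q in K (generated by the H-conjugates of Q inside K). Then K° is generated by the K-conjugates of Q, and K° is the subnormal closure of Q in K. -/
theorem result {H : Type*} [Group H] [Finite H] {p : ℕ} [Fact p.Prime] (Q : Subgroup H) (hQp : IsPGroup p ↥Q) (hQ1 : Q ≠ ⊥) (hwc : Cfsg.IsWeaklyClosedSubgroup p Q) (K : Subgroup H) (hQK : Q ≤ K) (Kc : Subgroup H) (hKc : Kc = Cfsg.weakClosure Q K) : Kc = ⨆ k : ↥K, ((Q : Subgroup H).map (MulAut.conj ((k : H) : H)).toMonoidHom) ∧ Kc = (Cfsg.subnormalClosure (Q.subgroupOf K)).map K.subtype := by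
  subst hKc
  have h1 : Cfsg.weakClosure Q K = ⨆ k : ↥K, Q.map (MulAut.conj ((k : H) : H)).toMonoidHom := by
    apply le_antisymm
    · unfold Cfsg.weakClosure
      refine iSup_le ?_
      rintro ⟨g, hg⟩
      obtain ⟨k, hk, hke⟩ := wc_exists_conj hQp hwc hQK hg
      show Q.map (MulAut.conj g).toMonoidHom ≤ _
      rw [hke]
      exact le_iSup (fun k : ↥K => Q.map (MulAut.conj ((k : H) : H)).toMonoidHom) ⟨k, hk⟩
    · refine iSup_le ?_
      intro k
      have hk : Q.map (MulAut.conj (k : H)).toMonoidHom ≤ K := by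
        have h2 := map_conj_mono (k : H) hQK
        rwa [map_conj_self k.2] at h2
      unfold Cfsg.weakClosure
      exact le_iSup (fun g : {g : H // Q.map (MulAut.conj g).toMonoidHom ≤ K} =>
        Q.map (MulAut.conj (g : H)).toMonoidHom) ⟨k, hk⟩
  refine ⟨h1, ?_⟩
  rw [h1]
  set Q' : Subgroup ↥K := Q.subgroupOf K with hQ'
  have hQ'p : IsPGroup p Q' := hQp.comap_of_injective K.subtype K.subtype_injective
  have hwc' : Cfsg.IsWeaklyClosedSubgroup p Q' := wc_subgroupOf hQp hwc hQK
  apply le_antisymm
  · refine iSup_le fun k => ?_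
    rintro _ ⟨q, hq, rfl⟩
    have hqK : q ∈ K := hQK hq
    have hmem : k * (⟨q, hqK⟩ : ↥K) * k⁻¹ ∈ Cfsg.subnormalClosure Q' := by
      rw [Cfsg.subnormalClosure, Subgroup.mem_sInf]
      rintro X ⟨hQX, hX⟩
      have h2 := wc_conj_le_of_subnormal hQ'p hwc' hX hQX k
      exact h2 ⟨⟨q, hqK⟩, by rw [hQ']; exact Subgroup.mem_subgroupOf.mpr hq, rfl⟩
    exact ⟨_, hmem, rfl⟩
  · -- the normal closure is subnormal
    set J : Subgroup H := ⨆ k : ↥K, Q.map (MulAut.conj ((k : H) : H)).toMonoidHom with hJ
    have hJK : J ≤ K := by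
      refine iSup_le fun k => ?_
      have h2 := map_conj_mono (k : H) hQK
      rwa [map_conj_self k.2] at h2
    have hJn : (J.subgroupOf K).Normal := by
      have hKN : K ≤ Subgroup.normalizer (J : Set H) := by
        intro k hk
        apply mem_normalizer_of_map_conj_eq
        rw [hJ, Subgroup.map_iSup]
        apply le_antisymm
        · refine iSup_le fun l => ?_
          rw [map_conj_conj]
          exact le_iSup (fun k : ↥K => Q.map (MulAut.conj ((k : H) : H)).toMonoidHom)
            ⟨k * l, K.mul_mem hk l.2⟩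
        · refine iSup_le fun l => ?_
          have e : Q.map (MulAut.conj (l : H)).toMonoidHom =
              (Q.map (MulAut.conj (k⁻¹ * l : H)).toMonoidHom).map (MulAut.conj k).toMonoidHom := by
            rw [map_conj_conj]
            congr 3
            group
          rw [e]
          exact le_iSup (fun l : ↥K => (Q.map (MulAut.conj (l : H)).toMonoidHom).map
            (MulAut.conj k).toMonoidHom) ⟨k⁻¹ * l, K.mul_mem (K.inv_mem hk) l.2⟩
      constructor
      intro n hn g
      rw [Subgroup.mem_subgroupOf] at hn ⊢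
      exact (Subgroup.mem_normalizer_iff.mp (hKN g.2) n).mp hn
    have hle : Cfsg.subnormalClosure Q' ≤ J.subgroupOf K := by
      apply sInf_le
      refine ⟨?_, hJn.isSubnormal⟩
      intro q hq
      rw [Subgroup.mem_subgroupOf]
      have h2 : (q : H) ∈ Q := by rwa [hQ', Subgroup.mem_subgroupOf] at hq
      have h3 : Q ≤ J := by
        have := le_iSup (fun k : ↥K => Q.map (MulAut.conj ((k : H) : H)).toMonoidHom) (1 : ↥K)
        simp only [OneMemClass.coe_one] at this
        rwa [map_conj_one] at this
      exact h3 h2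
    rintro _ ⟨x, hx, rfl⟩
    have := hle hx
    rwa [Subgroup.mem_subgroupOf] at this


end Cfsg.Agent.S2840
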