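import Cfsg.Statements.S2841
import Cfsg.Agent.Lib.Amalgam.WeakClosed
import Cfsg.Agent.Lib.Amalgam.NormMap
import Cfsg.Agent.Lib.PGroup.Pairing

set_option autoImplicit false
open Cfsg Cfsg.Agent.Lib.Amalgam
open scoped commutatorElement

namespace Cfsg.Agent.S2841

/-- Let Q be a nontrivial p-subgroup of the finite group H that is a weakly closed subgroup and N a normal subgroup of H. Then N = N_N(Q)·[N, Q] and [N, Q] = (Q ∩ [N, Q])·[N, Q, Q]. -/
theorem result {H : Type*} [Group H] [Finite H] {p : ℕ} [Fact p.Prime] (Q : Subgroup H) (hQp : IsPGroup p ↥Q) (hQ1 : Q ≠ ⊥) (hwc : Cfsg.IsWeaklyClosedSubgroup p Q) (N' : Subgroup H) [N'.Normal] : (∀ n : H, n ∈ N' → ∃ a ∈ N' ⊓ Subgroup.normalizer ((Q : Subgroup H) : Set H), ∃ b ∈ ⁅N', Q⁆, n = a * b) ∧ (∀ c : H, c ∈ ⁅N', Q⁆ → ∃ a ∈ Q ⊓ ⁅N', Q⁆, ∃ b ∈ ⁅⁅N', Q⁆, Q⁆, c = a * b) := by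
  set N := N' with hN
  set L := ⁅N, Q⁆ with hL
  have hnN : ∀ X : Subgroup H, X ≤ Subgroup.normalizer (N : Set H) := fun X x _ => by
    rw [Subgroup.normalizer_eq_top_iff.mpr inferInstance]; trivial
  have hLN : L ≤ N := by
    rw [hL]
    exact commutator_le_left_of_normalizer (hnN Q)
  have hQL : Q ≤ Subgroup.normalizer (L : Set H) :=
    le_normalizer_commutator (hnN Q) Subgroup.le_normalizer
  have hNL : N ≤ Subgroup.normalizer (L : Set H) := Cfsg.Agent.Lib.PGroup.le_normalizer_commutator_left N Q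
  have hLQ : ∀ x ∈ Q ⊓ L, x ∈ Subgroup.normalizer ((⁅L, Q⁆ : Subgroup H) : Set H) := by
    intro x hx
    exact mem_normalizer_commutator (Subgroup.le_normalizer hx.2) (Subgroup.le_normalizer hx.1)
  have part1 : ∀ n : H, n ∈ N → ∃ a ∈ N ⊓ Subgroup.normalizer ((Q : Subgroup H) : Set H), ∃ b ∈ L, n = a * b := by
    intro n hn
    have hQn : Q.map (MulAut.conj n).toMonoidHom ≤ L ⊔ Q := by
      rintro _ ⟨q, hq, rfl⟩
      have e : (MulAut.conj n).toMonoidHom q = ⁅n, q⁆ * q := by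
        show n * q * n⁻¹ = _
        rw [commutatorElement_def]; group
      rw [e]
      exact Subgroup.mul_mem _ (Subgroup.mem_sup_left (Subgroup.commutator_mem_commutator hn hq))
        (Subgroup.mem_sup_right hq)
    obtain ⟨k, hk, hk'⟩ := wc_exists_conj hQp hwc le_sup_right hQn
    obtain ⟨c, hc, q', hq', rfl⟩ := Cfsg.Agent.Lib.FF.exists_mul_of_mem_sup hQL hk
    have e1 : Q.map (MulAut.conj (c * q')).toMonoidHom = Q.map (MulAut.conj c).toMonoidHom := by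
      rw [← Cfsg.Agent.Lib.FF.conj_mul_conj, Cfsg.Agent.Lib.FF.conj_eq_of_mem hq']
    rw [e1] at hk'
    have h2 : c⁻¹ * n ∈ Subgroup.normalizer ((Q : Subgroup H) : Set H) := by
      rw [Cfsg.Agent.Lib.FF.mem_normalizer_iff_conj, ← Cfsg.Agent.Lib.FF.conj_mul_conj, hk',
        Cfsg.Agent.Lib.FF.conj_mul_conj, inv_mul_cancel, Cfsg.Agent.Lib.FF.conj_one']
    have h3 : c⁻¹ * n ∈ N := N.mul_mem (N.inv_mem (hLN hc)) hn
    refine ⟨c⁻¹ * n, ⟨h3, h2⟩, (c⁻¹ * n)⁻¹ * c * (c⁻¹ * n), ?_, by group⟩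
    have := (Subgroup.mem_normalizer_iff.mp (hNL (N.inv_mem h3)) c).mp hc
    simpa using this
  refine ⟨part1, ?_⟩
  intro c hc
  have hLD : L ≤ ⁅L, Q⁆ ⊔ (Q ⊓ L) := by
    rw [hL, Subgroup.commutator_le]
    intro n hn q hq
    obtain ⟨a, ha, b, hb, rfl⟩ := part1 n hn
    have e : ⁅a * b, q⁆ = (a * ⁅b, q⁆ * a⁻¹) * ⁅a, q⁆ := by
      simp only [commutatorElement_def]; group
    rw [e]
    refine Subgroup.mul_mem _ (Subgroup.mem_sup_left ?_) (Subgroup.mem_sup_right ⟨?_, ?_⟩)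
    · refine (Subgroup.mem_normalizer_iff.mp ?_ _).mp (Subgroup.commutator_mem_commutator hb hq)
      exact mem_normalizer_commutator (hNL ha.1) ha.2
    · have e2 : ⁅a, q⁆ = (a * q * a⁻¹) * q⁻¹ := by
        simp only [commutatorElement_def]
      rw [e2]
      exact Q.mul_mem ((Subgroup.mem_normalizer_iff.mp ha.2 q).mp hq) (Q.inv_mem hq)
    · exact Subgroup.commutator_mem_commutator ha.1 hq
  obtain ⟨k, hk, j, hj, rfl⟩ := Cfsg.Agent.Lib.FF.exists_mul_of_mem_sup (fun x hx => hLQ x hx) (hLD hc)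
  refine ⟨j, hj, j⁻¹ * k * j, ?_, by group⟩
  have := (Subgroup.mem_normalizer_iff.mp (Subgroup.inv_mem _ (hLQ j hj)) k).mp hk
  simpa using this

end Cfsg.Agent.S2841
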