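import Cfsg.Statements.S2844
import Cfsg.Agent.Lib.Amalgam.WeakClosed

set_option autoImplicit false
open Cfsg Cfsg.Agent.Lib.Amalgam
open scoped commutatorElement

namespace Cfsg.Agent.S2844

/-- Let Q be a nontrivial large p-subgroup of the finite group H and Q• = O_p(N_H(Q)). Then for every g ∈ H outside N_H(Q): C_H(Q) ∩ C_H(gQg⁻¹) = 1, C_H(Q•) ∩ C_H(gQ•g⁻¹) = 1, Z(Q) ∩ Z(gQg⁻¹) = 1 and Z(Q•) ∩ Z(gQ•g⁻¹) = 1; moreover N_H(Q) = N_H(Q•) and Q• is large in H. -/
theorem result {H : Type*} [Group H] [Finite H] {p : ℕ} [Fact p.Prime] (Q : Subgroup H) (hQp : IsPGroup p ↥Q) (hQ1 : Q ≠ ⊥) (hL : Cfsg.IsLarge Q) (Qb : Subgroup H) (hQb : Qb = Cfsg.largeBullet p Q) : (∀ g : H, g ∉ Subgroup.normalizer ((Q : Subgroup H) : Set H) → Subgroup.centralizer ((Q : Subgroup H) : Set H) ⊓ Subgroup.centralizer ((((Q : Subgroup H).map (MulAut.conj (g : H)).toMonoidHom) : Subgroup H) : Set H) = ⊥ ∧ Subgroup.centralizer ((Qb : Subgroup H) : Set H) ⊓ Subgroup.centralizer ((((Qb : Subgroup H).map (MulAut.conj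 (g : H)).toMonoidHom) : Subgroup H) : Set H) = ⊥ ∧ (Q ⊓ Subgroup.centralizer ((Q : Subgroup H) : Set H)) ⊓ (((Q : Subgroup H).map (MulAut.conj (g : H)).toMonoidHom) ⊓ Subgroup.centralizer ((((Q : Subgroup H).map (MulAut.conj (g : H)).toMonoidHom) : Subgroup H) : Set H)) = ⊥ ∧ (Qb ⊓ Subgroup.centralizer ((Qb : Subgroup H) : Set H)) ⊓ (((Qb : Subgroup H).map (MulAut.conj (g : H)).toMonoidHom) ⊓ Subgroup.centralizer ((((Qb : Subgroup H).map (MulAut.conj (g : H)).toMonoidHom) : Subgroup H) : Set H)) = ⊥) ∧ Subgroup.normalizer ((Q : Subgroup H) : Set H) = Subgroup.normalizer ((Qb : Subgroup H) : Set H) ∧ Cfsg.IsLarge Qb := by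
  subst hQb
  have hL' := hL
  obtain ⟨hLC, hLN⟩ := hL
  set Qb := Cfsg.largeBullet p Q with hQb
  -- `N(R) ≤ N(Q)` for `p`-subgroups `R ≥ Q`
  have hRN : ∀ R : Subgroup H, IsPGroup p R → Q ≤ R →
      Subgroup.normalizer (R : Set H) ≤ Subgroup.normalizer (Q : Set H) := by
    intro R hR hQR
    have hR1 : R ≠ ⊥ := fun h => hQ1 (le_bot_iff.mp (h ▸ hQR))
    have hZne := center_of_isPGroup_ne_bot hR hR1
    have hZC : R ⊓ Subgroup.centralizer (R : Set H) ≤ Subgroup.centralizer (Q : Set H) := by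
      intro z hz
      rw [Subgroup.mem_centralizer_iff]
      intro q hq
      exact Subgroup.mem_centralizer_iff.mp hz.2 q (hQR hq)
    exact (normalizer_le_normalizer_center R).trans (hLN _ hZC hZne)
  have hwc : Cfsg.IsWeaklyClosedSubgroup p Q := wc_of_normalizer hQp hRN
  -- conjugate form of the `Q!`-property
  have hLNg : ∀ (g : H) (U : Subgroup H), U ≤ Subgroup.centralizer ((Q.map (MulAut.conj g).toMonoidHom : Subgroup H) : Set H) →
      U ≠ ⊥ → Subgroup.normalizer (U : Set H) ≤
        Subgroup.normalizer ((Q.map (MulAut.conj g).toMonoidHom : Subgroup H) : Set H) := by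
    intro g U hU hU1
    have h1 : U.map (MulAut.conj g⁻¹).toMonoidHom ≤ Subgroup.centralizer (Q : Set H) := by
      have h2 := map_conj_mono g⁻¹ hU
      rwa [← map_conj_centralizer, map_conj_inv] at h2
    have h3 : U.map (MulAut.conj g⁻¹).toMonoidHom ≠ ⊥ := by
      intro h
      apply hU1
      rw [Subgroup.map_eq_bot_iff] at h
      rw [eq_bot_iff]
      intro u hu
      have h5 := h hu
      rw [MonoidHom.mem_ker] at h5
      have h6 : g⁻¹ * u * g = 1 := by simpa using h5
      have h7 : u = g * (g⁻¹ * u * g) * g⁻¹ := by group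
      rw [h7, h6]
      simp
    have h4 := map_conj_mono g (hLN _ h1 h3)
    rwa [map_conj_normalizer, map_conj_normalizer, map_conj_inv'] at h4
  have hkey : ∀ g : H, g ∉ Subgroup.normalizer (Q : Set H) →
      Subgroup.centralizer (Q : Set H) ⊓
        Subgroup.centralizer ((Q.map (MulAut.conj g).toMonoidHom : Subgroup H) : Set H) = ⊥ := by
    intro g hg
    by_contra hne
    set U := Subgroup.centralizer (Q : Set H) ⊓
        Subgroup.centralizer ((Q.map (MulAut.conj g).toMonoidHom : Subgroup H) : Set H) with hU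
    have h1 := hLN U inf_le_left hne
    have h2 := hLNg g U inf_le_right hne
    have hcN : ∀ A : Subgroup H, U ≤ Subgroup.centralizer (A : Set H) →
        A ≤ Subgroup.normalizer (U : Set H) := by
      intro A hA a ha
      rw [Subgroup.mem_normalizer_iff]
      intro u
      have key : ∀ u ∈ U, a * u * a⁻¹ = u := by
        intro u hu
        have := Subgroup.mem_centralizer_iff.mp (hA hu) a ha
        rw [this]; group
      constructor
      · intro hu
        rw [key u hu]; exact hu
      · intro hu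
        have h5 := Subgroup.mem_centralizer_iff.mp (hA hu) a ha
        have h7 : a * u * a⁻¹ = u := by
          calc a * u * a⁻¹ = a⁻¹ * (a * (a * u * a⁻¹)) := by group
            _ = a⁻¹ * ((a * u * a⁻¹) * a) := by rw [h5]
            _ = u := by group
        rw [← h7]; exact hu
    have h3 : Q ≤ Subgroup.normalizer ((Q.map (MulAut.conj g).toMonoidHom : Subgroup H) : Set H) :=
      (hcN Q inf_le_left).trans h2
    have h4 : Q.map (MulAut.conj g).toMonoidHom ≤ Subgroup.normalizer (Q : Set H) :=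
      (hcN _ inf_le_right).trans h1
    have hRp : IsPGroup p ↥(Q ⊔ Q.map (MulAut.conj g).toMonoidHom) :=
      IsPGroup.to_sup_of_normal_right' hQp (hQp.map _) h3
    exact hg (mem_normalizer_of_map_conj_eq (wc_key' hwc hRp le_sup_left le_sup_right))
  -- `Q ≤ Q•`
  have hQQb : Q ≤ Qb := by
    have hn : (Q.subgroupOf (Subgroup.normalizer (Q : Set H))).Normal := by
      constructor
      intro n hn g
      rw [Subgroup.mem_subgroupOf] at hn ⊢
      exact (Subgroup.mem_normalizer_iff.mp g.2 n).mp hn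
    have hp' : IsPGroup p (Q.subgroupOf (Subgroup.normalizer (Q : Set H))) :=
      hQp.comap_of_injective _ (Subgroup.subtype_injective _)
    have h1 := Cfsg.Agent.Lib.Core.le_pCore hn hp'
    intro q hq
    exact ⟨⟨q, Subgroup.le_normalizer hq⟩, h1 (by rwa [Subgroup.mem_subgroupOf]), rfl⟩
  have hQbp : IsPGroup p Qb := (Cfsg.Agent.Lib.Core.pCore_isPGroup p _).map _
  have hNN : Subgroup.normalizer (Q : Set H) = Subgroup.normalizer (Qb : Set H) := by
    apply le_antisymm
    · intro n hn
      refine Subgroup.le_normalizer_map (Subgroup.normalizer (Q : Set H)).subtype ⟨⟨n, hn⟩, ?_, rfl⟩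
      have h : Subgroup.normalizer ((Cfsg.pCore p ↥(Subgroup.normalizer (Q : Set H)) : Subgroup _) : Set ↥(Subgroup.normalizer (Q : Set H))) = ⊤ :=
        Subgroup.normalizer_eq_top_iff.mpr inferInstance
      rw [h]
      trivial
    · exact hRN Qb hQbp hQQb
  have hCQb : Subgroup.centralizer (Qb : Set H) ≤ Subgroup.centralizer (Q : Set H) :=
    Subgroup.centralizer_le hQQb
  have hCQbg : ∀ g : H, Subgroup.centralizer ((Qb.map (MulAut.conj g).toMonoidHom : Subgroup H) : Set H) ≤
      Subgroup.centralizer ((Q.map (MulAut.conj g).toMonoidHom : Subgroup H) : Set H) :=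
    fun g => Subgroup.centralizer_le (map_conj_mono g hQQb)
  refine ⟨?_, hNN, ?_, ?_⟩
  · intro g hg
    have h0 := hkey g hg
    refine ⟨h0, ?_, ?_, ?_⟩
    · rw [eq_bot_iff, ← h0]
      exact inf_le_inf (hCQb) (hCQbg g)
    · rw [eq_bot_iff, ← h0]
      exact inf_le_inf inf_le_right inf_le_right
    · rw [eq_bot_iff, ← h0]
      exact inf_le_inf (inf_le_right.trans hCQb) (inf_le_right.trans (hCQbg g))
  · exact hCQb.trans (hLC.trans hQQb)
  · intro U hU hU1
    rw [← hNN]
    exact hLN U (hU.trans hCQb) hU1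

end Cfsg.Agent.S2844
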