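import Cfsg.Statements.S2846
import Cfsg.Agent.Lib.Amalgam.FrakExist

set_option autoImplicit false
open Cfsg

namespace Cfsg.Agent.S2846

/-- Let Q be a nontrivial large p-subgroup of the finite group H, S a Sylow p-subgroup containing Q, and L a subgroup containing S with O_p(L) ≠ 1 and C_H(O_p(L)) ≤ O_p(L). Then there are a subgroup M containing S having the basic property (M ∈ 𝔐_H, writing Y_X for the largest p-reduced normal subgroup of X and 𝓛_H for the set of subgroups X with O_p(X) ≠ 1 and C_H(O_p(X)) ≤ O_p(X): M ∈ 𝓛_H, M·C_H(Y_M) is the only maximal member of 𝓛_H containing M and its largest p-reduced normal subgroup is again Y_M, C_M(Y_M) is p-closed, and the image of C_M(Y_M) in M/O_p(M) lies in the Frattini subgroup of M/O_p(M)) and a subgroup L* with S ≤ L* ≤ M, O_p(L*) ≠ 1, C_H(O_p(L*)) ≤ O_p(L*), such that L·C_H(Y_L) = L*·C_H(Y_L), the weak closures of Q in L and in L* agree and lie in that of M, and Y_L =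 Y_{L*} ≤ Y_M. If moreover Q is not normal in L, then Q is normal in neither L* nor M. -/
theorem result {H : Type*} [Group H] [Finite H] {p : ℕ} [Fact p.Prime] (Q : Subgroup H) (hQp : IsPGroup p ↥Q) (hQ1 : Q ≠ ⊥) (hLg : Cfsg.IsLarge Q) (S : Sylow p H) (hQS : Q ≤ (S : Subgroup H)) (L : Subgroup H) (hSL : (S : Subgroup H) ≤ L) (hL : L ∈ Cfsg.charPSubgroups p H) : ∃ M Ls : Subgroup H, (S : Subgroup H) ≤ M ∧ Cfsg.IsInFrakM p M ∧ (S : Subgroup H) ≤ Ls ∧ Ls ≤ M ∧ Ls ∈ Cfsg.charPSubgroups p H ∧ L ⊔ Subgroup.centralizer (((Cfsg.largestPReducedOf p L) : Subgroup H) : Set H) = Ls ⊔ Subgroup.centralizer (((Cfsg.largestPReducedOf p L) : Subgroup H) : Set H) ∧ Cfsg.weakClosure Q L = Cfsg.weakClosure Q Ls ∧ Cfsg.weakClosure Q Ls ≤ Cfsg.weakClosure Q M ∧ (Cfsg.largestPReducedOf p L) = (Cfsg.largestPReducedOf p Ls) ∧ (Cfsg.largestPReducedOf p Ls) ≤ (Cfsg.largestPReducedOf p M) ∧ (¬ L ≤ Subgroup.normalizer ((Q : Subgroup H) : Set H) → ¬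 Ls ≤ Subgroup.normalizer ((Q : Subgroup H) : Set H) ∧ ¬ M ≤ Subgroup.normalizer ((Q : Subgroup H) : Set H)) := by
  obtain ⟨M, Ls, hSM, hM, hSLs, hLsM, hLsm, hYe, hYle, hsup⟩ :=
    Cfsg.Agent.Lib.Amalgam.exists_frakM (Cfsg.Agent.Lib.Amalgam.large_parabolicChar hQp hQ1 hLg) S L hSL hL
  have hLc := Cfsg.Agent.Lib.Amalgam.char_of_charPSubgroups hL
  have hQL := hQS.trans hSL
  have hQLs := hQS.trans hSLs
  have hS1 : (S : Subgroup H) ≠ ⊥ := by
    intro h
    apply hQ1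
    rw [h] at hQS
    exact le_bot_iff.1 hQS
  have hYne := Cfsg.Agent.Lib.Amalgam.largestPReducedOf_ne_bot S hSL hLc hS1
  have hYp : IsPGroup p ↥(Cfsg.largestPReducedOf p L) :=
    (Cfsg.Agent.Lib.Amalgam.pCoreOf_isPGroup L).to_le (Cfsg.Agent.Lib.Amalgam.largestPReducedOf_le_pCoreOf L hLc)
  have hLY := Cfsg.Agent.Lib.Amalgam.le_normalizer_largestPReducedOf (p := p) L
  have hLsY : Ls ≤ Subgroup.normalizer ((Cfsg.largestPReducedOf p L : Subgroup H) : Set H) := by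
    rw [hYe]
    exact Cfsg.Agent.Lib.Amalgam.le_normalizer_largestPReducedOf Ls
  have h1 := (Cfsg.Agent.Lib.Amalgam.large_weakClosure_main hQp hQ1 hLg hQL hYp hYne hLY).1
  have h2 := (Cfsg.Agent.Lib.Amalgam.large_weakClosure_main hQp hQ1 hLg hQLs hYp hYne hLsY).1
  have hw : Cfsg.weakClosure Q L = Cfsg.weakClosure Q Ls := by
    rw [h1, h2, hsup]
  have hwc := Cfsg.Agent.Lib.Amalgam.large_wc hQp hQ1 hLg
  refine ⟨M, Ls, hSM, hM, hSLs, hLsM, hLsm, hsup, hw, Cfsg.Agent.Lib.Amalgam.weakClosure_mono Q hLsM, hYe, hYe ▸ hYle, ?_⟩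
  intro hnot
  have hLsnot : ¬ Ls ≤ Subgroup.normalizer ((Q : Subgroup H) : Set H) := by
    intro hLsN
    apply hnot
    have hWQ : Cfsg.weakClosure Q Ls ≤ Q := by
      refine iSup_le fun g => ?_
      have hg := g.2
      have hSp : IsPGroup p ↥(Q.map (MulAut.conj (g : H)).toMonoidHom ⊔ Q) :=
        IsPGroup.to_sup_of_normal_right' (hQp.map _) hQp (hg.trans hLsN)
      exact (Cfsg.Agent.Lib.Amalgam.wc_key' hwc hSp le_sup_right (b := g) le_sup_left).le
    intro l hl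
    apply Cfsg.Agent.Lib.Amalgam.mem_normalizer_of_map_conj_eq
    have hle : Q.map (MulAut.conj l).toMonoidHom ≤ L := by
      have h3 := Cfsg.Agent.Lib.Amalgam.map_conj_mono l hQL
      rwa [Cfsg.Agent.Lib.Amalgam.map_conj_self hl] at h3
    have h3 : Q.map (MulAut.conj l).toMonoidHom ≤ Q := by
      have h4 := Cfsg.Agent.Lib.Amalgam.conj_le_weakClosure hle
      rw [hw] at h4
      exact h4.trans hWQ
    exact Subgroup.eq_of_le_of_card_ge h3 (by rw [Cfsg.Agent.Lib.FF.card_conj])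
  exact ⟨hLsnot, fun h => hLsnot (hLsM.trans h)⟩


end Cfsg.Agent.S2846
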