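import Cfsg.Statements.S2848
import Cfsg.Agent.Lib.Amalgam.FrakM

set_option autoImplicit false
open Cfsg Cfsg.Agent.Lib.Amalgam
open scoped commutatorElement

namespace Cfsg.Agent.S2848

/-- Standing hypotheses: G a finite group, S a Sylow p-subgroup, Q a nontrivial large p-subgroup of G contained in S (C_G(Q) ≤ Q and N_G(U) ≤ N_G(Q) for all nontrivial U ≤ C_G(Q)), and M a subgroup containing S with the basic property (M ∈ 𝔐_G(S)); Y_M denotes the largest p-reduced normal subgroup of M and M† = M·C_G(Y_M). Then O_p(M) is a weakly closed subgroup of M† (for p): it is the only M†-conjugate of itself inside some Sylow p-subgroup of M† containing it. -/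
theorem result {G : Type*} [Group G] [Finite G] {p : ℕ} [Fact p.Prime] (S : Sylow p G) (Q : Subgroup G) (hQp : IsPGroup p ↥Q) (hQ1 : Q ≠ ⊥) (hQS : Q ≤ (S : Subgroup G)) (hQ : Cfsg.IsLarge Q) (M : Subgroup G) (hSM : (S : Subgroup G) ≤ M) (hM : Cfsg.IsInFrakM p M) : Cfsg.IsWeaklyClosedSubgroup p (((Cfsg.pCoreOf p M)).subgroupOf (M ⊔ Subgroup.centralizer (((Cfsg.largestPReducedOf p M) : Subgroup G) : Set G))) := by
  have hchar := char_of_charPSubgroups hM.1
  set Y := largestPReducedOf p M with hY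
  set A := Subgroup.centralizer (Y : Set G) with hA
  set P := pCoreOf p M with hP
  have hPA : P ≤ A := pCoreOf_le_centralizer M hchar
  have hPS : P ≤ (S : Subgroup G) := pCoreOf_le_sylow' S hSM
  have hSA : (S : Subgroup G) ⊓ A ≤ P :=
    frakM_le_pCoreOf hM (S.2.to_le inf_le_left) (le_inf (inf_le_left.trans hSM) inf_le_right)
  have hSMd : (S : Subgroup G) ≤ M ⊔ A := hSM.trans le_sup_left
  have hTS := Cfsg.Agent.Lib.FF.isSylowIn_of_sylow_le S hSMd
  refine ⟨hTS.toSylow, ?_, ?_⟩
  · rw [Cfsg.Agent.Lib.FF.IsSylowIn.coe_toSylow]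
    exact Subgroup.subgroupOf_mono _ hPS
  · intro g hg
    rw [Cfsg.Agent.Lib.FF.IsSylowIn.coe_toSylow, subgroupOf_map_conj] at hg
    rw [subgroupOf_map_conj]
    have hPMd : P ≤ M ⊔ A := hPS.trans hSMd
    have hPgMd : P.map (MulAut.conj (g : G)).toMonoidHom ≤ M ⊔ A := by
      rintro _ ⟨x, hx, rfl⟩
      exact (M ⊔ A).mul_mem ((M ⊔ A).mul_mem g.2 (hPMd hx)) ((M ⊔ A).inv_mem g.2)
    have hPgS : P.map (MulAut.conj (g : G)).toMonoidHom ≤ (S : Subgroup G) := by
      intro x hx
      have := hg (show (⟨x, hPgMd hx⟩ : ↥(M ⊔ A)) ∈ _ by rw [Subgroup.mem_subgroupOf]; exact hx)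
      rwa [Subgroup.mem_subgroupOf] at this
    have hAg : A.map (MulAut.conj (g : G)).toMonoidHom = A :=
      Cfsg.Agent.Lib.FF.mem_normalizer_iff_conj.mp (frakM_sup_le_normalizer_centralizer M g.2)
    have hPgA : P.map (MulAut.conj (g : G)).toMonoidHom ≤ A := by
      have := map_conj_mono (g : G) hPA
      rwa [hAg] at this
    have hle : P.map (MulAut.conj (g : G)).toMonoidHom ≤ P := (le_inf hPgS hPgA).trans hSA
    have heq : P.map (MulAut.conj (g : G)).toMonoidHom = P :=
      Subgroup.eq_of_le_of_card_ge hle (by rw [Cfsg.Agent.Lib.FF.card_conj])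
    rw [heq]

end Cfsg.Agent.S2848
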