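import Cfsg.Statements.S2849
import Cfsg.Agent.Lib.Amalgam.FrakM

set_option autoImplicit false
open Cfsg Cfsg.Agent.Lib.Amalgam
open scoped commutatorElement

namespace Cfsg.Agent.S2849

/-- Standing hypotheses: G a finite group, S a Sylow p-subgroup, Q a nontrivial large p-subgroup of G contained in S (C_G(Q) ≤ Q and N_G(U) ≤ N_G(Q) for all nontrivial U ≤ C_G(Q)), and M a subgroup containing S with the basic property (M ∈ 𝔐_G(S)); Y_M denotes the largest p-reduced normal subgroup of M and M† = M·C_G(Y_M). Suppose Y_M is asymmetric in G. Then for every subgroup R with Y_M ≤ R ≤ M†, the normal closure of Y_M in N_G(R) is elementary abelian. -/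
theorem result {G : Type*} [Group G] [Finite G] {p : ℕ} [Fact p.Prime] (S : Sylow p G) (Q : Subgroup G) (hQp : IsPGroup p ↥Q) (hQ1 : Q ≠ ⊥) (hQS : Q ≤ (S : Subgroup G)) (hQ : Cfsg.IsLarge Q) (M : Subgroup G) (hSM : (S : Subgroup G) ≤ M) (hM : Cfsg.IsInFrakM p M) (hasym : ¬ Cfsg.IsSymmetricIn (Cfsg.largestPReducedOf p M)) (R : Subgroup G) (hYR : (Cfsg.largestPReducedOf p M) ≤ R) (hRM : R ≤ (M ⊔ Subgroup.centralizer (((Cfsg.largestPReducedOf p M) : Subgroup G) : Set G))) : Cfsg.IsElementaryAbelian p ((Subgroup.normalClosure ((((Cfsg.largestPReducedOf p M)).subgroupOf (Subgroup.normalizer ((R : Subgroup G) : Set G)) : Subgroup ↥(Subgroup.normalizer ((R : Subgroup G) : Set G))) : Set ↥(Subgroup.normalizer ((R : Subgroup G) : Set G)))).map (Subgroup.normalizer ((R : Subgroup G) : Set G)).subtype) := by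
  have hchar := char_of_charPSubgroups hM.1
  have hE := isElementaryAbelian_largestPReducedOf M hchar
  set Y := largestPReducedOf p M with hY
  set A := Subgroup.centralizer (Y : Set G) with hA
  have hRN : R ≤ Subgroup.normalizer (Y : Set G) := hRM.trans (frakM_sup_le_normalizer M)
  have hcomm : ∀ g ∈ Subgroup.normalizer (R : Set G), ⁅Y, Y.map (MulAut.conj g).toMonoidHom⁆ = ⊥ := by
    intro g hg
    by_contra hne
    apply hasym
    refine ⟨g, hne, commutator_le_inf_of_mutual ?_ ?_⟩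
    · have h1 := map_conj_mono g hRN
      rw [Cfsg.Agent.Lib.FF.mem_normalizer_iff_conj.mp hg, map_conj_normalizer] at h1
      exact hYR.trans h1
    · have h1 := map_conj_mono g hYR
      rw [Cfsg.Agent.Lib.FF.mem_normalizer_iff_conj.mp hg] at h1
      exact h1.trans hRN
  set NR := Subgroup.normalizer (R : Set G) with hNR
  rw [Subgroup.normalClosure, MonoidHom.map_closure]
  have hgen : ∀ x ∈ (NR.subtype '' Group.conjugatesOfSet ((Y.subgroupOf NR : Subgroup NR) : Set NR)),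
      ∃ c ∈ NR, ∃ y ∈ Y, x = c * y * c⁻¹ := by
    rintro _ ⟨a, ha, rfl⟩
    obtain ⟨a0, ha0, h⟩ := Group.mem_conjugatesOfSet_iff.mp ha
    obtain ⟨c, rfl⟩ := isConj_iff.mp h
    exact ⟨c, c.2, a0, ha0, rfl⟩
  apply isElementaryAbelian_closure
  · intro a ha b hb
    obtain ⟨c, hc, y, hy, rfl⟩ := hgen a ha
    obtain ⟨d, hd, y', hy', rfl⟩ := hgen b hb
    have h1 := hcomm (c⁻¹ * d) (NR.mul_mem (NR.inv_mem hc) hd)
    rw [Subgroup.commutator_eq_bot_iff_le_centralizer] at h1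
    have h2 := Subgroup.mem_centralizer_iff.mp (h1 hy) ((c⁻¹ * d) * y' * (c⁻¹ * d)⁻¹) ⟨y', hy', rfl⟩
    calc c * y * c⁻¹ * (d * y' * d⁻¹) = c * (y * ((c⁻¹ * d) * y' * (c⁻¹ * d)⁻¹)) * c⁻¹ := by group
      _ = c * (((c⁻¹ * d) * y' * (c⁻¹ * d)⁻¹) * y) * c⁻¹ := by rw [h2]
      _ = d * y' * d⁻¹ * (c * y * c⁻¹) := by group
  · intro a ha
    obtain ⟨c, hc, y, hy, rfl⟩ := hgen a ha
    rw [conj_pow, hE.2 y hy]
    group

end Cfsg.Agent.S2849
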