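import Cfsg.Statements.S2852
import Cfsg.Agent.Lib.Amalgam.Asym2

set_option autoImplicit false
open Cfsg Cfsg.Agent.Lib.Amalgam
open scoped commutatorElement

namespace Cfsg.Agent.S2852

/-- Standing hypotheses: G a finite group, S a Sylow p-subgroup, Q a nontrivial large p-subgroup of G contained in S, M a subgroup containing S with the basic property (M ∈ 𝔐_G(S)); Y_M the largest p-reduced normal subgroup of M. If Y_M is char-p-tall and asymmetric in G, then some subgroup H of G lies in ℌ_G(O_p(M)): H has characteristic p, O_p(M) ≤ H, Y_M ≰ O_p(H), and Y_M ≤ O_p(P) for every proper subgroup P of H containing O_p(M). -/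
theorem result {G : Type*} [Group G] [Finite G] {p : ℕ} [Fact p.Prime] (S : Sylow p G) (Q : Subgroup G) (hQp : IsPGroup p ↥Q) (hQ1 : Q ≠ ⊥) (hQS : Q ≤ (S : Subgroup G)) (hQ : Cfsg.IsLarge Q) (M : Subgroup G) (hSM : (S : Subgroup G) ≤ M) (hM : Cfsg.IsInFrakM p M) (htall : Cfsg.IsCharPTall p (Cfsg.largestPReducedOf p M)) (hasym : ¬ Cfsg.IsSymmetricIn (Cfsg.largestPReducedOf p M)) : ∃ H : Subgroup G, Cfsg.IsInFrakH p M H := by
  have hPara := large_parabolicChar hQp hQ1 hQ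
  have hwc := asym_wc hPara S hSM hM hasym
  have hSyl := frak_sylow_centralizer S hSM hM
  set Y := largestPReducedOf p M with hY
  set P₀ := pCoreOf p M with hP₀
  obtain ⟨T, L, hTL, hL, hYO⟩ := htall
  have hPp : IsPGroup p P₀ := pCoreOf_isPGroup M
  obtain ⟨c, hc, hcT⟩ := (Cfsg.Agent.Lib.FF.isSylowIn_of_sylow T).exists_conj hSyl
  have hYc : Y.map (MulAut.conj c).toMonoidHom = Y :=
    map_conj_eq_of_mem_normalizer (centralizer_le_normalizer' Y hc)
  set L' := L.map (MulAut.conj c).toMonoidHom with hL'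
  have hPL' : P₀ ≤ L' := by
    rw [← hcT]
    exact map_conj_mono c hTL
  have hL'char := char_conj (p := p) c hL
  have hYL' : ¬ Y ≤ pCoreOf p L' := by
    intro h
    apply hYO
    rw [← map_conj_pCoreOf, ← hYc] at h
    have h2 := map_conj_mono c⁻¹ h
    rwa [map_conj_inv, map_conj_inv] at h2
  have hne : {X : Subgroup G | P₀ ≤ X ∧ X ≤ L' ∧ ¬ Y ≤ pCoreOf p X}.Nonempty := ⟨L', hPL', le_rfl, hYL'⟩
  obtain ⟨H, hH⟩ := (Set.toFinite {X : Subgroup G | P₀ ≤ X ∧ X ≤ L' ∧ ¬ Y ≤ pCoreOf p X}).exists_minimal hne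
  obtain ⟨⟨h1, h2, h3⟩, hmin⟩ := hH
  refine ⟨H, ?_, h1, h3, ?_⟩
  · refine char_of_overgroup h2 hL'char h1 hPp hM.1.2 ?_
    have hSp : IsPGroup p ↥(P₀ ⊔ pCoreOf p L') :=
      IsPGroup.to_sup_of_normal_right' hPp (pCoreOf_isPGroup L') (hPL'.trans (le_normalizer_pCoreOf L'))
    exact (le_sup_right : pCoreOf p L' ≤ P₀ ⊔ pCoreOf p L').trans (wc_le_normalizer hwc hSp le_sup_left)
  · intro P hP hPH
    by_contra hYP
    exact hPH.2 (hmin ⟨hP, hPH.le.trans h2, hYP⟩ hPH.le)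

end Cfsg.Agent.S2852
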