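import Cfsg.Statements.S2853
import Cfsg.Agent.Lib.Amalgam.FrakH

set_option autoImplicit false
open Cfsg Cfsg.Agent.Lib.Amalgam
open scoped commutatorElement

namespace Cfsg.Agent.S2853

/-- Standing hypotheses: G a finite group, S a Sylow p-subgroup, Q a nontrivial large p-subgroup of G contained in S, M a subgroup containing S with the basic property (M ∈ 𝔐_G(S)); Y_M the largest p-reduced normal subgroup of M and M† = M·C_G(Y_M). Suppose Y_M is char-p-tall and asymmetric in G and H ∈ ℌ_G(O_p(M)). Then every Sylow p-subgroup of H ∩ M† is a Sylow p-subgroup of H; O_p(H) normalizes O_p(M) and Y_M; O^p(H) = [O^p(H), Y_M] and H = O^p(H)·O_p(M); O^p(H)·Y_M is the normal closure of Y_M in H; and H is the normal closure of O_p(M) in H. Here O^p(H) is the subgroup generated by the elements of H of order prime to p. -/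
theorem result {G : Type*} [Group G] [Finite G] {p : ℕ} [Fact p.Prime] (S : Sylow p G) (Q : Subgroup G) (hQp : IsPGroup p ↥Q) (hQ1 : Q ≠ ⊥) (hQS : Q ≤ (S : Subgroup G)) (hQ : Cfsg.IsLarge Q) (M : Subgroup G) (hSM : (S : Subgroup G) ≤ M) (hM : Cfsg.IsInFrakM p M) (htall : Cfsg.IsCharPTall p (Cfsg.largestPReducedOf p M)) (hasym : ¬ Cfsg.IsSymmetricIn (Cfsg.largestPReducedOf p M)) (H : Subgroup G) (hH : Cfsg.IsInFrakH p M H) (R : Subgroup G) (hR : R = (Cfsg.pResidual p ↥H).map H.subtype) : (∀ T : Sylow p ↥(H ⊓ (M ⊔ Subgroup.centralizer (((Cfsg.largestPReducedOf p M) : Subgroup G) : Set G))), ∃ P : Sylow p ↥H, ((P : Subgroup ↥H).map H.subtype) = (T : Subgroup ↥(H ⊓ (M ⊔ Subgroup.centralizer (((Cfsg.largestPReducedOf p M) : Subgroup G) : Set G)))).map (H ⊓ (M ⊔ Subgroup.centralizer (((Cfsg.largestPReducedOf p M) : Subgroup G) : Set G))).subtype) ∧ Cfsg.pCoreOf p H ≤ Subgroup.normalizer (((Cfsg.pCoreOf p M) : Subgroup G) : Set G) ⊓ Subgroup.normalizer (((Cfsg.largestPReducedOf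 p M) : Subgroup G) : Set G) ∧ ⁅R, (Cfsg.largestPReducedOf p M)⁆ = R ∧ R ⊔ (Cfsg.pCoreOf p M) = H ∧ R ⊔ (Cfsg.largestPReducedOf p M) = (Subgroup.normalClosure ((((Cfsg.largestPReducedOf p M)).subgroupOf H : Subgroup ↥H) : Set ↥H)).map H.subtype ∧ (Subgroup.normalClosure ((((Cfsg.pCoreOf p M)).subgroupOf H : Subgroup ↥H) : Set ↥H)).map H.subtype = H := by
  have hPara := large_parabolicChar hQp hQ1 hQ
  have hchar := char_of_charPSubgroups hM.1
  have hwc := asym_wc hPara S hSM hM hasym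
  have hNP := frak_normalizer_P hPara S hSM hM
  have hNY := frak_normalizer_Y hPara S hSM hM
  have hYP := largestPReducedOf_le_pCoreOf M hchar
  have hPC := pCoreOf_le_centralizer M hchar
  have hPp : IsPGroup p (pCoreOf p M) := pCoreOf_isPGroup M
  obtain ⟨hH1, hPH, hYO, hmin⟩ := hH
  subst hR
  have hsup := frakH_sup_residual (p := p) hPH hYO hmin
  have hcomm := frakH_commutator hPp hYP hPC hPH hYO hmin
  have hcl := frakH_normalClosure_Y hPp hYP hPC hPH hYO hmin
  have hcl2 := frakH_normalClosure hPH hYO hmin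
  refine ⟨?_, ?_, hcomm, hsup, hcl, hcl2⟩
  · intro T
    apply sylow_of_parabolic inf_le_left
    obtain ⟨T₀, hT₀⟩ := wc_parabolic hPp hwc hPH
    refine ⟨T₀, hT₀.trans ?_⟩
    intro x hx
    rw [Subgroup.mem_subgroupOf] at hx ⊢
    exact ⟨x.2, hNP hx⟩
  · have hSp : IsPGroup p ↥(pCoreOf p M ⊔ pCoreOf p H) :=
      IsPGroup.to_sup_of_normal_right' hPp (pCoreOf_isPGroup H) (hPH.trans (le_normalizer_pCoreOf H))
    have h1 : pCoreOf p H ≤ Subgroup.normalizer (pCoreOf p M : Set G) :=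
      (le_sup_right : pCoreOf p H ≤ pCoreOf p M ⊔ pCoreOf p H).trans (wc_le_normalizer hwc hSp le_sup_left)
    refine le_inf h1 ?_
    rw [hNY]
    exact h1.trans hNP

end Cfsg.Agent.S2853
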