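import Cfsg.Statements.S2855
import Cfsg.Agent.Lib.Amalgam.TransFam

set_option autoImplicit false
open Cfsg

namespace Cfsg.Agent.S2855


open Subgroup Cfsg.Agent.Lib.FF Cfsg.Agent.Lib.Amalgam Cfsg.Agent.Lib.Amalgam.TransFam Cfsg.Agent.Lib.Core
open scoped commutatorElement

section helpers

variable {H : Type*} [Group H] [Finite H] {p : ℕ} [hp : Fact p.Prime]

theorem isSylowIn_inf_of_sup {T E O : Subgroup H} [hO : O.Normal] (hOT : O ≤ T)
    (h : IsSylowIn p (T ⊓ (E ⊔ O)) (E ⊔ O)) : IsSylowIn p (T ⊓ E) E := by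
  have hTE : IsPGroup p (T ⊓ E : Subgroup H) :=
    h.isPGroup.to_le (inf_le_inf_left T le_sup_left)
  have hOp : IsPGroup p O := h.isPGroup.to_le (le_inf hOT le_sup_right)
  obtain ⟨Q, hle, hQ⟩ := exists_isSylowIn_of_le hTE inf_le_right
  have hQO : IsPGroup p (Q ⊔ O : Subgroup H) := hQ.isPGroup.to_sup_of_normal_right hOp
  have h1 : T ⊓ (E ⊔ O) = Q ⊔ O := by
    apply h.eq_of_le hQO (sup_le_sup_right hQ.le _)
    rintro x ⟨hxT, hxA⟩
    obtain ⟨e, he, o, ho, rfl⟩ := mem_sup_of_normal_right.mp hxA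
    have he' : e ∈ T := by
      have := T.mul_mem hxT (T.inv_mem (hOT ho))
      simpa using this
    exact Subgroup.mul_mem _ (mem_sup_left (hle ⟨he', he⟩)) (mem_sup_right ho)
  have h2 : Q ≤ T ⊓ E := by
    refine le_inf ?_ hQ.le
    have : Q ≤ T ⊓ (E ⊔ O) := by rw [h1]; exact le_sup_left
    exact this.trans inf_le_left
  rw [le_antisymm hle h2]
  exact hQ

theorem exists_LP {T E O : Subgroup H} [hO : O.Normal] (hOT : O ≤ T)
    (hmin : ∃! M : Subgroup E, IsCoatom M ∧ (T ⊓ E).subgroupOf E ≤ M) :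
    ∃ M, IsLP (T ⊓ (E ⊔ O)) (E ⊔ O) M := by
  obtain ⟨M₀, ⟨hco, hS⟩, huniq⟩ := hmin
  have hS' : T ⊓ E ≤ M₀.map E.subtype := by
    intro x hx
    exact ⟨⟨x, hx.2⟩, hS (by rw [Subgroup.mem_subgroupOf]; exact hx), rfl⟩
  refine ⟨M₀.map E.subtype ⊔ O, sup_le_sup_right (Subgroup.map_subtype_le _) _, ?_, ?_, ?_⟩
  · rintro x ⟨hxT, hxA⟩
    obtain ⟨e, he, o, ho, rfl⟩ := mem_sup_of_normal_right.mp hxA
    have he' : e ∈ T := by
      have := T.mul_mem hxT (T.inv_mem (hOT ho))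
      simpa using this
    exact Subgroup.mul_mem _ (mem_sup_left (hS' ⟨he', he⟩)) (mem_sup_right ho)
  · intro e
    apply hco.1
    rw [eq_top_iff]
    rintro ⟨x, hx⟩ -
    have h1 : x ∈ M₀.map E.subtype ⊔ O := by rw [e]; exact mem_sup_left hx
    obtain ⟨m, hm, o, ho, hmo⟩ := mem_sup_of_normal_right.mp h1
    have hmE : m ∈ E := (Subgroup.map_subtype_le _) hm
    have hoE : o ∈ E := by
      have : o = m⁻¹ * x := by rw [← hmo]; group
      rw [this]
      exact E.mul_mem (E.inv_mem hmE) hx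
    have h2 : o ∈ M₀.map E.subtype := hS' ⟨hOT ho, hoE⟩
    have h3 : x ∈ M₀.map E.subtype := by
      rw [← hmo]
      exact Subgroup.mul_mem _ hm h2
    obtain ⟨y, hy, hyx⟩ := h3
    have : (⟨x, hx⟩ : E) = y := Subtype.ext hyx.symm
    rw [this]
    exact hy
  · intro Y hYA hSY hne
    have hOY : O ≤ Y := fun o ho => hSY ⟨hOT ho, mem_sup_right ho⟩
    have hne₂ : Y.subgroupOf E ≠ ⊤ := by
      intro e
      apply hne
      apply le_antisymm hYA
      apply sup_le _ hOY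
      intro x hx
      have : (⟨x, hx⟩ : E) ∈ Y.subgroupOf E := by rw [e]; trivial
      simpa [Subgroup.mem_subgroupOf] using this
    obtain ⟨M₁, hM₁, hYM₁⟩ := (eq_top_or_exists_le_coatom (Y.subgroupOf E)).resolve_left hne₂
    have hM₁₀ : M₁ = M₀ := huniq M₁ ⟨hM₁, by
      rintro ⟨x, hxE⟩ hx
      apply hYM₁
      rw [Subgroup.mem_subgroupOf] at hx ⊢
      exact hSY ⟨hx.1, mem_sup_left hxE⟩⟩
    rw [hM₁₀] at hYM₁
    intro y hy
    obtain ⟨e, he, o, ho, rfl⟩ := mem_sup_of_normal_right.mp (hYA hy)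
    have heY : e ∈ Y := by
      have := Y.mul_mem hy (Y.inv_mem (hOY ho))
      simpa using this
    have h1 : (⟨e, he⟩ : E) ∈ M₀ := hYM₁ (by rwa [Subgroup.mem_subgroupOf])
    exact Subgroup.mul_mem _ (mem_sup_left ⟨⟨e, he⟩, h1, rfl⟩) (mem_sup_right ho)

theorem cj_sup_core (O : Subgroup H) [hO : O.Normal] (E : Subgroup H) (g : H) :
    cj g (E ⊔ O) = cj g E ⊔ O := by
  show (E ⊔ O).map _ = _
  rw [Subgroup.map_sup, normal_conj_eq (N := O)]

theorem sSup_normal_of_inv (𝒦 : Set (Subgroup H))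
    (hinv : ∀ h : H, ∀ E ∈ 𝒦, E.map (MulAut.conj h).toMonoidHom ∈ 𝒦) : (sSup 𝒦).Normal := by
  refine ⟨fun x hx g => ?_⟩
  have h1 : sSup 𝒦 ≤ (sSup 𝒦).comap (MulAut.conj g).toMonoidHom := by
    apply sSup_le
    intro B hB b hb
    show (MulAut.conj g).toMonoidHom b ∈ sSup 𝒦
    exact (le_sSup (hinv g B hB) : _ ≤ sSup 𝒦) ⟨b, hb, rfl⟩
  exact h1 hx

theorem isPGroup_core : IsPGroup p (pCore p H) := pCore_isPGroup p H

theorem hsyl_of {O R₀ E : Subgroup H} (hR₀ : R₀.Normal) (hER : E ⊔ O ≤ R₀)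
    (hn : R₀ ≤ normalizer ((E ⊔ O : Subgroup H) : Set H)) (P : Sylow p H) :
    IsSylowIn p ((P : Subgroup H) ⊓ (E ⊔ O)) (E ⊔ O) := by
  have hsub : (E ⊔ O).IsSubnormal :=
    Subgroup.IsSubnormal.step _ R₀ hER hR₀.isSubnormal (subgroupOf_normal_of_le_normalizer hn)
  apply isSylowIn_inf_subnormal _ hsub
  refine ⟨le_top, P.2, ?_⟩
  rw [Subgroup.relIndex_top_right]
  exact P.not_dvd_index

theorem part_a (𝒦 : Set (Subgroup H)) (hne : 𝒦.Nonempty)
    (hinv : ∀ h : H, ∀ E ∈ 𝒦, E.map (MulAut.conj h).toMonoidHom ∈ 𝒦)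
    (htr : ∀ E ∈ 𝒦, ∀ K ∈ 𝒦, ∃ h : H, K = E.map (MulAut.conj h).toMonoidHom)
    (hres : Cfsg.pResidual p H ≤ sSup 𝒦)
    (hnorm : ∀ E ∈ 𝒦, sSup 𝒦 ⊔ Cfsg.pCore p H ≤
      Subgroup.normalizer ((E ⊔ Cfsg.pCore p H : Subgroup H) : Set H))
    (hmin : ∀ E ∈ 𝒦, ∀ T : Sylow p ↥E, Cfsg.IsMinimalOver (T : Subgroup ↥E))
    (T : Sylow p H) : Cfsg.IsMinimalOver (T : Subgroup H) := by
  set O := Cfsg.pCore p H with hOdef
  have hOT : O ≤ (T : Subgroup H) := pCore_le_sylow T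
  set R₀ := sSup 𝒦 ⊔ O with hR₀def
  haveI hRn : (sSup 𝒦).Normal := sSup_normal_of_inv 𝒦 hinv
  haveI hR₀n : R₀.Normal := Subgroup.sup_normal _ _
  have hAR : ∀ E ∈ 𝒦, E ⊔ O ≤ R₀ := fun E hE => sup_le_sup_right (le_sSup hE) _
  have hsyl' : ∀ (P : Sylow p H), ∀ E ∈ 𝒦, IsSylowIn p ((P : Subgroup H) ⊓ (E ⊔ O)) (E ⊔ O) :=
    fun P E hE => hsyl_of hR₀n (hAR E hE) (hnorm E hE) P
  have hEsyl : ∀ E ∈ 𝒦, IsSylowIn p ((T : Subgroup H) ⊓ E) E := fun E hE =>
    isSylowIn_inf_of_sup hOT (hsyl' T E hE)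
  refine ⟨?_, ?_⟩
  · -- normal closure
    rw [eq_top_iff, ← Cfsg.Agent.Lib.Transfer.sup_pResidual_sylow T]
    apply sup_le _ (Subgroup.le_normalClosure)
    refine hres.trans (sSup_le fun E hE => ?_)
    have h1 := (hmin E hE (hEsyl E hE).toSylow).1
    have h2 : (Subgroup.normalClosure (T : Set H)).subgroupOf E = ⊤ := by
      rw [eq_top_iff, ← h1]
      apply Subgroup.normalClosure_le_normal
      rintro ⟨x, hxE⟩ hx
      have hx' : x ∈ (T : Subgroup H) ⊓ E := hx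
      rw [SetLike.mem_coe, Subgroup.mem_subgroupOf]
      exact Subgroup.subset_normalClosure hx'.1
    intro x hx
    have : (⟨x, hx⟩ : E) ∈ (Subgroup.normalClosure (T : Set H)).subgroupOf E := by rw [h2]; trivial
    simpa [Subgroup.mem_subgroupOf] using this
  · obtain ⟨E₀, hE₀⟩ := hne
    apply unique_coatom_of_family T {A | ∃ E ∈ 𝒦, A = E ⊔ O} ⟨_, E₀, hE₀, rfl⟩
    · rintro h _ ⟨E, hE, rfl⟩
      exact ⟨_, hinv h E hE, cj_sup_core O E h⟩
    · rintro P _ ⟨E, hE, rfl⟩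
      exact hsyl' P E hE
    · rintro _ ⟨E, hE, rfl⟩
      exact exists_LP hOT (hmin E hE (hEsyl E hE).toSylow).2
    · rintro X hTX _ ⟨E, hE, rfl⟩ hAX
      rw [eq_top_iff, ← Cfsg.Agent.Lib.Transfer.sup_pResidual_sylow T]
      refine sup_le (hres.trans (sSup_le fun K hK => ?_)) hTX
      obtain ⟨h, rfl⟩ := htr E hE K hK
      have hh : h ∈ (T : Subgroup H) ⊔ R₀ := by
        have h1 : h ∈ Cfsg.pResidual p H ⊔ (T : Subgroup H) := by
          rw [Cfsg.Agent.Lib.Transfer.sup_pResidual_sylow T]; trivial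
        have h2 : Cfsg.pResidual p H ⊔ (T : Subgroup H) ≤ (T : Subgroup H) ⊔ R₀ :=
          sup_le ((hres.trans le_sup_left).trans le_sup_right) le_sup_left
        exact h2 h1
      obtain ⟨t, ht, r, hr, rfl⟩ := mem_sup_of_normal_right.mp hh
      have e1 : cj r (E ⊔ O) = E ⊔ O := mem_normalizer_iff_conj.mp (hnorm E hE hr)
      have e2 : cj t X = X := conj_eq_of_mem (hTX ht)
      have e3 : cj (t * r) (E ⊔ O) = cj t (cj r (E ⊔ O)) := (conj_mul_conj _ _ _).symm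
      have h3 : cj (t * r) E ≤ cj (t * r) (E ⊔ O) := conj_mono _ le_sup_left
      rw [e3, e1] at h3
      have h4 : cj t (E ⊔ O) ≤ cj t X := conj_mono _ hAX
      rw [e2] at h4
      exact h3.trans h4
    · rintro _ ⟨E, hE, rfl⟩ M hM hN
      have h1 := (hmin E hE (hEsyl E hE).toSylow).1
      have hMn : (M.subgroupOf E).Normal :=
        subgroupOf_normal_of_le_normalizer (le_sup_left.trans hN)
      have h2 : M.subgroupOf E = ⊤ := by
        rw [eq_top_iff, ← h1]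
        apply Subgroup.normalClosure_le_normal
        rintro ⟨x, hxE⟩ hx
        have hx' : x ∈ (T : Subgroup H) ⊓ E := hx
        rw [SetLike.mem_coe, Subgroup.mem_subgroupOf]
        exact hM.ov ⟨hx'.1, mem_sup_left hxE⟩
      apply hM.ne
      apply le_antisymm hM.le
      apply sup_le
      · intro x hx
        have : (⟨x, hx⟩ : E) ∈ M.subgroupOf E := by rw [h2]; trivial
        simpa [Subgroup.mem_subgroupOf] using this
      · intro o ho
        exact hM.ov ⟨hOT ho, mem_sup_right ho⟩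

theorem residual_le_commutator {L : Type*} [Group L] [Finite L] (h : IsStronglyPIrreducible p L) :
    pResidual p L ≤ commutator L := by
  apply h.2 _ inferInstance
  intro hle
  apply h.1
  rw [isPClosed_quotient_iff (pCore p L) (pCore_isPGroup p L)]
  set Q := L ⧸ pCore p L with hQ
  set g := QuotientGroup.mk' (pCore p L) with hg
  have hs : Function.Surjective g := QuotientGroup.mk'_surjective _
  have h1 : (⁅commutator Q, (⊤ : Subgroup Q)⁆ : Subgroup Q) = ⊥ := by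
    have h2 : (⁅commutator L, (⊤ : Subgroup L)⁆ : Subgroup L).map g = ⊥ := by
      rw [eq_bot_iff]
      rintro _ ⟨x, hx, rfl⟩
      exact (QuotientGroup.eq_one_iff _).mpr (hle hx)
    rw [Subgroup.map_commutator, Subgroup.map_top_of_surjective _ hs] at h2
    have h3 : (commutator L).map g = commutator Q := by
      rw [commutator_def, commutator_def, Subgroup.map_commutator,
        Subgroup.map_top_of_surjective _ hs]
    rwa [h3] at h2
  have h2 : commutator Q ≤ Subgroup.center Q := by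
    have := Subgroup.commutator_eq_bot_iff_le_centralizer.mp h1
    rwa [coe_top, centralizer_univ] at this
  have hnil : Group.IsNilpotent Q := by
    apply _root_.isNilpotent_of_ker_le_center (Abelianization.of (G := Q))
    rw [Abelianization.ker_of]
    exact h2
  have htf := (Group.isNilpotent_of_finite_tfae (G := Q)).out 0 3
  exact fun P => (htf.mp hnil) p inferInstance P

theorem map_cj {Q : Type*} [Group Q] (f : H →* Q) (A : Subgroup H) (h : H) :
    (cj h A).map f = cj (f h) (A.map f) := by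
  ext x
  constructor
  · rintro ⟨_, ⟨a, ha, rfl⟩, rfl⟩
    exact ⟨f a, ⟨a, ha, rfl⟩, by simp⟩
  · rintro ⟨_, ⟨a, ha, rfl⟩, rfl⟩
    exact ⟨_, ⟨a, ha, rfl⟩, by simp⟩

theorem map_sup_core (E : Subgroup H) : (E ⊔ pCore p H).map (QuotientGroup.mk' (pCore p H)) =
    E.map (QuotientGroup.mk' (pCore p H)) := by
  rw [Subgroup.map_sup]
  have : (pCore p H).map (QuotientGroup.mk' (pCore p H)) = ⊥ := by
    rw [eq_bot_iff]
    rintro _ ⟨x, hx, rfl⟩
    exact (QuotientGroup.eq_one_iff _).mpr hx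
  rw [this, sup_bot_eq]

/-- `O_p(E) ≤ O_p(H)`. -/
theorem pCoreOf_le_core {E R₀ : Subgroup H} (hR₀ : R₀.Normal) (hER : E ⊔ pCore p H ≤ R₀)
    (hn : R₀ ≤ normalizer ((E ⊔ pCore p H : Subgroup H) : Set H)) :
    pCoreOf p E ≤ pCore p H := by
  set O := pCore p H with hO
  have hOp : IsPGroup p O := pCore_isPGroup p H
  have hW : IsPGroup p (pCoreOf p E ⊔ O : Subgroup H) :=
    (pCoreOf_isPGroup (p := p) E).to_sup_of_normal_right hOp
  have hWA : pCoreOf p E ⊔ O ≤ E ⊔ O :=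
    sup_le_sup_right (Subgroup.map_subtype_le _) _
  have hAW : E ⊔ O ≤ normalizer ((pCoreOf p E ⊔ O : Subgroup H) : Set H) := by
    apply sup_le
    · apply le_normalizer_sup (le_normalizer_pCoreOf E)
      rw [normalizer_eq_top_iff.mpr inferInstance]
      exact le_top
    · exact (le_sup_right : O ≤ pCoreOf p E ⊔ O).trans Subgroup.le_normalizer
  have h1 : pCoreOf p E ⊔ O ≤ pCoreOf p (E ⊔ O) := le_pCoreOf_of_normal hW hWA hAW
  have h2 : pCoreOf p (E ⊔ O) ≤ pCore p H :=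
    le_pCore_of_normalized hR₀ ((Subgroup.map_subtype_le _).trans hER)
      (hn.trans (normalizer_le_normalizer_pCoreOf _)) (pCoreOf_isPGroup _)
  exact (le_sup_left.trans h1).trans h2

theorem dichotomy {E : Subgroup H} (hE : IsStronglyPIrreducible p ↥E)
    (hcore : pCoreOf p E ≤ pCore p H) (U : Subgroup (H ⧸ pCore p H))
    (hU : E.map (QuotientGroup.mk' (pCore p H)) ≤ normalizer (U : Set (H ⧸ pCore p H))) :
    rsP p (E.map (QuotientGroup.mk' (pCore p H))) ≤ U ∨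
      U ⊓ E.map (QuotientGroup.mk' (pCore p H)) ≤
        centralizer (E.map (QuotientGroup.mk' (pCore p H)) : Set (H ⧸ pCore p H)) := by
  set f := QuotientGroup.mk' (pCore p H) with hf
  let NE : Subgroup E := (U.comap f).subgroupOf E
  have hmemNE : ∀ x : E, x ∈ NE ↔ f x ∈ U := fun x => Iff.rfl
  have hNE : NE.Normal := by
    refine ⟨fun n hn g => ?_⟩
    rw [hmemNE] at hn ⊢
    have h1 : f g ∈ normalizer (U : Set (H ⧸ pCore p H)) := hU ⟨g, g.2, rfl⟩
    have h2 := (mem_normalizer_iff.mp h1 _).mp hn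
    simpa using h2
  by_cases h : (⁅NE, (⊤ : Subgroup E)⁆ : Subgroup E) ≤ pCore p E
  · right
    rintro u ⟨hu, e₀, he₀, rfl⟩
    rw [mem_centralizer_iff]
    rintro _ ⟨e, he, rfl⟩
    have h1 : ⁅(⟨e₀, he₀⟩ : E), (⟨e, he⟩ : E)⁆ ∈ pCore p E :=
      h (commutator_mem_commutator ((hmemNE _).mpr hu) (mem_top _))
    have h2 : ((⁅(⟨e₀, he₀⟩ : E), (⟨e, he⟩ : E)⁆ : E) : H) ∈ pCore p H :=
      hcore ⟨_, h1, rfl⟩
    have h3 : f (e₀ * e * e₀⁻¹ * e⁻¹) = 1 := (QuotientGroup.eq_one_iff _).mpr h2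
    have h4 : f e₀ * f e * (f e₀)⁻¹ * (f e)⁻¹ = 1 := by simpa using h3
    have h5 := mul_inv_eq_one.mp h4
    have h6 := mul_inv_eq_iff_eq_mul.mp h5
    exact h6.symm
  · left
    have h1 := hE.2 NE hNE h
    apply rsP_le_of_pow_mem
    rintro _ ⟨e, he, rfl⟩
    obtain ⟨k, y, hy, hyk⟩ := pow_mem_rsP (p := p) e he
    refine ⟨k, ?_⟩
    have h2 := (hmemNE _).mp (h1 hy)
    rw [← map_pow]
    have hyk' : (y : H) = e ^ p ^ k := hyk
    rwa [← hyk']

theorem pow_mem_comm {E : Subgroup H} (hE : IsStronglyPIrreducible p ↥E) :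
    ∀ b ∈ E.map (QuotientGroup.mk' (pCore p H)), ∃ m : ℕ, b ^ (p ^ m) ∈
      (⁅E.map (QuotientGroup.mk' (pCore p H)), E.map (QuotientGroup.mk' (pCore p H))⁆ :
        Subgroup (H ⧸ pCore p H)) := by
  rintro _ ⟨e, he, rfl⟩
  obtain ⟨k, y, hy, hyk⟩ := pow_mem_rsP (p := p) e he
  refine ⟨k, ?_⟩
  rw [← Subgroup.map_commutator, ← map_pow]
  refine ⟨_, ?_, rfl⟩
  have hyk' : (y : H) = e ^ p ^ k := hyk
  rw [← hyk', ← Subgroup.map_subtype_commutator]
  exact ⟨y, residual_le_commutator hE hy, rfl⟩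

theorem dvd_card_map {E : Subgroup H} (hE : ¬ IsPClosed p ↥E) (hcore : pCoreOf p E ≤ pCore p H) :
    p ∣ Nat.card (E.map (QuotientGroup.mk' (pCore p H))) := by
  by_contra hd
  apply hE
  set f := QuotientGroup.mk' (pCore p H) with hf
  have hker : (f.comp E.subtype).ker = (pCore p H).subgroupOf E := by
    ext x
    rw [MonoidHom.mem_ker, Subgroup.mem_subgroupOf]
    exact QuotientGroup.eq_one_iff _
  have hrange : (f.comp E.subtype).range = E.map f := by
    rw [MonoidHom.range_comp, Subgroup.range_subtype]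
  have hidx : ((pCore p H).subgroupOf E).index = Nat.card (E.map f) := by
    rw [← hker, Subgroup.index_ker, hrange]
  have hpO : IsPGroup p ((pCore p H).subgroupOf E) :=
    isPGroup_subgroupOf (pCore_isPGroup p H)
  have hnormal : ((pCore p H).subgroupOf E).Normal := by
    rw [← hker]; infer_instance
  exact isPClosed_of_normal_sylow (hpO.toSylow (by rwa [hidx])) hnormal

theorem part_b (𝒦 : Set (Subgroup H)) (hne : 𝒦.Nonempty)
    (hinv : ∀ h : H, ∀ E ∈ 𝒦, E.map (MulAut.conj h).toMonoidHom ∈ 𝒦)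
    (htr : ∀ E ∈ 𝒦, ∀ K ∈ 𝒦, ∃ h : H, K = E.map (MulAut.conj h).toMonoidHom)
    (hres : Cfsg.pResidual p H ≤ sSup 𝒦)
    (hnorm : ∀ E ∈ 𝒦, sSup 𝒦 ⊔ Cfsg.pCore p H ≤
      Subgroup.normalizer ((E ⊔ Cfsg.pCore p H : Subgroup H) : Set H))
    (hirr : ∀ E ∈ 𝒦, Cfsg.IsStronglyPIrreducible p ↥E) :
    Cfsg.IsPIrreducible p H ∧ ∀ E ∈ 𝒦, ∀ K ∈ 𝒦,
      (Cfsg.pResidual p ↥(E ⊔ Cfsg.pCore p H)).map (E ⊔ Cfsg.pCore p H).subtype =
        (Cfsg.pResidual p ↥(K ⊔ Cfsg.pCore p H)).map (K ⊔ Cfsg.pCore p H).subtype ∨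
      ⁅E, K⁆ ≤ Cfsg.pCore p H := by
  set O := Cfsg.pCore p H with hOdef
  have hOp : IsPGroup p O := pCore_isPGroup p H
  set f := QuotientGroup.mk' O with hf
  have hs : Function.Surjective f := QuotientGroup.mk'_surjective O
  set R₀ := sSup 𝒦 ⊔ O with hR₀def
  haveI hRn : (sSup 𝒦).Normal := sSup_normal_of_inv 𝒦 hinv
  haveI hR₀n : R₀.Normal := Subgroup.sup_normal _ _
  have hAR : ∀ E ∈ 𝒦, E ⊔ O ≤ R₀ := fun E hE => sup_le_sup_right (le_sSup hE) _
  have hcore : ∀ E ∈ 𝒦, pCoreOf p E ≤ O := fun E hE =>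
    pCoreOf_le_core hR₀n (hAR E hE) (hnorm E hE)
  have hO : pCore p (H ⧸ O) = ⊥ := by
    rw [eq_bot_iff]
    intro y hy
    obtain ⟨x, rfl⟩ := hs y
    have h1 : x ∈ (pCore p (H ⧸ O)).comap (QuotientGroup.mk' O) := hy
    rw [comap_pCore_quotient O hOp] at h1
    exact (QuotientGroup.eq_one_iff _).mpr h1
  have hmain := main_gamma (p := p) hO ((fun E => E.map f) '' 𝒦)
    (hne.image _)
    (by
      rintro g _ ⟨E, hE, rfl⟩
      obtain ⟨h, rfl⟩ := hs g
      exact ⟨_, hinv h E hE, map_cj f E h⟩)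
    (by
      rintro _ ⟨E, hE, rfl⟩ _ ⟨K, hK, rfl⟩
      obtain ⟨h, rfl⟩ := htr E hE K hK
      exact ⟨f h, map_cj f E h⟩)
    (by
      rw [← map_pResidual_quotient O hOp, Subgroup.map_le_iff_le_comap]
      refine hres.trans (sSup_le fun E hE => ?_)
      rw [← Subgroup.map_le_iff_le_comap]
      exact le_sSup ⟨E, hE, rfl⟩)
    (by
      rintro _ ⟨E, hE, rfl⟩
      apply sSup_le
      rintro _ ⟨K, hK, rfl⟩
      have h1 : K ≤ normalizer ((E ⊔ O : Subgroup H) : Set H) :=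
        (le_sSup hK).trans (le_sup_left.trans (hnorm E hE))
      have h2 := (Subgroup.map_mono h1).trans (Subgroup.le_normalizer_map f)
      rwa [map_sup_core] at h2)
    (by
      rintro _ ⟨E, hE, rfl⟩
      exact dvd_card_map (hirr E hE).1 (hcore E hE))
    (by
      rintro _ ⟨E, hE, rfl⟩ U hU
      exact dichotomy (hirr E hE) (hcore E hE) U hU)
    (by
      rintro _ ⟨E, hE, rfl⟩
      exact pow_mem_comm (hirr E hE))
  refine ⟨(pIrreducible_quotient_iff O hOp).mpr hmain.1, ?_⟩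
  intro E hE K hK
  rcases hmain.2 _ ⟨E, hE, rfl⟩ _ ⟨K, hK, rfl⟩ with h | h
  · left
    apply Subgroup.eq_of_le_of_card_ge
    · rw [map_pResidual_eq_closure, closure_le]
      rintro x ⟨hx, hc⟩
      apply mem_map_pResidual_of_coprime _ hc
      obtain ⟨e, he, o, ho, rfl⟩ := mem_sup_of_normal_right.mp hx
      have ho1 : f o = 1 := (QuotientGroup.eq_one_iff o).mpr ho
      have h1 : f (e * o) = f e := by
        rw [map_mul, ho1, mul_one]
      have h2 : f e ∈ rsP p (E.map f) := by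
        apply mem_map_pResidual_of_coprime (Subgroup.mem_map_of_mem f he)
        rw [← h1]
        exact Nat.Coprime.coprime_dvd_left (orderOf_map_dvd _ _) hc
      obtain ⟨k, hk, hkf⟩ := h h2
      have h3 : k⁻¹ * (e * o) ∈ O := by
        apply QuotientGroup.eq.mp
        show f k = f (e * o)
        rw [h1]
        exact hkf
      have h4 : e * o = k * (k⁻¹ * (e * o)) := by group
      rw [h4]
      exact Subgroup.mul_mem _ (mem_sup_left hk) (mem_sup_right h3)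
    · obtain ⟨h', rfl⟩ := htr E hE K hK
      have e1 : cj h' E ⊔ O = cj h' (E ⊔ O) := (cj_sup_core O E h').symm
      have e2 : rsP p (cj h' E ⊔ O) = cj h' (rsP p (E ⊔ O)) := by
        rw [e1]
        exact rsP_conj h' (E ⊔ O)
      have e3 : Nat.card (rsP p (cj h' E ⊔ O)) = Nat.card (rsP p (E ⊔ O)) := by
        rw [e2]
        exact card_conj _ _
      exact e3.le
  · right
    rw [← Subgroup.map_commutator] at h
    intro x hx
    have h1 : f x ∈ (⁅E, K⁆ : Subgroup H).map f := ⟨x, hx, rfl⟩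
    rw [h] at h1
    exact (QuotientGroup.eq_one_iff _).mp h1

end helpers


/-- Let H be a finite group, p a prime, and 𝒦 a nonempty set of subgroups of H permuted transitively by conjugation, with R the subgroup generated by the members of 𝒦. Suppose O^p(H) ≤ R, each E ∈ 𝒦 has E·O_p(H) normal in R·O_p(H), and each E ∈ 𝒦 is p-minimal (generated by the conjugates of a Sylow p-subgroup T_E of E, with T_E in exactly one maximal subgroup of E). Then H is p-minimal in the same sense. If instead each E ∈ 𝒦 is strongly p-irreducible, then H is p-irreducible and, for E, K ∈ 𝒦, either O^p(E·O_p(H)) = O^p(K·O_p(H)) or [E, K] ≤ O_p(H). -/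
theorem result {H : Type*} [Group H] [Finite H] {p : ℕ} [Fact p.Prime] (𝒦 : Set (Subgroup H)) (hne : 𝒦.Nonempty) (hinv : ∀ h : H, ∀ E ∈ 𝒦, E.map (MulAut.conj h).toMonoidHom ∈ 𝒦) (htr : ∀ E ∈ 𝒦, ∀ K ∈ 𝒦, ∃ h : H, K = E.map (MulAut.conj h).toMonoidHom) (hres : Cfsg.pResidual p H ≤ sSup 𝒦) (hnorm : ∀ E ∈ 𝒦, sSup 𝒦 ⊔ Cfsg.pCore p H ≤ Subgroup.normalizer ((E ⊔ Cfsg.pCore p H : Subgroup H) : Set H)) : ((∀ E ∈ 𝒦, ∀ T : Sylow p ↥E, Cfsg.IsMinimalOver (T : Subgroup ↥E)) → ∀ T : Sylow p H, Cfsg.IsMinimalOver (T : Subgroup H)) ∧ ((∀ E ∈ 𝒦, Cfsg.IsStronglyPIrreducible p ↥E) → Cfsg.IsPIrreducible p H ∧ ∀ E ∈ 𝒦, ∀ K ∈ 𝒦, (Cfsg.pResidual p ↥(E ⊔ Cfsg.pCore p H)).map (E ⊔ Cfsg.pCore p H).subtype = (Cfsg.pResidual p ↥(K ⊔ Cfsg.pCore p H)).map (K ⊔ Cfsg.pCore p H).subtype ∨ ⁅E, K⁆ ≤ Cfsg.pCore p H) := by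
  exact ⟨fun h => part_a 𝒦 hne hinv htr hres hnorm h, fun h => part_b 𝒦 hne hinv htr hres hnorm h⟩

end Cfsg.Agent.S2855
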