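import Cfsg.Statements.S2860
import Cfsg.Agent.Lib.Amalgam.WeakClosed
import Cfsg.Agent.Lib.FF.SylowIn
import Cfsg.Agent.Lib.Amalgam.Large
import Cfsg.Agent.Lib.Amalgam.QuasiSec

set_option autoImplicit false
open Cfsg

namespace Cfsg.Agent.S2860


open Cfsg Subgroup Cfsg.Agent.Lib.Core Cfsg.Agent.Lib.FStar Cfsg.Agent.Lib.Amalgam Cfsg.Agent.Lib.Amalgam.QuasiSec
open scoped commutatorElement

theorem res_map_of_injective {X G : Type*} [Group X] [Group G] (p : ℕ) (f : X →* G) (hf : Function.Injective f)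
    (H : Subgroup X) :
    ((pResidual p ↥H).map H.subtype).map f = (pResidual p ↥(H.map f)).map (H.map f).subtype := by
  rw [map_pResidual_eq_closure, map_pResidual_eq_closure, MonoidHom.map_closure]
  congr 1
  ext y
  constructor
  · rintro ⟨x, ⟨hx, hc⟩, rfl⟩
    refine ⟨⟨x, hx, rfl⟩, ?_⟩
    rwa [orderOf_injective f hf]
  · rintro ⟨⟨x, hx, rfl⟩, hc⟩
    refine ⟨x, ⟨hx, ?_⟩, rfl⟩
    rwa [orderOf_injective f hf] at hc

variable {G : Type*} [Group G] [Finite G] {p : ℕ} [hp : Fact p.Prime]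

theorem weak_gen {Q E : Subgroup G} (S : Subgroup ↥E)
    (h : ∀ g : G, Q.map (MulAut.conj g).toMonoidHom ≤ E → (Q.map (MulAut.conj g).toMonoidHom).subgroupOf E ≤ S) :
    (weakClosure Q E).subgroupOf E ≤ S := by
  have h1 : weakClosure Q E ≤ S.map E.subtype := by
    apply iSup_le
    rintro ⟨g, hg⟩ x hx
    exact ⟨⟨x, hg hx⟩, h g hg hx, rfl⟩
  intro x hx
  obtain ⟨y, hy, e⟩ := h1 hx
  have : y = x := Subtype.ext e
  rwa [← this]

theorem weak_normal (Q E : Subgroup G) : ((weakClosure Q E).subgroupOf E).Normal := by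
  apply subgroupOf_normal_of_le_normalizer
  intro e he
  apply mem_normalizer_of_map_conj_le
  unfold weakClosure
  rw [Subgroup.map_iSup]
  apply iSup_le
  rintro ⟨g, hg⟩
  rw [Cfsg.Agent.Lib.FF.conj_mul_conj]
  apply conj_le_weakClosure
  rw [← Cfsg.Agent.Lib.FF.conj_mul_conj]
  intro x hx
  obtain ⟨y, hy, rfl⟩ := hx
  exact E.mul_mem (E.mul_mem he (hg hy)) (E.inv_mem he)


/-- Let Q be a nontrivial large p-subgroup of the finite group H, U a nontrivial elementary abelian p-subgroup of H, and Q ≤ E ≤ N_H(U) with Q not normal in E. Suppose O_p(E/C_E(U)) = 1 and O^p(E)·C_E(U)/C_E(U) is quasisimple. Let E° be the weak closure of Q in E (generated by the conjugates of Q inside E) and E_∘ = O^p(E°). Then O^p(E)·C_E(U) = E_∘·C_E(U); E_∘ is perfect and equals O^p(E_∘); E_∘/C_{E_∘}(U) and E_∘/O_p(E_∘) are quasisimple; and E_∘ = [E_∘, Y] for every p-subgroup Y of E not centralizing U. -/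
theorem result {G : Type*} [Group G] [Finite G] {p : ℕ} [Fact p.Prime] (Q : Subgroup G) (hQp : IsPGroup p ↥Q) (hQ1 : Q ≠ ⊥) (hQ : Cfsg.IsLarge Q) (U : Subgroup G) (hU : Cfsg.IsElementaryAbelian p U) (hU1 : U ≠ ⊥) (E : Subgroup G) (hQE : Q ≤ E) (hEU : E ≤ Subgroup.normalizer ((U : Subgroup G) : Set G)) (hQn : ¬ E ≤ Subgroup.normalizer ((Q : Subgroup G) : Set G)) [hn : ((Subgroup.centralizer ((U : Subgroup G) : Set G)).subgroupOf E).Normal] (hred : Cfsg.pCore p (↥E ⧸ (Subgroup.centralizer ((U : Subgroup G) : Set G)).subgroupOf E) = ⊥) (hqs : Cfsg.IsQuasisimple ↥(((Cfsg.pResidual p ↥E) ⊔ (Subgroup.centralizer ((U : Subgroup G) : Set G)).subgroupOf E).map (QuotientGroup.mk' ((Subgroup.centralizer ((U : Subgroup G) : Set G)).subgroupOf E)))) (Er : Subgroup G) (hEr : Er = ((Cfsg.pResidual p ↥(Cfsg.weakClosure Q E)).map ((Cfsg.weakClosure Q E)).subtype)) [hn2 : ((Subgroup.centralizer ((U : Subgroup G) : Set G)).subgroupOf Er).Normal] : ((Cfsg.pResidual p ↥E).map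 (E).subtype) ⊔ (E ⊓ Subgroup.centralizer ((U : Subgroup G) : Set G)) = Er ⊔ (E ⊓ Subgroup.centralizer ((U : Subgroup G) : Set G)) ∧ ⁅Er, Er⁆ = Er ∧ ((Cfsg.pResidual p ↥Er).map (Er).subtype) = Er ∧ Cfsg.IsQuasisimple (↥Er ⧸ (Subgroup.centralizer ((U : Subgroup G) : Set G)).subgroupOf Er) ∧ Cfsg.IsQuasisimple (↥Er ⧸ Cfsg.pCore p ↥Er) ∧ ∀ Y : Subgroup G, Y ≤ E → IsPGroup p ↥Y → ¬ Y ≤ Subgroup.centralizer ((U : Subgroup G) : Set G) → ⁅Er, Y⁆ = Er := by
  classical
  have hUp : IsPGroup p ↥U := fun x => ⟨1, by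
    apply Subtype.ext
    simpa using hU.2 x.1 x.2⟩
  set C' : Subgroup ↥E := (centralizer (U : Set G)).subgroupOf E with hC'
  set D : Subgroup ↥E := (weakClosure Q E).subgroupOf E with hDdef
  haveI hDn : D.Normal := weak_normal Q E
  set P₀ : Subgroup ↥E := (pCore p ↥C').map C'.subtype with hP₀def
  haveI hP₀n : P₀.Normal := normal_map_of_characteristic C' (pCore p ↥C')
  have hP₀p : IsPGroup p ↥P₀ := (pCore_isPGroup p ↥C').map _
  -- the commutator
  have hCD : ⁅C', D⁆ ≤ P₀ := by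
    let φ := QuotientGroup.mk' P₀
    have hD2 : D ≤ (centralizer ((C'.map φ : Subgroup _) : Set _)).comap φ := by
      apply weak_gen
      intro g hg
      have hQ₁p := isPGroup_map_conj hQp g
      have hQ₁L := isLarge_map_conj hQ g
      set Q₁ := Q.map (MulAut.conj g).toMonoidHom with hQ₁
      have hcn : centralizer (U : Set G) ≤ normalizer (Q₁ : Set G) :=
        large_centralizer_le_normalizer hQ₁p hQ₁L hUp hU1 (hg.trans hEU)
      have hcomm : ⁅C', Q₁.subgroupOf E⁆ ≤ P₀ := by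
        have hn1 : C' ≤ normalizer ((Q₁.subgroupOf E : Subgroup ↥E) : Set ↥E) := by
          intro c hc
          rw [Subgroup.mem_normalizer_iff]
          intro x
          rw [Subgroup.mem_subgroupOf, Subgroup.mem_subgroupOf]
          exact (Subgroup.mem_normalizer_iff.1 (hcn hc)) x.1
        have h1 : ⁅C', Q₁.subgroupOf E⁆ ≤ C' ⊓ Q₁.subgroupOf E :=
          commutator_le_inf_of_mutual hn1 (by rw [normalizer_eq_top_iff.2 hn]; exact le_top)
        refine h1.trans ?_
        rintro x ⟨hxC, hxQ⟩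
        refine ⟨⟨x, hxC⟩, ?_, rfl⟩
        have h2 : (Q₁.subgroupOf E).subgroupOf C' ≤ pCore p ↥C' := by
          apply le_pCore
          · exact subgroupOf_normal_of_le_normalizer hn1
          · exact Cfsg.Agent.Lib.FF.isPGroup_subgroupOf (Cfsg.Agent.Lib.FF.isPGroup_subgroupOf hQ₁p)
        exact h2 hxQ
      intro x hx
      rw [Subgroup.mem_comap, mem_centralizer_iff]
      rintro _ ⟨c, hc, rfl⟩
      have h3 : φ ⁅c, x⁆ = 1 := (QuotientGroup.eq_one_iff _).2 (hcomm (commutator_mem_commutator hc hx))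
      rw [map_commutatorElement, commutatorElement_eq_one_iff_mul_comm] at h3
      exact h3
    rw [Subgroup.commutator_le]
    intro c hc d hd
    have h3 := (mem_centralizer_iff.1 (hD2 hd)) (φ c) ⟨c, hc, rfl⟩
    have h4 : φ ⁅c, d⁆ = 1 := by
      rw [map_commutatorElement, commutatorElement_eq_one_iff_mul_comm]
      exact h3
    exact (QuotientGroup.eq_one_iff _).1 h4
  -- hypotheses on `Q`
  have hQ'p : IsPGroup p ↥(Q.subgroupOf E) := Cfsg.Agent.Lib.FF.isPGroup_subgroupOf hQp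
  have hQ'D : Q.subgroupOf E ≤ D := by
    intro x hx
    exact self_le_weakClosure hQE hx
  have hQ'C : ¬ Q.subgroupOf E ≤ C' := by
    intro h
    apply hQn
    have h1 : U ≤ centralizer (Q : Set G) := by
      intro u hu
      rw [mem_centralizer_iff]
      intro q hq
      have h2 : (⟨q, hQE hq⟩ : ↥E) ∈ C' := h hq
      have h3 : q ∈ centralizer (U : Set G) := h2
      exact ((mem_centralizer_iff.1 h3) u hu).symm
    exact hEU.trans (hQ.2 U h1 hU1)
  have hgen : ∀ S : Subgroup ↥E, (∀ Q' : Subgroup ↥E, IsPGroup p ↥Q' → Q' ≤ D → Q' ≤ S) → D ≤ S := by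
    intro S hS
    apply weak_gen
    intro g hg
    apply hS
    · exact Cfsg.Agent.Lib.FF.isPGroup_subgroupOf (isPGroup_map_conj hQp g)
    · intro x hx
      exact conj_le_weakClosure hg hx
  obtain ⟨ha, hb, hc, hd, he, hf⟩ := QuasiSec.main C' D P₀ hP₀p hCD (Q.subgroupOf E) hQ'p hQ'D hQ'C hgen hred hqs
    ((pResidual p ↥D).map D.subtype) rfl
  set R : Subgroup ↥E := (pResidual p ↥D).map D.subtype with hR
  have hErR : Er = R.map E.subtype := by
    rw [hEr, hR]
    have hcl := res_map_of_injective p E.subtype E.subtype_injective D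
    rw [hcl]
    have hDE : D.map E.subtype = weakClosure Q E := by
      rw [hDdef, subgroupOf_map_subtype, inf_eq_left.2 (weakClosure_le_self Q E)]
    rw [map_pResidual_eq_closure, map_pResidual_eq_closure, hDE]
  obtain rfl := hErR
  have hCmap : C'.map E.subtype = E ⊓ centralizer (U : Set G) := by
    rw [hC', subgroupOf_map_subtype, inf_comm]
  let e : ↥R ≃* ↥(R.map E.subtype) := R.equivMapOfInjective E.subtype E.subtype_injective
  refine ⟨?_, ?_, ?_, ?_, ?_, ?_⟩
  · have h1 := congrArg (Subgroup.map E.subtype) ha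
    rw [Subgroup.map_sup, Subgroup.map_sup, hCmap] at h1
    exact h1
  · rw [← Subgroup.map_commutator, hb]
  · rw [← res_map_of_injective p E.subtype E.subtype_injective R, hc]
  · refine qs_of_mulEquiv (QuotientGroup.congr (C'.subgroupOf R) _ e ?_) hd
    ext x
    constructor
    · rintro ⟨y, hy, rfl⟩
      exact hy
    · intro hx
      obtain ⟨y, hy, hye⟩ := x.2
      refine ⟨⟨y, hy⟩, ?_, Subtype.ext hye⟩
      have : x.1 ∈ centralizer (U : Set G) := hx
      rw [← hye] at this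
      exact this
  · refine qs_of_mulEquiv (QuotientGroup.congr (pCore p ↥R) _ e (map_pCore_equiv (p := p) e)) he
  · intro Y hYE hYp hYC
    have hY'C : ¬ Y.subgroupOf E ≤ C' := by
      intro h
      apply hYC
      intro y hy
      exact h (show (⟨y, hYE hy⟩ : ↥E) ∈ Y.subgroupOf E from hy)
    have h1 := hf (Y.subgroupOf E) (Cfsg.Agent.Lib.FF.isPGroup_subgroupOf hYp) hY'C
    have h2 := congrArg (Subgroup.map E.subtype) h1
    rw [Subgroup.map_commutator, subgroupOf_map_subtype, inf_eq_left.2 hYE] at h2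
    exact h2


end Cfsg.Agent.S2860
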