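import Cfsg.Statements.S2861
import Cfsg.Agent.Lib.Amalgam.LUniq

set_option autoImplicit false
open Cfsg Cfsg.Agent.Lib.Amalgam Cfsg.Agent.Lib.Amalgam.LFpf Cfsg.Agent.Lib.Amalgam.LUniq

namespace Cfsg.Agent.S2861

/-- Standing hypotheses: G a finite group, S a Sylow p-subgroup, Q a nontrivial large p-subgroup of G contained in S, M a subgroup containing S with the basic property (M ∈ 𝔐_G(S)); Y_M the largest p-reduced normal subgroup of M and M† = M·C_G(Y_M). Let L ∈ 𝔏_G(Y_M) (L ∈ 𝔏_G(Y_M): Y_M ≤ L; O_p(L) is the normal closure in L of Y_M ∩ O_p(L) and normalizes Y_M; L is Y_M-minimal of characteristic p with N_L(Y_M) its unique maximal subgroup over Y_M; and L/O_p(L) ≅ SL₂(q) with q = |Y_M : Y_M ∩ O_p(L)|, or p = 2 and L/O_p(L) is a Suzuki group Sz(q) or dihedral of order 2r, r an odd prime) and A = O_p(L). Then Y_M·A/A is the unique nontrivial elementary abelian normal p-subgroup of N_L(Y_M)/A. -/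
theorem result {G : Type*} [Group G] [Finite G] {p : ℕ} [Fact p.Prime] (S : Sylow p G) (Q : Subgroup G) (hQp : IsPGroup p ↥Q) (hQ1 : Q ≠ ⊥) (hQS : Q ≤ (S : Subgroup G)) (hQ : Cfsg.IsLarge Q) (M : Subgroup G) (hSM : (S : Subgroup G) ≤ M) (hM : Cfsg.IsInFrakM p M) (L : Subgroup G) (hL : Cfsg.IsInFrakL p M L) (NL : Subgroup G) (hNL : NL = L ⊓ Subgroup.normalizer (((Cfsg.largestPReducedOf p M) : Subgroup G) : Set G)) [hn : (((Cfsg.pCoreOf p L)).subgroupOf NL).Normal] : let Ybar : Subgroup (↥NL ⧸ ((Cfsg.pCoreOf p L)).subgroupOf NL) := (((Cfsg.largestPReducedOf p M)).subgroupOf NL).map (QuotientGroup.mk' (((Cfsg.pCoreOf p L)).subgroupOf NL)); Ybar ≠ ⊥ ∧ Ybar.Normal ∧ Cfsg.IsElementaryAbelian p Ybar ∧ ∀ (V : Subgroup (↥NL ⧸ ((Cfsg.pCoreOf p L)).subgroupOf NL)), V.Normal → Cfsg.IsElementaryAbelian p V → V ≠ ⊥ → V = Ybar := by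
  classical
  intro Ybar
  subst hNL
  have D := LD_of_frakL hL
  have hYL := hL.1
  set Y := largestPReducedOf p M with hY
  set NL := L ⊓ Subgroup.normalizer ((Y : Subgroup G) : Set G) with hNLdef
  have hNL1 : NL ≤ L := inf_le_left
  set A := pCore p ↥L with hA
  set Y' := Y.subgroupOf L with hY'
  set π := QuotientGroup.mk' A with hπ
  have hπs : Function.Surjective π := QuotientGroup.mk'_surjective A
  have hker : π.ker = A := QuotientGroup.ker_mk' _
  set T := Y'.map π with hT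
  have hU : UniqP p T := uniq_of_frakL hL
  have hN' := normalizer_ne_top hL
  let ι : ↥NL →* ↥L := Subgroup.inclusion hNL1
  let ρ : ↥NL →* (↥L ⧸ A) := π.comp ι
  have hρker : ρ.ker = (pCoreOf p L).subgroupOf NL := by
    ext x
    rw [MonoidHom.mem_ker, Subgroup.mem_subgroupOf]
    constructor
    · intro h1
      have h2 : ι x ∈ A := by
        rw [← hker]
        exact h1
      exact ⟨ι x, h2, rfl⟩
    · rintro ⟨a, ha, e⟩
      have h2 : ι x = a := Subtype.ext e.symm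
      show π (ι x) = 1
      rw [h2]
      have : a ∈ π.ker := by rw [hker]; exact ha
      exact this
  let ψ : (↥NL ⧸ (pCoreOf p L).subgroupOf NL) →* (↥L ⧸ A) := QuotientGroup.lift _ ρ (le_of_eq hρker.symm)
  have hψmk : ∀ x : ↥NL, ψ (QuotientGroup.mk' _ x) = π (ι x) := fun x => rfl
  have hmks : Function.Surjective (QuotientGroup.mk' ((pCoreOf p L).subgroupOf NL)) := QuotientGroup.mk'_surjective _
  have hψinj : Function.Injective ψ := by
    rw [injective_iff_map_eq_one]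
    intro z hz
    obtain ⟨x, rfl⟩ := hmks z
    rw [hψmk] at hz
    have h1 : x ∈ ρ.ker := hz
    rw [hρker] at h1
    exact (QuotientGroup.eq_one_iff x).2 h1
  have hYN : ∀ y ∈ Y, y ∈ NL := by
    intro y hy
    exact ⟨hYL hy, Subgroup.le_normalizer hy⟩
  have hYbarmap : Ybar.map ψ = T := by
    ext z
    constructor
    · rintro ⟨_, ⟨x, hx, rfl⟩, rfl⟩
      exact ⟨ι x, hx, rfl⟩
    · rintro ⟨y, hy, rfl⟩
      have hy' : (y : G) ∈ Y := hy
      refine ⟨_, ⟨⟨y, hYN _ hy'⟩, hy', rfl⟩, rfl⟩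
  have hrange : ∀ t ∈ Subgroup.normalizer ((T : Subgroup (↥L ⧸ A)) : Set (↥L ⧸ A)), ∃ z, ψ z = t := by
    intro t ht
    obtain ⟨l, hl, e⟩ := exists_of_mem_normalizer D hN' hπs hker ht
    have hl' : (l : G) ∈ NL := ⟨l.2, (mem_normalizer_subgroupOf hYL l).1 hl⟩
    exact ⟨QuotientGroup.mk' _ ⟨l, hl'⟩, e⟩
  have hYne : Ybar ≠ ⊥ := by
    intro hb
    apply not_le_of_frakL hL
    intro y hy
    have hy' : (y : G) ∈ Y := hy
    have h1 : QuotientGroup.mk' ((pCoreOf p L).subgroupOf NL) ⟨y, hYN _ hy'⟩ ∈ Ybar := ⟨_, hy', rfl⟩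
    rw [hb] at h1
    have h2 := hψmk ⟨y, hYN _ hy'⟩
    rw [(Subgroup.mem_bot.1 h1), map_one] at h2
    have h3 : y ∈ π.ker := h2.symm
    rwa [hker] at h3
  refine ⟨hYne, ?_, ⟨?_, ?_⟩, ?_⟩
  · have h1 : (Y.subgroupOf NL).Normal := subgroupOf_normal_of_le_normalizer inf_le_right
    exact h1.map _ hmks
  · constructor
    constructor
    rintro ⟨_, a, ha, rfl⟩ ⟨_, b, hb, rfl⟩
    apply Subtype.ext
    show QuotientGroup.mk' _ a * QuotientGroup.mk' _ b = QuotientGroup.mk' _ b * QuotientGroup.mk' _ a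
    rw [← map_mul, ← map_mul]
    congr 1
    exact Subtype.ext (reducedOf_comm (p := p) (M := M) _ _ ha hb)
  · rintro _ ⟨a, ha, rfl⟩
    rw [← map_pow]
    have h1 : (a : G) ^ p = 1 := reducedOf_pow ha
    have h2 : a ^ p = 1 := Subtype.ext (by simpa using h1)
    rw [h2, map_one]
  · intro V hVn hVe hVne
    have hV := hU (V.map ψ) ?_ ?_ ?_ ?_
    · rw [← hYbarmap] at hV
      exact Subgroup.map_injective hψinj hV
    · rintro _ ⟨v, -, rfl⟩
      obtain ⟨x, rfl⟩ := hmks v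
      rw [hψmk]
      have h1 : ι x ∈ Subgroup.normalizer ((Y' : Subgroup ↥L) : Set ↥L) :=
        (mem_normalizer_subgroupOf hYL _).2 x.2.2
      exact Subgroup.le_normalizer_map π ⟨_, h1, rfl⟩
    · intro t ht
      obtain ⟨z, rfl⟩ := hrange t ht
      rw [Subgroup.mem_normalizer_iff]
      intro w
      constructor
      · rintro ⟨v, hv, rfl⟩
        exact ⟨z * v * z⁻¹, hVn.conj_mem v hv z, by simp⟩
      · rintro ⟨v, hv, e⟩
        refine ⟨z⁻¹ * v * z, ?_, ?_⟩
        · have := hVn.conj_mem v hv z⁻¹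
          simpa using this
        · show ψ (z⁻¹ * v * z) = w
          have e' : ψ v = ψ z * w * (ψ z)⁻¹ := e
          rw [map_mul, map_mul, map_inv, e']
          group
    · rintro _ ⟨v, hv, rfl⟩
      rw [← map_pow, hVe.2 v hv, map_one]
    · intro hb
      apply hVne
      exact (Subgroup.map_eq_bot_iff_of_injective _ hψinj).1 hb


end Cfsg.Agent.S2861
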