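import Cfsg.Statements.S2864
import Cfsg.Agent.Lib.Amalgam.Asym2

set_option autoImplicit false
open Cfsg Cfsg.Agent.Lib.Amalgam
open scoped commutatorElement

namespace Cfsg.Agent.S2864

/-- Standing hypotheses: G a finite group, S a Sylow p-subgroup, Q a nontrivial large p-subgroup of G contained in S, M a subgroup containing S with the basic property (M ∈ 𝔐_G(S)); Y_M the largest p-reduced normal subgroup of M and M† = M·C_G(Y_M). Let I be a nontrivial normal p-subgroup of M and Y ≤ O_p(M†); let L be a subgroup of G containing Y and A a normal p-subgroup of L with I ≤ A ≤ M. If [Y, A] ≤ [I, A], then Y ≤ O_p(L). -/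
theorem result {G : Type*} [Group G] [Finite G] {p : ℕ} [Fact p.Prime] (S : Sylow p G) (Q : Subgroup G) (hQp : IsPGroup p ↥Q) (hQ1 : Q ≠ ⊥) (hQS : Q ≤ (S : Subgroup G)) (hQ : Cfsg.IsLarge Q) (M : Subgroup G) (hSM : (S : Subgroup G) ≤ M) (hM : Cfsg.IsInFrakM p M) (I : Subgroup G) (hI1 : I ≠ ⊥) (hIp : IsPGroup p ↥I) (hIM : I ≤ M ∧ M ≤ Subgroup.normalizer ((I : Subgroup G) : Set G)) (Y : Subgroup G) (hY : Y ≤ (Cfsg.pCoreOf p (M ⊔ Subgroup.centralizer (((Cfsg.largestPReducedOf p M) : Subgroup G) : Set G)))) (L : Subgroup G) (hYL : Y ≤ L) (A : Subgroup G) (hAp : IsPGroup p ↥A) (hAL : A ≤ L ∧ L ≤ Subgroup.normalizer ((A : Subgroup G) : Set G)) (hIA : I ≤ A) (hAM : A ≤ M) (hc : ⁅Y, A⁆ ≤ ⁅I, A⁆) : Y ≤ (Cfsg.pCoreOf p L) := by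
  have hPara := large_parabolicChar hQp hQ1 hQ
  have hYp : IsPGroup p Y := (pCoreOf_isPGroup _).to_le hY
  have hLA := hAL.2
  apply le_pCoreOf_of_acts hAp hLA hYL hYp
  · exact hc.trans (Subgroup.commutator_mono hIA le_rfl)
  · set C := L ⊓ Subgroup.centralizer (A : Set G) with hC
    set Md := M ⊔ Subgroup.centralizer (largestPReducedOf p M : Set G) with hMd
    have hCM : C ≤ Md := by
      have h1 : C ≤ Subgroup.normalizer (I : Set G) :=
        (inf_le_right.trans (Subgroup.centralizer_le hIA)).trans (centralizer_le_normalizer' I)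
      exact h1.trans (frak_normalizer_le hPara S hSM hM hIp hI1 hIM.2)
    have hLC : L ≤ Subgroup.normalizer (C : Set G) :=
      le_normalizer_inf Subgroup.le_normalizer (hLA.trans (normalizer_le_normalizer_centralizer A))
    set O₁ := pCoreOf p Md with hO₁
    have h1 : ⁅Y, C⁆ ≤ O₁ ⊓ C := by
      refine le_inf ?_ (commutator_le_right_of_normalizer (hYL.trans hLC))
      exact (Subgroup.commutator_mono hY hCM).trans (commutator_le_left_of_normalizer (le_normalizer_pCoreOf Md))
    have h2 : O₁ ⊓ C ≤ pCoreOf p C :=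
      le_pCoreOf_of_normal ((pCoreOf_isPGroup Md).to_le inf_le_left) inf_le_right
        (le_normalizer_inf (hCM.trans (le_normalizer_pCoreOf Md)) Subgroup.le_normalizer)
    have h3 : pCoreOf p C ≤ pCoreOf p L :=
      le_pCoreOf_of_normal (pCoreOf_isPGroup C) ((pCoreOf_le_self C).trans inf_le_left)
        (hLC.trans (normalizer_le_normalizer_pCoreOf C))
    exact h1.trans (h2.trans h3)

end Cfsg.Agent.S2864
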