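import Cfsg.Statements.S2872
import Cfsg.Agent.Lib.Transfer.Basic
import Cfsg.Agent.Lib.PGroup.Basic
import Cfsg.Agent.Lib.Core.Frattini
import Cfsg.Agent.Lib.Amalgam.TransferZ2

set_option autoImplicit false
open Cfsg Cfsg.Agent.Lib.Amalgam
open scoped commutatorElement

namespace Cfsg.Agent.S2872

/-- Let S be a Sylow 2-subgroup of the finite group G. Then G has a proper normal subgroup of 2-power index (O²(G) ≠ G), or Ω₁(Z(S)) is contained in the Frattini subgroup of S, or N_G(S) acts nontrivially on Ω₁(Z(S)) by conjugation. -/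
theorem result {G : Type*} [Group G] [Finite G] (S : Sylow 2 G) : Cfsg.pResidual 2 G ≠ ⊤ ∨ Cfsg.omegaOne 2 ((S : Subgroup G) ⊓ Subgroup.centralizer ((S : Subgroup G) : Set G)) ≤ (frattini ↥(S : Subgroup G)).map (S : Subgroup G).subtype ∨ ∃ g ∈ Subgroup.normalizer ((S : Subgroup G) : Set G), ∃ z ∈ Cfsg.omegaOne 2 ((S : Subgroup G) ⊓ Subgroup.centralizer ((S : Subgroup G) : Set G)), g * z * g⁻¹ ≠ z := by
  by_contra hcon
  push Not at hcon
  obtain ⟨h1, h2, h3⟩ := hcon
  have hz : ∃ z, z ∈ (S : Subgroup G) ⊓ Subgroup.centralizer ((S : Subgroup G) : Set G) ∧ z ^ 2 = 1 ∧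
      z ∉ (frattini ↥(S : Subgroup G)).map (S : Subgroup G).subtype := by
    by_contra hno
    push Not at hno
    exact h2 (omegaOne_le (fun x hx hp => hno x hx hp))
  obtain ⟨z, hzZ, hz2, hzF⟩ := hz
  have hz' : (⟨z, hzZ.1⟩ : (S : Subgroup G)) ∉ frattini ↥(S : Subgroup G) := fun h => hzF ⟨_, h, rfl⟩
  obtain ⟨M, hM, hzM⟩ := Cfsg.Agent.Lib.Core.exists_coatom_of_not_mem_frattini hz'
  have hidx : M.index = 2 := Cfsg.Agent.Lib.PGroup.index_eq_prime_of_isCoatom S.2 hM
  obtain ⟨τ, hτ⟩ := exists_parity_of_central_involution (S : Subgroup G) S.2 S.not_dvd_index hzZ.1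
    (fun s hs => Subgroup.mem_centralizer_iff.mp hzZ.2 s hs) hz2 M hidx hzM
    (fun g hg => h3 g hg z (mem_omegaOne_of _ hzZ hz2))
  apply hτ
  have hle : pResidual 2 G ≤ τ.ker := by
    apply Cfsg.Agent.Lib.Transfer.pResidual_le_of_forall
    intro g hg
    rw [MonoidHom.mem_ker]
    have h4 : (τ g) ^ 2 = 1 := by
      generalize τ g = y
      revert y
      decide
    have h5 : orderOf (τ g) ∣ 2 := orderOf_dvd_of_pow_eq_one h4
    have h6 : orderOf (τ g) ∣ orderOf g := orderOf_map_dvd τ g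
    exact orderOf_eq_one_iff.mp (Nat.eq_one_of_dvd_coprimes hg h6 h5)
  rw [h1] at hle
  exact hle trivial

end Cfsg.Agent.S2872
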