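import Cfsg.Statements.S2873
import Cfsg.Agent.Lib.Core.Basic
import Cfsg.Agent.Lib.Amalgam.Red

set_option autoImplicit false
open Cfsg Cfsg.Agent.Lib.Amalgam Cfsg.Agent.Lib.FF
open scoped commutatorElement

namespace Cfsg.Agent.S2873


/-- Two involutions whose product has odd order are conjugate. -/
theorem conj_of_odd {G : Type*} [Group G] {b c : G} (hb : b * b = 1) (hc : c * c = 1) {m : ℕ}
    (ht : (b * c) ^ (2 * m + 1) = 1) : ∃ g : G, g * b * g⁻¹ = c := by
  set t := b * c with ht'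
  have hbt : ∀ n : ℕ, b * (t ^ n)⁻¹ = t ^ n * b := by
    intro n
    induction n with
    | zero => simp
    | succ n ih =>
      have hb' : b⁻¹ = b := inv_eq_of_mul_eq_one_left hb
      have hc' : c⁻¹ = c := inv_eq_of_mul_eq_one_left hc
      have h1 : t⁻¹ = c * b := by
        rw [ht', mul_inv_rev, hb', hc']
      have h2 : b * t⁻¹ = t * b := by
        rw [h1, ht']
        exact (mul_assoc _ _ _).symm
      have h3 : (t ^ (n + 1))⁻¹ = (t ^ n)⁻¹ * t⁻¹ := by
        rw [pow_succ', mul_inv_rev]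
      rw [h3, ← mul_assoc, ih, mul_assoc, h2, ← mul_assoc, ← pow_succ]
  refine ⟨t ^ m, ?_⟩
  have h3 : t ^ m * b * (t ^ m)⁻¹ = t ^ m * (t ^ m * b) := by
    rw [mul_assoc, hbt]
  rw [h3]
  have h4 : t ^ m * t ^ m * t = 1 := by
    rw [← pow_add, ← pow_succ, ← two_mul]; exact ht
  have h5 : t ^ m * t ^ m = t⁻¹ := eq_inv_of_mul_eq_one_left h4
  have hb' : b⁻¹ = b := inv_eq_of_mul_eq_one_left hb
  rw [← mul_assoc, h5, ht', mul_inv_rev, hb']
  calc c⁻¹ * b * b = c⁻¹ * (b * b) := by group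
    _ = c⁻¹ := by rw [hb]; group
    _ = c := inv_eq_of_mul_eq_one_left hc

/-- Orbit counting for conjugation by a subgroup. -/
theorem card_conj_orbit {G : Type*} [Group G] [Finite G] (Q : Subgroup G) (a : G) :
    Nat.card (Set.range fun w : Q => (w : G) * a * (w : G)⁻¹) *
      Nat.card ↥(Q ⊓ Subgroup.centralizer ({a} : Set G)) = Nat.card Q := by
  classical
  letI act : MulAction Q G := MulAction.compHom G ((MulAut.conj : G →* MulAut G).comp Q.subtype)
  have hsmul : ∀ (w : Q) (g : G), w • g = (w : G) * g * (w : G)⁻¹ := fun _ _ => rfl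
  have h1 : MulAction.orbit Q a = Set.range fun w : Q => (w : G) * a * (w : G)⁻¹ := by
    ext x
    simp only [MulAction.mem_orbit_iff, Set.mem_range, hsmul]
  have h2 := MulAction.index_stabilizer Q a
  have h3 := Subgroup.card_mul_index (MulAction.stabilizer Q a)
  rw [h2, h1] at h3
  have h4 : Nat.card (MulAction.stabilizer Q a) = Nat.card ↥(Q ⊓ Subgroup.centralizer ({a} : Set G)) := by
    apply Nat.card_congr
    refine
      { toFun := fun x => ⟨(x.1 : G), x.1.2, ?_⟩
        invFun := fun x => ⟨⟨x.1, x.2.1⟩, ?_⟩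
        left_inv := fun x => rfl
        right_inv := fun x => rfl }
    · refine Subgroup.mem_centralizer_iff.mpr ?_
      rintro _ rfl
      have h := x.2
      rw [MulAction.mem_stabilizer_iff, hsmul] at h
      exact (eq_mul_inv_iff_mul_eq.mp h.symm)
    · rw [MulAction.mem_stabilizer_iff, hsmul]
      have h := x.2.2
      have h' := Subgroup.mem_centralizer_iff.mp h a rfl
      show (x.1 : G) * a * (x.1 : G)⁻¹ = a
      rw [← h']
      group
  rw [h4] at h3
  rw [mul_comm]
  exact h3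


/-- Let G be a finite group and r an odd prime such that G ⧸ O₂(G) is dihedral of order 2r, and let R be a Sylow r-subgroup of G with C_{O₂(G)}(R) = 1. Then N_G(R) is dihedral of order 2r; for any involution a of N_G(R), every involution of G outside O₂(G) is conjugate to a; and |C_{O₂(G)}(a)|² = |O₂(G)|. -/
theorem result {G : Type*} [Group G] [Finite G] {r : ℕ} [Fact r.Prime] (hr : r ≠ 2) [hN : (Cfsg.pCore 2 G).Normal] (hquot : Nonempty (G ⧸ Cfsg.pCore 2 G ≃* DihedralGroup r)) (R : Sylow r G) (hC : Cfsg.pCore 2 G ⊓ Subgroup.centralizer ((R : Subgroup G) : Set G) = ⊥) : Nonempty (↥(Subgroup.normalizer ((R : Subgroup G) : Set G)) ≃* DihedralGroup r) ∧ ∀ a : G, a ∈ Subgroup.normalizer ((R : Subgroup G) : Set G) → orderOf a = 2 → (∀ b : G, orderOf b = 2 → b ∉ Cfsg.pCore 2 G → ∃ g : G, g * a * g⁻¹ = b) ∧ Nat.card ↥(Cfsg.pCore 2 G ⊓ Subgroup.centralizer ({a} : Set G)) ^ 2 = Nat.card ↥(Cfsg.pCore 2 G) := by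
  classical
  obtain ⟨e⟩ := hquot
  set Q := Cfsg.pCore 2 G with hQ
  let π : G →* DihedralGroup r := e.toMonoidHom.comp (QuotientGroup.mk' Q)
  have hπs : Function.Surjective π :=
    e.surjective.comp (QuotientGroup.mk'_surjective Q)
  have hker : ∀ x, π x = 1 ↔ x ∈ Q := by
    intro x
    constructor
    · intro h
      have h1 : e (QuotientGroup.mk' Q x) = 1 := h
      have h2 : (QuotientGroup.mk' Q x) = 1 := by simpa using h1
      exact (QuotientGroup.eq_one_iff x).mp h2
    · intro h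
      have h2 : (QuotientGroup.mk' Q x) = 1 := (QuotientGroup.eq_one_iff x).mpr h
      show e (QuotientGroup.mk' Q x) = 1
      rw [h2, map_one]
  haveI hr' : Fact r.Prime := inferInstance
  haveI : NeZero r := ⟨(Fact.out : r.Prime).ne_zero⟩
  have hQp : IsPGroup 2 Q := Cfsg.Agent.Lib.Core.pCore_isPGroup 2 G
  have hRp : IsPGroup r (R : Subgroup G) := R.isPGroup'
  have hdisj : ∀ x ∈ (R : Subgroup G), x ∈ Q → x = 1 := by
    intro x hx hxQ
    have h := IsPGroup.disjoint_of_ne r 2 hr (R : Subgroup G) Q hRp hQp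
    exact Subgroup.disjoint_def.mp h hx hxQ
  have hoddr : Odd r := (Fact.out : r.Prime).odd_of_ne_two hr
  -- `2 ≠ 0` in `ZMod r`
  have h2ne : ∀ j : ZMod r, j + j = 0 → j = 0 := by
    intro j hj
    have h2 : (2 : ZMod r) ≠ 0 := by
      intro h
      have : ((2 : ℕ) : ZMod r) = 0 := by exact_mod_cast h
      rw [ZMod.natCast_eq_zero_iff] at this
      exact hr ((Nat.prime_dvd_prime_iff_eq Fact.out Nat.prime_two).mp this)
    have : (2 : ZMod r) * j = 0 := by rw [two_mul]; exact hj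
    exact (mul_eq_zero.mp this).resolve_left h2
  have hrpow : ∀ (j : ZMod r) (n : ℕ), (DihedralGroup.r j : DihedralGroup r) ^ n = DihedralGroup.r ((n : ZMod r) * j) := by
    intro j n
    induction n with
    | zero => simp
    | succ n ih =>
      rw [pow_succ, ih, DihedralGroup.r_mul_r]
      congr 1
      push_cast
      ring
  -- the rotation subgroup
  let Rot : Subgroup (DihedralGroup r) :=
    { carrier := {x | ∃ j, x = DihedralGroup.r j}
      mul_mem' := by
        rintro _ _ ⟨a, rfl⟩ ⟨b, rfl⟩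
        exact ⟨a + b, by simp⟩
      one_mem' := ⟨0, rfl⟩
      inv_mem' := by
        rintro _ ⟨a, rfl⟩
        exact ⟨-a, by simp⟩ }
  have hRotn : Rot.Normal := by
    constructor
    rintro _ ⟨a, rfl⟩ g
    cases g with
    | r i => exact ⟨a, by simp⟩
    | sr i => exact ⟨-a, by simp [DihedralGroup.inv_sr]⟩
  have hrot : ∀ y ∈ (R : Subgroup G), ∃ j, π y = DihedralGroup.r j := by
    intro y hy
    rcases hy' : π y with j | i
    · exact ⟨j, rfl⟩
    · exfalso
      obtain ⟨k, hk⟩ := hRp ⟨y, hy⟩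
      have h1 : y ^ r ^ k = 1 := congrArg Subtype.val hk
      have h2 : (π y) ^ r ^ k = 1 := by rw [← map_pow, h1, map_one]
      rw [hy'] at h2
      have h3 : orderOf (DihedralGroup.sr i : DihedralGroup r) ∣ r ^ k := orderOf_dvd_of_pow_eq_one h2
      rw [DihedralGroup.orderOf_sr] at h3
      have h4 := (Nat.prime_two.dvd_of_dvd_pow h3)
      exact hr ((Nat.prime_dvd_prime_iff_eq Nat.prime_two Fact.out).mp h4).symm
  -- generation of `R` by any nonidentity element
  have hRinj : ∀ y ∈ (R : Subgroup G), ∀ y' ∈ (R : Subgroup G), π y = π y' → y = y' := by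
    intro y hy y' hy' h
    have h1 : π (y⁻¹ * y') = 1 := by rw [map_mul, map_inv, ← h]; group
    have h2 := hdisj _ ((R : Subgroup G).mul_mem ((R : Subgroup G).inv_mem hy) hy') ((hker _).mp h1)
    exact (inv_mul_eq_one.mp h2)
  have hRgen : ∀ y ∈ (R : Subgroup G), y ≠ 1 → ∀ y' ∈ (R : Subgroup G), ∃ n : ℕ, y' = y ^ n := by
    intro y hy hy1 y' hy'
    obtain ⟨j, hj⟩ := hrot y hy
    obtain ⟨j', hj'⟩ := hrot y' hy'
    have hj0 : j ≠ 0 := by
      rintro rfl
      exact hy1 (hdisj y hy ((hker y).mp hj))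
    refine ⟨(j' * j⁻¹).val, ?_⟩
    apply hRinj _ hy' _ ((R : Subgroup G).pow_mem hy _)
    rw [map_pow, hj, hj', hrpow]
    congr 1
    rw [ZMod.natCast_zmod_val]
    field_simp
  -- elements of `Rot` are images of elements of `R`
  have hR1 : (R : Subgroup G) ≠ ⊥ := by
    apply Sylow.ne_bot_of_dvd_card
    obtain ⟨g, hg⟩ := hπs (DihedralGroup.r 1)
    have h1 : orderOf (π g) = r := by rw [hg]; exact DihedralGroup.orderOf_r_one
    have h2 : orderOf (π g) ∣ orderOf g := orderOf_map_dvd π g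
    rw [h1] at h2
    exact h2.trans (orderOf_dvd_natCard g)
  obtain ⟨z, hz, hz1⟩ := (Subgroup.bot_or_exists_ne_one (R : Subgroup G)).resolve_left hR1
  have hRsurj : ∀ j : ZMod r, ∃ y ∈ (R : Subgroup G), π y = DihedralGroup.r j := by
    intro j
    obtain ⟨j₀, hj₀⟩ := hrot z hz
    have hj0 : j₀ ≠ 0 := by
      rintro rfl
      exact hz1 (hdisj z hz ((hker z).mp hj₀))
    refine ⟨z ^ (j * j₀⁻¹).val, (R : Subgroup G).pow_mem hz _, ?_⟩
    rw [map_pow, hj₀, hrpow]
    congr 1
    rw [ZMod.natCast_zmod_val]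
    field_simp
  -- the preimage of the rotations
  let K : Subgroup G := Rot.comap π
  haveI hKn : K.Normal := hRotn.comap π
  have hRK : (R : Subgroup G) ≤ K := fun y hy => hrot y hy
  have hKprod : ∀ g ∈ K, ∃ q ∈ Q, ∃ y ∈ (R : Subgroup G), g = q * y := by
    rintro g ⟨j, hj⟩
    obtain ⟨y, hy, hyj⟩ := hRsurj j
    refine ⟨g * y⁻¹, (hker _).mp ?_, y, hy, by group⟩
    rw [map_mul, map_inv, hj, hyj]
    simp
  -- the normalizer
  set N := Subgroup.normalizer ((R : Subgroup G) : Set G) with hN'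
  have hRN : (R : Subgroup G) ≤ N := Subgroup.le_normalizer
  have hNQ : ∀ x ∈ N, x ∈ Q → x = 1 := by
    intro x hxN hxQ
    have hc : x ∈ Q ⊓ Subgroup.centralizer ((R : Subgroup G) : Set G) := by
      refine ⟨hxQ, Subgroup.mem_centralizer_iff.mpr ?_⟩
      intro y hy
      have h1 : x * y * x⁻¹ ∈ (R : Subgroup G) := (Subgroup.mem_normalizer_iff.mp hxN y).mp hy
      have h2 : x * y * x⁻¹ * y⁻¹ ∈ (R : Subgroup G) := (R : Subgroup G).mul_mem h1 ((R : Subgroup G).inv_mem hy)
      have h3 : x * y * x⁻¹ * y⁻¹ ∈ Q := by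
        have := hN.conj_mem x⁻¹ (Q.inv_mem hxQ) y
        have e1 : x * y * x⁻¹ * y⁻¹ = x * (y * x⁻¹ * y⁻¹) := by group
        rw [e1]
        exact Q.mul_mem hxQ this
      have h4 := hdisj _ h2 h3
      have h5 : x * y = y * x := by
        have : x * y * x⁻¹ * y⁻¹ * (y * x) = y * x := by rw [h4, one_mul]
        rw [← this]
        group
      exact h5.symm
    rw [hC] at hc
    exact (Subgroup.mem_bot.mp hc)
  have hG : ∀ g : G, ∃ q ∈ Q, ∃ n ∈ N, g = q * n := by
    intro g
    have hM : (⊤ : Subgroup G) ≤ Subgroup.normalizer (K : Set G) := by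
      rw [Subgroup.normalizer_eq_top_iff.mpr hKn]
    obtain ⟨a, ha, c, hc, hgac⟩ := frattini_factor (p := r) hM le_top
      (isSylowIn_of_sylow_le R hRK) (Subgroup.mem_top g)
    obtain ⟨q, hq, y, hy, rfl⟩ := hKprod c hc
    refine ⟨a * q * a⁻¹, hN.conj_mem q hq a, a * y, N.mul_mem ha.2 (hRN hy), ?_⟩
    rw [hgac]
    group
  refine ⟨?_, ?_⟩
  · -- `N ≅ D_{2r}`
    let f : ↥N →* DihedralGroup r := π.comp N.subtype
    refine ⟨(MulEquiv.ofBijective f ⟨?_, ?_⟩)⟩
    · intro x x' hxx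
      have h1 : π ((x : G)⁻¹ * x') = 1 := by
        have : π x = π x' := hxx
        rw [map_mul, map_inv, this]
        group
      have h2 := hNQ _ (N.mul_mem (N.inv_mem x.2) x'.2) ((hker _).mp h1)
      exact Subtype.ext (inv_mul_eq_one.mp h2)
    · intro d
      obtain ⟨g, rfl⟩ := hπs d
      obtain ⟨q, hq, n, hn, rfl⟩ := hG g
      refine ⟨⟨n, hn⟩, ?_⟩
      show π n = π (q * n)
      rw [map_mul, (hker q).mpr hq, one_mul]
  intro a haN ha2
  have haa : a * a = 1 := by
    rw [← pow_two, ← ha2]; exact pow_orderOf_eq_one a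
  have ha1 : a ≠ 1 := by
    rintro rfl
    simp at ha2
  -- involutions outside `Q` map to reflections
  have hrefl : ∀ b : G, b * b = 1 → b ∉ Q → ∃ k, π b = DihedralGroup.sr k := by
    intro b hbb hbQ
    rcases hb' : π b with j | k
    · exfalso
      have h1 : π b * π b = 1 := by rw [← map_mul, hbb, map_one]
      rw [hb', DihedralGroup.r_mul_r] at h1
      have h2 : j + j = 0 := by
        have := DihedralGroup.r.inj h1
        exact this
      have h3 := h2ne j h2
      rw [h3] at hb'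
      exact hbQ ((hker b).mp hb')
    · exact ⟨k, rfl⟩
  have haQ : a ∉ Q := fun h => ha1 (hNQ a haN h)
  obtain ⟨i, hi⟩ := hrefl a haa haQ
  -- twisted products
  have hQY : ∀ y ∈ (R : Subgroup G), y ≠ 1 → Function.Bijective
      (fun w : Q => (⟨(w : G) * y * (w : G)⁻¹ * y⁻¹, by
        have hw := w.2
        have e1 : (w : G) * y * (w : G)⁻¹ * y⁻¹ = w * (y * (w : G)⁻¹ * y⁻¹) := by group
        rw [e1]
        exact Q.mul_mem hw (hN.conj_mem _ (Q.inv_mem hw) y)⟩ : Q)) := by
    intro y hy hy1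
    apply Finite.injective_iff_bijective.mp
    intro w w' hww
    have h1 : (w : G) * y * (w : G)⁻¹ * y⁻¹ = w' * y * (w' : G)⁻¹ * y⁻¹ := congrArg Subtype.val hww
    have h2 : (w : G) * y * (w : G)⁻¹ = w' * y * (w' : G)⁻¹ := mul_right_cancel h1
    set u : G := (w' : G)⁻¹ * w with hu
    have huQ : u ∈ Q := Q.mul_mem (Q.inv_mem w'.2) w.2
    have huy : y * u = u * y := by
      have h3 : (w' : G) * (y * u) = w' * (u * y) := by
        rw [hu]
        calc (w' : G) * (y * ((w' : G)⁻¹ * w)) = ((w' : G) * y * (w' : G)⁻¹) * w := by group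
          _ = ((w : G) * y * (w : G)⁻¹) * w := by rw [h2]
          _ = (w' : G) * ((w' : G)⁻¹ * w * y) := by group
      exact mul_left_cancel h3
    have hc : u ∈ Q ⊓ Subgroup.centralizer ((R : Subgroup G) : Set G) := by
      refine ⟨huQ, Subgroup.mem_centralizer_iff.mpr ?_⟩
      intro y' hy'
      obtain ⟨n, rfl⟩ := hRgen y hy hy1 y' hy'
      exact ((Commute.pow_left (show Commute y u from huy) n))
    rw [hC] at hc
    have h4 : u = 1 := Subgroup.mem_bot.mp hc
    have h5 : (w : G) = w' := by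
      rw [hu] at h4
      exact (inv_mul_eq_one.mp h4).symm
    exact Subtype.ext h5
  have hQY' : ∀ y ∈ (R : Subgroup G), y ≠ 1 → ∀ q ∈ Q, ∃ w ∈ Q, q * y = w * y * w⁻¹ := by
    intro y hy hy1 q hq
    obtain ⟨w, hw⟩ := (hQY y hy hy1).2 ⟨q, hq⟩
    refine ⟨w, w.2, ?_⟩
    have h1 : (w : G) * y * (w : G)⁻¹ * y⁻¹ = q := congrArg Subtype.val hw
    rw [← h1]
    group
  -- `y^r = 1`
  have hRr : ∀ y ∈ (R : Subgroup G), y ^ r = 1 := by
    intro y hy
    obtain ⟨j, hj⟩ := hrot y hy
    apply hdisj _ ((R : Subgroup G).pow_mem hy r)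
    rw [← hker, map_pow, hj, hrpow]
    simp
  -- two involutions with distinct reflections
  have hODD : ∀ b d : G, b * b = 1 → d * d = 1 → ∀ k k', π b = DihedralGroup.sr k →
      π d = DihedralGroup.sr k' → k ≠ k' → ∃ g : G, g * b * g⁻¹ = d := by
    intro b d hb hd k k' hbk hdk hkk
    obtain ⟨m, hm⟩ := hoddr
    apply conj_of_odd hb hd (m := m)
    rw [← hm]
    obtain ⟨y, hy, hyj⟩ := hRsurj (k' - k)
    have hy1 : y ≠ 1 := by
      rintro rfl
      rw [map_one] at hyj
      have := DihedralGroup.r.inj hyj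
      exact hkk (sub_eq_zero.mp this.symm).symm
    have hq : b * d * y⁻¹ ∈ Q := by
      rw [← hker, map_mul, map_mul, map_inv, hbk, hdk, hyj, DihedralGroup.sr_mul_sr]
      simp
    obtain ⟨w, hw, he⟩ := hQY' y hy hy1 _ hq
    have h1 : b * d = w * y * w⁻¹ := by
      rw [← he]; group
    rw [h1, conj_pow, hRr y hy]
    simp
  obtain ⟨j₀, hj₀⟩ := hrot z hz
  have hj0 : j₀ ≠ 0 := by
    rintro rfl
    exact hz1 (hdisj z hz ((hker z).mp hj₀))
  -- the second involution
  set c := z * a * z⁻¹ with hc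
  have hcc : c * c = 1 := by
    rw [hc]
    calc z * a * z⁻¹ * (z * a * z⁻¹) = z * (a * a) * z⁻¹ := by group
      _ = 1 := by rw [haa]; group
  have hcπ : π c = DihedralGroup.sr (i - j₀ - j₀) := by
    rw [hc, map_mul, map_mul, map_inv, hj₀, hi, DihedralGroup.r_mul_sr, DihedralGroup.inv_r,
      DihedralGroup.sr_mul_r]
    congr 1
    ring
  have hii : i ≠ i - j₀ - j₀ := by
    intro h
    apply hj0
    apply h2ne
    have : i - (j₀ + j₀) = i - 0 := by
      rw [sub_zero]
      nth_rewrite 2 [h]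
      ring
    exact sub_right_injective this
  refine ⟨?_, ?_⟩
  · intro b hb hbQ
    have hbb : b * b = 1 := by
      rw [← pow_two, ← hb]; exact pow_orderOf_eq_one b
    obtain ⟨k, hk⟩ := hrefl b hbb hbQ
    by_cases hki : i = k
    · obtain ⟨g, hg⟩ := hODD c b hcc hbb _ _ hcπ hk (by rw [← hki]; exact hii.symm)
      refine ⟨g * z, ?_⟩
      rw [← hg, hc]
      group
    · exact hODD a b haa hbb _ _ hi hk hki
  -- counting
  have hcN : c ∈ N := N.mul_mem (N.mul_mem (hRN hz) haN) (N.inv_mem (hRN hz))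
  set y := a * c with hy
  have hyR : y ∈ (R : Subgroup G) := by
    have h1 : a * z * a⁻¹ ∈ (R : Subgroup G) := (Subgroup.mem_normalizer_iff.mp haN z).mp hz
    have h2 : y = (a * z * a⁻¹) * z⁻¹ := by
      have ha' : a⁻¹ = a := inv_eq_of_mul_eq_one_left haa
      rw [hy, hc, ha']
      group
    rw [h2]
    exact (R : Subgroup G).mul_mem h1 ((R : Subgroup G).inv_mem hz)
  have hyπ : π y = DihedralGroup.r (i - j₀ - j₀ - i) := by
    rw [hy, map_mul, hi, hcπ, DihedralGroup.sr_mul_sr]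
  have hy1 : y ≠ 1 := by
    intro h
    rw [h, map_one] at hyπ
    have := DihedralGroup.r.inj hyπ
    exact hii (sub_eq_zero.mp this.symm).symm
  -- the two orbits
  let X₁ : Set G := Set.range fun w : Q => (w : G) * a * (w : G)⁻¹
  let X₂ : Set G := Set.range fun w : Q => (w : G) * c * (w : G)⁻¹
  have hX₁ : Nat.card X₁ * Nat.card ↥(Q ⊓ Subgroup.centralizer ({a} : Set G)) = Nat.card Q :=
    card_conj_orbit Q a
  have hX₂ : Nat.card X₂ * Nat.card ↥(Q ⊓ Subgroup.centralizer ({c} : Set G)) = Nat.card Q :=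
    card_conj_orbit Q c
  have hCC : Nat.card ↥(Q ⊓ Subgroup.centralizer ({c} : Set G)) =
      Nat.card ↥(Q ⊓ Subgroup.centralizer ({a} : Set G)) := by
    have h1 : Q ⊓ Subgroup.centralizer ({c} : Set G) =
        (Q ⊓ Subgroup.centralizer ({a} : Set G)).map (MulAut.conj z).toMonoidHom := by
      ext x
      constructor
      · rintro ⟨hx, hxc⟩
        refine ⟨z⁻¹ * x * z, ⟨?_, ?_⟩, ?_⟩
        · have := hN.conj_mem x hx z⁻¹
          simpa using this
        · refine Subgroup.mem_centralizer_iff.mpr ?_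
          intro t' ht'
          have ht'' : t' = a := ht'
          rw [ht'']
          have h2 := Subgroup.mem_centralizer_iff.mp hxc c rfl
          have h3 : z * a * z⁻¹ * x = x * (z * a * z⁻¹) := h2
          calc a * (z⁻¹ * x * z) = z⁻¹ * (z * a * z⁻¹ * x) * z := by group
            _ = z⁻¹ * (x * (z * a * z⁻¹)) * z := by rw [h3]
            _ = z⁻¹ * x * z * a := by group
        · show z * (z⁻¹ * x * z) * z⁻¹ = x
          group
      · rintro ⟨t, ⟨ht, htc⟩, rfl⟩
        refine ⟨hN.conj_mem t ht z, ?_⟩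
        refine Subgroup.mem_centralizer_iff.mpr ?_
        rintro _ rfl
        have h2 := Subgroup.mem_centralizer_iff.mp htc a rfl
        have h3 : a * t = t * a := h2
        show z * a * z⁻¹ * (z * t * z⁻¹) = z * t * z⁻¹ * (z * a * z⁻¹)
        calc z * a * z⁻¹ * (z * t * z⁻¹) = z * (a * t) * z⁻¹ := by group
          _ = z * (t * a) * z⁻¹ := by rw [h3]
          _ = z * t * z⁻¹ * (z * a * z⁻¹) := by group
    rw [h1]
    exact Nat.card_congr (Subgroup.equivMapOfInjective _ _ (MulAut.conj z).injective).toEquiv.symm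
  have hprod : Nat.card X₁ * Nat.card X₂ = Nat.card Q := by
    rw [← Nat.card_prod]
    symm
    apply Nat.card_congr
    refine Equiv.ofBijective (fun w : Q => (⟨⟨(w : G) * a * (w : G)⁻¹, w, rfl⟩, ⟨(w : G) * c * (w : G)⁻¹, w, rfl⟩⟩ : X₁ × X₂)) ⟨?_, ?_⟩
    · -- injective
      intro w w' hww
      have h1 : (w : G) * a * (w : G)⁻¹ = w' * a * (w' : G)⁻¹ :=
        congrArg (fun p : X₁ × X₂ => (p.1 : G)) hww
      have h2 : (w : G) * c * (w : G)⁻¹ = w' * c * (w' : G)⁻¹ :=
        congrArg (fun p : X₁ × X₂ => (p.2 : G)) hww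
      have h3 : (w : G) * y * (w : G)⁻¹ = w' * y * (w' : G)⁻¹ := by
        calc (w : G) * y * (w : G)⁻¹ = ((w : G) * a * (w : G)⁻¹) * ((w : G) * c * (w : G)⁻¹) := by
              rw [hy]; group
          _ = ((w' : G) * a * (w' : G)⁻¹) * ((w' : G) * c * (w' : G)⁻¹) := by rw [h1, h2]
          _ = w' * y * (w' : G)⁻¹ := by rw [hy]; group
      apply (hQY y hyR hy1).1
      apply Subtype.ext
      show (w : G) * y * (w : G)⁻¹ * y⁻¹ = w' * y * (w' : G)⁻¹ * y⁻¹
      rw [h3]
    · -- surjective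
      rintro ⟨⟨_, u, rfl⟩, ⟨_, v, rfl⟩⟩
      set b₁ := (u : G) * a * (u : G)⁻¹ with hb₁
      set b₂ := (v : G) * c * (v : G)⁻¹ with hb₂
      have hπ₁ : π b₁ = π a := by
        rw [hb₁, map_mul, map_mul, map_inv, (hker _).mpr u.2]
        simp
      have hπ₂ : π b₂ = π c := by
        rw [hb₂, map_mul, map_mul, map_inv, (hker _).mpr v.2]
        simp
      have hq : b₁ * b₂ * y⁻¹ ∈ Q := by
        have hyy : π y = π a * π c := by rw [hy, map_mul]
        rw [← hker, map_mul, map_mul, map_inv, hπ₁, hπ₂, hyy]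
        exact mul_inv_cancel _
      obtain ⟨w, hw, he⟩ := hQY' y hyR hy1 _ hq
      have h1 : b₁ * b₂ = w * y * w⁻¹ := by
        rw [← he]; group
      -- conjugate back
      set d₁ := w⁻¹ * b₁ * w with hd₁
      set d₂ := w⁻¹ * b₂ * w with hd₂
      have hdd : d₁ * d₂ = y := by
        rw [hd₁, hd₂]
        calc w⁻¹ * b₁ * w * (w⁻¹ * b₂ * w) = w⁻¹ * (b₁ * b₂) * w := by group
          _ = y := by rw [h1]; group
      have hb₁₁ : b₁ * b₁ = 1 := by
        rw [hb₁]
        calc (u : G) * a * (u : G)⁻¹ * ((u : G) * a * (u : G)⁻¹) = (u : G) * (a * a) * (u : G)⁻¹ := by group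
          _ = 1 := by rw [haa]; group
      have hb₂₂ : b₂ * b₂ = 1 := by
        rw [hb₂]
        calc (v : G) * c * (v : G)⁻¹ * ((v : G) * c * (v : G)⁻¹) = (v : G) * (c * c) * (v : G)⁻¹ := by group
          _ = 1 := by rw [hcc]; group
      have hd₁₁ : d₁ * d₁ = 1 := by
        rw [hd₁]
        calc w⁻¹ * b₁ * w * (w⁻¹ * b₁ * w) = w⁻¹ * (b₁ * b₁) * w := by group
          _ = 1 := by rw [hb₁₁]; group
      have hd₂₂ : d₂ * d₂ = 1 := by
        rw [hd₂]
        calc w⁻¹ * b₂ * w * (w⁻¹ * b₂ * w) = w⁻¹ * (b₂ * b₂) * w := by group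
          _ = 1 := by rw [hb₂₂]; group
      -- `d₁` inverts `y`
      have hinv : d₁ * y * d₁⁻¹ = y⁻¹ := by
        have h3 : d₁⁻¹ = d₁ := inv_eq_of_mul_eq_one_left hd₁₁
        have h4 : d₂⁻¹ = d₂ := inv_eq_of_mul_eq_one_left hd₂₂
        rw [h3, ← hdd, mul_inv_rev, h3, h4]
        calc d₁ * (d₁ * d₂) * d₁ = (d₁ * d₁) * (d₂ * d₁) := by group
          _ = d₂ * d₁ := by rw [hd₁₁, one_mul]
      have hd₁N : d₁ ∈ N := by
        rw [Subgroup.mem_normalizer_iff]
        intro t
        constructor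
        · intro ht
          obtain ⟨n, rfl⟩ := hRgen y hyR hy1 t ht
          rw [← conj_pow, hinv]
          exact Subgroup.pow_mem _ ((R : Subgroup G).inv_mem hyR) _
        · intro ht
          have h3 : d₁⁻¹ = d₁ := inv_eq_of_mul_eq_one_left hd₁₁
          have h5 : d₁ * (d₁ * t * d₁⁻¹) * d₁⁻¹ = t := by
            rw [h3]
            calc d₁ * (d₁ * t * d₁) * d₁ = (d₁ * d₁) * t * (d₁ * d₁) := by group
              _ = t := by rw [hd₁₁]; group
          rw [← h5]
          obtain ⟨n, hn⟩ := hRgen y hyR hy1 _ ht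
          rw [hn, ← conj_pow, hinv]
          exact Subgroup.pow_mem _ ((R : Subgroup G).inv_mem hyR) _
      have hπd₁ : π d₁ = π a := by
        rw [hd₁, map_mul, map_mul, map_inv, (hker _).mpr hw, hπ₁]
        simp
      have hd₁a : d₁ = a := by
        have h3 : π (a⁻¹ * d₁) = 1 := by
          rw [map_mul, map_inv, hπd₁]; group
        have h4 := hNQ _ (N.mul_mem (N.inv_mem haN) hd₁N) ((hker _).mp h3)
        exact (inv_mul_eq_one.mp h4).symm
      have hd₂c : d₂ = c := by
        rw [hd₁a, hy] at hdd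
        exact mul_left_cancel hdd
      refine ⟨⟨w, hw⟩, ?_⟩
      apply Prod.ext
      · apply Subtype.ext
        show w * a * w⁻¹ = b₁
        rw [← hd₁a, hd₁]; group
      · apply Subtype.ext
        show w * c * w⁻¹ = b₂
        rw [← hd₂c, hd₂]; group
  rw [hCC] at hX₂
  set x₁ := Nat.card X₁
  set x₂ := Nat.card X₂
  set cc := Nat.card ↥(Q ⊓ Subgroup.centralizer ({a} : Set G))
  set qq := Nat.card ↥Q
  have hqpos : 0 < qq := Nat.card_pos
  have hccpos : 0 < cc := Nat.card_pos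
  have h12 : x₁ = x₂ := by
    have : x₁ * cc = x₂ * cc := by rw [hX₁, hX₂]
    exact Nat.eq_of_mul_eq_mul_right hccpos this
  rw [← h12] at hprod
  have : cc ^ 2 * qq = qq * qq := by
    calc cc ^ 2 * qq = cc ^ 2 * (x₁ * x₁) := by rw [hprod]
      _ = (x₁ * cc) * (x₁ * cc) := by ring
      _ = qq * qq := by rw [hX₁]
  exact Nat.eq_of_mul_eq_mul_right hqpos this

end Cfsg.Agent.S2873
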