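import Cfsg.Statements.S2879
import Cfsg.Agent.Lib.FrobThm.JJ
import Cfsg.Agent.Lib.Amalgam.Asym
import Cfsg.Agent.Lib.Core.Batch
import Cfsg.Agent.Lib.Geo.PrimSolvable
import Cfsg.Agent.Lib.Transfer.QuatSection
import Cfsg.Agent.Lib.Huppert.SL23Rec

set_option autoImplicit false
open Cfsg

namespace Cfsg.Agent.S2879


open Subgroup Cfsg.Agent.Lib.Core Cfsg.Agent.Lib.Amalgam
open scoped commutatorElement

section tstr

/-- The structure of dihedral and semidihedral groups used here. -/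
structure TS {S : Type*} [Group S] (C : Subgroup S) : Prop where
  cyc : IsCyclic C
  idx : C.index = 2
  h4 : ∀ t, t ∉ C → t ^ 4 = 1
  hinv : ∀ t, t ∉ C → ∀ a ∈ C, a ^ 4 = 1 → t * a * t⁻¹ = a⁻¹

theorem ts_of_dihedral {S : Type*} [Group S] [Finite S] {n : ℕ} (hn : 4 ≤ n)
    (e : S ≃* DihedralGroup n) : (∃ C : Subgroup S, TS C) ∧ 8 ≤ Nat.card S := by
  haveI : NeZero n := ⟨by omega⟩
  have hcard : Nat.card S = 2 * n := by
    rw [Nat.card_congr e.toEquiv, DihedralGroup.nat_card]
  refine ⟨⟨zpowers (e.symm (DihedralGroup.r 1)), ?_, ?_, ?_, ?_⟩, by omega⟩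
  · infer_instance
  · have h1 : orderOf (e.symm (DihedralGroup.r (1 : ZMod n))) = n := by
      rw [MulEquiv.orderOf_eq, DihedralGroup.orderOf_r_one]
    have h2 := Subgroup.card_mul_index (zpowers (e.symm (DihedralGroup.r (1 : ZMod n))))
    rw [Nat.card_zpowers, h1, hcard] at h2
    have hn0 : 0 < n := by omega
    nlinarith [mul_comm n (zpowers (e.symm (DihedralGroup.r (1 : ZMod n)))).index]
  · have key : ∀ t, t ∉ zpowers (e.symm (DihedralGroup.r (1 : ZMod n))) → ∃ i, e t = DihedralGroup.sr i := by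
      intro t ht
      rcases h : e t with i | i
      · exfalso
        apply ht
        refine ⟨(i.val : ℤ), ?_⟩
        apply e.injective
        show e (_ ^ ((i.val : ℕ) : ℤ)) = e t
        rw [h, zpow_natCast, map_pow, MulEquiv.apply_symm_apply, DihedralGroup.r_one_pow]
        simp
      · exact ⟨i, rfl⟩
    intro t ht
    obtain ⟨i, hi⟩ := key t ht
    apply e.injective
    rw [map_pow, hi, map_one]
    have : (DihedralGroup.sr i) ^ 2 = (1 : DihedralGroup n) := by
      rw [pow_two, DihedralGroup.sr_mul_self]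
    rw [show (4 : ℕ) = 2 * 2 from rfl, pow_mul, this, one_pow]
  · have key : ∀ t, t ∉ zpowers (e.symm (DihedralGroup.r (1 : ZMod n))) → ∃ i, e t = DihedralGroup.sr i := by
      intro t ht
      rcases h : e t with i | i
      · exfalso
        apply ht
        refine ⟨(i.val : ℤ), ?_⟩
        apply e.injective
        show e (_ ^ ((i.val : ℕ) : ℤ)) = e t
        rw [h, zpow_natCast, map_pow, MulEquiv.apply_symm_apply, DihedralGroup.r_one_pow]
        simp
      · exact ⟨i, rfl⟩
    intro t ht a ha _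
    obtain ⟨i, hi⟩ := key t ht
    obtain ⟨k, rfl⟩ := mem_zpowers_iff.mp ha
    apply e.injective
    simp only [map_mul, map_inv, map_zpow, MulEquiv.apply_symm_apply, hi]
    obtain ⟨j, hj⟩ : ∃ j : ZMod n, (DihedralGroup.r (1 : ZMod n)) ^ k = DihedralGroup.r j := by
      generalize hb : (DihedralGroup.r (1 : ZMod n)) ^ k = b
      have : b ∈ zpowers (DihedralGroup.r (1 : ZMod n)) := hb ▸ zpow_mem_zpowers _ _
      rcases b with j | j
      · exact ⟨j, rfl⟩
      · exfalso
        obtain ⟨m, hm⟩ := mem_zpowers_iff.mp this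
        have : ∀ m : ℤ, ∃ j, (DihedralGroup.r (1 : ZMod n)) ^ m = DihedralGroup.r j := by
          intro m
          induction m using Int.induction_on with
          | zero => exact ⟨0, rfl⟩
          | succ m ih =>
            obtain ⟨j, hj⟩ := ih
            refine ⟨j + 1, ?_⟩
            rw [zpow_add, hj, zpow_one, DihedralGroup.r_mul_r]
          | pred m ih =>
            obtain ⟨j, hj⟩ := ih
            refine ⟨j - 1, ?_⟩
            rw [zpow_sub, hj, zpow_one, DihedralGroup.inv_r, DihedralGroup.r_mul_r, sub_eq_add_neg]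
        obtain ⟨j', hj'⟩ := this m
        rw [hj'] at hm
        cases hm
    rw [hj]
    have hinvsr : (DihedralGroup.sr i)⁻¹ = (DihedralGroup.sr i : DihedralGroup n) := by
      apply inv_eq_of_mul_eq_one_right
      rw [DihedralGroup.sr_mul_self]
    rw [hinvsr, DihedralGroup.sr_mul_r, DihedralGroup.sr_mul_sr, DihedralGroup.inv_r]
    congr 1
    ring

theorem ts_of_qd {S : Type*} [Group S] [Finite S] (h : Cfsg.IsQuasiDihedral S) :
    (∃ C : Subgroup S, TS C) ∧ 8 ≤ Nat.card S := by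
  obtain ⟨n, hn, hcard, x, y, hx, hy, hyx⟩ := h
  have h2n : 16 ≤ 2 ^ (n + 1) := by
    calc 16 = 2 ^ 4 := by norm_num
      _ ≤ 2 ^ (n + 1) := Nat.pow_le_pow_right (by norm_num) (by omega)
  refine ⟨?_, by omega⟩
  have hpw : ∀ c ∈ zpowers x, y * c * y⁻¹ = c ^ (2 ^ (n - 1) - 1) := by
    intro c hc
    obtain ⟨k, rfl⟩ := mem_zpowers_iff.mp hc
    rw [← zpow_natCast, ← zpow_mul, mul_comm, zpow_mul, zpow_natCast, ← hyx]
    have : y * x ^ k * y⁻¹ = (y * x * y⁻¹) ^ k := by
      exact (MulAut.conj y).toMonoidHom.map_zpow x k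
    exact this
  have hy2 : y * y = 1 := by
    rw [← pow_two, ← hy]; exact pow_orderOf_eq_one y
  have hyinv : y⁻¹ = y := inv_eq_of_mul_eq_one_left hy2
  have hpow2 : (2 : ℕ) ^ (n - 1) = 2 * 2 ^ (n - 2) := by
    rw [← pow_succ']
    congr 1
    omega
  have hy4 : 4 ∣ 2 ^ (n - 1) := by
    rw [show n - 1 = 2 + (n - 3) by omega, pow_add]
    exact Dvd.intro _ rfl
  have hge : 1 ≤ 2 ^ (n - 1) := Nat.one_le_two_pow
  have hidx : (zpowers x).index = 2 := by
    have h2 := Subgroup.card_mul_index (zpowers x)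
    rw [Nat.card_zpowers, hx, hcard, pow_succ] at h2
    have hpos : 0 < 2 ^ n := by positivity
    exact Nat.eq_of_mul_eq_mul_left hpos h2
  have hyC : y ∉ zpowers x := by
    intro hyC
    have hcomm : y * x * y⁻¹ = x := by
      obtain ⟨k, rfl⟩ := mem_zpowers_iff.mp hyC
      have : Commute (x ^ k) x := (Commute.refl x).zpow_left k
      rw [this.eq]
      group
    rw [hcomm] at hyx
    have h1 : x ^ (2 ^ (n - 1) - 2) = 1 := by
      have h3 : x ^ (2 ^ (n - 1) - 1) = x ^ (2 ^ (n - 1) - 2) * x := by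
        rw [← pow_succ]
        congr 1
        have : 4 ≤ 2 ^ (n - 1) := Nat.le_of_dvd (by positivity) hy4
        omega
      rw [h3] at hyx
      exact mul_eq_right.mp hyx.symm
    have h4 := orderOf_dvd_of_pow_eq_one h1
    rw [hx] at h4
    have h5 : 4 ≤ 2 ^ (n - 1) := Nat.le_of_dvd (by positivity) hy4
    have h6 : 2 ^ n = 2 * 2 ^ (n - 1) := by
      rw [← pow_succ']
      congr 1
      omega
    have := Nat.le_of_dvd (by omega) h4
    omega
  have hform : ∀ t, t ∉ zpowers x → ∃ c ∈ zpowers x, t = c * y := by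
    intro t ht
    have hH := Subgroup.normal_of_index_eq_two hidx
    refine ⟨t * y⁻¹, ?_, by group⟩
    have h1 := (Subgroup.mul_mem_iff_of_index_two hidx (a := t) (b := y⁻¹)).mpr
    apply h1
    have : y⁻¹ ∉ zpowers x := fun h => hyC (by simpa using (zpowers x).inv_mem h)
    exact iff_of_false ht this
  refine ⟨zpowers x, inferInstance, hidx, ?_, ?_⟩
  · intro t ht
    obtain ⟨c, hc, rfl⟩ := hform t ht
    have hc2 : (c * y) ^ 2 = c ^ (2 ^ (n - 1)) := by
      have h1 := hpw c hc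
      rw [hyinv] at h1
      have h2 : y * c = c ^ (2 ^ (n - 1) - 1) * y := by
        rw [← h1, mul_assoc (y * c), hy2, mul_one]
      rw [pow_two, mul_assoc, ← mul_assoc y c y, h2, mul_assoc, hy2, mul_one, ← pow_succ']
      congr 1
      omega
    rw [show (4 : ℕ) = 2 * 2 from rfl, pow_mul, hc2, ← pow_mul]
    have h3 : 2 ^ (n - 1) * 2 = 2 ^ n := by
      rw [← pow_succ]; congr 1; omega
    rw [h3]
    have : c ^ 2 ^ n = 1 := by
      have h4 := pow_card_eq_one' (G := zpowers x) (x := (⟨c, hc⟩ : zpowers x))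
      rw [Nat.card_zpowers, hx] at h4
      simpa using congrArg Subtype.val h4
    exact this
  · intro t ht a ha ha4
    obtain ⟨c, hc, rfl⟩ := hform t ht
    have h1 := hpw a ha
    have h2 : a ^ (2 ^ (n - 1) - 1) = a⁻¹ := by
      obtain ⟨m, hm⟩ := hy4
      have h3 : a ^ (2 ^ (n - 1)) = 1 := by rw [hm, pow_mul, ha4, one_pow]
      have h4 : a ^ (2 ^ (n - 1) - 1) * a = 1 := by
        rw [← pow_succ, Nat.sub_add_cancel hge, h3]
      exact eq_inv_of_mul_eq_one_left h4
    have hca : Commute c a := by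
      obtain ⟨k, rfl⟩ := mem_zpowers_iff.mp hc
      obtain ⟨l, rfl⟩ := mem_zpowers_iff.mp ha
      exact (Commute.refl x).zpow_zpow k l
    calc c * y * a * (c * y)⁻¹ = c * (y * a * y⁻¹) * c⁻¹ := by group
      _ = c * a⁻¹ * c⁻¹ := by rw [h1, h2]
      _ = a⁻¹ := by rw [(hca.inv_right).eq]; group

end tstr

section mainsec

variable {G : Type*} [Group G] [Finite G]

theorem eq_one_of_odd_of_mem {Q : Subgroup G} (hQ : IsPGroup 2 Q) {y : G} (hy : y ∈ Q)
    (hodd : Odd (orderOf y)) : y = 1 := by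
  haveI : Fact (Nat.Prime 2) := ⟨Nat.prime_two⟩
  obtain ⟨k, hk⟩ := hQ ⟨y, hy⟩
  have h1 : y ^ 2 ^ k = 1 := by simpa using congrArg Subtype.val hk
  have h2 := orderOf_dvd_of_pow_eq_one h1
  obtain ⟨j, _, hj⟩ := (Nat.dvd_prime_pow Nat.prime_two).mp h2
  rcases j with _ | j
  · simpa using hj
  · exfalso
    rw [hj, pow_succ] at hodd
    exact (Nat.not_odd_iff_even.mpr (even_iff_two_dvd.mpr (Dvd.intro_left _ rfl))) hodd

theorem odd_centralizes_cyclic {A : Subgroup G} {x : G} (hodd : Odd (orderOf x)) (hcyc : IsCyclic A)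
    (h2 : IsPGroup 2 A) (hx : x ∈ normalizer (A : Set G)) : x ∈ centralizer (A : Set G) := by
  haveI : Fact (Nat.Prime 2) := ⟨Nat.prime_two⟩
  set φ := A.normalizerMonoidHom ⟨x, hx⟩ with hφ
  have h1 : orderOf φ ∣ orderOf x := by
    have := orderOf_map_dvd A.normalizerMonoidHom (⟨x, hx⟩ : normalizer (A : Set G))
    rwa [Subgroup.orderOf_mk] at this
  have h3 : orderOf φ ∣ Nat.card (MulAut A) := orderOf_dvd_natCard φ
  rw [IsCyclic.card_mulAut] at h3
  obtain ⟨k, hk⟩ := h2.exists_card_eq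
  rw [hk] at h3
  have h4 : orderOf φ = 1 := by
    rcases k with _ | k
    · simpa using h3
    · rw [Nat.totient_prime_pow Nat.prime_two (by omega)] at h3
      simp only [Nat.add_sub_cancel] at h3
      have h5 : orderOf φ ∣ 2 ^ k := by simpa using h3
      obtain ⟨j, _, hj⟩ := (Nat.dvd_prime_pow Nat.prime_two).mp h5
      rcases j with _ | j
      · simpa using hj
      · exfalso
        have h6 : 2 ∣ orderOf x := by
          refine dvd_trans ?_ h1
          rw [hj]
          exact Dvd.intro_left _ (pow_succ 2 j).symm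
        exact (Nat.not_even_iff_odd.mpr hodd) (even_iff_two_dvd.mpr h6)
  have h5 : φ = 1 := orderOf_eq_one_iff.mp h4
  have h6 : (⟨x, hx⟩ : normalizer (A : Set G)) ∈ A.normalizerMonoidHom.ker := h5
  rw [Subgroup.normalizerMonoidHom_ker] at h6
  exact h6

theorem chain_trivial {Q Q₁ : Subgroup G} {x : G} (hodd : Odd (orderOf x)) (hQ : IsPGroup 2 Q)
    (hle : Q₁ ≤ Q) (hcyc : IsCyclic Q₁) (hQn : x ∈ normalizer (Q : Set G))
    (hQ₁n : x ∈ normalizer (Q₁ : Set G))
    (hind : ∀ t ∈ Q, ∀ s ∈ Q, t ∉ Q₁ → s ∉ Q₁ → t⁻¹ * s ∈ Q₁) : x ∈ centralizer (Q : Set G) := by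
  have hcen := odd_centralizes_cyclic hodd hcyc (hQ.to_le hle) hQ₁n
  rw [mem_centralizer_iff]
  intro t ht
  by_cases htQ : t ∈ Q₁
  · exact (mem_centralizer_iff.mp hcen) t htQ
  have hs : x * t * x⁻¹ ∈ Q := (mem_normalizer_iff.mp hQn t).mp ht
  have hs' : x * t * x⁻¹ ∉ Q₁ := fun h => htQ ((mem_normalizer_iff.mp hQ₁n t).mpr h)
  set w := t⁻¹ * (x * t * x⁻¹) with hw
  have hwQ : w ∈ Q₁ := hind t ht _ hs htQ hs'
  have hwx : w * x = x * w := (mem_centralizer_iff.mp hcen) w hwQ
  have hxt : x * t * x⁻¹ = t * w := by rw [hw]; group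
  have hpow : ∀ n : ℕ, x ^ n * t * (x ^ n)⁻¹ = t * w ^ n := by
    intro n
    induction n with
    | zero => simp
    | succ n ih =>
      have hwn : x * w ^ n * x⁻¹ = w ^ n := by
        have : Commute x (w ^ n) := (Commute.pow_right hwx.symm n)
        rw [this.eq]
        group
      calc x ^ (n + 1) * t * (x ^ (n + 1))⁻¹ = x * (x ^ n * t * (x ^ n)⁻¹) * x⁻¹ := by
            rw [pow_succ']; group
        _ = (x * t * x⁻¹) * (x * w ^ n * x⁻¹) := by rw [ih]; group
        _ = t * w ^ (n + 1) := by rw [hxt, hwn, pow_succ', mul_assoc]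
  have h1 := hpow (orderOf x)
  rw [pow_orderOf_eq_one] at h1
  have h2 : w ^ orderOf x = 1 := by
    have : t = t * w ^ orderOf x := by simpa using h1
    exact mul_eq_left.mp this.symm
  have h3 : Odd (orderOf w) := Odd.of_dvd_nat hodd (orderOf_dvd_of_pow_eq_one h2)
  have h4 : w = 1 := eq_one_of_odd_of_mem (hQ.to_le hle) hwQ h3
  rw [h4, mul_one] at hxt
  have : x * t = t * x := by
    have := congrArg (· * x) hxt
    simpa using this
  exact this.symm

open Classical in
/-- The counting bound for the automorphisms of the quaternion group. -/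
theorem card_le_48 {Q : Subgroup G} [hQn : Q.Normal] {a g z : G} (hQ8 : Nat.card Q = 8)
    (haQ : a ∈ Q) (hgQ : g ∈ Q) (hzQ : z ∈ Q) (hz1 : z ≠ 1) (hzz : z * z = 1)
    (hsq : ∀ t ∈ Q, t ≠ 1 → t ≠ z → t * t = z) (ha1 : a ≠ 1) (haz : a ≠ z) (hg1 : g ≠ 1) (hgz : g ≠ z)
    (hga : g ≠ a) (hgaz : g ≠ a * z)
    (hgen : ∀ h : G, h * a * h⁻¹ = a → h * g * h⁻¹ = g → h = 1 ∨ h = z) : Nat.card G ≤ 48 := by
  haveI : Fintype G := Fintype.ofFinite G
  haveI : Fintype Q := Fintype.ofFinite Q
  have hzc : ∀ h : G, h * z * h⁻¹ = z := by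
    intro h
    by_contra hne
    have h1 : h * z * h⁻¹ ≠ 1 := by
      intro h2
      apply hz1
      have := congrArg (fun w => h⁻¹ * w * h) h2
      simpa [mul_assoc] using this
    have h3 := hsq _ (hQn.conj_mem z hzQ h) h1 hne
    have h4 : h * z * h⁻¹ * (h * z * h⁻¹) = h * (z * z) * h⁻¹ := by group
    rw [h4, hzz] at h3
    apply hz1
    rw [← h3]
    group
  let zq : Q := ⟨z, hzQ⟩
  let F : G → Q × Q := fun h => (⟨h * a * h⁻¹, hQn.conj_mem a haQ h⟩, ⟨h * g * h⁻¹, hQn.conj_mem g hgQ h⟩)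
  let P : Finset (Q × Q) := (Finset.univ : Finset (Q × Q)).filter fun p =>
    p.1 ≠ 1 ∧ p.1 ≠ zq ∧ p.2 ≠ 1 ∧ p.2 ≠ zq ∧ p.2 ≠ p.1 ∧ p.2 ≠ p.1 * zq
  have hinj : ∀ {h u v : G}, h * u * h⁻¹ = h * v * h⁻¹ → u = v := by
    intro h u v e
    have := congrArg (fun w => h⁻¹ * w * h) e
    simpa [mul_assoc] using this
  have himg : (Finset.univ : Finset G).image F ⊆ P := by
    intro p hp
    obtain ⟨h, -, rfl⟩ := Finset.mem_image.mp hp
    have hcj1 : h * (1 : G) * h⁻¹ = 1 := by group
    simp only [P, Finset.mem_filter, Finset.mem_univ, true_and]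
    refine ⟨?_, ?_, ?_, ?_, ?_, ?_⟩
    · intro e
      have e' : h * a * h⁻¹ = 1 := congrArg Subtype.val e
      exact ha1 (hinj (e'.trans hcj1.symm))
    · intro e
      have e' : h * a * h⁻¹ = z := congrArg Subtype.val e
      exact haz (hinj (e'.trans (hzc h).symm))
    · intro e
      have e' : h * g * h⁻¹ = 1 := congrArg Subtype.val e
      exact hg1 (hinj (e'.trans hcj1.symm))
    · intro e
      have e' : h * g * h⁻¹ = z := congrArg Subtype.val e
      exact hgz (hinj (e'.trans (hzc h).symm))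
    · intro e
      have e' : h * g * h⁻¹ = h * a * h⁻¹ := congrArg Subtype.val e
      exact hga (hinj e')
    · intro e
      have e' : h * g * h⁻¹ = h * a * h⁻¹ * z := congrArg Subtype.val e
      apply hgaz
      apply hinj (h := h)
      rw [e']
      have e2 : h * (a * z) * h⁻¹ = h * a * h⁻¹ * (h * z * h⁻¹) := by group
      rw [e2, hzc]
  have hfib : ∀ p ∈ (Finset.univ : Finset G).image F,
      ((Finset.univ : Finset G).filter fun x => F x = p).card ≤ 2 := by
    intro p hp
    obtain ⟨h₀, -, rfl⟩ := Finset.mem_image.mp hp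
    have hsub : ((Finset.univ : Finset G).filter fun x => F x = F h₀) ⊆ {h₀, h₀ * z} := by
      intro h hh
      have hh' : F h = F h₀ := (Finset.mem_filter.mp hh).2
      have h1 : h * a * h⁻¹ = h₀ * a * h₀⁻¹ := congrArg (fun p : Q × Q => (p.1 : G)) hh'
      have h2 : h * g * h⁻¹ = h₀ * g * h₀⁻¹ := congrArg (fun p : Q × Q => (p.2 : G)) hh'
      have h3 := hgen (h₀⁻¹ * h) (by
        have e : h₀⁻¹ * h * a * (h₀⁻¹ * h)⁻¹ = h₀⁻¹ * (h * a * h⁻¹) * h₀ := by group
        rw [e, h1]; group) (by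
        have e : h₀⁻¹ * h * g * (h₀⁻¹ * h)⁻¹ = h₀⁻¹ * (h * g * h⁻¹) * h₀ := by group
        rw [e, h2]; group)
      simp only [Finset.mem_insert, Finset.mem_singleton]
      rcases h3 with h3 | h3
      · left
        have := congrArg (fun w => h₀ * w) h3
        simpa using this
      · right
        rw [← h3]
        group
    exact (Finset.card_le_card hsub).trans Finset.card_le_two
  have hA : ((Finset.univ : Finset Q).filter fun s => s ≠ 1 ∧ s ≠ zq).card ≤ 6 := by
    have hsub : ((Finset.univ : Finset Q).filter fun s => s ≠ 1 ∧ s ≠ zq) ⊆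
        (Finset.univ \ {1, zq} : Finset Q) := by
      intro s hs
      obtain ⟨-, h1, h2⟩ := Finset.mem_filter.mp hs
      simp [h1, h2]
    have hz1' : (1 : Q) ≠ zq := fun e => hz1 (congrArg Subtype.val e).symm
    have hc : (Finset.univ \ {1, zq} : Finset Q).card = 6 := by
      rw [Finset.card_sdiff_of_subset (Finset.subset_univ _), Finset.card_univ,
        Finset.card_pair hz1', ← Nat.card_eq_fintype_card, hQ8]
    exact hc ▸ Finset.card_le_card hsub
  have hP : P.card ≤ 24 := by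
    have h1 := Finset.card_le_mul_card_image (s := P) (f := Prod.fst) 4 (by
      intro s hs
      obtain ⟨p₀, hp₀, rfl⟩ := Finset.mem_image.mp hs
      set s := p₀.1 with hs0
      have hp₀' := (Finset.mem_filter.mp hp₀).2
      have hs1 : s ≠ 1 := hp₀'.1
      have hs2 : s ≠ zq := hp₀'.2.1
      have hsub : (P.filter fun p => p.1 = s) ⊆
          (Finset.univ \ {1, zq, s, s * zq} : Finset Q).image (fun t => (s, t)) := by
        intro p hp
        obtain ⟨hpP, hps⟩ := Finset.mem_filter.mp hp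
        obtain ⟨-, -, -, h3, h4, h5, h6⟩ := Finset.mem_filter.mp hpP
        rw [hps] at h5 h6
        refine Finset.mem_image.mpr ⟨p.2, ?_, by rw [← hps]⟩
        simp [h3, h4, h5, h6]
      have hz1' : (1 : Q) ≠ zq := fun e => hz1 (congrArg Subtype.val e).symm
      have hzz' : zq * zq = 1 := Subtype.ext hzz
      have hcard : ({1, zq, s, s * zq} : Finset Q).card = 4 := by
        rw [Finset.card_insert_of_notMem, Finset.card_insert_of_notMem, Finset.card_pair]
        · intro e
          apply hz1'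
          have := mul_eq_left.mp e.symm
          exact this.symm
        · simp only [Finset.mem_insert, Finset.mem_singleton, not_or]
          refine ⟨fun e => hs2 e.symm, fun e => hs1 ?_⟩
          have := mul_eq_right.mp e.symm
          exact this
        · simp only [Finset.mem_insert, Finset.mem_singleton, not_or]
          refine ⟨hz1', fun e => hs1 e.symm, fun e => hs2 ?_⟩
          have e2 : s = s * zq * zq := by rw [mul_assoc, hzz', mul_one]
          rw [e2, ← e, one_mul]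
      have hc : (Finset.univ \ {1, zq, s, s * zq} : Finset Q).card = 4 := by
        rw [Finset.card_sdiff_of_subset (Finset.subset_univ _), Finset.card_univ, hcard,
          ← Nat.card_eq_fintype_card, hQ8]
      calc _ ≤ _ := Finset.card_le_card hsub
        _ ≤ (Finset.univ \ {1, zq, s, s * zq} : Finset Q).card := Finset.card_image_le
        _ = 4 := hc)
    have h2 : P.image Prod.fst ⊆ (Finset.univ : Finset Q).filter fun s => s ≠ 1 ∧ s ≠ zq := by
      intro s hs
      obtain ⟨p, hp, rfl⟩ := Finset.mem_image.mp hs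
      have hp' := (Finset.mem_filter.mp hp).2
      exact Finset.mem_filter.mpr ⟨Finset.mem_univ _, hp'.1, hp'.2.1⟩
    have h3 := (Finset.card_le_card h2).trans hA
    omega
  have hfin := Finset.card_le_mul_card_image (s := (Finset.univ : Finset G)) (f := F) 2 hfib
  have h5 := Finset.card_le_card himg
  rw [Finset.card_univ, ← Nat.card_eq_fintype_card] at hfin
  omega

theorem relIndex_mul_card_local {H K : Subgroup G} (h : H ≤ K) :
    H.relIndex K * Nat.card H = Nat.card K := by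
  have h1 := Subgroup.card_mul_index (H.subgroupOf K)
  rw [Nat.card_congr (Subgroup.subgroupOfEquivOfLe h).toEquiv] at h1
  rw [Subgroup.relIndex, mul_comm]
  exact h1

theorem main_struct (Q T C : Subgroup G) [hQn : Q.Normal] (hQ2 : IsPGroup 2 Q)
    (hCQ : centralizer (Q : Set G) ≤ Q) (hQT : Q ≤ T) (hCT : C ≤ T)
    (hcyc : IsCyclic C) (hidx : C.relIndex T = 2)
    (h4 : ∀ t ∈ T, t ∉ C → t ^ 4 = 1)
    (hinv : ∀ t ∈ T, t ∉ C → ∀ a ∈ C, a ^ 4 = 1 → t * a * t⁻¹ = a⁻¹)
    (hT2 : IsPGroup 2 T) (h8 : 8 ≤ Nat.card T) (hZ : (T ⊓ centralizer (T : Set G)).Normal)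
    (x : G) (hxodd : Odd (orderOf x)) (hx1 : x ≠ 1) :
    ∃ U : Subgroup G, U.Normal ∧ Nonempty (U ≃* Matrix.SpecialLinearGroup (Fin 2) (ZMod 3)) := by
  haveI hf2 : Fact (Nat.Prime 2) := ⟨Nat.prime_two⟩
  have hxQ : x ∈ normalizer (Q : Set G) := by
    rw [normalizer_eq_top_iff.mpr hQn]; trivial
  have hxnC : x ∉ centralizer (Q : Set G) := fun h => hx1 (eq_one_of_odd_of_mem hQ2 (hCQ h) hxodd)
  set Q₀ := Q ⊓ C with hQ₀
  have hQ₀cyc : IsCyclic Q₀ :=
    isCyclic_of_injective (Subgroup.inclusion (inf_le_right : Q ⊓ C ≤ C)) (Subgroup.inclusion_injective _)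
  obtain ⟨a₀, ha₀⟩ := IsCyclic.exists_generator (α := Q₀)
  set a : G := (a₀ : G) with ha
  have haQ₀ : a ∈ Q₀ := a₀.2
  have hmem₀ : ∀ y ∈ Q₀, ∃ k : ℤ, y = a ^ k := by
    intro y hy
    obtain ⟨k, hk⟩ := mem_zpowers_iff.mp (ha₀ ⟨y, hy⟩)
    exact ⟨k, by simpa using (congrArg Subtype.val hk).symm⟩
  have hidxT : (C.subgroupOf T).index = 2 := hidx
  have hCidx : ∀ t ∈ T, ∀ s ∈ T, t ∉ C → s ∉ C → t⁻¹ * s ∈ C := by
    intro t ht s hs hnt hns
    have h1 := (Subgroup.mul_mem_iff_of_index_two hidxT (a := (⟨t⁻¹, T.inv_mem ht⟩ : T))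
      (b := (⟨s, hs⟩ : T))).mpr ?_
    · exact h1
    · apply iff_of_false
      · intro h
        apply hnt
        have : t⁻¹ ∈ C := h
        simpa using C.inv_mem this
      · exact hns
  have hindC : ∀ t ∈ Q, ∀ s ∈ Q, t ∉ Q₀ → s ∉ Q₀ → t⁻¹ * s ∈ Q₀ := by
    intro t ht s hs hnt hns
    refine ⟨Q.mul_mem (Q.inv_mem ht) hs, hCidx t (hQT ht) s (hQT hs) (fun h => hnt ⟨ht, h⟩)
      (fun h => hns ⟨hs, h⟩)⟩
  have hnN : x ∉ normalizer (Q₀ : Set G) := fun h =>
    hxnC (chain_trivial hxodd hQ2 inf_le_left hQ₀cyc hxQ h hindC)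
  set g := x * a * x⁻¹ with hg
  have hgQ : g ∈ Q := hQn.conj_mem a haQ₀.1 x
  have hgC : g ∉ C := by
    intro hgC
    apply hnN
    apply mem_normalizer_of_map_conj_le
    rintro _ ⟨y, hy, rfl⟩
    obtain ⟨k, rfl⟩ := hmem₀ y hy
    have hgQ₀ : g ∈ Q₀ := ⟨hgQ, hgC⟩
    have : (MulAut.conj x).toMonoidHom (a ^ k) = g ^ k := by
      rw [map_zpow]
      rfl
    rw [this]
    exact Q₀.zpow_mem hgQ₀ k
  have hgpow : ∀ n : ℕ, g ^ n = x * a ^ n * x⁻¹ := by
    intro n
    exact (MulAut.conj x).toMonoidHom.map_pow a n |>.symm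
  have hcjinj : ∀ {u v : G}, x * u * x⁻¹ = x * v * x⁻¹ → u = v := by
    intro u v e
    have := congrArg (fun w => x⁻¹ * w * x) e
    simpa [mul_assoc] using this
  have hcj1 : x * (1 : G) * x⁻¹ = 1 := by group
  have ha4 : a ^ 4 = 1 := by
    have h1 := h4 g (hQT hgQ) hgC
    rw [hgpow] at h1
    exact hcjinj (h1.trans hcj1.symm)
  have hrel : Q₀.relIndex Q = 2 := by
    rw [hQ₀, Subgroup.inf_relIndex_left]
    have h1 : C.relIndex Q ≤ C.relIndex T := Subgroup.relIndex_le_of_le_right hQT (by omega)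
    have h2 : C.relIndex Q ≠ 1 := by
      intro e
      rw [Subgroup.relIndex_eq_one] at e
      exact hgC (e hgQ)
    have h3 : C.relIndex Q ≠ 0 := Subgroup.index_ne_zero_of_finite
    omega
  have hcardQ : Nat.card Q = 2 * Nat.card Q₀ := by
    have := relIndex_mul_card_local (H := Q₀) (K := Q) inf_le_left
    rw [hrel] at this
    exact this.symm
  have hcardQ₀ : Nat.card Q₀ = orderOf a := by
    have h1 : Q₀ = zpowers a := by
      apply le_antisymm
      · intro y hy
        obtain ⟨k, rfl⟩ := hmem₀ y hy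
        exact zpow_mem_zpowers a k
      · rw [zpowers_le]
        exact haQ₀
    rw [h1, Nat.card_zpowers]
  by_cases ha2 : a ^ 2 = 1
  · -- the small case
    exfalso
    have h1 : orderOf a ∣ 2 := orderOf_dvd_of_pow_eq_one ha2
    have h2 : orderOf a ≤ 2 := Nat.le_of_dvd (by norm_num) h1
    have hQ4 : Nat.card Q ≤ 4 := by omega
    set W := T ⊓ centralizer (T : Set G) with hW
    have hWne : W ≠ ⊥ := by
      haveI : Nontrivial T := by
        rw [← Finite.one_lt_card_iff_nontrivial]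
        omega
      haveI := hT2.center_nontrivial
      obtain ⟨⟨c, hc⟩, hc1⟩ := exists_ne (1 : Subgroup.center T)
      intro e
      apply hc1
      have hcW : (c : G) ∈ W := by
        refine Subgroup.mem_inf.mpr ⟨c.2, ?_⟩
        rw [mem_centralizer_iff]
        intro t ht
        have := (Subgroup.mem_center_iff.mp hc) ⟨t, ht⟩
        exact congrArg Subtype.val this
      rw [e, Subgroup.mem_bot] at hcW
      exact Subtype.ext (Subtype.ext hcW)
    have hWQ : W ≤ Q := by
      intro w hw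
      apply hCQ
      rw [mem_centralizer_iff]
      intro q hq
      exact (mem_centralizer_iff.mp hw.2) q (hQT hq)
    have hQW : ¬ Q ≤ W := by
      intro hle
      have hTQ : T ≤ Q := by
        intro t ht
        apply hCQ
        rw [mem_centralizer_iff]
        intro q hq
        exact ((mem_centralizer_iff.mp (hle hq).2) t ht).symm
      have := Subgroup.card_le_of_le hTQ
      omega
    obtain ⟨k, hk⟩ := hQ2.exists_card_eq
    obtain ⟨j, hj⟩ := (hQ2.to_le hWQ).exists_card_eq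
    have hjk : 2 ^ j < 2 ^ k := by
      rw [← hk, ← hj]
      by_contra hlt
      exact hQW (Subgroup.eq_of_le_of_card_ge hWQ (not_lt.mp hlt)).ge
    have hj0 : j ≠ 0 := by
      intro e
      rw [e, pow_zero] at hj
      exact hWne (Subgroup.card_eq_one.mp hj)
    have hjk' : j < k := (Nat.pow_lt_pow_iff_right (by norm_num)).mp hjk
    have hk2 : k ≤ 2 := by
      by_contra hh
      have : 2 ^ 3 ≤ 2 ^ k := Nat.pow_le_pow_right (by norm_num) (by omega)
      omega
    have hj1 : j = 1 := by omega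
    have hk2' : k = 2 := by omega
    subst hj1 hk2'
    haveI : Fact (Nat.Prime (Nat.card W)) := ⟨by rw [hj]; exact Nat.prime_two⟩
    have hWcyc : IsCyclic W := isCyclic_of_prime_card rfl
    have hWrel : (W.subgroupOf Q).index = 2 := by
      have := relIndex_mul_card_local (H := W) (K := Q) hWQ
      rw [hk, hj] at this
      have h3 : W.relIndex Q = 2 := by omega
      exact h3
    have hWind : ∀ t ∈ Q, ∀ s ∈ Q, t ∉ W → s ∉ W → t⁻¹ * s ∈ W := by
      intro t ht s hs hnt hns
      have h1 := (Subgroup.mul_mem_iff_of_index_two hWrel (a := (⟨t⁻¹, Q.inv_mem ht⟩ : Q))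
        (b := (⟨s, hs⟩ : Q))).mpr ?_
      · exact h1
      · apply iff_of_false
        · intro h
          apply hnt
          have : t⁻¹ ∈ W := h
          simpa using W.inv_mem this
        · exact hns
    have hxW : x ∈ normalizer (W : Set G) := by
      rw [normalizer_eq_top_iff.mpr hZ]; trivial
    exact hxnC (chain_trivial hxodd hQ2 hWQ hWcyc hxQ hxW hWind)
  -- the quaternion case
  have haord : orderOf a = 4 := by
    have := orderOf_eq_prime_pow (p := 2) (n := 1) (x := a) (by simpa using ha2) (by simpa using ha4)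
    simpa using this
  have hQ8 : Nat.card Q = 8 := by rw [hcardQ, hcardQ₀, haord]
  set z := a ^ 2 with hz
  have hzQ₀ : z ∈ Q₀ := Q₀.pow_mem haQ₀ 2
  have hzQ : z ∈ Q := hzQ₀.1
  have hz1 : z ≠ 1 := ha2
  have hzz : z * z = 1 := by
    rw [hz, ← pow_add]
    exact ha4
  have hel : ∀ y ∈ Q₀, y = 1 ∨ y = a ∨ y = z ∨ y = a ^ 3 := by
    intro y hy
    obtain ⟨k, rfl⟩ := hmem₀ y hy
    rw [← zpow_mod_orderOf, haord]
    have h1 : (k % ((4 : ℕ) : ℤ)) = 0 ∨ (k % ((4 : ℕ) : ℤ)) = 1 ∨ (k % ((4 : ℕ) : ℤ)) = 2 ∨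
        (k % ((4 : ℕ) : ℤ)) = 3 := by omega
    rcases h1 with h1 | h1 | h1 | h1 <;> rw [h1]
    · left; simp
    · right; left; simp
    · right; right; left; rw [hz]; norm_cast
    · right; right; right; norm_cast
  have ha3sq : a ^ 3 * a ^ 3 = z := by
    rw [← pow_add, hz, show 3 + 3 = 4 + 2 from rfl, pow_add, ha4, one_mul]
  have hg1 : g ^ 2 ≠ 1 := by
    rw [hgpow]
    intro e
    exact ha2 (hcjinj (e.trans hcj1.symm))
  have hg4 : g ^ 4 = 1 := h4 g (hQT hgQ) hgC
  have hgnQ₀ : g ∉ Q₀ := fun h => hgC h.2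
  have hgg : g * g = z := by
    have h1 : g * g ∈ Q₀ := by
      have := hindC g⁻¹ (Q.inv_mem hgQ) g hgQ (fun h => hgnQ₀ (by simpa using Q₀.inv_mem h)) hgnQ₀
      simpa using this
    have h2 : (g * g) * (g * g) = 1 := by
      rw [← hg4]
      simp only [pow_succ, pow_zero, one_mul, mul_assoc]
    rcases hel _ h1 with h3 | h3 | h3 | h3
    · exact absurd (by rw [pow_two]; exact h3) hg1
    · exfalso
      rw [h3] at h2
      apply hz1
      show a ^ 2 = 1
      rw [pow_two]
      exact h2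
    · exact h3
    · exfalso
      rw [h3, ha3sq] at h2
      exact hz1 h2
  have hzcomm : ∀ s ∈ Q₀, s * z = z * s := by
    intro s hs
    rcases hel s hs with h | h | h | h <;> rw [h]
    · simp
    · exact ((Commute.refl a).pow_right 2).eq
    · exact ((Commute.refl a).pow_pow 3 2).eq
  have hs4 : ∀ s ∈ Q₀, s ^ 4 = 1 := by
    intro s hs
    rcases hel s hs with h | h | h | h <;> rw [h]
    · simp
    · exact ha4
    · rw [hz, ← pow_mul, show 2 * 4 = 4 * 2 from rfl, pow_mul, ha4, one_pow]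
    · rw [← pow_mul, show 3 * 4 = 4 * 3 from rfl, pow_mul, ha4, one_pow]
  have hconj : ∀ t ∈ Q, t ∉ Q₀ → ∀ s ∈ Q₀, t * s * t⁻¹ = s⁻¹ := fun t ht hn s hs =>
    hinv t (hQT ht) (fun h => hn ⟨ht, h⟩) s hs.2 (hs4 s hs)
  have hsq : ∀ t ∈ Q, t ≠ 1 → t ≠ z → t * t = z := by
    intro t ht ht1 htz
    by_cases htQ₀ : t ∈ Q₀
    · rcases hel t htQ₀ with h | h | h | h
      · exact absurd h ht1
      · rw [h, hz, pow_two]
      · exact absurd h htz
      · rw [h]; exact ha3sq
    · have hs : g⁻¹ * t ∈ Q₀ := by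
        apply hindC g hgQ t ht hgnQ₀ htQ₀
      set s := g⁻¹ * t with hsdef
      have hts : t = g * s := by rw [hsdef]; group
      have h1 := hconj g hgQ hgnQ₀ s hs
      calc t * t = (g * s * g⁻¹) * (g * g) * s := by rw [hts]; group
        _ = z := by
          rw [h1, hgg, mul_assoc, ← hzcomm s hs]
          group
  obtain ⟨hxz, hx3⟩ := Cfsg.Agent.Lib.Transfer.q8_odd_cube hzQ hz1 hzz hQ8 hsq hxQ hxodd
  have hx3' : x ^ 3 = 1 := eq_one_of_odd_of_mem hQ2 (hCQ hx3)
    (Odd.of_dvd_nat hxodd (orderOf_pow_dvd 3))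
  have hf3 : Fact (Nat.Prime 3) := ⟨Nat.prime_three⟩
  have hxord : orderOf x = 3 := orderOf_eq_prime hx3' hx1
  obtain ⟨a', ha'Q, ha'⟩ : ∃ a' ∈ Q, x * a' * x⁻¹ ≠ a' := by
    by_contra hh
    push Not at hh
    apply hxnC
    rw [mem_centralizer_iff]
    intro t ht
    have h1 := hh t ht
    have h2 := mul_inv_eq_iff_eq_mul.mp h1
    exact h2.symm
  have hy4 : (x * x) * (x * x) = x := by
    have h1 : (x * x) * (x * x) = x ^ 3 * x := by
      simp only [pow_succ, pow_zero, one_mul, mul_assoc]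
    rw [h1, hx3', one_mul]
  have ha'z : x * a' * x⁻¹ ≠ z * a' := by
    intro e
    apply ha'
    have h2 : (x * x) * a' * (x * x)⁻¹ = a' := by
      calc (x * x) * a' * (x * x)⁻¹ = x * (x * a' * x⁻¹) * x⁻¹ := by group
        _ = x * (z * a') * x⁻¹ := by rw [e]
        _ = (x * z * x⁻¹) * (x * a' * x⁻¹) := by group
        _ = z * (z * a') := by rw [hxz, e]
        _ = a' := by rw [← mul_assoc, hzz, one_mul]
    calc x * a' * x⁻¹ = ((x * x) * (x * x)) * a' * ((x * x) * (x * x))⁻¹ := by rw [hy4]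
      _ = (x * x) * ((x * x) * a' * (x * x)⁻¹) * (x * x)⁻¹ := by group
      _ = (x * x) * a' * (x * x)⁻¹ := congrArg (fun w => (x * x) * w * (x * x)⁻¹) h2
      _ = a' := h2
  have ha'1 : a' ≠ 1 := by
    intro e
    apply ha'
    rw [e]
    group
  have ha'zz : a' ≠ z := by
    intro e
    apply ha'
    rw [e]
    exact hxz
  have ha1 : a ≠ 1 := by
    intro e
    apply hz1
    rw [hz, e, one_pow]
  have haz : a ≠ z := by
    intro e
    apply ha1
    have h1 : a = a * a := e.trans (pow_two a)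
    exact mul_eq_left.mp h1.symm
  have hg1' : g ≠ 1 := by
    intro e
    apply hg1
    rw [e, one_pow]
  have hgz' : g ≠ z := fun e => hgC (by rw [e]; exact hzQ₀.2)
  have hga : g ≠ a := fun e => hgC (by rw [e]; exact haQ₀.2)
  have hgaz : g ≠ a * z := fun e => hgC (by rw [e]; exact C.mul_mem haQ₀.2 hzQ₀.2)
  have hgen : ∀ h : G, h * a * h⁻¹ = a → h * g * h⁻¹ = g → h = 1 ∨ h = z := by
    intro h h1 h2
    have hca : Commute h a := by
      have := mul_inv_eq_iff_eq_mul.mp h1
      exact this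
    have hcg : Commute h g := by
      have := mul_inv_eq_iff_eq_mul.mp h2
      exact this
    have hhC : h ∈ centralizer (Q : Set G) := by
      rw [mem_centralizer_iff]
      intro q hq
      by_cases hqQ₀ : q ∈ Q₀
      · obtain ⟨k, rfl⟩ := hmem₀ q hqQ₀
        exact (hca.zpow_right k).symm.eq
      · have hs := hindC g hgQ q hq hgnQ₀ hqQ₀
        obtain ⟨k, hk⟩ := hmem₀ _ hs
        have hq' : q = g * a ^ k := by rw [← hk]; group
        rw [hq']
        exact ((hcg.mul_right (hca.zpow_right k))).symm.eq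
    have hhQ := hCQ hhC
    by_contra hne
    push Not at hne
    have hhh := hsq h hhQ hne.1 hne.2
    by_cases hh₀ : h ∈ Q₀
    · have h3 := hconj g hgQ hgnQ₀ h hh₀
      have h4' : g * h * g⁻¹ = h := by
        rw [hcg.symm.eq]
        group
      rw [h4'] at h3
      have h5 : h * h = 1 := by
        nth_rewrite 2 [h3]
        group
      exact hz1 (hhh.symm.trans h5)
    · have h3 := hconj h hhQ hh₀ a haQ₀
      rw [h1] at h3
      have h5 : a * a = 1 := by
        nth_rewrite 2 [h3]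
        group
      apply hz1
      show a ^ 2 = 1
      rw [pow_two]
      exact h5
  have hG48 := card_le_48 hQ8 haQ₀.1 hgQ hzQ hz1 hzz hsq ha1 haz hg1' hgz' hga hgaz hgen
  have hN : zpowers x ≤ normalizer (Q : Set G) := zpowers_le.mpr hxQ
  have hc := Cfsg.Agent.Lib.FrobThm.card_sup_mul_inf hN
  have hinfb : Q ⊓ zpowers x = ⊥ := by
    apply Subgroup.inf_eq_bot_of_coprime
    rw [hQ8, Nat.card_zpowers, hxord]
    norm_num
  rw [hinfb, Subgroup.card_bot, mul_one, Nat.card_zpowers, hxord, hQ8, sup_comm] at hc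
  set U := Q ⊔ zpowers x with hU
  have hidxU := Subgroup.card_mul_index U
  rw [hc] at hidxU
  have hUidx0 : U.index ≠ 0 := Subgroup.index_ne_zero_of_finite
  have hUn : U.Normal := by
    have h1 : U.index = 1 ∨ U.index = 2 := by omega
    rcases h1 with h1 | h1
    · rw [Subgroup.index_eq_one] at h1
      rw [h1]
      infer_instance
    · exact Subgroup.normal_of_index_eq_two h1
  have hQU : Q ≤ U := le_sup_left
  have hxU : x ∈ U := mem_sup_right (mem_zpowers x)
  refine ⟨U, hUn, ?_⟩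
  refine Cfsg.Agent.Lib.Huppert.iso_sl23_of_structure (H := U) hc (Q.subgroupOf U) inferInstance
    ?_ (z := ⟨z, hQU hzQ⟩) (by rw [Subgroup.mem_subgroupOf]; exact hzQ)
    (fun e => hz1 (congrArg Subtype.val e)) (Subtype.ext hzz) ?_
    (c := ⟨x, hxU⟩) (a := ⟨a', hQU ha'Q⟩) (Subtype.ext hx3') (fun e => hx1 (congrArg Subtype.val e))
    (by rw [Subgroup.mem_subgroupOf]; exact ha'Q) (fun e => ha'1 (congrArg Subtype.val e))
    (fun e => ha'zz (congrArg Subtype.val e)) (fun e => ha' (congrArg Subtype.val e))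
    (fun e => ha'z (congrArg Subtype.val e))
  · rw [Nat.card_congr (Subgroup.subgroupOfEquivOfLe hQU).toEquiv]
    exact hQ8
  · rintro ⟨t, htU⟩ ht ht1 htz
    rw [Subgroup.mem_subgroupOf] at ht
    exact Subtype.ext (hsq t ht (fun e => ht1 (Subtype.ext e)) (fun e => htz (Subtype.ext e)))

end mainsec


/-- Let G be a finite solvable group with O(G) = 1 whose Sylow 2-subgroup T is dihedral of order at least 8 or semidihedral, with G ≠ T and Z(T) normal in G. Then G has a normal subgroup isomorphic to SL₂(3). -/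
theorem result {G : Type*} [Group G] [Finite G] (hsol : IsSolvable G) (hO : Cfsg.oddCore G = ⊥) (T : Sylow 2 G) (hT : (∃ n : ℕ, 4 ≤ n ∧ Nonempty (↥(T : Subgroup G) ≃* DihedralGroup n)) ∨ Cfsg.IsQuasiDihedral ↥(T : Subgroup G)) (hne : (T : Subgroup G) ≠ ⊤) (hZ : ((T : Subgroup G) ⊓ Subgroup.centralizer ((T : Subgroup G) : Set G)).Normal) : ∃ U : Subgroup G, U.Normal ∧ Nonempty (↥U ≃* Matrix.SpecialLinearGroup (Fin 2) (ZMod 3)) := by
  haveI hf2 : Fact (Nat.Prime 2) := ⟨Nat.prime_two⟩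
  have hfit : fittingSubgroup G = pCore 2 G := fitting_eq_pCore_of_pPrimeCore_eq_bot 2 hO
  haveI : Group.IsSolvable G := hsol
  have hCQ : centralizer (pCore 2 G : Set G) ≤ pCore 2 G := by
    have := Cfsg.Agent.Lib.Geo.centralizer_fitting_le_of_solvable (G := G)
    rwa [hfit] at this
  have hTS : (∃ C : Subgroup T, TS C) ∧ 8 ≤ Nat.card T := by
    rcases hT with ⟨n, hn, ⟨e⟩⟩ | h
    · exact ts_of_dihedral hn e
    · exact ts_of_qd h
  obtain ⟨⟨C₀, hC₀⟩, h8⟩ := hTS
  obtain ⟨x, hxodd, hx1⟩ : ∃ x : G, Odd (orderOf x) ∧ x ≠ 1 := by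
    have hne : (T : Subgroup G).index ≠ 1 := by rwa [Ne, Subgroup.index_eq_one]
    obtain ⟨q, hq, hqd⟩ := Nat.exists_prime_and_dvd hne
    have hq2 : q ≠ 2 := by
      rintro rfl
      exact T.not_dvd_index hqd
    have hdvd : q ∣ Nat.card G := hqd.trans (Subgroup.index_dvd_card _)
    haveI := Fact.mk hq
    obtain ⟨y, hy⟩ := exists_prime_orderOf_dvd_card' q hdvd
    refine ⟨y, by rw [hy]; exact hq.odd_of_ne_two hq2, ?_⟩
    rintro rfl
    rw [orderOf_one] at hy
    exact hq.one_lt.ne hy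
  have hmemC : ∀ t (ht : t ∈ (T : Subgroup G)), t ∉ C₀.map (T : Subgroup G).subtype →
      (⟨t, ht⟩ : (T : Subgroup G)) ∉ C₀ := fun t ht hn hm => hn ⟨⟨t, ht⟩, hm, rfl⟩
  refine main_struct (pCore 2 G) T (C₀.map (T : Subgroup G).subtype) (pCore_isPGroup 2 G) hCQ
    (pCore_le_sylow T) (Subgroup.map_subtype_le _) ?_ ?_ ?_ ?_ T.isPGroup' h8 hZ x hxodd hx1
  · haveI := hC₀.cyc
    exact isCyclic_of_surjective (C₀.equivMapOfInjective _ (Subgroup.subtype_injective _)).toMonoidHom
      (MulEquiv.surjective _)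
  · show ((C₀.map (T : Subgroup G).subtype).comap (T : Subgroup G).subtype).index = 2
    rw [Subgroup.comap_map_eq_self_of_injective (Subgroup.subtype_injective _)]
    exact hC₀.idx
  · intro t ht hn
    simpa using congrArg Subtype.val (hC₀.h4 _ (hmemC t ht hn))
  · intro t ht hn a ha ha4
    obtain ⟨a₀, ha₀, rfl⟩ := ha
    have h1 := hC₀.hinv _ (hmemC t ht hn) a₀ ha₀ (Subtype.ext (by simpa using ha4))
    simpa using congrArg Subtype.val h1

end Cfsg.Agent.S2879
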