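import Cfsg.Statements.S2881
import Cfsg.Agent.Lib.Amalgam.Extra2

set_option autoImplicit false
open Cfsg

namespace Cfsg.Agent.S2881

/-- Let E be an extraspecial 2-group of order 2^(2m+1) of plus type (containing an elementary abelian subgroup of order 2^(m+1)), and let ω be an automorphism of E of order 5 whose fixed points are exactly the centre of E. Then m is divisible by 4. -/
theorem result {E : Type*} [Group E] [Finite E] (m : ℕ) (hm : 1 ≤ m) (hE : Cfsg.IsExtraspecial 2 E) (hcard : Nat.card E = 2 ^ (2 * m + 1)) (hplus : ∃ A : Subgroup E, Cfsg.IsElementaryAbelian 2 A ∧ Nat.card A = 2 ^ (m + 1)) (ω : E ≃* E) (hω : orderOf ω = 5) (hfix : ∀ x : E, ω x = x ↔ x ∈ Subgroup.center E) : 4 ∣ m := by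
  classical
  haveI := Fintype.ofFinite E
  have hN := Cfsg.Agent.Lib.Amalgam.card_orderOf_four hE hcard hplus
  have hω5 : ω ^ 5 = 1 := by
    rw [← hω]; exact pow_orderOf_eq_one ω
  -- `ω` permutes the elements of order four
  have hord : ∀ x : E, orderOf x = 4 → orderOf (ω x) = 4 := by
    intro x hx
    rw [MulEquiv.orderOf_eq]; exact hx
  let f : Function.End {x : E // orderOf x = 4} := fun x => ⟨ω x.1, hord x.1 x.2⟩
  have hfpow : ∀ (n : ℕ) (x : {x : E // orderOf x = 4}), ((f ^ n) x).1 = (ω ^ n) x.1 := by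
    intro n x
    induction n with
    | zero => rfl
    | succ n ih =>
      rw [pow_succ']
      show ω ((f ^ n) x).1 = _
      rw [ih, pow_succ']
      rfl
  have hf5 : f ^ 5 ^ 1 = 1 := by
    funext x
    apply Subtype.ext
    rw [pow_one, hfpow, hω5]
    rfl
  haveI : Fact (Nat.Prime 5) := ⟨by norm_num⟩
  have hmod := Equiv.Perm.card_fixedPoints_modEq (f := f) (p := 5) (n := 1) hf5
  have hnofix : Fintype.card (Function.fixedPoints f) = 0 := by
    rw [Fintype.card_eq_zero_iff]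
    constructor
    rintro ⟨x, hx⟩
    have h1 : ω x.1 = x.1 := congrArg Subtype.val hx
    have h2 : x.1 ∈ Subgroup.center E := (hfix x.1).1 h1
    obtain ⟨z, hz⟩ := Cfsg.Agent.Lib.Amalgam.exists_extraFacts hE
    have h3 : x.1 ∈ Subgroup.zpowers z := by
      have h4 : x.1 ∈ (⊤ : Subgroup E) ⊓ Subgroup.centralizer ((⊤ : Subgroup E) : Set E) := by
        refine ⟨Subgroup.mem_top _, Subgroup.mem_centralizer_iff.mpr ?_⟩
        intro g _
        exact Subgroup.mem_center_iff.mp h2 g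
      rw [hz.hcent] at h4
      exact h4
    have h5 : x.1 ^ 2 = 1 := by
      rcases hz.eq_one_or h3 with h6 | h6
      · rw [h6]; simp
      · rw [h6, ← hz.hz]; exact pow_orderOf_eq_one z
    have h6 := orderOf_dvd_of_pow_eq_one h5
    rw [x.2] at h6
    omega
  rw [hnofix, ← Nat.card_eq_fintype_card, hN] at hmod
  have hdvd : 5 ∣ 2 ^ (2 * m) - 2 ^ m := (Nat.modEq_zero_iff_dvd).1 hmod
  have hge : 2 ^ m ≤ 2 ^ (2 * m) := Nat.pow_le_pow_right (by norm_num) (by omega)
  have h1 : 2 ^ (2 * m) - 2 ^ m = 2 ^ m * (2 ^ m - 1) := by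
    have : 2 ^ (2 * m) = 2 ^ m * 2 ^ m := by ring
    rw [this, Nat.mul_sub, mul_one]
  rw [h1] at hdvd
  have hc : Nat.Coprime 5 (2 ^ m) := Nat.Coprime.pow_right m (by norm_num)
  have h2 : 5 ∣ 2 ^ m - 1 := hc.dvd_of_dvd_mul_left hdvd
  have hpos : 1 ≤ 2 ^ m := Nat.one_le_two_pow
  have h3 : 2 ^ m % 5 = 1 := by omega
  have hm4 : m = 4 * (m / 4) + m % 4 := by omega
  have h4 : 2 ^ m % 5 = 2 ^ (m % 4) % 5 := by
    conv_lhs => rw [hm4, pow_add, pow_mul]
    rw [Nat.mul_mod, Nat.pow_mod]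
    norm_num
  rw [h4] at h3
  have hlt : m % 4 < 4 := Nat.mod_lt _ (by norm_num)
  have h5 : m % 4 = 0 := by
    interval_cases (m % 4)
    · rfl
    · norm_num at h3
    · norm_num at h3
    · norm_num at h3
  omega

end Cfsg.Agent.S2881
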