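import Cfsg.Statements.S2882
import Cfsg.Agent.Lib.Golay.M24Data
import Cfsg.Agent.Lib.M24.OctOct
import Cfsg.Agent.Lib.M24.OctA8
import Cfsg.Agent.Lib.Amalgam.A8Sylow

set_option autoImplicit false
open Cfsg

namespace Cfsg.Agent.S2882


open Cfsg Cfsg.Agent.Lib.M24 Cfsg.Agent.Lib.Golay Cfsg.Agent.Lib.Compute
open scoped Pointwise

/-- The octads as an invariant subset. -/
def octSub : SubMulAction ↥M24 (Finset GolayPt) where
  carrier := octads
  smul_mem' := fun g _ ho => smul_mem_octads g.2 ho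

theorem card_sylow (S : Sylow 2 ↥M24) : Nat.card (S : Subgroup ↥M24) = 1024 := by
  have h1 := S.card_eq_multiplicity
  rw [card_M24] at h1
  have h2 : (244823040 : ℕ).factorization 2 = 10 := by
    have e : (244823040 : ℕ) = 2 ^ 10 * 239085 := by norm_num
    rw [e, Nat.factorization_mul (by norm_num) (by norm_num), Nat.factorization_pow, Nat.Prime.factorization Nat.prime_two]
    simp [Nat.factorization_eq_zero_of_not_dvd (show ¬ 2 ∣ 239085 by norm_num)]
  rw [h2] at h1
  rw [h1]
  norm_num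

theorem exists_octad (S : Sylow 2 ↥M24) : ∃ o ∈ octads, (S : Subgroup ↥M24) ≤ MulAction.stabilizer ↥M24 o := by
  have h1 : ¬ 2 ∣ Nat.card ↥octSub := by
    have : Nat.card ↥octSub = Set.ncard octads := rfl
    rw [this, ncard_octads]
    norm_num
  obtain ⟨x, hx⟩ := S.2.nonempty_fixed_point_of_prime_not_dvd_card ↥octSub h1
  refine ⟨x.1, x.2, fun s hs => ?_⟩
  have h2 := hx ⟨s, hs⟩
  exact congrArg Subtype.val h2

/-- The pointwise stabiliser as a subgroup of `M24`. -/
abbrev K0 (o : Finset GolayPt) : Subgroup ↥M24 := (Kfix o).subgroupOf M24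

theorem mem_K0 {o : Finset GolayPt} {k : ↥M24} : k ∈ K0 o ↔ ∀ q ∈ o, k.1 q = q := by
  rw [Subgroup.mem_subgroupOf, mem_Kfix]
  exact ⟨fun h => h.2, fun h => ⟨k.2, h⟩⟩

theorem card_K0 {o : Finset GolayPt} (ho : o ∈ octads) : Nat.card (K0 o) = 16 := by
  rw [← card_Kfix ho]
  exact Nat.card_congr (Subgroup.subgroupOfEquivOfLe inf_le_left).toEquiv

theorem K0_le {o : Finset GolayPt} (ho : o ∈ octads) (S : Sylow 2 ↥M24)
    (hS : (S : Subgroup ↥M24) ≤ MulAction.stabilizer ↥M24 o) : K0 o ≤ (S : Subgroup ↥M24) := by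
  have hK : IsPGroup 2 (K0 o) := IsPGroup.of_card (n := 4) (by rw [card_K0 ho]; norm_num)
  have hnorm : (S : Subgroup ↥M24) ≤ Subgroup.normalizer (K0 o : Set ↥M24) := by
    intro s hs
    have hfw : ∀ t : ↥M24, t ∈ (S : Subgroup ↥M24) → ∀ k ∈ K0 o, t * k * t⁻¹ ∈ K0 o := by
      intro t ht k hk
      rw [mem_K0] at hk ⊢
      intro q hq
      have h1 : (t⁻¹).1 • o = o := hS (Subgroup.inv_mem _ ht)
      have h2 : (t⁻¹).1 q ∈ o := (mem_iff_of_smul_eq h1 q).2 hq
      show t.1 (k.1 ((t⁻¹).1 q)) = q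
      rw [hk _ h2]
      show t.1 (t.1⁻¹ q) = q
      simp
    rw [Subgroup.mem_normalizer_iff]
    intro k
    constructor
    · exact hfw s hs k
    · intro h
      have := hfw s⁻¹ (Subgroup.inv_mem _ hs) _ h
      simpa [mul_assoc] using this
  have h3 : IsPGroup 2 ↥((S : Subgroup ↥M24) ⊔ K0 o) := IsPGroup.to_sup_of_normal_right' S.2 hK hnorm
  have h4 := S.is_maximal' h3 le_sup_left
  rw [← h4]
  exact le_sup_right

theorem octad_unique {o o' : Finset GolayPt} (ho : o ∈ octads) (ho' : o' ∈ octads)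
    (h : ∀ k ∈ K0 o, k.1 • o' = o') : o' = o := by
  classical
  by_cases hsub : o' ⊆ o
  · apply Finset.eq_of_subset_of_card_le hsub
    rw [octads_card ho, octads_card ho']
  · exfalso
    obtain ⟨a, ha', ha⟩ := Finset.not_subset.1 hsub
    have h1 : (Finset.univ.filter fun b => b ∉ o) ⊆ o' := by
      intro b hb
      have hb' : b ∉ o := (Finset.mem_filter.1 hb).2
      obtain ⟨k, hk, hf, hab⟩ := exists_fix_octad ho ha hb'
      have h2 := h ⟨k, hk⟩ (mem_K0.2 hf)
      have h3 := (mem_iff_of_smul_eq h2 a).2 ha'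
      have hab' : k a = b := hab
      rwa [hab'] at h3
    have h2 := Finset.card_le_card h1
    have h3 : (Finset.univ.filter fun b => b ∉ o).card = 16 := by
      rw [Finset.filter_not, Finset.card_sdiff]
      simp only [Finset.filter_mem_eq_inter, Finset.univ_inter, Finset.inter_univ]
      rw [octads_card ho]
      rfl
    rw [h3, octads_card ho'] at h2
    omega


/-- In the Mathieu group of degree 24 (realised as the automorphism group of the extended binary Golay code) every Sylow 2-subgroup is self-normalizing. -/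
theorem result (S : Sylow 2 ↥Cfsg.M24) : Subgroup.normalizer ((S : Subgroup ↥Cfsg.M24) : Set ↥Cfsg.M24) = (S : Subgroup ↥Cfsg.M24) := by
  classical
  obtain ⟨o, ho, hS⟩ := exists_octad S
  have hKS := K0_le ho S hS
  have hN : Subgroup.normalizer ((S : Subgroup ↥M24) : Set ↥M24) ≤ MulAction.stabilizer ↥M24 o := by
    intro g hg
    rw [Subgroup.mem_normalizer_iff] at hg
    have ho' : g.1 • o ∈ octads := smul_mem_octads g.2 ho
    have h1 : ∀ k ∈ K0 o, k.1 • (g.1 • o) = g.1 • o := by
      intro k hk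
      have hk' := hKS hk
      have h2 : g⁻¹ * k * g ∈ (S : Subgroup ↥M24) := by
        apply (hg _).2
        simpa [mul_assoc] using hk'
      have h3 := hS h2
      have h4 : (g⁻¹ * k * g).1 • o = o := h3
      have h5 : k.1 • g.1 • o = g.1 • (g⁻¹ * k * g).1 • o := by
        rw [smul_smul, smul_smul]
        congr 1
        show k.1 * g.1 = g.1 * (g.1⁻¹ * k.1 * g.1)
        group
      rw [h5, h4]
    exact octad_unique ho ho' h1
  apply le_antisymm _ Subgroup.le_normalizer
  intro g hg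
  have hgH : g ∈ MulAction.stabilizer ↥M24 o := hN hg
  let H := MulAction.stabilizer ↥M24 o
  let ρ := oRes o
  let gH : ↥H := ⟨g, hgH⟩
  let S₁ : Subgroup ↥H := (S : Subgroup ↥M24).subgroupOf H
  have hker : ρ.ker ≤ S₁ := by
    intro x hx
    have h1 := (oRes_ker x).1 hx
    rw [Subgroup.mem_subgroupOf]
    exact hKS ((mem_K0).2 (mem_Kfix.1 h1).2)
  have hcardS₁ : Nat.card S₁ = 1024 := by
    rw [← card_sylow S]
    exact Nat.card_congr (Subgroup.subgroupOfEquivOfLe hS).toEquiv
  have hidx : S₁.index = 315 := by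
    have h1 := Subgroup.card_mul_index S₁
    rw [hcardS₁, card_stabilizer_octad ho] at h1
    omega
  have hcardX : Fintype.card ↥o = 8 := by
    rw [Fintype.card_coe, octads_card ho]
  have hR : ρ.range = alternatingGroup ↥o := oRes_range ho
  haveI hnt : Nontrivial ↥o := Fintype.one_lt_card_iff_nontrivial.1 (by rw [hcardX]; norm_num)
  have hcardP : Nat.card (S₁.map ρ) = 64 := by
    have h1 := Subgroup.index_map (H := S₁) ρ
    rw [sup_eq_left.2 hker, hR, hidx, alternatingGroup.index_eq_two] at h1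
    have h2 := Subgroup.card_mul_index (S₁.map ρ)
    rw [h1, Nat.card_eq_fintype_card (α := Equiv.Perm ↥o), Fintype.card_perm, hcardX] at h2
    have h3 : Nat.factorial 8 = 40320 := rfl
    omega
  have hle : S₁.map ρ ≤ alternatingGroup ↥o := by
    rw [← hR]
    exact Subgroup.map_le_range _ _
  have hgA : ρ gH ∈ alternatingGroup ↥o := by
    rw [← hR]
    exact ⟨gH, rfl⟩
  have hgN : ρ gH ∈ Subgroup.normalizer ((S₁.map ρ : Subgroup _) : Set (Equiv.Perm ↥o)) := by
    apply Subgroup.le_normalizer_map ρ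
    refine ⟨gH, ?_, rfl⟩
    apply Subgroup.mem_normalizer_iff.2
    intro h
    rw [Subgroup.mem_subgroupOf, Subgroup.mem_subgroupOf]
    exact (Subgroup.mem_normalizer_iff.1 hg) h.1
  have hmem := Cfsg.Agent.Lib.Amalgam.A8Sylow.main_A8 hcardX _ hle hcardP hgA hgN
  obtain ⟨s, hs, hse⟩ := hmem
  have h1 : s⁻¹ * gH ∈ ρ.ker := by
    rw [MonoidHom.mem_ker, map_mul, map_inv]
    have : ρ s = ρ gH := hse
    rw [this]
    simp
  have h2 : s⁻¹ * gH ∈ S₁ := hker h1
  have h3 : gH ∈ S₁ := by
    have := S₁.mul_mem hs h2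
    simpa using this
  exact h3


end Cfsg.Agent.S2882
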