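import Cfsg.Statements.S2910
import Cfsg.Agent.Lib.Amalgam.Critical
import Cfsg.Agent.Lib.PGroup.MinAct
import Cfsg.Agent.Lib.Transfer.Frobenius

set_option autoImplicit false
open Cfsg

namespace Cfsg.Agent.S2910

/-- Let p be an odd prime dividing the order of the finite group G and P a Sylow p-subgroup of G. If Ω₁(P) (generated by the elements of order dividing p) is contained in the centre of G, then G has a normal p-complement. In particular, if G is quasisimple then Ω₁(P) is not central in G. -/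
theorem result {G : Type*} [Group G] [Finite G] {p : ℕ} [Fact p.Prime] (hp : p ≠ 2) (hdiv : p ∣ Nat.card G) (P : Sylow p G) (hZ : Cfsg.omegaOne p (P : Subgroup G) ≤ Subgroup.center G) : Cfsg.HasNormalPComplement p G ∧ ¬ Cfsg.IsQuasisimple G := by
  have hFH : Cfsg.Agent.Lib.Transfer.FrobeniusHyp p (P : Subgroup G) := by
    intro Q hQ g hg hgc
    rw [Subgroup.mem_centralizer_iff]
    intro x hx
    have hinv : ∀ x ∈ Q, g * x * g⁻¹ ∈ Q := fun x hx =>
      (Subgroup.mem_normalizer_iff.1 hg x).1 hx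
    have h0 : ∀ x ∈ Q, x ^ p = 1 → g * x * g⁻¹ = x := by
      intro x hx hxp
      have hz : x ∈ Subgroup.center G :=
        hZ (Cfsg.Agent.Lib.Amalgam.mem_omegaOne_of (P : Subgroup G) (hQ hx) hxp)
      have := (Subgroup.mem_center_iff.1 hz g)
      rw [this]; group
    have h1 := Cfsg.Agent.Lib.PGroup.centralizes_of_omega hp (P.isPGroup'.to_le hQ) hgc hinv h0 x hx
    calc x * g = (g * x * g⁻¹) * g := by rw [h1]
      _ = g * x := by group
  obtain ⟨N, hN, hc⟩ := Cfsg.Agent.Lib.Transfer.frobenius P hFH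
  refine ⟨⟨P, N, hN, hc⟩, ?_⟩
  rintro ⟨hperf, -⟩
  haveI := hN
  have hcard : Nat.card (G ⧸ N) = Nat.card P := by
    rw [← Subgroup.index_eq_card]
    exact hc.symm.index_eq_card
  have hPc : Nat.card P ≠ 1 := by
    intro h1
    have h2 := P.card_eq_multiplicity
    have hn0 : Nat.card G ≠ 0 := Nat.card_pos.ne'
    have h3 : (Nat.card G).factorization p ≠ 0 := by
      have hp' : p.Prime := Fact.out
      exact (hp'.factorization_pos_of_dvd hn0 hdiv).ne'
    rw [h1] at h2
    have h4 := (Nat.pow_eq_one.1 h2.symm)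
    rcases h4 with h4 | h4
    · exact (Fact.out : p.Prime).one_lt.ne' h4
    · exact h3 h4
  have hpg : IsPGroup p (G ⧸ N) := by
    rw [IsPGroup.iff_card]
    rw [hcard, P.card_eq_multiplicity]
    exact ⟨_, rfl⟩
  haveI : Nontrivial (G ⧸ N) := by
    rw [← Finite.one_lt_card_iff_nontrivial, hcard]
    have h0 : Nat.card (P : Subgroup G) ≠ 0 := Nat.card_pos.ne'
    omega
  haveI : Group.IsPerfect (G ⧸ N) := inferInstance
  haveI : Group.IsNilpotent (G ⧸ N) := hpg.isNilpotent
  exact Group.IsPerfect.not_isNilpotent (G ⧸ N) this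

end Cfsg.Agent.S2910
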