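import Cfsg.Statements.S2934
import Mathlib
import Cfsg.Agent.Lib.PGroup.ExtraQD
-- import your own Cfsg.Agent.* helpers here

set_option autoImplicit false
open Cfsg
open Cfsg.Agent.Lib.PGroup.ExtraQ

namespace Cfsg.Agent.S2934

/-- Let p be an odd prime, W a finite 2-group and E a non-cyclic abelian p-subgroup of Aut(W) such that, for every nontrivial e ∈ E, the fixed points of e in W contain at most one involution. Then E has order 9, W is extraspecial of order 2⁵, 2⁷ or 2⁹, and the common fixed points of E in W form exactly the centre Z(W). -/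
theorem result {W : Type*} [Group W] [Finite W] (hW : IsPGroup 2 W) {p : ℕ} [Fact p.Prime] (hp : p ≠ 2) (E : Subgroup (MulAut W)) (hE : IsPGroup p ↥E) (hab : IsMulCommutative ↥E) (hnc : ¬ IsCyclic ↥E) (hfix : ∀ e ∈ E, e ≠ 1 → ∀ x y : W, orderOf x = 2 → orderOf y = 2 → e x = x → e y = y → x = y) : Nat.card ↥E = 9 ∧ Cfsg.IsExtraspecial 2 W ∧ (Nat.card W = 2 ^ 5 ∨ Nat.card W = 2 ^ 7 ∨ Nat.card W = 2 ^ 9) ∧ {x : W | ∀ e ∈ E, e x = x} = (Subgroup.center W : Set W) := by
  classical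
  haveI : IsMulCommutative ↥E := hab
  obtain ⟨q, hq, E₁, hE₁c, hE₁e⟩ := Cfsg.Agent.Lib.Hall.exists_elementary_of_not_isCyclic hnc
  have hqp : q = p := by
    obtain ⟨k, hk⟩ := IsPGroup.iff_card.1 (hE.to_subgroup E₁)
    rw [hE₁c] at hk
    have h1 : q ∣ p ^ k := by
      rw [← hk]
      exact dvd_pow_self q (by norm_num)
    exact (Nat.prime_dvd_prime_iff_eq hq (Fact.out)).1 (hq.dvd_of_dvd_pow h1)
  subst hqp
  let E₀ : Subgroup (MulAut W) := E₁.map E.subtype
  have hE₀E : E₀ ≤ E := by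
    rintro _ ⟨a, -, rfl⟩
    exact a.2
  have hE₀c : Nat.card E₀ = q ^ 2 := by
    rw [← hE₁c]
    exact Subgroup.card_map_of_injective (Subgroup.subtype_injective E)
  have hE₀e : ∀ e ∈ E₀, e ^ q = 1 := by
    rintro _ ⟨a, ha, rfl⟩
    have := hE₁e a ha
    simpa using congrArg E.subtype this
  have hcE : ∀ e ∈ E, ∀ f ∈ E, e * f = f * e := fun e he f hf =>
    congrArg Subtype.val (hab.is_comm.comm ⟨e, he⟩ ⟨f, hf⟩)
  have hcE₀ : ∀ e ∈ E₀, ∀ f ∈ E₀, e * f = f * e := fun e he f hf => hcE e (hE₀E he) f (hE₀E hf)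
  have hcopq : ∀ Y : Subgroup W, q.Coprime (Nat.card Y) := by
    intro Y
    obtain ⟨k, hk⟩ := IsPGroup.iff_card.1 (hW.to_subgroup Y)
    rw [hk]
    exact Nat.Coprime.pow_right k ((Nat.coprime_primes hq Nat.prime_two).2 hp)
  have hgen := gen_fix (p := q) E₀ hcE₀ hE₀e hE₀c ⊤ (fun _ _ _ _ => trivial) (hcopq ⊤)
  have hgen' : ∀ S : Subgroup W, (∀ D : Subgroup (MulAut W), D ≤ E₀ → Nat.card D = q → fixS D ≤ S) →
      ∀ x, x ∈ S := by
    intro S hS x
    have h1 : (⨆ D : {D : Subgroup (MulAut W) // D ≤ E₀ ∧ Nat.card D = q}, (⊤ : Subgroup W) ⊓ fixS D.1) ≤ S :=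
      iSup_le (fun D => inf_le_right.trans (hS D.1 D.2.1 D.2.2))
    exact h1 (hgen (Subgroup.mem_top x))
  have hq1 : 1 < q := hq.one_lt
  have hact : ∃ D : Subgroup (MulAut W), D ≤ E₀ ∧ Nat.card D = q ∧ ∃ e ∈ E₀, ∃ x ∈ fixS D, e x ≠ x := by
    by_contra hno
    push Not at hno
    have hE₀bot : E₀ = ⊥ := by
      rw [Subgroup.eq_bot_iff_forall]
      intro e he
      ext x
      have h1 : x ∈ fixS (Subgroup.zpowers e) := by
        refine hgen' _ (fun D hD hc y hy => ?_) x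
        intro c hc'
        obtain ⟨i, rfl⟩ := Subgroup.mem_zpowers_iff.1 hc'
        have h2 : (e ^ i) ∈ stabS y :=
          zpow_mem (mem_stabS.2 (hno D hD hc e he y hy)) i
        exact h2
      exact h1 e (Subgroup.mem_zpowers e)
    rw [hE₀bot, Subgroup.card_bot] at hE₀c
    have : 1 < q ^ 2 := Nat.one_lt_pow (by norm_num) hq1
    omega
  obtain ⟨D₀, hD₀, cD₀, e₀, he₀, x₀, hx₀, hex₀⟩ := hact
  have hU : ∀ D : Subgroup (MulAut W), D ≤ E₀ → Nat.card D = q →
      ∀ x ∈ fixS D, ∀ y ∈ fixS D, orderOf x = 2 → orderOf y = 2 → x = y := by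
    intro D hD hc x hx y hy hox hoy
    obtain ⟨g, hg, hg1⟩ : ∃ g ∈ D, g ≠ 1 := by
      by_contra hcon
      push Not at hcon
      have : D = ⊥ := (Subgroup.eq_bot_iff_forall D).2 hcon
      rw [this, Subgroup.card_bot] at hc
      omega
    exact hfix g (hE₀E (hD hg)) hg1 x y hox hoy (hx g hg) (hy g hg)
  have hinvF : ∀ D : Subgroup (MulAut W), D ≤ E₀ → ∀ e ∈ E₀, ∀ x ∈ fixS D, e x ∈ fixS D := by
    intro D hD e he x hx c hc'
    have h1 := hcE₀ c (hD hc') e he
    calc c (e x) = (c * e) x := rfl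
      _ = (e * c) x := by rw [h1]
      _ = e (c x) := rfl
      _ = e x := by rw [hx c hc']
  obtain ⟨hp3, z, hQ₀, hfz⟩ := sub_struct (fixS D₀) hW (hU D₀ hD₀ cD₀) e₀ hp (hE₀e e₀ he₀)
    (hinvF D₀ hD₀ e₀ he₀) (hinvF D₀ hD₀ e₀⁻¹ (inv_mem he₀)) ⟨x₀, hx₀, hex₀⟩
  subst hp3
  have hzfix : ∀ e ∈ E₀, e z = z := by
    intro e he
    have h1 : e z ∈ fixS D₀ := hinvF D₀ hD₀ e he z hQ₀.mem
    have h2 : e z * e z = 1 := by rw [← map_mul, hQ₀.sq, map_one]
    rcases hQ₀.uniq _ h1 h2 with h3 | h3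
    · exact absurd (by simpa using h3) hQ₀.ne
    · exact h3
  have hfixE : ∀ x, (∀ e ∈ E₀, e x = x) ↔ x = 1 ∨ x = z := by
    intro x
    constructor
    · intro h
      exact hfz x (fun c hc => h c (hD₀ hc)) (h e₀ he₀)
    · rintro (rfl | rfl)
      · intro e _
        exact map_one e
      · exact hzfix
  have hzp : ∀ x, x ∈ Subgroup.zpowers z ↔ x = 1 ∨ x = z := fun x => mem_zp hQ₀.sq
  have htyp : ∀ D : Subgroup (MulAut W), D ≤ E₀ → Nat.card D = 3 →
      fixS D ≤ Subgroup.zpowers z ∨ IsQ8 (fixS D) z := by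
    intro D hD hc
    by_cases hact' : ∃ e ∈ E₀, ∃ x ∈ fixS D, e x ≠ x
    · right
      obtain ⟨e, he, x, hx, hex⟩ := hact'
      obtain ⟨-, z', hQ', -⟩ := sub_struct (fixS D) hW (hU D hD hc) e hp (hE₀e e he)
        (hinvF D hD e he) (hinvF D hD e⁻¹ (inv_mem he)) ⟨x, hx, hex⟩
      have hzD : z ∈ fixS D := fun c hc' => hzfix c (hD hc')
      rcases hQ'.uniq z hzD hQ₀.sq with h1 | h1
      · exact absurd h1 hQ₀.ne
      · rw [h1]
        exact hQ'
    · left
      push Not at hact'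
      intro x hx
      exact (hzp x).2 ((hfixE x).1 (fun e he => hact' e he x hx))
  have hzc : ∀ x : W, x * z = z * x := by
    intro x
    have hx : x ∈ Subgroup.centralizer ({z} : Set W) := by
      refine hgen' _ (fun D hD hc y hy => ?_) x
      rw [Subgroup.mem_centralizer_iff]
      intro h hh
      rw [Set.mem_singleton_iff] at hh
      subst hh
      rcases htyp D hD hc with hQ | hQ
      · rcases (hzp y).1 (hQ hy) with rfl | rfl
        · simp
        · rfl
      · exact (hQ.z_comm hy).symm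
    exact ((Subgroup.mem_centralizer_iff.1 hx) z rfl).symm
  let d : Dat W :=
    { E := E₀
      comm := hcE₀
      exp3 := hE₀e
      card9 := by rw [hE₀c]; norm_num
      z := z
      zne := hQ₀.ne
      zz := hQ₀.sq
      zc := hzc
      fixE := hfixE
      typ := htyp
      two := hW }
  have hodd : ∀ e ∈ E, ∃ k : ℕ, e ^ (2 * k + 1) = 1 := by
    intro e he
    obtain ⟨n, hn⟩ := hE ⟨e, he⟩
    have h1 : e ^ 3 ^ n = 1 := congrArg Subtype.val hn
    obtain ⟨m, hm⟩ : Odd (3 ^ n) := Odd.pow (by decide)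
    exact ⟨m, by rw [← hm]; exact h1⟩
  have hEle : E ≤ E₀ := d.big_le E hE₀E hcE hodd hfix
  have hEq : E₀ = E := le_antisymm hE₀E hEle
  have hcenter : Subgroup.center W = Subgroup.zpowers z := d.center_eq
  refine ⟨?_, ⟨⟨hW, ?_, ?_⟩, ?_⟩, ?_, ?_⟩
  · rw [← hEq]
    exact d.card9
  · rw [hcenter]
    exact d.frattini_eq
  · rw [hcenter]
    exact d.commutator_eq
  · rw [hcenter]
    exact d.card_zp
  · have h1 := d.card_W
    have h2 := d.idx_card_ge
    have h3 := d.idx_card_le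
    have h4 : d.idx.card = 2 ∨ d.idx.card = 3 ∨ d.idx.card = 4 := by omega
    rcases h4 with h4 | h4 | h4
    · left; rw [h1, h4]; norm_num
    · right; left; rw [h1, h4]; norm_num
    · right; right; rw [h1, h4]; norm_num
  · ext x
    simp only [Set.mem_setOf_eq, SetLike.mem_coe]
    rw [hcenter, hzp, ← hEq]
    exact hfixE x

end Cfsg.Agent.S2934
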