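import Cfsg.Statements.S2968
import Cfsg.Agent.Lib.FF.Isolated
import Mathlib

set_option autoImplicit false
open Cfsg

namespace Cfsg.Agent.S2968

/-- Let G be a finite group, p a prime, P a Sylow p-subgroup of G and x ∈ P an element of p-power order which is isolated in G (the only conjugate of x commuting with x is x itself). Then x lies in the centre of P, and the subgroup generated by x is both strongly closed and weakly closed in P with respect to G. -/
theorem result {G : Type*} [Group G] [Finite G] {p : ℕ} [Fact p.Prime] (P : Sylow p G) (x : G) (hxP : x ∈ (P : Subgroup G)) (hx : ∃ k : ℕ, orderOf x = p ^ k) (hiso : Cfsg.IsIsolated x) : x ∈ (P : Subgroup G) ⊓ Subgroup.centralizer ((P : Subgroup G) : Set G) ∧ Cfsg.IsStronglyClosed (Subgroup.zpowers x) (P : Subgroup G) ∧ Cfsg.IsWeaklyClosed (Subgroup.zpowers x) (P : Subgroup G) := by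
  classical
  open Cfsg.Agent.Lib.FF in
  have hxle := isolated_le_centralizer hiso P.isPGroup' hxP
  refine ⟨⟨hxP, ?_⟩, ⟨Subgroup.zpowers_le.mpr hxP, ?_⟩, ⟨Subgroup.zpowers_le.mpr hxP, ?_⟩⟩
  · show x ∈ Subgroup.centralizer ((P : Subgroup G) : Set G)
    rw [Subgroup.mem_centralizer_iff]
    intro y hy
    exact Subgroup.mem_centralizer_singleton_iff.mp (hxle hy)
  · intro y hy g hg
    exact isolated_stronglyClosed hx hiso P P.isPGroup' hxP y hy g hg
  · intro g hg
    rw [MonoidHom.map_zpowers] at hg ⊢
    have h1 : (MulAut.conj g).toMonoidHom x ∈ (P : Subgroup G) := hg (Subgroup.mem_zpowers _)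
    have h2 : g * x * g⁻¹ = x := isolated_conj_eq hiso P.isPGroup' hxP (by simpa using h1)
    have h3 : (MulAut.conj g).toMonoidHom x = x := by simpa using h2
    rw [h3]

end Cfsg.Agent.S2968
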