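import Cfsg.Statements.S2971
import Cfsg.Agent.Lib.FF.RankOne
import Cfsg.Agent.Lib.FF.Isolated
import Cfsg.Agent.Lib.FF.Burnside
import Mathlib

set_option autoImplicit false
open Cfsg

namespace Cfsg.Agent.S2971

/-- Let G be a finite group and p an odd prime such that G has p-rank at most 1 (no elementary abelian subgroup of order p²). If x ∈ G is an isolated element of order p, then x is central modulo the largest normal subgroup of G of order prime to p. -/
theorem result {G : Type*} [Group G] [Finite G] {p : ℕ} [Fact p.Prime] (hp : p ≠ 2) (hrk : Cfsg.PRankLE p 1 G) (x : G) (hx : orderOf x = p) (hiso : Cfsg.IsIsolated x) : Cfsg.InZStar p x := by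
  classical
  have hp' : p.Prime := Fact.out
  have hx1 : x ≠ 1 := by
    rintro rfl
    rw [orderOf_one] at hx
    exact hp'.one_lt.ne hx
  have hzp : IsPGroup p (Subgroup.zpowers x) :=
    Cfsg.Agent.Lib.FF.isPGroup_zpowers_of_orderOf ⟨1, by rw [hx, pow_one]⟩
  obtain ⟨P, hP⟩ := hzp.exists_le_sylow
  have hxP : x ∈ (P : Subgroup G) := hP (Subgroup.mem_zpowers x)
  have hc : IsCyclic ↥(P : Subgroup G) := by
    apply Cfsg.Agent.Lib.FF.isCyclic_of_rank_le_one P.isPGroup' hp
    intro E hE hEp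
    have h1 := hrk (E.map (P : Subgroup G).subtype)
      (by
        apply Cfsg.Agent.Lib.PGroup.isMulCommutative_of_comm
        rintro _ ⟨u, hu, rfl⟩ _ ⟨v, hv, rfl⟩
        exact congrArg Subtype.val (Cfsg.Agent.Lib.PGroup.comm_of_isMulCommutative hE hu hv))
      (by
        rintro _ ⟨u, hu, rfl⟩
        exact congrArg Subtype.val (hEp u hu))
    rwa [Subgroup.card_map_of_injective (Subgroup.subtype_injective _), pow_one] at h1
  have hN := Cfsg.Agent.Lib.FF.isolated_cyclic_normalizer_le hiso hx1 P hxP hc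
  have hB := Cfsg.Agent.Lib.FF.burnside_sup_eq_top P hN
  have hPab : ∀ a ∈ (P : Subgroup G), ∀ b ∈ (P : Subgroup G), a * b = b * a := by
    intro a ha b hb
    exact Cfsg.Agent.Lib.PGroup.comm_of_isMulCommutative (A := (P : Subgroup G)) IsCyclic.isMulCommutative ha hb
  intro g
  have hKn : (Cfsg.pPrimeCore p G).Normal := Cfsg.Agent.Lib.Core.pPrimeCore_normal p G
  have hg : g ∈ (P : Subgroup G) ⊔ Cfsg.pPrimeCore p G := by rw [hB]; trivial
  obtain ⟨s, hs, k, hk, rfl⟩ := Subgroup.mem_sup_of_normal_right.mp hg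
  have h1 : k * x * k⁻¹ * x⁻¹ ∈ Cfsg.pPrimeCore p G := by
    have : k * x * k⁻¹ * x⁻¹ = k * (x * k⁻¹ * x⁻¹) := by group
    rw [this]
    exact Subgroup.mul_mem _ hk (hKn.conj_mem _ (Subgroup.inv_mem _ hk) x)
  have h2 := hKn.conj_mem _ h1 s
  have h3 : s * x = x * s := hPab s hs x hxP
  have e : s * k * x * (s * k)⁻¹ * x⁻¹ = s * (k * x * k⁻¹ * x⁻¹) * s⁻¹ := by
    have : s * k * x * (s * k)⁻¹ * x⁻¹ = s * (k * x * k⁻¹ * x⁻¹) * (x * s⁻¹ * x⁻¹) := by group
    rw [this]
    have h4 : x * s⁻¹ * x⁻¹ = s⁻¹ := by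
      have : x * s⁻¹ = s⁻¹ * x := by
        rw [eq_inv_mul_iff_mul_eq, ← mul_assoc, h3, mul_assoc, mul_inv_cancel, mul_one]
      rw [this]; group
    rw [h4]
  rw [e]
  exact h2

end Cfsg.Agent.S2971
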