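import Cfsg.Statements.S2972
import Cfsg.Agent.Lib.FF.ZStar
import Mathlib

set_option autoImplicit false
open Cfsg

namespace Cfsg.Agent.S2972

open Cfsg.Agent.Lib.FF Cfsg.Agent.Lib.Core Cfsg.Agent.Lib.Subnormal Subgroup
open scoped commutatorElement

/-- Let G be a finite group, p a prime and x ∈ G an isolated element of order p (the only conjugate of x commuting with x is x) which is not central modulo the largest normal subgroup of order prime to p, while x is central modulo the largest normal subgroup of order prime to p in every proper subgroup containing x, and the image of x is so in every quotient of G by a nontrivial normal subgroup (a minimal counterexample to the Z*_p statement). Then the derived subgroup G' is a non-abelian simple group and G = G'⟨x⟩. -/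
theorem result {G : Type*} [Group G] [Finite G] {p : ℕ} [Fact p.Prime] (x : G) (hx : orderOf x = p) (hiso : Cfsg.IsIsolated x) (hnz : ¬ Cfsg.InZStar p x) (hmin : ∀ (H : Subgroup G) (hxH : x ∈ H), H ≠ ⊤ → Cfsg.InZStar p (⟨x, hxH⟩ : ↥H)) (hquot : ∀ (N : Subgroup G) [N.Normal], N ≠ ⊥ → Cfsg.InZStar p (QuotientGroup.mk x : G ⧸ N)) : IsSimpleGroup ↥(commutator G) ∧ ¬ IsMulCommutative ↥(commutator G) ∧ commutator G ⊔ Subgroup.zpowers x = ⊤ := by
  classical
  have hxord : ∃ k : ℕ, orderOf x = p ^ k := ⟨1, by rw [hx, pow_one]⟩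
  have h0 := pPrimeCore_eq_bot_of_min hnz hquot
  have hp' : p.Prime := Fact.out
  have hnc : ¬ ∀ g : G, g * x * g⁻¹ = x := by
    intro h
    apply hnz
    intro g
    rw [h g, mul_inv_cancel]
    exact Subgroup.one_mem _
  -- subnormal proper subgroups containing `x`
  have hA : ∀ H : Subgroup G, H.IsSubnormal → x ∈ H → H ≠ ⊤ → ∀ h ∈ H, h * x * h⁻¹ = x := by
    intro H hHs hxH hH h hh
    have h1 := hmin H hxH hH ⟨h, hh⟩
    rw [pPrimeCore_eq_bot_of_normal hHs h0, Subgroup.mem_bot] at h1
    have h2 : h * x * h⁻¹ * x⁻¹ = 1 := congrArg Subtype.val h1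
    rwa [mul_inv_eq_one] at h2
  have h3 : ∀ H : Subgroup G, H.Normal → x ∈ H → H = ⊤ := by
    intro H hHn hxH
    by_contra hH
    apply hnc
    intro g
    apply hiso g
    have h1 := hA H hHn.isSubnormal hxH hH _ (hHn.conj_mem x hxH g)
    rw [mul_inv_eq_iff_eq_mul] at h1
    exact h1.symm
  -- every nontrivial normal subgroup supplements `⟨x⟩`
  have h4 : ∀ N : Subgroup G, N.Normal → N ≠ ⊥ → N ⊔ zpowers x = ⊤ := by
    intro N hNn hNne
    by_contra hH
    have hNsn := hNn.isSubnormal
    have hxH : x ∈ N ⊔ zpowers x := Subgroup.mem_sup_right (Subgroup.mem_zpowers x)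
    have hZ := hmin _ hxH hH
    set H := N ⊔ zpowers x with hHdef
    have hNH : N ≤ H := le_sup_left
    set E : Subgroup ↥H := pPrimeCore p ↥H ⊓ N.subgroupOf H with hE
    have hEn : E.Normal := by
      haveI : (N.subgroupOf H).Normal := hNn.subgroupOf H
      exact Subgroup.normal_inf_normal _ _
    have hE₀N : E.map H.subtype ≤ N := by
      rintro _ ⟨y, hy, rfl⟩
      exact hy.2
    have hE₀H : E.map H.subtype ≤ H := Subgroup.map_subtype_le _
    have hHnorm : H ≤ normalizer ((E.map H.subtype : Subgroup G) : Set G) := by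
      rw [← Subgroup.normal_subgroupOf_iff_le_normalizer hE₀H]
      have e : (E.map H.subtype).subgroupOf H = E :=
        Subgroup.comap_map_eq_self_of_injective H.subtype_injective E
      rwa [e]
    have hE₀sn : (E.map H.subtype).IsSubnormal :=
      isSubnormal_of_sn_top ((sn_top_of_isSubnormal hNsn).trans
        (SN.of_normal hE₀N (hNH.trans hHnorm)))
    have hE₀c : (Nat.card ↥(E.map H.subtype)).Coprime p := by
      rw [Subgroup.card_map_of_injective H.subtype_injective]
      exact Nat.Coprime.coprime_dvd_left (Subgroup.card_dvd_of_le inf_le_left)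
        (pPrimeCore_coprime p (G := ↥H))
    have hE₀bot : E.map H.subtype = ⊥ := by
      have := Cfsg.Agent.Lib.FStar.le_pPrimeCore_of_subnormal p hE₀sn hE₀c
      rwa [h0, le_bot_iff] at this
    have hcomm : ∀ n ∈ N, n * x * n⁻¹ = x := by
      intro n hn
      have h1 := hZ ⟨n, hNH hn⟩
      have hcN : n * x * n⁻¹ * x⁻¹ ∈ N := by
        have e : n * x * n⁻¹ * x⁻¹ = n * (x * n⁻¹ * x⁻¹) := by group
        rw [e]
        exact N.mul_mem hn (hNn.conj_mem _ (N.inv_mem hn) x)
      have h2 : n * x * n⁻¹ * x⁻¹ ∈ E.map H.subtype :=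
        ⟨_, ⟨h1, hcN⟩, rfl⟩
      rw [hE₀bot, Subgroup.mem_bot, mul_inv_eq_one] at h2
      exact h2
    -- `N` is central
    have hCn : (centralizer (N : Set G)).Normal := Subgroup.normal_centralizer
    have hCtop := h3 _ hCn (Subgroup.mem_centralizer_iff.mpr (fun n hn => by
      have := hcomm n hn
      rw [mul_inv_eq_iff_eq_mul] at this
      exact this))
    have hNc : ∀ n ∈ N, ∀ g : G, n * g = g * n := by
      intro n hn g
      have : g ∈ centralizer (N : Set G) := by rw [hCtop]; trivial
      exact Subgroup.mem_centralizer_iff.mp this n hn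
    -- `N` is a `p`-group
    have hNp : IsPGroup p N := by
      rintro ⟨u, hu⟩
      obtain ⟨a, ha⟩ := exists_pow_coprime (p := p) u
      refine ⟨a, Subtype.ext ?_⟩
      exact eq_one_of_normal_abelian hNn (fun c hc d _ => hNc c hc d) h0 (N.pow_mem hu _)
        (pow_orderOf_eq_one _) ha
    haveI := hNn
    set M₁ := (pPrimeCore p (G ⧸ N)).comap (QuotientGroup.mk' N) with hM₁
    have hM₁n : M₁.Normal := by
      haveI : (pPrimeCore p (G ⧸ N)).Normal := pPrimeCore_normal p _
      exact Subgroup.Normal.comap inferInstance _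
    have hNM₁ : N ≤ M₁ := by
      intro n hn
      have h1 : (QuotientGroup.mk' N) n = 1 := (QuotientGroup.eq_one_iff n).mpr hn
      rw [hM₁, Subgroup.mem_comap, h1]
      exact Subgroup.one_mem _
    have hSyl : IsSylowIn p N M₁ := by
      refine ⟨hNM₁, hNp, ?_⟩
      have h1 := relIndex_mul_card hNM₁
      have h2 := card_comap_of_surjective (QuotientGroup.mk' N) (QuotientGroup.mk'_surjective N)
        (pPrimeCore p (G ⧸ N))
      rw [QuotientGroup.ker_mk', ← hM₁] at h2
      rw [h2, mul_comm] at h1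
      have h3 : N.relIndex M₁ = Nat.card (pPrimeCore p (G ⧸ N)) :=
        Nat.eq_of_mul_eq_mul_left Nat.card_pos h1
      rw [h3, ← Nat.Prime.coprime_iff_not_dvd hp']
      exact (pPrimeCore_coprime p (G := G ⧸ N)).symm
    have hb := burnside_subgroup hSyl (by
      rintro y ⟨-, -⟩
      exact Subgroup.mem_centralizer_iff.mpr (fun n hn => hNc n hn y))
    have hcore : (pPrimeCore p ↥M₁).map M₁.subtype = ⊥ := by
      have := Cfsg.Agent.Lib.FStar.pPrimeCore_map_le_of_subnormal p hM₁n.isSubnormal
      rwa [h0, le_bot_iff] at this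
    rw [hcore, sup_bot_eq] at hb
    have hNe : N = M₁ := hb.1
    apply hnc
    intro g
    have h1 := hquot N hNne (QuotientGroup.mk g)
    have h2 : g * x * g⁻¹ * x⁻¹ ∈ M₁ := by
      rw [hM₁, Subgroup.mem_comap]
      simpa using h1
    rw [← hNe] at h2
    apply hiso g
    have h4 : g * x * g⁻¹ = (g * x * g⁻¹ * x⁻¹) * x := by group
    show x * (g * x * g⁻¹) = (g * x * g⁻¹) * x
    rw [h4]
    set c := g * x * g⁻¹ * x⁻¹
    calc x * (c * x) = (x * c) * x := by group
      _ = (c * x) * x := by rw [hNc c h2 x]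
  -- the commutator subgroup
  have h5 : ∀ N : Subgroup G, N.Normal → N ≠ ⊥ → commutator G ≤ N := by
    intro N hNn hNne
    haveI := hNn
    have hsurj : Function.Surjective ((QuotientGroup.mk' N).comp (zpowers x).subtype) := by
      intro q
      obtain ⟨g, rfl⟩ := QuotientGroup.mk_surjective q
      have hg : g ∈ zpowers x ⊔ N := by
        rw [sup_comm, h4 N hNn hNne]
        trivial
      obtain ⟨y, hy, n, hn, rfl⟩ := Subgroup.mem_sup_of_normal_right.mp hg
      refine ⟨⟨y, hy⟩, ?_⟩
      show (y : G ⧸ N) = ((y * n : G) : G ⧸ N)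
      rw [QuotientGroup.eq]
      simpa using hn
    haveI : IsCyclic (G ⧸ N) := isCyclic_of_surjective _ hsurj
    exact Subgroup.Normal.quotient_commutative_iff_commutator_le.mp IsCyclic.isMulCommutative
  have hMn : (commutator G).Normal := inferInstance
  have hMne : commutator G ≠ ⊥ := by
    intro h
    apply hnc
    intro g
    have h1 : ⁅g, x⁆ ∈ commutator G := Subgroup.commutator_mem_commutator trivial trivial
    rw [h, Subgroup.mem_bot, commutatorElement_eq_one_iff_mul_comm] at h1
    rw [h1, mul_inv_cancel_right]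
  have hMtop := h4 _ hMn hMne
  have hMnab : ¬ IsMulCommutative ↥(commutator G) := by
    intro hab
    have hMp : IsPGroup p ↥(commutator G) := by
      rintro ⟨u, hu⟩
      obtain ⟨a, ha⟩ := exists_pow_coprime (p := p) u
      refine ⟨a, Subtype.ext ?_⟩
      exact eq_one_of_normal_abelian hMn (fun c hc d hd =>
        congrArg Subtype.val (hab.is_comm.comm ⟨c, hc⟩ ⟨d, hd⟩)) h0
        (Subgroup.pow_mem _ hu _) (pow_orderOf_eq_one _) ha
    have hzp : IsPGroup p (zpowers x) := isPGroup_zpowers_of_orderOf hxord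
    have htop : IsPGroup p ↥(commutator G ⊔ zpowers x) := hMp.to_sup_of_normal_left hzp
    rw [hMtop] at htop
    have h1 := isolated_le_centralizer hiso htop (Subgroup.mem_top x)
    apply hnc
    intro g
    have := h1 (Subgroup.mem_top g)
    rw [Subgroup.mem_centralizer_singleton_iff] at this
    rw [this]
    group
  refine ⟨?_, hMnab, hMtop⟩
  -- simplicity
  haveI hnontriv : Nontrivial ↥(commutator G) := (Subgroup.nontrivial_iff_ne_bot _).mpr hMne
  refine ⟨fun N hN => ?_⟩
  by_cases hNb : N = ⊥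
  · exact Or.inl hNb
  right
  set N₁ := N.map (commutator G).subtype with hN₁
  have hN₁le : N₁ ≤ commutator G := Subgroup.map_subtype_le _
  have hN₁ne : N₁ ≠ ⊥ := by
    rw [hN₁, Ne, Subgroup.map_eq_bot_iff_of_injective _ (Subgroup.subtype_injective _)]
    exact hNb
  have hMnorm : commutator G ≤ normalizer ((N₁ : Subgroup G) : Set G) := by
    rw [← Subgroup.normal_subgroupOf_iff_le_normalizer hN₁le]
    have e : N₁.subgroupOf (commutator G) = N :=
      Subgroup.comap_map_eq_self_of_injective (Subgroup.subtype_injective _) N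
    rwa [e]
  have hN₁sn : N₁.IsSubnormal :=
    isSubnormal_of_sn_top ((sn_top_of_isSubnormal hMn.isSubnormal).trans
      (SN.of_normal hN₁le hMnorm))
  have hdvd : p ∣ Nat.card N₁ := by
    by_contra hnd
    have hc : (Nat.card N₁).Coprime p :=
      ((Nat.Prime.coprime_iff_not_dvd hp').mpr hnd).symm
    have := Cfsg.Agent.Lib.FStar.le_pPrimeCore_of_subnormal p hN₁sn hc
    rw [h0, le_bot_iff] at this
    exact hN₁ne this
  obtain ⟨P, hP⟩ := (isPGroup_zpowers_of_orderOf (p := p) hxord).exists_le_sylow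
  have hxP : x ∈ (P : Subgroup G) := hP (Subgroup.mem_zpowers x)
  have hS := isSylowIn_inf_subnormal (isSylowIn_of_sylow_le P le_top) hN₁sn
  obtain ⟨c₀, hc₀, hc₀1⟩ := (Subgroup.bot_or_exists_ne_one _).resolve_left (hS.ne_bot_of_dvd hdvd)
  have hc₀x : c₀ ∈ centralizer ({x} : Set G) := isolated_le_centralizer hiso P.2 hxP hc₀.1
  have hzc : zpowers x ≤ centralizer ({c₀} : Set G) := by
    rw [Subgroup.zpowers_le, Subgroup.mem_centralizer_singleton_iff]
    rw [Subgroup.mem_centralizer_singleton_iff] at hc₀x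
    exact hc₀x.symm
  -- the normal core
  have hconj : ∀ g : G, g * c₀ * g⁻¹ ∈ N₁ := by
    intro g
    have hg : g ∈ commutator G ⊔ zpowers x := by rw [hMtop]; trivial
    obtain ⟨m, hm, y, hy, rfl⟩ := Subgroup.mem_sup_of_normal_left.mp hg
    have h1 := hzc hy
    rw [Subgroup.mem_centralizer_singleton_iff] at h1
    have h2 : (m * y) * c₀ * (m * y)⁻¹ = m * c₀ * m⁻¹ := by
      calc (m * y) * c₀ * (m * y)⁻¹ = m * (y * c₀) * y⁻¹ * m⁻¹ := by group
        _ = m * (c₀ * y) * y⁻¹ * m⁻¹ := by rw [h1]
        _ = m * c₀ * m⁻¹ := by group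
    rw [h2]
    exact (Subgroup.mem_normalizer_iff.mp (hMnorm hm) c₀).mp hc₀.2
  have hcoreN : N₁.normalCore.Normal := Subgroup.normalCore_normal N₁
  have hcoremem : c₀ ∈ N₁.normalCore := hconj
  have hcorene : N₁.normalCore ≠ ⊥ := by
    intro h
    rw [h, Subgroup.mem_bot] at hcoremem
    exact hc₀1 hcoremem
  have hle := h5 _ hcoreN hcorene
  rw [eq_top_iff]
  rintro ⟨m, hm⟩ -
  have h1 := Subgroup.normalCore_le N₁ (hle hm)
  obtain ⟨y, hy, hy2⟩ := h1
  have : y = ⟨m, hm⟩ := Subtype.ext hy2
  rwa [← this]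

end Cfsg.Agent.S2972
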