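import Cfsg.Statements.S2975
import Cfsg.Agent.Lib.FF.ZStar
import Mathlib

set_option autoImplicit false
open Cfsg

namespace Cfsg.Agent.S2975

/-- Let G be a finite group, p a prime and x ∈ G an isolated element of order p (the only conjugate of x commuting with x is x) which is not central modulo the largest normal subgroup of order prime to p, while x is central modulo the largest normal subgroup of order prime to p in every proper subgroup containing x, and the image of x is so in every quotient of G by a nontrivial normal subgroup (a minimal counterexample to the Z*_p statement). Then for every prime q, every q-subgroup of G that is normalized by x and maximal among the q-subgroups normalized by x is either trivial or a Sylow q-subgroup of G; and C_G(x) permutes the x-invariant Sylow q-subgroups of G transitively by conjugation. -/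
theorem result {G : Type*} [Group G] [Finite G] {p : ℕ} [Fact p.Prime] (x : G) (hx : orderOf x = p) (hiso : Cfsg.IsIsolated x) (hnz : ¬ Cfsg.InZStar p x) (hmin : ∀ (H : Subgroup G) (hxH : x ∈ H), H ≠ ⊤ → Cfsg.InZStar p (⟨x, hxH⟩ : ↥H)) (hquot : ∀ (N : Subgroup G) [N.Normal], N ≠ ⊥ → Cfsg.InZStar p (QuotientGroup.mk x : G ⧸ N)) (q : ℕ) [Fact q.Prime] : (∀ Q : Subgroup G, IsPGroup q ↥Q → x ∈ Subgroup.normalizer (Q : Set G) → (∀ R : Subgroup G, IsPGroup q ↥R → x ∈ Subgroup.normalizer (R : Set G) → Q ≤ R → R = Q) → Q = ⊥ ∨ ∃ S : Sylow q G, (S : Subgroup G) = Q) ∧ (∀ S₁ S₂ : Sylow q G, x ∈ Subgroup.normalizer ((S₁ : Subgroup G) : Set G) → x ∈ Subgroup.normalizer ((S₂ : Subgroup G) : Set G) → ∃ c ∈ Subgroup.centralizer ({x} : Set G), (S₁ : Subgroup G).map (MulAut.conj c).toMonoidHom = (S₂ : Subgroup G)) := by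
  classical
  open Cfsg.Agent.Lib.FF Subgroup in
  have hxord : ∃ k : ℕ, orderOf x = p ^ k := ⟨1, by rw [hx, pow_one]⟩
  have h0 := Cfsg.Agent.Lib.FF.pPrimeCore_eq_bot_of_min hnz hquot
  refine ⟨?_, fun S₁ S₂ h₁ h₂ => Cfsg.Agent.Lib.FF.isolated_transitive hxord hiso S₁ S₂ h₁ h₂⟩
  intro Q hQ hxQ hmax
  by_cases hQb : Q = ⊥
  · exact Or.inl hQb
  right
  by_cases hqp : q = p
  · subst hqp
    have hzle : Subgroup.zpowers x ≤ Subgroup.normalizer (Q : Set G) := (Subgroup.zpowers_le).mpr hxQ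
    have hzp : IsPGroup q (Subgroup.zpowers x) := Cfsg.Agent.Lib.FF.isPGroup_zpowers_of_orderOf hxord
    have hQ' : IsPGroup q ↥(Q ⊔ Subgroup.zpowers x) := hQ.to_sup_of_normal_left' hzp hzle
    have hxQ' : x ∈ Q ⊔ Subgroup.zpowers x := Subgroup.mem_sup_right (Subgroup.mem_zpowers x)
    have e := hmax _ hQ' (Subgroup.le_normalizer hxQ') le_sup_left
    have hxQ2 : x ∈ Q := by rw [← e]; exact hxQ'
    obtain ⟨T, hT⟩ := hQ.exists_le_sylow
    exact ⟨T, hmax _ T.2 (Subgroup.le_normalizer (hT hxQ2)) hT⟩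
  -- `q ≠ p`
  have hqc : (Nat.card Q).Coprime p := by
    obtain ⟨k, hk⟩ := IsPGroup.iff_card.mp hQ
    rw [hk]
    exact ((Nat.coprime_primes (Fact.out : q.Prime) (Fact.out : p.Prime)).mpr hqp).pow_left k
  set N := Subgroup.normalizer (Q : Set G) with hN
  have hNtop : N ≠ ⊤ := by
    intro h
    have hQn : Q.Normal := Subgroup.normalizer_eq_top_iff.mp h
    have := Cfsg.Agent.Lib.Core.le_pPrimeCore hQn hqc
    rw [h0, le_bot_iff] at this
    exact hQb this
  have hZ := hmin N hxQ hNtop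
  have hxp : IsPGroup p (Subgroup.zpowers (⟨x, hxQ⟩ : ↥N)) :=
    Cfsg.Agent.Lib.FF.isPGroup_zpowers_of_orderOf ⟨1, by
      rw [Subgroup.orderOf_mk, hx, pow_one]⟩
  obtain ⟨S, hS, hSinv⟩ := Cfsg.Agent.Lib.FF.exists_invariant_sylow_of_zstar hxp hZ hqp
  have hQN : Q ≤ N := Subgroup.le_normalizer
  haveI hQnorm : (Q.subgroupOf N).Normal := Subgroup.normal_in_normalizer
  have hQp' : IsPGroup q (Q.subgroupOf N) := Cfsg.Agent.Lib.FF.isPGroup_subgroupOf hQ
  have hQS : Q.subgroupOf N ≤ S := by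
    have h1 := hS.eq_of_le (Q' := S ⊔ Q.subgroupOf N) (hS.isPGroup.to_sup_of_normal_right hQp') le_top le_sup_left
    rw [h1]
    exact le_sup_right
  set R := S.map N.subtype with hR
  have hRp : IsPGroup q R := hS.isPGroup.map _
  have hQR : Q ≤ R := by
    intro y hy
    exact ⟨⟨y, hQN hy⟩, hQS hy, rfl⟩
  have hxR : x ∈ Subgroup.normalizer (R : Set G) := by
    apply Cfsg.Agent.Lib.FF.mem_normalizer_iff_conj.mpr
    apply Subgroup.eq_of_le_of_card_ge
    · rintro _ ⟨_, ⟨z, hz, rfl⟩, rfl⟩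
      exact ⟨_, hSinv _ (Subgroup.mem_zpowers _) z hz, rfl⟩
    · rw [Cfsg.Agent.Lib.FF.card_conj]
  have hRQ : R = Q := hmax R hRp hxR hQR
  obtain ⟨T, hT⟩ := hQ.exists_le_sylow
  refine ⟨T, ?_⟩
  by_contra hne
  have hlt : Q < T := lt_of_le_of_ne hT (Ne.symm hne)
  obtain ⟨s, hsT, hsQ, hsN⟩ := Cfsg.Agent.Lib.FF.exists_mem_normalizer_of_lt T.2 hlt
  -- `s` adds to the Sylow subgroup
  have hSe : S = Q.subgroupOf N := by
    apply le_antisymm _ hQS
    intro y hy
    show (y : G) ∈ Q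
    rw [← hRQ]
    exact ⟨y, hy, rfl⟩
  have hsp : IsPGroup q (Subgroup.zpowers (⟨s, hsN⟩ : ↥N)) := by
    apply Cfsg.Agent.Lib.FF.isPGroup_zpowers_of_orderOf
    have h1 := IsPGroup.iff_orderOf.mp T.2 ⟨s, hsT⟩
    obtain ⟨k, hk⟩ := h1
    exact ⟨k, by rw [Subgroup.orderOf_mk]; rwa [Subgroup.orderOf_mk] at hk⟩
  have h2 := hS.eq_of_le (Q' := Subgroup.zpowers (⟨s, hsN⟩ : ↥N) ⊔ S)
    (by rw [hSe]; exact hsp.to_sup_of_normal_right hQp') le_top le_sup_right
  have h3 : (⟨s, hsN⟩ : ↥N) ∈ S := by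
    rw [h2]
    exact Subgroup.mem_sup_left (Subgroup.mem_zpowers _)
  apply hsQ
  rw [hSe] at h3
  exact h3

end Cfsg.Agent.S2975
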