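import Cfsg.Statements.S3032
import Cfsg.Agent.Lib.FF.Hcond2
import Mathlib

set_option autoImplicit false
open Cfsg

namespace Cfsg.Agent.S3032

open Subgroup Cfsg.Agent.Lib.FF Cfsg.Agent.Lib.Transfer
open Cfsg.Agent.Lib.Super (SSChain)

universe u

/-- Transfer of strong closure to a subgroup. -/
theorem scGood_subgroupOf {G : Type*} [Group G] {P Y : Subgroup G} {δ : ℕ} (h : SCGood P δ) :
    SCGood (P.subgroupOf Y) δ := by
  intro E hE hc u hu g hgu
  have hE' : E.map Y.subtype ≤ P := by
    rintro _ ⟨w, hw, rfl⟩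
    exact Subgroup.mem_subgroupOf.mp (hE hw)
  have hc' : Nat.card (E.map Y.subtype) = δ ∨ (δ = 2 ∧ Nat.card (E.map Y.subtype) = 4) := by
    rwa [Subgroup.card_map_of_injective Y.subtype_injective]
  obtain ⟨w, hw, hwe⟩ := h _ hE' hc' (u : G) ⟨u, hu, rfl⟩ (g : G) (Subgroup.mem_subgroupOf.mp hgu)
  have : w = g * u * g⁻¹ := Subtype.ext hwe
  rwa [← this]

/-- The condition on `E`. -/
def CondE {G : Type*} [Group G] (E : Subgroup G) : Prop :=
  ∀ p : ℕ, p.Prime → ∀ P : Subgroup G, P ≤ E → IsPGroup p P → ¬ p ∣ P.relIndex E → ¬ IsCyclic ↥P →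
    ∃ δ k : ℕ, 1 ≤ k ∧ δ = p ^ k ∧ δ < Nat.card P ∧ SCGood P δ

/-- The main induction. -/
theorem ssChain_of_condE {G : Type u} [Group G] [Finite G] : ∀ (n : ℕ) (E : Subgroup G), Nat.card E = n → E.Normal →
    CondE E → SSChain G E := by
  intro n
  induction n using Nat.strong_induction_on with
  | _ n ih =>
  intro E hn hEn hE
  classical
  haveI := hEn
  by_cases hbot : E = ⊥
  · rw [hbot]
    exact SSChain.bot
  have hne1 : Nat.card E ≠ 1 := by
    intro h
    exact hbot (Subgroup.card_eq_one.mp h)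
  haveI hpf : Fact ((Nat.card E).minFac).Prime := ⟨Nat.minFac_prime hne1⟩
  obtain ⟨p, hpdef⟩ : ∃ p, p = (Nat.card E).minFac := ⟨_, rfl⟩
  rw [← hpdef] at hpf
  have hpp : p.Prime := hpf.out
  have hpdvd : p ∣ Nat.card E := by rw [hpdef]; exact Nat.minFac_dvd _
  have hminE : ∀ q : ℕ, q.Prime → q ∣ Nat.card E → p ≤ q := by
    intro q hq hqd
    rw [hpdef]
    exact Nat.minFac_le_of_dvd hq.two_le hqd
  obtain ⟨P₀⟩ : Nonempty (Sylow p E) := inferInstance
  set P : Subgroup G := (P₀ : Subgroup E).map E.subtype with hPdef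
  have hPE : P ≤ E := Subgroup.map_subtype_le _
  have hPp : IsPGroup p P := P₀.isPGroup'.map _
  have hP₀sub : P.subgroupOf E = (P₀ : Subgroup E) := by
    rw [hPdef]
    exact Subgroup.comap_map_eq_self_of_injective E.subtype_injective _
  have hrel : ¬ p ∣ P.relIndex E := by
    unfold Subgroup.relIndex
    rw [hP₀sub]
    exact P₀.not_dvd_index
  have hcardP : Nat.card P = Nat.card (P₀ : Subgroup E) :=
    Subgroup.card_map_of_injective E.subtype_injective
  -- the complement
  have hcomp : ∃ K₀ : Subgroup E, K₀.Normal ∧ K₀.IsComplement' (P₀ : Subgroup E) := by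
    by_cases hcyc : IsCyclic P
    · have hcyc₀ : IsCyclic (P₀ : Subgroup E) :=
        isCyclic_of_injective ((P₀ : Subgroup E).equivMapOfInjective E.subtype E.subtype_injective).toMonoidHom
          ((P₀ : Subgroup E).equivMapOfInjective E.subtype E.subtype_injective).injective
      exact ⟨_, inferInstance, IsCyclic.isComplement' hpdef.symm hcyc₀⟩
    · obtain ⟨δ, k, hk, hδ, hlt, hsc⟩ := hE p hpp P hPE hPp hrel hcyc
      have hsc' : SCGood (P₀ : Subgroup E) δ := by
        rw [← hP₀sub]
        exact scGood_subgroupOf hsc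
      exact complement_of_scGood hminE P₀ hk hδ (by rw [← hcardP]; exact hlt) hsc'
  obtain ⟨K₀, hK₀, hc⟩ := hcomp
  haveI := hK₀
  set K : Subgroup G := K₀.map E.subtype with hKdef
  haveI hKn : K.Normal := map_normal_of_complement hc
  have hKE : K ≤ E := Subgroup.map_subtype_le _
  have hcardK : Nat.card K = Nat.card K₀ := Subgroup.card_map_of_injective E.subtype_injective
  have hmul : Nat.card K₀ * Nat.card (P₀ : Subgroup E) = Nat.card E := hc.card_mul
  have hP₀ne : (P₀ : Subgroup E) ≠ ⊥ := P₀.ne_bot_of_dvd_card hpdvd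
  have hP₀card : 1 < Nat.card (P₀ : Subgroup E) := by
    have h1 : Nat.card (P₀ : Subgroup E) ≠ 1 := fun h => hP₀ne (Subgroup.card_eq_one.mp h)
    have h2 : 0 < Nat.card (P₀ : Subgroup E) := Nat.card_pos
    omega
  have hKlt : Nat.card K < n := by
    rw [hcardK, ← hn, ← hmul]
    exact lt_mul_of_one_lt_right Nat.card_pos hP₀card
  have hKcop : (Nat.card K).Coprime p := by
    rw [hcardK]
    exact complement_card_coprime hc
  have hKrel : ∃ a, K.relIndex E = p ^ a := by
    obtain ⟨a, ha⟩ := IsPGroup.iff_card.mp P₀.isPGroup'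
    refine ⟨a, ?_⟩
    unfold Subgroup.relIndex
    have hK₀sub : K.subgroupOf E = K₀ := by
      rw [hKdef]
      exact Subgroup.comap_map_eq_self_of_injective E.subtype_injective _
    rw [hK₀sub, ← ha]
    exact hc.symm.index_eq_card
  have hCK : CondE K := by
    intro q hq R hRK hRq hrelR hncyc
    by_cases hqp : q = p
    · exfalso
      subst hqp
      apply hncyc
      have hR1 : R = ⊥ := by
        obtain ⟨a, ha⟩ := IsPGroup.iff_card.mp hRq
        have h1 : Nat.card R ∣ Nat.card K := Subgroup.card_dvd_of_le hRK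
        have h2 : Nat.Coprime (Nat.card R) q := Nat.Coprime.coprime_dvd_left h1 hKcop
        rw [ha] at h2
        have h3 : a = 0 := by
          by_contra h0
          exact hq.one_lt.ne' (Nat.Coprime.eq_one_of_dvd h2.symm (dvd_pow_self q h0))
        rw [h3, pow_zero] at ha
        exact Subgroup.card_eq_one.mp ha
      rw [hR1]
      infer_instance
    · refine hE q hq R (hRK.trans hKE) hRq ?_ hncyc
      rw [← Subgroup.relIndex_mul_relIndex R K E hRK hKE]
      obtain ⟨a, ha⟩ := hKrel
      rw [ha]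
      intro hd
      rcases (Nat.Prime.dvd_mul hq).mp hd with h1 | h1
      · exact hrelR h1
      · exact hqp ((Nat.prime_dvd_prime_iff_eq hq hpp).mp (hq.dvd_of_dvd_pow h1))
  have hchainK := ih _ hKlt K rfl hKn hCK
  -- the Frattini argument
  have hfrat : K ⊔ Subgroup.normalizer (P : Set G) = ⊤ := by
    have h1 := Sylow.normalizer_sup_eq_top (G := G) (N := E) P₀
    rw [eq_top_iff, ← h1]
    refine sup_le ?_ ?_
    · exact le_sup_right
    · intro x hx
      have hxK : (⟨x, hx⟩ : E) ∈ K₀ ⊔ (P₀ : Subgroup E) := by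
        rw [hc.sup_eq_top]; trivial
      obtain ⟨a, ha, b, hb, hab⟩ := Cfsg.Agent.Lib.Transfer.exists_mul_of_mem_sup hxK
      have e : x = (a : G) * (b : G) := congrArg Subtype.val hab
      rw [e]
      refine Subgroup.mul_mem _ (Subgroup.mem_sup_left ⟨a, ha, rfl⟩) (Subgroup.mem_sup_right ?_)
      exact Subgroup.le_normalizer ⟨b, hb, rfl⟩
  set H : Subgroup G := Subgroup.normalizer (P : Set G) with hHdef
  have hPH : P ≤ H := Subgroup.le_normalizer
  let P' : Subgroup H := P.subgroupOf H
  haveI hP'n : P'.Normal := Subgroup.normal_in_normalizer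
  have hcardP' : Nat.card P' = Nat.card P := Nat.card_congr (Subgroup.subgroupOfEquivOfLe hPH).toEquiv
  have hP'p : IsPGroup p P' := Cfsg.Agent.Lib.Techniques.isPGroup_subgroupOf hPH hPp
  have hchainH : SSChain H P' := by
    by_cases hcyc : IsCyclic P
    · haveI : IsCyclic P' := isCyclic_of_injective (Subgroup.subgroupOfEquivOfLe hPH).toMonoidHom
        (Subgroup.subgroupOfEquivOfLe hPH).injective
      exact Cfsg.Agent.Lib.Super.ssChain_of_cyclic
    · obtain ⟨δ, k, hk, hδ, hlt, hsc⟩ := hE p hpp P hPE hPp hrel hcyc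
      exact ssChain_of_scGood P' hP'p hk hδ (by rw [hcardP']; exact hlt) (scGood_subgroupOf hsc)
  let π : G →* G ⧸ K := QuotientGroup.mk' K
  have hπ : Function.Surjective π := QuotientGroup.mk'_surjective K
  let ψ : H →* G ⧸ K := π.comp H.subtype
  have hψ : Function.Surjective ψ := by
    intro q
    obtain ⟨g, rfl⟩ := hπ q
    have hg : g ∈ K ⊔ H := by rw [hfrat]; trivial
    obtain ⟨a, ha, b, hb, hab⟩ := Cfsg.Agent.Lib.Core.exists_mul_of_mem_sup_normal_left hg
    refine ⟨⟨b, hb⟩, ?_⟩
    show π b = π g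
    have hπa : π a = 1 := (QuotientGroup.eq_one_iff a).mpr ha
    rw [hab, map_mul, hπa, one_mul]
  have h3 := Cfsg.Agent.Lib.Super.SSChain.map hψ hchainH
  have hker : SSChain G π.ker := by
    have : π.ker = K := QuotientGroup.ker_mk' K
    rw [this]
    exact hchainK
  have h4 := Cfsg.Agent.Lib.Super.SSChain.comap_of_ker hπ hker h3
  have e : (P'.map ψ).comap π = E := by
    apply le_antisymm
    · intro x hx
      obtain ⟨y, hy, hye⟩ := hx
      have hyP : (y : G) ∈ P := Subgroup.mem_subgroupOf.mp hy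
      have h5 : ψ y = π x := hye
      have h6 : (y : G)⁻¹ * x ∈ K := by
        have h7 : π y = π x := h5
        exact QuotientGroup.eq.mp h7
      have h8 : x = y * ((y : G)⁻¹ * x) := by group
      rw [h8]
      exact E.mul_mem (hPE hyP) (hKE h6)
    · intro x hx
      have hxK : (⟨x, hx⟩ : E) ∈ K₀ ⊔ (P₀ : Subgroup E) := by
        rw [hc.sup_eq_top]; trivial
      obtain ⟨a, ha, b, hb, hab⟩ := Cfsg.Agent.Lib.Transfer.exists_mul_of_mem_sup hxK
      have ex : x = (a : G) * (b : G) := congrArg Subtype.val hab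
      have hbP : (b : G) ∈ P := ⟨b, hb, rfl⟩
      refine ⟨⟨b, hPH hbP⟩, Subgroup.mem_subgroupOf.mpr hbP, ?_⟩
      show π b = π x
      have hak : (a : G) ∈ K := ⟨a, ha, rfl⟩
      have hπa : π (a : G) = 1 := (QuotientGroup.eq_one_iff _).mpr hak
      rw [ex, map_mul, hπa, one_mul]
  rwa [e] at h4

/-- Let G be a finite group and E a normal subgroup with G/E supersolvable. Suppose that for every prime p and every non-cyclic Sylow p-subgroup P of E there is a subgroup D of P with 1 < |D| < |P| such that every subgroup F of P of order |D|, and also every subgroup F of P of order 4 when |D| = 2, satisfies g F g⁻¹ ∩ N_G(F) ≤ F for all g ∈ G. Then G is supersolvable. -/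
theorem result {G : Type*} [Group G] [Finite G] (E : Subgroup G) [E.Normal] (hGE : Cfsg.IsSupersolvable (G ⧸ E))
    (h : ∀ (p : ℕ), p.Prime → ∀ P : Subgroup G, P ≤ E → IsPGroup p P → ¬ p ∣ P.relIndex E → ¬ IsCyclic ↥P →
      ∃ D : Subgroup G, D ≤ P ∧ 1 < Nat.card D ∧ Nat.card D < Nat.card P ∧
        ∀ F : Subgroup G, F ≤ P → (Nat.card F = Nat.card D ∨ (Nat.card D = 2 ∧ Nat.card F = 4)) →
          ∀ g : G, F.map (MulAut.conj g).toMonoidHom ⊓ Subgroup.normalizer (F : Set G) ≤ F) :
    Cfsg.IsSupersolvable G := by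
  classical
  have hC : CondE E := by
    intro p hp P hPE hPp hrel hcyc
    haveI : Fact p.Prime := ⟨hp⟩
    obtain ⟨D, hDP, h1, h2, H⟩ := h p hp P hPE hPp hrel hcyc
    obtain ⟨k, hk⟩ := IsPGroup.iff_card.mp (hPp.to_le hDP)
    have hk1 : 1 ≤ k := by
      rcases Nat.eq_zero_or_pos k with rfl | h0
      · rw [pow_zero] at hk
        omega
      · exact h0
    exact ⟨Nat.card D, k, hk1, hk, h2, scGood_of_hcond hPp H⟩
  exact Cfsg.Agent.Lib.Super.isSupersolvable_of_quotient (ssChain_of_condE _ E rfl inferInstance hC) hGE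

end Cfsg.Agent.S3032
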