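import Cfsg.Statements.S3078
import Cfsg.Agent.Lib.FF.Replacement
import Cfsg.Agent.Lib.FF.CharP
import Cfsg.Agent.Lib.PGroup.OddPGroup
import Mathlib

set_option autoImplicit false
open Cfsg

namespace Cfsg.Agent.S3078

open Subgroup
open scoped commutatorElement
open Cfsg.Agent.Lib.FrobThm

variable {G : Type*} [Group G]

/-- `y` commutes with `[x,a]` when `y, x⁻¹yx, a ∈ A`, `A` abelian. -/
theorem comm_of_conj_mem {A : Subgroup G} (hA : ∀ a ∈ A, ∀ b ∈ A, a * b = b * a) {x y a : G}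
    (hy : y ∈ A) (hy' : x⁻¹ * y * x ∈ A) (ha : a ∈ A) : y * ⁅x, a⁆ = ⁅x, a⁆ * y := by
  have h1 : (x⁻¹ * y * x) * a = a * (x⁻¹ * y * x) := hA _ hy' _ ha
  have h2 : y * (x * a * x⁻¹) = (x * a * x⁻¹) * y := by
    calc y * (x * a * x⁻¹) = x * ((x⁻¹ * y * x) * a) * x⁻¹ := by group
      _ = x * (a * (x⁻¹ * y * x)) * x⁻¹ := by rw [h1]
      _ = _ := by group
  have h3 : y * a⁻¹ = a⁻¹ * y := hA _ hy _ (A.inv_mem ha)
  rw [commutatorElement_def]
  calc y * (x * a * x⁻¹ * a⁻¹) = (y * (x * a * x⁻¹)) * a⁻¹ := by group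
    _ = (x * a * x⁻¹) * (y * a⁻¹) := by rw [h2]; group
    _ = (x * a * x⁻¹) * (a⁻¹ * y) := by rw [h3]
    _ = _ := by group

/-- The purely algebraic core of commutativity. -/
theorem sq_eq_one_alg {a b u v P Q R : G} (hab : a * b = b * a) (hav : a * v = P * v * a)
    (hbu : b * u = Q * u * b) (huv : u * v = R * v * u) (hPu : Commute P u) (hPv : Commute P v)
    (hQu : Commute Q u) (hQv : Commute Q v) (hRu : Commute R u) (hRv : Commute R v) (hPR : Commute P R)
    (h1 : (u * a) * (v * b) = (v * b) * (u * a))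
    (h2 : (u * u * a) * (v * v * b) = (v * v * b) * (u * u * a)) : R * R = 1 := by
  have e1 : u * a * (v * b) = P * (u * v) * (a * b) := by
    calc u * a * (v * b) = u * (a * v) * b := by simp only [mul_assoc]
      _ = u * (P * v * a) * b := by rw [hav]
      _ = (u * P) * v * (a * b) := by simp only [mul_assoc]
      _ = (P * u) * v * (a * b) := by rw [hPu.eq]
      _ = P * (u * v) * (a * b) := by simp only [mul_assoc]
  have e2 : v * b * (u * a) = Q * (v * u) * (a * b) := by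
    calc v * b * (u * a) = v * (b * u) * a := by simp only [mul_assoc]
      _ = v * (Q * u * b) * a := by rw [hbu]
      _ = (v * Q) * u * (b * a) := by simp only [mul_assoc]
      _ = (Q * v) * u * (a * b) := by rw [hQv.eq, hab]
      _ = Q * (v * u) * (a * b) := by simp only [mul_assoc]
  have e3 : P * (u * v) = Q * (v * u) := mul_right_cancel (b := a * b) (e1.symm.trans (h1.trans e2))
  have e4 : P * R = Q := by
    have h : (P * R) * (v * u) = Q * (v * u) := by
      rw [← e3, huv]; simp only [mul_assoc]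
    exact mul_right_cancel h
  have hav2 : a * (v * v) = (P * P) * (v * v) * a := by
    calc a * (v * v) = (a * v) * v := by simp only [mul_assoc]
      _ = (P * v * a) * v := by rw [hav]
      _ = P * v * (a * v) := by simp only [mul_assoc]
      _ = P * v * (P * v * a) := by rw [hav]
      _ = P * (v * P) * v * a := by simp only [mul_assoc]
      _ = P * (P * v) * v * a := by rw [hPv.eq]
      _ = _ := by simp only [mul_assoc]
  have hbu2 : b * (u * u) = (Q * Q) * (u * u) * b := by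
    calc b * (u * u) = (b * u) * u := by simp only [mul_assoc]
      _ = (Q * u * b) * u := by rw [hbu]
      _ = Q * u * (b * u) := by simp only [mul_assoc]
      _ = Q * u * (Q * u * b) := by rw [hbu]
      _ = Q * (u * Q) * u * b := by simp only [mul_assoc]
      _ = Q * (Q * u) * u * b := by rw [hQu.eq]
      _ = _ := by simp only [mul_assoc]
  have hPPuu : Commute (P * P) (u * u) := (hPu.mul_left hPu).mul_right (hPu.mul_left hPu)
  have hQQvv : Commute (Q * Q) (v * v) := (hQv.mul_left hQv).mul_right (hQv.mul_left hQv)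
  have huv2 : (u * u) * (v * v) = (R * R * (R * R)) * (v * v) * (u * u) := by
    calc (u * u) * (v * v) = u * (u * v) * v := by simp only [mul_assoc]
      _ = u * (R * v * u) * v := by rw [huv]
      _ = (u * R) * v * (u * v) := by simp only [mul_assoc]
      _ = (R * u) * v * (R * v * u) := by rw [hRu.eq.symm, huv]
      _ = R * (u * v) * R * v * u := by simp only [mul_assoc]
      _ = R * (R * v * u) * R * v * u := by rw [huv]
      _ = R * R * v * (u * R) * v * u := by simp only [mul_assoc]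
      _ = R * R * v * (R * u) * v * u := by rw [hRu.eq.symm]
      _ = R * R * (v * R) * (u * v) * u := by simp only [mul_assoc]
      _ = R * R * (R * v) * (R * v * u) * u := by rw [hRv.eq.symm, huv]
      _ = R * R * R * (v * R) * v * (u * u) := by simp only [mul_assoc]
      _ = R * R * R * (R * v) * v * (u * u) := by rw [hRv.eq.symm]
      _ = _ := by simp only [mul_assoc]
  have e5 : u * u * a * (v * v * b) = (P * P) * ((u * u) * (v * v)) * (a * b) := by
    calc u * u * a * (v * v * b) = (u * u) * (a * (v * v)) * b := by simp only [mul_assoc]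
      _ = (u * u) * ((P * P) * (v * v) * a) * b := by rw [hav2]
      _ = ((u * u) * (P * P)) * (v * v) * (a * b) := by simp only [mul_assoc]
      _ = ((P * P) * (u * u)) * (v * v) * (a * b) := by rw [hPPuu.eq]
      _ = _ := by simp only [mul_assoc]
  have e6 : v * v * b * (u * u * a) = (Q * Q) * ((v * v) * (u * u)) * (a * b) := by
    calc v * v * b * (u * u * a) = (v * v) * (b * (u * u)) * a := by simp only [mul_assoc]
      _ = (v * v) * ((Q * Q) * (u * u) * b) * a := by rw [hbu2]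
      _ = ((v * v) * (Q * Q)) * (u * u) * (b * a) := by simp only [mul_assoc]
      _ = ((Q * Q) * (v * v)) * (u * u) * (a * b) := by rw [hQQvv.eq, hab]
      _ = _ := by simp only [mul_assoc]
  have e7 : (P * P) * ((u * u) * (v * v)) = (Q * Q) * ((v * v) * (u * u)) :=
    mul_right_cancel (b := a * b) (e5.symm.trans (h2.trans e6))
  have e8 : (P * P) * (R * R * (R * R)) = Q * Q := by
    have h : ((P * P) * (R * R * (R * R))) * ((v * v) * (u * u)) = (Q * Q) * ((v * v) * (u * u)) := by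
      rw [← e7, huv2]; simp only [mul_assoc]
    exact mul_right_cancel h
  have e9 : Q * Q = (P * P) * (R * R) := by
    rw [← e4]
    calc P * R * (P * R) = P * (R * P) * R := by simp only [mul_assoc]
      _ = P * (P * R) * R := by rw [hPR.eq]
      _ = _ := by simp only [mul_assoc]
  rw [e9] at e8
  have e10 := mul_left_cancel e8
  have e11 : (R * R) * (R * R) = (R * R) * 1 := by rw [mul_one]; exact e10
  exact mul_left_cancel e11

/-- The hypotheses collected. -/
structure Setup (A B : Subgroup G) (x : G) : Prop where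
  hAc : ∀ a ∈ A, ∀ b ∈ A, a * b = b * a
  hB'A : ∀ u ∈ B, ∀ v ∈ B, ⁅u, v⁆ ∈ A
  hB'c : ∀ u ∈ B, ∀ v ∈ B, ∀ w ∈ B, ⁅u, v⁆ * w = w * ⁅u, v⁆
  hAB : ∀ a ∈ A, ∀ u ∈ B, a * u * a⁻¹ ∈ B
  hxB : x ∈ B
  hstep : ∀ a ∈ A, ⁅x, a⁆ ∈ normalizer (A : Set G)

namespace Setup

variable {A B : Subgroup G} {x : G}

theorem u_mem (h : Setup A B x) {a : G} (ha : a ∈ A) : ⁅x, a⁆ ∈ B := by
  have h1 := h.hAB a ha _ (B.inv_mem h.hxB)
  have h2 := B.mul_mem h.hxB h1
  simpa [commutatorElement_def, mul_assoc] using h2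

theorem comm_mem_A (h : Setup A B x) {a b : G} (ha : a ∈ A) (hb : b ∈ A) : ⁅a, ⁅x, b⁆⁆ ∈ A := by
  have h1 := conj_mem_of_mem_normalizer (h.hstep b hb) (A.inv_mem ha)
  have h2 := A.mul_mem ha h1
  simpa [commutatorElement_def, mul_assoc] using h2

theorem comm_mem_B (h : Setup A B x) {a v : G} (ha : a ∈ A) (hv : v ∈ B) : ⁅a, v⁆ ∈ B := by
  have h2 := B.mul_mem (h.hAB a ha v hv) (B.inv_mem hv)
  simpa [commutatorElement_def, mul_assoc] using h2

/-- `y, [x,y] ∈ A` implies `x⁻¹ y x ∈ A`. -/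
theorem conj_inv_mem (h : Setup A B x) {y : G} (hy : y ∈ A) (hy' : ⁅x, y⁆ ∈ A) : x⁻¹ * y * x ∈ A := by
  have hu := h.u_mem hy
  -- `x⁻¹ u x = [x⁻¹, u] u`
  have h1 : ⁅x⁻¹, ⁅x, y⁆⁆ ∈ A := h.hB'A _ (B.inv_mem h.hxB) _ hu
  have h2 : x⁻¹ * ⁅x, y⁆ * x ∈ A := by
    have e : x⁻¹ * ⁅x, y⁆ * x = ⁅x⁻¹, ⁅x, y⁆⁆ * ⁅x, y⁆ := by
      simpa using Lib.FF.conj_eq_comm_mul x⁻¹ ⁅x, y⁆
    rw [e]
    exact A.mul_mem h1 hy'
  have e : x⁻¹ * y * x = (x⁻¹ * ⁅x, y⁆ * x)⁻¹ * y := by
    simp only [commutatorElement_def]; group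
  rw [e]
  exact A.mul_mem (A.inv_mem h2) hy

/-- Elements of `A ∩ B` lie in `conjInf x A`. -/
theorem inf_le_conjInf (h : Setup A B x) : A ⊓ B ≤ Lib.FF.conjInf x A := by
  rintro y ⟨hy, hy'⟩
  exact Lib.FF.mem_conjInf'.mpr ⟨hy, h.hB'A _ h.hxB _ hy'⟩

/-- `conjInf x A` commutes with the commutators `[x,b]`. -/
theorem conjInf_comm (h : Setup A B x) {y b : G} (hy : y ∈ Lib.FF.conjInf x A) (hb : b ∈ A) :
    y * ⁅x, b⁆ = ⁅x, b⁆ * y := by
  obtain ⟨hy1, hy2⟩ := Lib.FF.mem_conjInf'.mp hy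
  exact comm_of_conj_mem h.hAc hy1 (h.conj_inv_mem hy1 hy2) hb

/-- The commutators `[x,a]` commute. -/
theorem gens_comm [Finite G] {p : ℕ} [Fact p.Prime] (hp : p ≠ 2) (hG : IsPGroup p G) (h : Setup A B x)
    {a b : G} (ha : a ∈ A) (hb : b ∈ A) : ⁅x, a⁆ * ⁅x, b⁆ = ⁅x, b⁆ * ⁅x, a⁆ := by
  set u := ⁅x, a⁆ with hu
  set v := ⁅x, b⁆ with hv
  have huB : u ∈ B := h.u_mem ha
  have hvB : v ∈ B := h.u_mem hb
  have hcC : ∀ c ∈ A ⊓ B, c * u = u * c ∧ c * v = v * c := fun c hc =>
    ⟨h.conjInf_comm (h.inf_le_conjInf hc) ha, h.conjInf_comm (h.inf_le_conjInf hc) hb⟩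
  set P := ⁅a, v⁆ with hP
  set Q := ⁅b, u⁆ with hQ
  set R := ⁅u, v⁆ with hR
  have hPC : P ∈ A ⊓ B := ⟨h.comm_mem_A ha hb, h.comm_mem_B ha hvB⟩
  have hQC : Q ∈ A ⊓ B := ⟨h.comm_mem_A hb ha, h.comm_mem_B hb huB⟩
  have hRC : R ∈ A ⊓ B := ⟨h.hB'A _ huB _ hvB, by
    simp only [hR, commutatorElement_def]
    exact B.mul_mem (B.mul_mem (B.mul_mem huB hvB) (B.inv_mem huB)) (B.inv_mem hvB)⟩
  have hab : a * b = b * a := h.hAc _ ha _ hb
  have hav : a * v = P * v * a := by rw [hP]; simp [commutatorElement_def]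
  have hbu : b * u = Q * u * b := by rw [hQ]; simp [commutatorElement_def]
  have huv : u * v = R * v * u := by rw [hR]; simp [commutatorElement_def]
  have hconj1 : (x * a * x⁻¹) * (x * b * x⁻¹) = (x * b * x⁻¹) * (x * a * x⁻¹) := by
    calc (x * a * x⁻¹) * (x * b * x⁻¹) = x * (a * b) * x⁻¹ := by group
      _ = x * (b * a) * x⁻¹ := by rw [hab]
      _ = _ := by group
  have h1 : (u * a) * (v * b) = (v * b) * (u * a) := by
    have e1 := Lib.FF.conj_eq_comm_mul x a
    have e2 := Lib.FF.conj_eq_comm_mul x b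
    rw [e1, e2] at hconj1
    exact hconj1
  -- conjugation by `x` once more
  set w := ⁅x, u⁆ with hw
  set w' := ⁅x, v⁆ with hw'
  have hwA : w ∈ A := h.hB'A _ h.hxB _ huB
  have hw'A : w' ∈ A := h.hB'A _ h.hxB _ hvB
  have hwc : ∀ t ∈ B, Commute w t := fun t ht => h.hB'c _ h.hxB _ huB _ ht
  have hw'c : ∀ t ∈ B, Commute w' t := fun t ht => h.hB'c _ h.hxB _ hvB _ ht
  have hww' : Commute w w' := h.hAc _ hwA _ hw'A
  have hwa : Commute w a := h.hAc _ hwA _ ha
  have hwb : Commute w b := h.hAc _ hwA _ hb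
  have hw'a : Commute w' a := h.hAc _ hw'A _ ha
  have hw'b : Commute w' b := h.hAc _ hw'A _ hb
  have h2 : (u * u * a) * (v * v * b) = (v * v * b) * (u * u * a) := by
    have hconj2 : (x * (x * a * x⁻¹) * x⁻¹) * (x * (x * b * x⁻¹) * x⁻¹) =
        (x * (x * b * x⁻¹) * x⁻¹) * (x * (x * a * x⁻¹) * x⁻¹) := by
      calc (x * (x * a * x⁻¹) * x⁻¹) * (x * (x * b * x⁻¹) * x⁻¹)
          = x * ((x * a * x⁻¹) * (x * b * x⁻¹)) * x⁻¹ := by group
        _ = x * ((x * b * x⁻¹) * (x * a * x⁻¹)) * x⁻¹ := by rw [hconj1]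
        _ = _ := by group
    have e1 : x * (x * a * x⁻¹) * x⁻¹ = w * (u * u * a) := by
      rw [Lib.FF.conj_eq_comm_mul x a]
      calc x * (u * a) * x⁻¹ = (x * u * x⁻¹) * (x * a * x⁻¹) := by group
        _ = (w * u) * (u * a) := by rw [Lib.FF.conj_eq_comm_mul x u, Lib.FF.conj_eq_comm_mul x a]
        _ = _ := by simp only [mul_assoc]
    have e2 : x * (x * b * x⁻¹) * x⁻¹ = w' * (v * v * b) := by
      rw [Lib.FF.conj_eq_comm_mul x b]
      calc x * (v * b) * x⁻¹ = (x * v * x⁻¹) * (x * b * x⁻¹) := by group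
        _ = (w' * v) * (v * b) := by rw [Lib.FF.conj_eq_comm_mul x v, Lib.FF.conj_eq_comm_mul x b]
        _ = _ := by simp only [mul_assoc]
    rw [e1, e2] at hconj2
    have c1 : Commute w (v * v * b) := ((hwc v hvB).mul_right (hwc v hvB)).mul_right hwb
    have c2 : Commute w' (u * u * a) := ((hw'c u huB).mul_right (hw'c u huB)).mul_right hw'a
    have e3 : w * (u * u * a) * (w' * (v * v * b)) = (w * w') * ((u * u * a) * (v * v * b)) := by
      calc w * (u * u * a) * (w' * (v * v * b)) = w * ((u * u * a) * w') * (v * v * b) := by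
            simp only [mul_assoc]
        _ = w * (w' * (u * u * a)) * (v * v * b) := by rw [c2.eq]
        _ = _ := by simp only [mul_assoc]
    have e4 : w' * (v * v * b) * (w * (u * u * a)) = (w * w') * ((v * v * b) * (u * u * a)) := by
      calc w' * (v * v * b) * (w * (u * u * a)) = w' * ((v * v * b) * w) * (u * u * a) := by
            simp only [mul_assoc]
        _ = w' * (w * (v * v * b)) * (u * u * a) := by rw [c1.eq]
        _ = (w' * w) * ((v * v * b) * (u * u * a)) := by simp only [mul_assoc]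
        _ = _ := by rw [hww'.eq]
    rw [e3, e4] at hconj2
    exact mul_left_cancel hconj2
  have hRR := sq_eq_one_alg hab hav hbu huv (hcC P hPC).1 (hcC P hPC).2 (hcC Q hQC).1 (hcC Q hQC).2
    (hcC R hRC).1 (hcC R hRC).2 (h.hAc _ hPC.1 _ hRC.1) h1 h2
  -- `p` odd
  have hR1 : R = 1 := by
    obtain ⟨k, hk⟩ := hG R
    have hc2 : Nat.Coprime 2 p := by
      rw [Nat.coprime_comm]
      exact ((Nat.Prime.coprime_iff_not_dvd (Fact.out : p.Prime))).mpr (fun hd => hp
        ((Nat.prime_dvd_prime_iff_eq (Fact.out : p.Prime) Nat.prime_two).mp hd))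
    exact Lib.FF.eq_one_of_pow_eq_one_of_coprime (by rw [pow_two]; exact hRR) hc2 hk
  rw [hR, commutatorElement_eq_one_iff_mul_comm] at hR1
  exact hR1

/-- The exponent argument. -/
theorem pow_u_eq_one (h : Setup A B x) {a : G} {n : ℕ} (hn : Odd n) (ha : a ∈ A) (han : a ^ n = 1) :
    ⁅x, a⁆ ^ n = 1 := by
  set u := ⁅x, a⁆ with hu
  have huB : u ∈ B := h.u_mem ha
  set c := ⁅u, a⁆ with hc
  have hcA : c ∈ A := by
    have h1 := conj_mem_of_mem_normalizer (h.hstep a ha) ha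
    show u * a * u⁻¹ * a⁻¹ ∈ A
    exact A.mul_mem h1 (A.inv_mem ha)
  have hcB : c ∈ B := by
    have h1 := h.hAB a ha _ (B.inv_mem huB)
    have h2 := B.mul_mem huB h1
    rw [hc, commutatorElement_def]
    simpa [mul_assoc] using h2
  have hcu : Commute c u := h.conjInf_comm (h.inf_le_conjInf ⟨hcA, hcB⟩) ha
  have hca : Commute c a := h.hAc _ hcA _ ha
  -- `c ^ n = 1`
  have hcn : c ^ n = 1 := by
    have e : u * a * u⁻¹ = c * a := by simp [hc, commutatorElement_def]
    have h1 : (u * a * u⁻¹) ^ n = 1 := by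
      have := conj_pow (a := u) (b := a) (i := n)
      rw [this, han]; simp
    rw [e, hca.mul_pow, han, mul_one] at h1
    exact h1
  have hchoose : (c⁻¹) ^ (n.choose 2) = 1 := by
    obtain ⟨k, hk⟩ := hn
    have : n.choose 2 = n * k := by
      rw [Nat.choose_two_right, hk]
      have : (2 * k + 1) * (2 * k + 1 - 1) = 2 * ((2 * k + 1) * k) := by
        rw [Nat.add_sub_cancel]; ring
      rw [this, Nat.mul_div_cancel_left _ (by norm_num)]
    rw [this, pow_mul, inv_pow, hcn, inv_one, one_pow]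
  have hpow := Lib.PGroup.mul_pow_of_comm_comm u a c⁻¹ (by
    -- `a * u = u * a * c⁻¹`
    have e : u * a = c * a * u := by simp [hc, commutatorElement_def]
    have e2 : a * u = c⁻¹ * (u * a) := by rw [e]; group
    rw [e2]
    have : Commute c⁻¹ (u * a) := (hcu.mul_right hca).inv_left
    exact this.eq) hcu.inv_left hca.inv_left n
  have hua : (u * a) ^ n = 1 := by
    have e : u * a = x * a * x⁻¹ := (Lib.FF.conj_eq_comm_mul x a).symm
    rw [e, conj_pow, han]; simp
  rw [hua, han, hchoose, mul_one, mul_one] at hpow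
  exact hpow.symm

end Setup

/-- A replacement Theorem for abelian subgroups of p-groups, p odd. Let G be a finite p-group with p odd, A an abelian subgroup of G, and B a subgroup of nilpotency class at most 2 with [B, B] ≤ A, such that A normalizes B but B does not normalize A. Then there is an abelian subgroup A* of G of the same order as A with A ∩ B strictly contained in A* ∩ B, A* contained in N_G(A) and in the normal closure of A, the exponent of A* dividing the exponent of A, and with the subgroup generated by the elements of order dividing p in A of order at most that of the corresponding subgroup of A* (the rank of A is at most the rank of A*). -/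
theorem result {G : Type*} [Group G] [Finite G] {p : ℕ} [Fact p.Prime] (hp : p ≠ 2) (hG : IsPGroup p G) (A B : Subgroup G) (hA : IsMulCommutative A) (hB2 : ⁅⁅B, B⁆, B⁆ = ⊥) (hBA : ⁅B, B⁆ ≤ A) (hAB : A ≤ Subgroup.normalizer (B : Set G)) (hBnA : ¬ B ≤ Subgroup.normalizer (A : Set G)) : ∃ Astar : Subgroup G, IsMulCommutative Astar ∧ Nat.card Astar = Nat.card A ∧ A ⊓ B < Astar ⊓ B ∧ Astar ≤ Subgroup.normalizer (A : Set G) ∧ Astar ≤ Subgroup.normalClosure (A : Set G) ∧ Monoid.exponent Astar ∣ Monoid.exponent A ∧ Nat.card (Cfsg.omegaOne p A) ≤ Nat.card (Cfsg.omegaOne p Astar) := by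
  classical
  have hAc : ∀ a ∈ A, ∀ b ∈ A, a * b = b * a := fun a ha b hb =>
    congrArg Subtype.val (hA.is_comm.comm ⟨a, ha⟩ ⟨b, hb⟩)
  have hTop : IsPGroup p (⊤ : Subgroup G) := hG.to_subgroup ⊤
  obtain ⟨x, hxB, hxn, hstep⟩ := exists_step hTop le_top le_top hAB hBnA
  have hS : Setup A B x := by
    refine ⟨hAc, ?_, ?_, ?_, hxB, hstep⟩
    · intro u hu v hv
      exact hBA (Subgroup.commutator_mem_commutator hu hv)
    · intro u hu v hv w hw
      have h1 : ⁅⁅u, v⁆, w⁆ ∈ ⁅⁅B, B⁆, B⁆ :=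
        Subgroup.commutator_mem_commutator (Subgroup.commutator_mem_commutator hu hv) hw
      rw [hB2, Subgroup.mem_bot] at h1
      exact commutatorElement_eq_one_iff_mul_comm.mp h1
    · intro a ha u hu
      exact conj_mem_of_mem_normalizer (hAB ha) hu
  have hc : ∀ a ∈ A, ∀ b ∈ A, ⁅x, a⁆ * ⁅x, b⁆ = ⁅x, b⁆ * ⁅x, a⁆ := fun a ha b hb =>
    hS.gens_comm hp hG ha hb
  have hn : ∀ a ∈ A, ∀ b ∈ A, (⁅x, b⁆)⁻¹ * a * ⁅x, b⁆ ∈ A := fun a ha b hb =>
    inv_conj_mem_of_mem_normalizer (hstep b hb) ha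
  set M := Lib.FF.commGen x A with hM
  set K := Lib.FF.conjInf x A with hK
  have hMcomm : ∀ m ∈ M, ∀ n ∈ M, m * n = n * m := Lib.FF.commGen_comm hc
  have hMB : M ≤ B := Lib.FF.commGen_le (fun a ha => hS.u_mem ha)
  have hKA : K ≤ A := inf_le_left
  have hKM : ∀ m ∈ M, ∀ k ∈ K, m * k = k * m := by
    intro m hm k hk
    have hle : M ≤ centralizer ({k} : Set G) := by
      apply Lib.FF.commGen_le
      intro b hb
      exact mem_centralizer_iff.mpr (by rintro _ rfl; exact hS.conjInf_comm hk hb)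
    exact (mem_centralizer_iff.mp (hle hm) k rfl).symm
  have hMA : M ⊓ A ≤ K := by
    rintro m ⟨hm, hma⟩
    exact Lib.FF.mem_conjInf'.mpr ⟨hma, hS.hB'A _ hxB _ (hMB hm)⟩
  have hoddp : Odd p := (Fact.out : p.Prime).odd_of_ne_two hp
  have hKcomm : ∀ a ∈ K, ∀ b ∈ K, a * b = b * a := fun a ha b hb => hAc a (hKA ha) b (hKA hb)
  have hab : ∀ a ∈ M ⊔ K, ∀ b ∈ M ⊔ K, a * b = b * a := Lib.FF.comm_sup hMcomm hKcomm hKM
  -- a general power lemma
  have hpowM : ∀ (n : ℕ) (A' : Subgroup G), A' ≤ A → Odd n → (∀ a ∈ A', a ^ n = 1) →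
      ∀ m ∈ Lib.FF.commGen x A', m ^ n = 1 := by
    intro n A' hA' hn' hpowA m hm
    have hle : Lib.FF.commGen x A' ≤ M := Lib.FF.commGen_mono hA'
    induction hm using Subgroup.closure_induction with
    | mem y hy =>
      obtain ⟨a, ha, rfl⟩ := hy
      exact hS.pow_u_eq_one hn' (hA' ha) (hpowA a ha)
    | one => exact one_pow _
    | mul a b ha hb iha ihb =>
      have h1 : Commute a b := hMcomm a (hle ha) b (hle hb)
      rw [h1.mul_pow, iha, ihb, one_mul]
    | inv a _ iha => rw [inv_pow, iha, inv_one]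
  refine ⟨M ⊔ K, ⟨⟨fun u v => Subtype.ext (hab _ u.2 _ v.2)⟩⟩, ?_, ?_, ?_, ?_, ?_, ?_⟩
  · exact Lib.FF.card_commGen_sup hc hn hKM hMA
  · refine SetLike.lt_iff_le_and_exists.mpr ⟨?_, ?_⟩
    · rintro y ⟨hy1, hy2⟩
      exact ⟨Subgroup.mem_sup_right (hS.inf_le_conjInf ⟨hy1, hy2⟩), hy2⟩
    · have : ∃ a ∈ A, x * a * x⁻¹ ∉ A := by
        by_contra hcon
        apply hxn
        apply mem_normalizer_of_forall_conj_mem
        intro a ha
        by_contra h
        exact hcon ⟨a, ha, h⟩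
      obtain ⟨a, ha, hout⟩ := this
      refine ⟨⁅x, a⁆, ⟨Subgroup.mem_sup_left (Lib.FF.mem_commGen ha), hS.u_mem ha⟩, ?_⟩
      rintro ⟨h1, -⟩
      apply hout
      rw [Lib.FF.conj_eq_comm_mul]
      exact A.mul_mem h1 ha
  · exact sup_le (Lib.FF.commGen_le hstep) (hKA.trans Subgroup.le_normalizer)
  · apply sup_le
    · apply Lib.FF.commGen_le
      intro a ha
      have hnn : (normalClosure (A : Set G)).Normal := normalClosure_normal
      have hA1 : a ∈ normalClosure (A : Set G) := Subgroup.subset_normalClosure ha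
      show (x * a * x⁻¹) * a⁻¹ ∈ normalClosure (A : Set G)
      exact mul_mem (hnn.conj_mem _ hA1 x) (inv_mem hA1)
    · exact hKA.trans Subgroup.subset_normalClosure
  · -- the exponent
    have hnodd : Odd (Monoid.exponent A) := by
      have h1 : Monoid.exponent A ∣ Nat.card A :=
        Monoid.exponent_dvd_of_forall_pow_eq_one (fun g => pow_card_eq_one')
      obtain ⟨k, hk⟩ := IsPGroup.iff_card.mp (hG.to_subgroup A)
      rw [hk] at h1
      exact Odd.of_dvd_nat (hoddp.pow) h1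
    have hApow : ∀ a ∈ A, a ^ (Monoid.exponent A) = 1 := by
      intro a ha
      have := Monoid.pow_exponent_eq_one (⟨a, ha⟩ : A)
      exact congrArg Subtype.val this
    have hMpow := hpowM _ A le_rfl hnodd hApow
    apply Monoid.exponent_dvd_of_forall_pow_eq_one
    rintro ⟨y, hy⟩
    obtain ⟨m, hm, k, hk, rfl⟩ := (mem_sup_of_le_normalizer (le_normalizer_of_commute hKM)).mp hy
    apply Subtype.ext
    show (m * k) ^ Monoid.exponent A = 1
    have h1 : Commute m k := hKM m hm k hk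
    rw [h1.mul_pow, hMpow m hm, hApow k (hKA hk), one_mul]
  · -- the rank
    have hΩ : ∀ y, y ∈ Cfsg.omegaOne p A ↔ y ∈ A ∧ y ^ p = 1 := by
      intro y
      constructor
      · intro hy
        induction hy using Subgroup.closure_induction with
        | mem z hz => exact hz
        | one => exact ⟨A.one_mem, one_pow _⟩
        | mul a b _ _ ha hb =>
          refine ⟨A.mul_mem ha.1 hb.1, ?_⟩
          have h1 : Commute a b := hAc a ha.1 b hb.1
          rw [h1.mul_pow, ha.2, hb.2, one_mul]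
        | inv a _ ha =>
          exact ⟨A.inv_mem ha.1, by rw [inv_pow, ha.2, inv_one]⟩
      · intro hy
        exact Subgroup.subset_closure hy
    set A₁ := Cfsg.omegaOne p A with hA₁
    have hA₁A : A₁ ≤ A := fun y hy => ((hΩ y).mp hy).1
    have hc₁ : ∀ a ∈ A₁, ∀ b ∈ A₁, ⁅x, a⁆ * ⁅x, b⁆ = ⁅x, b⁆ * ⁅x, a⁆ := fun a ha b hb =>
      hc a (hA₁A ha) b (hA₁A hb)
    have hn₁ : ∀ a ∈ A₁, ∀ b ∈ A₁, (⁅x, b⁆)⁻¹ * a * ⁅x, b⁆ ∈ A₁ := by
      intro a ha b hb
      refine (hΩ _).mpr ⟨hn a (hA₁A ha) b (hA₁A hb), ?_⟩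
      have e : (⁅x, b⁆)⁻¹ * a * ⁅x, b⁆ = (⁅x, b⁆)⁻¹ * a * (⁅x, b⁆)⁻¹⁻¹ := by rw [inv_inv]
      rw [e, conj_pow, ((hΩ a).mp ha).2, mul_one, inv_inv]
      exact inv_mul_cancel _
    have hM₁M : Lib.FF.commGen x A₁ ≤ M := Lib.FF.commGen_mono hA₁A
    have hK₁K : Lib.FF.conjInf x A₁ ≤ K := by
      intro k hk
      obtain ⟨h1, h2⟩ := Lib.FF.mem_conjInf'.mp hk
      exact Lib.FF.mem_conjInf'.mpr ⟨hA₁A h1, hA₁A h2⟩
    have hK₁M₁ : ∀ m ∈ Lib.FF.commGen x A₁, ∀ k ∈ Lib.FF.conjInf x A₁, m * k = k * m :=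
      fun m hm k hk => hKM m (hM₁M hm) k (hK₁K hk)
    have hMA₁ : Lib.FF.commGen x A₁ ⊓ A₁ ≤ Lib.FF.conjInf x A₁ := by
      rintro m ⟨hm, hma⟩
      refine Lib.FF.mem_conjInf'.mpr ⟨hma, (hΩ _).mpr ⟨hS.hB'A _ hxB _ (hMB (hM₁M hm)), ?_⟩⟩
      exact hS.pow_u_eq_one hoddp (hA₁A hma) ((hΩ m).mp hma).2
    have hcard := Lib.FF.card_commGen_sup hc₁ hn₁ hK₁M₁ hMA₁
    rw [← hcard]
    apply Subgroup.card_le_of_le
    intro y hy
    obtain ⟨m, hm, k, hk, rfl⟩ := (mem_sup_of_le_normalizer (le_normalizer_of_commute hK₁M₁)).mp hy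
    apply Subgroup.subset_closure
    refine ⟨mul_mem (Subgroup.mem_sup_left (hM₁M hm)) (Subgroup.mem_sup_right (hK₁K hk)), ?_⟩
    have h1 : Commute m k := hK₁M₁ m hm k hk
    have hk1 : k ^ p = 1 := by
      have : k ∈ A₁ := (Lib.FF.mem_conjInf'.mp hk).1
      exact ((hΩ k).mp this).2
    rw [h1.mul_pow, hk1, mul_one]
    exact hpowM p A₁ hA₁A hoddp (fun a ha => ((hΩ a).mp ha).2) m hm

end Cfsg.Agent.S3078
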