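import Cfsg.Statements.S3082
import Mathlib
import Cfsg.Agent.Lib.Techniques.SClosedNil

set_option autoImplicit false
open Cfsg

namespace Cfsg.Agent.S3082

/-- The Glauberman–Thompson normal p-complement criterion for strongly closed subgroups, p odd. Let G be a finite group, P a Sylow p-subgroup and D a subgroup of P strongly closed in P with respect to G. If N_G(Z(J(D))) has a normal p-complement (J(D) generated by the abelian subgroups of D of largest order), or N_G(Ω₁(Z(J_e(D)))) has one (J_e(D) generated by the elementary abelian subgroups of largest order), then G has a normal p-complement. -/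
theorem result {G : Type*} [Group G] [Finite G] {p : ℕ} [Fact p.Prime] (hp : p ≠ 2) (P : Sylow p G) (D : Subgroup G) (hD : Cfsg.IsStronglyClosed D (P : Subgroup G)) (h : Cfsg.HasNormalPComplement p ↥(Subgroup.normalizer ((Cfsg.centerThompsonAOf D) : Set G)) ∨ Cfsg.HasNormalPComplement p ↥(Subgroup.normalizer ((Cfsg.omegaOne p (Cfsg.centerThompsonOf p D)) : Set G))) : Cfsg.HasNormalPComplement p G := by
  apply Cfsg.Agent.Lib.FrobThm.hasNormalPComplement_of_pNil_top
  have hSC : Cfsg.Agent.Lib.Techniques.SC D (P : Subgroup G) ⊤ := ⟨hD.1, fun x hx g _ hg => hD.2 x hx g hg⟩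
  rcases h with h | h
  · by_cases hpd : p ∣ Nat.card G
    · rw [← Cfsg.Agent.Lib.FF.Zee_card_eq] at h
      exact Cfsg.Agent.Lib.Techniques.pnil_of_Zee hp hpd _ G rfl P D hSC
        ((Cfsg.Agent.Lib.FrobThm.hasNormalPComplement_iff_pNil _).1 h)
    · intro x _ y _ _ _
      have h1 : orderOf (x * y) ∣ Nat.card G := orderOf_dvd_natCard _
      have h2 : Nat.Coprime (Nat.card G) p :=
        ((Nat.Prime.coprime_iff_not_dvd (Fact.out : p.Prime)).2 hpd).symm
      exact Nat.Coprime.coprime_dvd_left h1 h2
  · rw [← Cfsg.Agent.Lib.FF.Zee_prime_eq] at h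
    exact Cfsg.Agent.Lib.Techniques.pnil_of_Zee hp dvd_rfl _ G rfl P D hSC
      ((Cfsg.Agent.Lib.FrobThm.hasNormalPComplement_iff_pNil _).1 h)

end Cfsg.Agent.S3082
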