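import Cfsg.Statements.S3179
import Mathlib
import Cfsg.Agent.Lib.SzOvoid.Basic
import Cfsg.Agent.S0280
import Cfsg.Agent.Lib.Classical.Basic

set_option autoImplicit false
open Cfsg

open Cfsg Matrix

namespace Cfsg.Agent.S3179
/-- Free actions: nine divides the number of points moved by the cube. -/
lemma nine_dvd {α : Type*} [Finite α] (T : Equiv.Perm α) (h9 : T ^ 9 = 1) (h3 : T ^ 3 ≠ 1) :
    9 ∣ Nat.card {x : α // (T ^ 3) x ≠ x} := by
  classical
  have ho : orderOf T = 9 := by
    have : orderOf T = 3 ^ (1 + 1) := orderOf_eq_prime_pow (p := 3) (n := 1)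
      (by haveI : Fact (Nat.Prime 3) := ⟨Nat.prime_three⟩; simpa using h3) (by simpa using h9)
    simpa using this
  haveI : Fact (Nat.Prime 3) := ⟨Nat.prime_three⟩
  let Z := Subgroup.zpowers T
  have hZ : Nat.card Z = 9 := by rw [Nat.card_zpowers, ho]
  have hmem : ∀ z : Z, ∃ k : ℕ, k < 9 ∧ (z : Equiv.Perm α) = T ^ k := by
    rintro ⟨z, hz⟩
    have hfin : IsOfFinOrder T := isOfFinOrder_of_finite T
    rw [hfin.mem_zpowers_iff_mem_range_orderOf, ho] at hz
    simp only [Finset.mem_image, Finset.mem_range] at hz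
    obtain ⟨k, hk, rfl⟩ := hz
    exact ⟨k, hk, rfl⟩
  let A : SubMulAction Z α :=
    { carrier := {x | (T ^ 3) x ≠ x}
      smul_mem' := by
        rintro z x hx
        obtain ⟨k, -, hk⟩ := hmem z
        intro h
        apply hx
        have e1 : z • x = (T ^ k) x := by
          show (z : Equiv.Perm α) x = _
          rw [hk]
        rw [e1] at h
        have h4 : (T ^ k) ((T ^ 3) x) = (T ^ k) x := by
          rw [← Equiv.Perm.mul_apply, ← pow_add, add_comm, pow_add, Equiv.Perm.mul_apply]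
          exact h
        exact (T ^ k).injective h4 }
  have hstab : ∀ b : A, MulAction.stabilizer Z b = ⊥ := by
    rintro ⟨b, hb⟩
    rw [eq_bot_iff]
    intro z hz
    rw [MulAction.mem_stabilizer_iff] at hz
    have hz' : (z : Equiv.Perm α) b = b := congrArg Subtype.val hz
    obtain ⟨k, hk9, hk⟩ := hmem z
    rw [hk] at hz'
    have hpow : ∀ m : ℕ, (T ^ (k * m)) b = b := by
      intro m
      induction m with
      | zero => simp
      | succ n ih =>
        rw [Nat.mul_succ, pow_add, Equiv.Perm.mul_apply, hz', ih]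
    have h3' : ∀ m j : ℕ, k * m = 3 + 9 * j → False := by
      intro m j hj
      apply hb
      have := hpow m
      rw [hj, pow_add, pow_mul, h9, one_pow, mul_one] at this
      exact this
    rw [Subgroup.mem_bot]
    apply Subtype.ext
    show (z : Equiv.Perm α) = 1
    rw [hk]
    interval_cases k
    · simp
    · exact (h3' 3 0 (by norm_num)).elim
    · exact (h3' 6 1 (by norm_num)).elim
    · exact (h3' 1 0 (by norm_num)).elim
    · exact (h3' 3 1 (by norm_num)).elim
    · exact (h3' 6 3 (by norm_num)).elim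
    · exact (h3' 2 1 (by norm_num)).elim
    · exact (h3' 3 2 (by norm_num)).elim
    · exact (h3' 6 5 (by norm_num)).elim
  have e := MulAction.selfEquivOrbitsQuotientProd hstab
  have h1 := Nat.card_congr e
  rw [Nat.card_prod, hZ] at h1
  have h4 : Nat.card {x : α // (T ^ 3) x ≠ x} = Nat.card A := rfl
  rw [h4, h1]
  exact dvd_mul_left _ _

/-- The permutation action of `GL₅(2)` on vectors. -/
def permOf : GL (Fin 5) (ZMod 2) →* Equiv.Perm (Fin 5 → ZMod 2) :=
  MonoidHom.mk' (fun g =>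
    { toFun := fun v => (g : Matrix (Fin 5) (Fin 5) (ZMod 2)) *ᵥ v
      invFun := fun v => ((g⁻¹ : GL (Fin 5) (ZMod 2)) : Matrix (Fin 5) (Fin 5) (ZMod 2)) *ᵥ v
      left_inv := fun v => by
        show ((g⁻¹ : GL (Fin 5) (ZMod 2)) : Matrix (Fin 5) (Fin 5) (ZMod 2)) *ᵥ ((g : Matrix (Fin 5) (Fin 5) (ZMod 2)) *ᵥ v) = v
        rw [Matrix.mulVec_mulVec, ← Units.val_mul, inv_mul_cancel, Units.val_one, Matrix.one_mulVec]
      right_inv := fun v => by
        show (g : Matrix (Fin 5) (Fin 5) (ZMod 2)) *ᵥ (((g⁻¹ : GL (Fin 5) (ZMod 2)) : Matrix (Fin 5) (Fin 5) (ZMod 2)) *ᵥ v) = v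
        rw [Matrix.mulVec_mulVec, ← Units.val_mul, mul_inv_cancel, Units.val_one, Matrix.one_mulVec] })
    (fun a b => by
      ext v i
      simp [Matrix.mulVec_mulVec])

lemma permOf_apply (g : GL (Fin 5) (ZMod 2)) (v : Fin 5 → ZMod 2) :
    permOf g v = (g : Matrix (Fin 5) (Fin 5) (ZMod 2)) *ᵥ v := rfl

lemma permOf_inj : Function.Injective permOf := by
  intro a b h
  apply Units.ext
  ext i j
  have := congrFun (congrArg (fun p : Equiv.Perm (Fin 5 → ZMod 2) => p (Pi.single j 1)) h) i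
  simpa [permOf_apply] using this

/-- No elements of order nine in `GL₅(2)`. -/
lemma no_nine (g : GL (Fin 5) (ZMod 2)) (h9 : g ^ 9 = 1) : g ^ 3 = 1 := by
  classical
  by_contra h3
  have hT3 : (permOf g) ^ 3 ≠ 1 := by
    rw [← map_pow]
    intro h
    exact h3 (permOf_inj (by rw [h, map_one]))
  have hT9 : (permOf g) ^ 9 = 1 := by rw [← map_pow, h9, map_one]
  have hd := nine_dvd (permOf g) hT9 hT3
  -- the fixed points form a subgroup
  let Fx : AddSubgroup (Fin 5 → ZMod 2) :=
    { carrier := {v | ((permOf g) ^ 3) v = v}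
      zero_mem' := by
        show (permOf g ^ 3) 0 = 0
        rw [← map_pow, permOf_apply, Matrix.mulVec_zero]
      add_mem' := by
        intro a b ha hb
        show (permOf g ^ 3) (a + b) = a + b
        have ha' : (permOf g ^ 3) a = a := ha
        have hb' : (permOf g ^ 3) b = b := hb
        rw [← map_pow, permOf_apply, Matrix.mulVec_add, ← permOf_apply, ← permOf_apply, map_pow, ha', hb']
      neg_mem' := by
        intro a ha
        show (permOf g ^ 3) (-a) = -a
        have ha' : (permOf g ^ 3) a = a := ha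
        rw [← map_pow, permOf_apply, Matrix.mulVec_neg, ← permOf_apply, map_pow, ha'] }
  have hV : Nat.card (Fin 5 → ZMod 2) = 32 := by
    rw [Nat.card_eq_fintype_card]
    simp [ZMod.card]
  have hF := AddSubgroup.card_addSubgroup_dvd_card Fx
  rw [hV] at hF
  have hsum : Nat.card Fx + Nat.card {x : (Fin 5 → ZMod 2) // ((permOf g) ^ 3) x ≠ x} = 32 := by
    rw [← hV, ← Nat.card_congr (Equiv.sumCompl (fun x : (Fin 5 → ZMod 2) => ((permOf g) ^ 3) x = x)), Nat.card_sum]
    rfl
  have hFle : Nat.card Fx ≤ 32 := Nat.le_of_dvd (by norm_num) hF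
  have hne : Nat.card {x : (Fin 5 → ZMod 2) // ((permOf g) ^ 3) x ≠ x} ≠ 0 := by
    have : ∃ x, ((permOf g) ^ 3) x ≠ x := by
      by_contra hall
      push_neg at hall
      exact hT3 (Equiv.ext hall)
    obtain ⟨x, hx⟩ := this
    haveI : Nonempty {x : (Fin 5 → ZMod 2) // ((permOf g) ^ 3) x ≠ x} := ⟨⟨x, hx⟩⟩
    exact Nat.card_pos.ne'
  obtain ⟨k, hk⟩ := hd
  rw [hk] at hsum hne
  have hk0 : k ≠ 0 := by
    rintro rfl
    exact hne rfl
  set f := Nat.card Fx with hf
  have : f ∈ Nat.divisors 32 := Nat.mem_divisors.2 ⟨hF, by norm_num⟩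
  have hdiv : Nat.divisors 32 = {1, 2, 4, 8, 16, 32} := by decide
  rw [hdiv] at this
  simp only [Finset.mem_insert, Finset.mem_singleton] at this
  omega

/-- Section: an element of order nine in a section lifts. -/
lemma no_nine_section {H : Subgroup (GL (Fin 5) (ZMod 2))} {K : Subgroup ↥H} [K.Normal]
    (x : ↥H ⧸ K) (h9 : x ^ 9 = 1) : x ^ 3 = 1 := by
  obtain ⟨h, rfl⟩ := QuotientGroup.mk_surjective x
  by_contra h3
  have hfin : IsOfFinOrder h := isOfFinOrder_of_finite h
  set n := orderOf h with hn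
  have hnpos : 0 < n := hfin.orderOf_pos
  have hdvd : orderOf ((h : ↥H ⧸ K)) ∣ n := by
    apply orderOf_dvd_of_pow_eq_one
    rw [← QuotientGroup.mk_pow, hn, pow_orderOf_eq_one]
    rfl
  have ho : orderOf ((h : ↥H ⧸ K)) = 9 := by
    have : orderOf ((h : ↥H ⧸ K)) = 3 ^ (1 + 1) := by
      haveI : Fact (Nat.Prime 3) := ⟨Nat.prime_three⟩
      exact orderOf_eq_prime_pow (p := 3) (n := 1) (by simpa using h3) (by simpa using h9)
    simpa using this
  rw [ho] at hdvd
  obtain ⟨k, hk⟩ := hdvd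
  have hp : ((h ^ k : ↥H) : GL (Fin 5) (ZMod 2)) ^ 9 = 1 := by
    rw [← Subgroup.coe_pow, ← pow_mul, mul_comm, ← hk, hn, pow_orderOf_eq_one]
    rfl
  have h3' := no_nine _ hp
  have h3'' : (h : ↥H) ^ (k * 3) = 1 := by
    apply Subtype.ext
    rw [pow_mul]
    simpa using h3'
  have : n ∣ k * 3 := orderOf_dvd_of_pow_eq_one h3''
  rw [hk] at this
  have hk0 : 0 < k := by
    rcases Nat.eq_zero_or_pos k with rfl | h
    · simp at hk; omega
    · exact h
  have := Nat.le_of_dvd (by positivity) this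
  nlinarith

/-- An element of order nine in `PSL₂(8)`. -/
lemma psl_eight_nine {F : Type} [Field F] [Fintype F] (hF : Fintype.card F = 8) :
    ∃ x : Matrix.ProjectiveSpecialLinearGroup (Fin 2) F, x ^ 9 = 1 ∧ x ^ 3 ≠ 1 := by
  classical
  have h2 : (2 : F) = 0 := by
    have h0 := FiniteField.cast_card_eq_zero F
    rw [hF] at h0
    have h8 : ((8 : ℕ) : F) = 2 ^ 3 := by norm_num
    rw [h8] at h0
    exact pow_eq_zero_iff (by omega) |>.mp h0
  obtain ⟨t, ht⟩ : ∃ t : F, t ^ 3 + t + 1 = 0 := by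
    obtain ⟨z, hz0, hz1⟩ : ∃ z : F, z ≠ 0 ∧ z ≠ 1 := by
      by_contra hcon
      push_neg at hcon
      have hsub : (Finset.univ : Finset F) ⊆ {0, 1} := by
        intro z _
        by_cases hz : z = 0
        · simp [hz]
        · simp [hcon z hz]
      have := Finset.card_le_card hsub
      rw [Finset.card_univ, hF] at this
      have h3 : ({0, 1} : Finset F).card ≤ 2 := Finset.card_le_two
      omega
    have h7 : z ^ 7 = 1 := by
      have := FiniteField.pow_card_sub_one_eq_one z hz0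
      rwa [hF] at this
    have hprod : (z - 1) * ((z ^ 3 + z + 1) * (z ^ 3 + z ^ 2 + 1)) = 0 := by
      linear_combination h7 + z ^ 3 * (z - 1) * h2
    rcases mul_eq_zero.1 hprod with h | h
    · exact absurd (sub_eq_zero.1 h) hz1
    rcases mul_eq_zero.1 h with h | h
    · exact ⟨z, h⟩
    · refine ⟨z⁻¹, ?_⟩
      field_simp
      linear_combination h
  have ht1 : t ^ 2 + 1 ≠ 0 := by
    intro h
    have h1 : (t + 1) ^ 2 = 0 := by linear_combination h + t * h2
    have h3 : t + 1 = 0 := pow_eq_zero_iff (two_ne_zero) |>.1 h1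
    have h4 : t = 1 := by linear_combination h3 - h2
    rw [h4] at ht
    have : (1 : F) = 0 := by linear_combination ht - h2
    exact one_ne_zero this
  let M : Matrix (Fin 2) (Fin 2) F := !![0, 1; 1, t]
  have hdet : M.det = 1 := by
    simp only [M, Matrix.det_fin_two_of]
    linear_combination -h2
  let g : Matrix.SpecialLinearGroup (Fin 2) F := ⟨M, hdet⟩
  have hM3 : M ^ 3 = !![t, 1 + t ^ 2; 1 + t ^ 2, t + 1] := by
    ext i j
    fin_cases i <;> fin_cases j <;>
      simp [M, pow_succ, Matrix.mul_apply, Fin.sum_univ_two] <;> grind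
  have hM9 : M ^ 9 = 1 := by
    have : M ^ 9 = (M ^ 3) * (M ^ 3) * (M ^ 3) := by
      rw [← pow_add, ← pow_add]
    rw [this, hM3]
    ext i j
    fin_cases i <;> fin_cases j <;>
      simp [Matrix.mul_apply, Fin.sum_univ_two] <;> grind
  have hg9 : g ^ 9 = 1 := by
    apply Subtype.ext
    rw [Matrix.SpecialLinearGroup.coe_pow]
    exact hM9
  refine ⟨QuotientGroup.mk' (Subgroup.center _) g, ?_, ?_⟩
  · rw [← map_pow, hg9, map_one]
  · rw [← map_pow]
    intro h
    have hc : g ^ 3 ∈ Subgroup.center (Matrix.SpecialLinearGroup (Fin 2) F) := by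
      simpa using (QuotientGroup.eq_one_iff (N := Subgroup.center (Matrix.SpecialLinearGroup (Fin 2) F)) (g ^ 3)).1 h
    obtain ⟨r, -, hr⟩ := Matrix.SpecialLinearGroup.mem_center_iff.1 hc
    have h01 : ((g ^ 3 : Matrix.SpecialLinearGroup (Fin 2) F) : Matrix (Fin 2) (Fin 2) F) 0 1 = 0 := by
      rw [← hr]
      simp
    rw [Matrix.SpecialLinearGroup.coe_pow] at h01
    have h5 : (g : Matrix (Fin 2) (Fin 2) F) = M := rfl
    rw [h5, hM3] at h01
    apply ht1
    simp at h01
    linear_combination h01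

/-- Let X be a section of the general linear group GL(5, 2), that is, a quotient of a subgroup of it. If X is isomorphic to PSL(2, 2^n) for some n ≥ 2, to a Suzuki group over the field with 2^(2m+1) elements for some m ≥ 1, or to PSU(3, 2^n) for some n ≥ 2, then X is isomorphic to PSL(2, 4). -/
theorem result {H : Subgroup (GL (Fin 5) (ZMod 2))}
    {K : Subgroup ↥H} [K.Normal]
    (hX : (∃ (n : ℕ) (F : Type) (_ : Field F) (_ : Fintype F), 2 ≤ n ∧ Fintype.card F = 2 ^ n ∧
        Nonempty (↥H ⧸ K ≃* Matrix.ProjectiveSpecialLinearGroup (Fin 2) F)) ∨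
      (∃ (m : ℕ) (F : Type) (_ : Field F) (_ : Fintype F), 1 ≤ m ∧ Fintype.card F = 2 ^ (2 * m + 1) ∧
        Nonempty (↥H ⧸ K ≃* ↥(Cfsg.Lie.Sz F (2 ^ (m + 1))))) ∨
      (∃ (n : ℕ) (F : Type) (_ : Field F) (_ : Fintype F), 2 ≤ n ∧ Fintype.card F = 4 ^ n ∧
        Nonempty (↥H ⧸ K ≃* Cfsg.PSU 3 F (2 ^ n)))) :
    ∃ (F : Type) (_ : Field F) (_ : Fintype F), Fintype.card F = 4 ∧
      Nonempty (↥H ⧸ K ≃* Matrix.ProjectiveSpecialLinearGroup (Fin 2) F) := by
  classical
  have hGL : Nat.card (GL (Fin 5) (ZMod 2)) = 9999360 := by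
    rw [Matrix.card_GL_field]
    simp [Fin.prod_univ_five, ZMod.card]
  have hdvd : Nat.card (↥H ⧸ K) ∣ 9999360 := by
    rw [← hGL]
    exact (Subgroup.card_quotient_dvd_card K).trans (Subgroup.card_subgroup_dvd_card H)
  have hsplit : ∀ a : ℕ, Nat.Coprime a 2 → a ∣ Nat.card (↥H ⧸ K) → a ∣ 9765 := by
    intro a ha hd
    have h1 : a ∣ 1024 * 9765 := hd.trans (by simpa using hdvd)
    have h2 : Nat.Coprime a 1024 := by
      have : (1024 : ℕ) = 2 ^ 10 := by norm_num
      rw [this]
      exact Nat.Coprime.pow_right _ ha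
    exact h2.dvd_of_dvd_mul_left h1
  rcases hX with ⟨n, F, hf, hfin, hn, hF, ⟨e⟩⟩ | ⟨m, F, hf, hfin, hm, hF, ⟨e⟩⟩ | ⟨n, F, hf, hfin, hn, hF, ⟨e⟩⟩
  · -- PSL₂
    by_cases h2 : n = 2
    · subst h2
      exact ⟨F, hf, hfin, by rw [hF]; norm_num, ⟨e⟩⟩
    exfalso
    by_cases h3 : n = 3
    · subst h3
      obtain ⟨x, hx9, hx3⟩ := psl_eight_nine (F := F) (by rw [hF]; norm_num)
      apply hx3
      have h9' : (e.symm x) ^ 9 = 1 := by rw [← map_pow, hx9, map_one]
      have := no_nine_section _ h9'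
      rw [← map_pow] at this
      exact e.symm.injective (by rw [this, map_one])
    -- orders
    have hcard := Cfsg.Agent.Lib.Classical.card_PSL (F := F) hF 2 (by norm_num)
    simp only [Fin.prod_univ_two, Fin.val_zero, Fin.val_one, pow_zero, pow_one] at hcard
    have hn4 : 4 ≤ n := by omega
    have hQ : 16 ≤ 2 ^ n := by
      calc 16 = 2 ^ 4 := by norm_num
        _ ≤ 2 ^ n := Nat.pow_le_pow_right (by norm_num) hn4
    have hev : Even (2 ^ n) := ⟨2 ^ (n - 1), by
      obtain ⟨k, rfl⟩ : ∃ k, n = k + 1 := ⟨n - 1, by omega⟩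
      simp only [Nat.add_sub_cancel, pow_succ]
      ring⟩
    set Q := 2 ^ n with hQdef
    have hgcd : Nat.gcd 2 (Q - 1) = 1 := by
      obtain ⟨k, hk⟩ := hev
      have : Q - 1 = 2 * (k - 1) + 1 := by omega
      rw [this]
      simp
    rw [hgcd, one_mul] at hcard
    have hc : Nat.card (Matrix.ProjectiveSpecialLinearGroup (Fin 2) F) = Q * (Q ^ 2 - 1) := by
      have hpos : 0 < Q - 1 := by omega
      apply Nat.eq_of_mul_eq_mul_left hpos
      rw [hcard]
      have h1 : Q ^ 2 - Q = Q * (Q - 1) := by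
        rw [Nat.mul_sub, mul_one, sq]
      rw [h1]
      ring
    have hX : Nat.card (↥H ⧸ K) = Q * (Q ^ 2 - 1) := by
      rw [Nat.card_congr e.toEquiv, hc]
    have hcop : Nat.Coprime (Q ^ 2 - 1) 2 := by
      obtain ⟨k, hk⟩ := hev
      have hsq : Q ^ 2 = Q * Q := sq Q
      have : Q ^ 2 - 1 = 2 * (Q * k - 1) + 1 := by
        have : Q * Q = 2 * (Q * k) := by
          calc Q * Q = Q * (k + k) := by rw [← hk]
            _ = 2 * (Q * k) := by ring
        have h6 : 0 < Q * k := by
          have : 0 < k := by omega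
          positivity
        omega
      rw [this]
      simp
    have hd := hsplit (Q ^ 2 - 1) hcop (by rw [hX]; exact dvd_mul_left _ _)
    have hle := Nat.le_of_dvd (by norm_num) hd
    have hn7 : n < 7 := by
      by_contra hge
      have : 128 ≤ Q := by
        calc 128 = 2 ^ 7 := by norm_num
          _ ≤ 2 ^ n := Nat.pow_le_pow_right (by norm_num) (by omega)
      have h8 : 128 ^ 2 ≤ Q ^ 2 := Nat.pow_le_pow_left this 2
      omega
    have hcases : n = 4 ∨ n = 5 ∨ n = 6 := by omega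
    rcases hcases with rfl | rfl | rfl <;> norm_num [hQdef] at hd
  · -- Suzuki
    exfalso
    have h1 := Cfsg.Agent.Lib.SzOvoid.card_Sz_dvd (F := F) hF
    rw [hF] at h1
    have hX : (2 ^ (2 * m + 1)) ^ 2 + 1 ∣ Nat.card (↥H ⧸ K) := by
      rw [Nat.card_congr e.toEquiv]
      exact h1
    have hcop : Nat.Coprime ((2 ^ (2 * m + 1)) ^ 2 + 1) 2 := by
      have : (2 ^ (2 * m + 1)) ^ 2 + 1 = 2 * (2 ^ (2 * m) * 2 ^ (2 * m + 1)) + 1 := by
        rw [sq, pow_succ]
        ring
      rw [this]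
      simp
    have hd := hsplit _ hcop hX
    have hle := Nat.le_of_dvd (by norm_num) hd
    have hm3 : m < 3 := by
      by_contra hge
      have : 128 ≤ 2 ^ (2 * m + 1) := by
        calc 128 = 2 ^ 7 := by norm_num
          _ ≤ 2 ^ (2 * m + 1) := Nat.pow_le_pow_right (by norm_num) (by omega)
      have h8 : 128 ^ 2 ≤ (2 ^ (2 * m + 1)) ^ 2 := Nat.pow_le_pow_left this 2
      omega
    have hcases : m = 1 ∨ m = 2 := by omega
    rcases hcases with rfl | rfl <;> norm_num at hd
  · -- unitary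
    exfalso
    have hF' : Fintype.card F = (2 ^ n) ^ 2 := by
      rw [hF, ← pow_mul, mul_comm, pow_mul]
      norm_num
    have hcard := Cfsg.Agent.S0280.result (F := F) hF' 3 (by norm_num)
    have hQ : 4 ≤ 2 ^ n := by
      calc 4 = 2 ^ 2 := by norm_num
        _ ≤ 2 ^ n := Nat.pow_le_pow_right (by norm_num) hn
    rw [Finset.prod_range_succ, Finset.prod_range_succ, Finset.prod_range_one] at hcard
    have e0 : Even 0 := by decide
    have e1 : ¬ Even 1 := by decide
    have e2 : Even 2 := by decide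
    simp only [zero_add, one_add_one_eq_two, if_pos e0, if_neg e1, if_pos e2, pow_one] at hcard
    have hX : Nat.card (↥H ⧸ K) = Nat.card (Cfsg.PSU 3 F (2 ^ n)) := Nat.card_congr e.toEquiv
    rw [hX] at hdvd
    by_cases h4 : 4 ≤ n
    · have h5 : 2 ^ 12 ∣ (2 ^ n) ^ (3 * (3 - 1) / 2) := by
        rw [show 3 * (3 - 1) / 2 = 3 by norm_num, ← pow_mul]
        exact Nat.pow_dvd_pow 2 (by omega)
      have h6 : 2 ^ 12 ∣ Nat.gcd 3 (2 ^ n + 1) * ((2 ^ n + 1) * Nat.card (Cfsg.PSU 3 F (2 ^ n))) := by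
        rw [hcard]
        exact h5.mul_right _
      have h7 : Nat.Coprime (2 ^ 12) (Nat.gcd 3 (2 ^ n + 1)) := by
        apply Nat.Coprime.coprime_dvd_right (Nat.gcd_dvd_left 3 _)
        norm_num
      have h8 : Nat.Coprime (2 ^ 12) (2 ^ n + 1) := by
        apply Nat.Coprime.pow_left
        obtain ⟨k, rfl⟩ : ∃ k, n = k + 1 := ⟨n - 1, by omega⟩
        have : 2 ^ (k + 1) + 1 = 2 * 2 ^ k + 1 := by rw [pow_succ]; ring
        rw [this]
        simp
      have h9 := h7.dvd_of_dvd_mul_left h6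
      have h10 := h8.dvd_of_dvd_mul_left h9
      have h11 := h10.trans hdvd
      norm_num at h11
    · have hcases : n = 2 ∨ n = 3 := by omega
      rcases hcases with rfl | rfl
      · generalize Nat.card (Cfsg.PSU 3 F (2 ^ 2)) = c at hcard hdvd
        norm_num at hcard
        have : c = 62400 := by omega
        subst this
        norm_num at hdvd
      · generalize Nat.card (Cfsg.PSU 3 F (2 ^ 3)) = c at hcard hdvd
        norm_num at hcard
        have : c = 5515776 := by omega
        subst this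
        norm_num at hdvd

end Cfsg.Agent.S3179
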