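import Cfsg.Statements.S3494
import Mathlib

set_option autoImplicit false
open Cfsg

namespace Cfsg.Agent.S3494

open MulAction in
/-- The key step of Manning's theorem. -/
theorem claim {G : Type*} [Group G] [Finite G] {Ω : Type*} [MulAction G Ω]
    [IsPretransitive G Ω]
    (hcoat : ∀ x : Ω, IsCoatom (stabilizer G x))
    (hep : ∀ (α : Ω) (ω : Ω), IsPreprimitive (stabilizer G α) (orbit (stabilizer G α) ω))
    {α ω : Ω} (hω : ω ≠ α) {k : G} (hkα : k • α = α)
    (hk : ∀ s ∈ stabilizer G α, k • (s • ω) = s • ω) :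
    ∀ u ∈ stabilizer G ω, k • (u • α) = u • α := by
  classical
  intro u hu
  by_contra hne
  have huω : u • ω = ω := hu
  have hγα : u • α ≠ α := by
    intro h
    apply hne
    rw [h, hkα]
  -- the kernel on the orbit, as a normal subgroup of the point stabilizer
  let K' : Subgroup (stabilizer G α) :=
    { carrier := {h | ∀ s ∈ stabilizer G α, (h : G) • (s • ω) = s • ω}
      mul_mem' := by
        intro a b ha hb s hs
        simp only [Subgroup.coe_mul, mul_smul]
        rw [hb s hs, ha s hs]
      one_mem' := by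
        intro s _
        simp
      inv_mem' := by
        intro a ha s hs
        simp only [Subgroup.coe_inv]
        rw [inv_smul_eq_iff, ha s hs] }
  have hK'n : K'.Normal := by
    constructor
    intro a ha g s hs
    have hg : ((g : G)⁻¹ * s) ∈ stabilizer G α := (stabilizer G α).mul_mem ((stabilizer G α).inv_mem g.2) hs
    have := ha _ hg
    simp only [mul_smul] at this
    simp only [Subgroup.coe_mul, Subgroup.coe_inv, mul_smul]
    rw [this]
    simp
  have hprim := hep α (u • α)
  have hq : IsQuasiPreprimitive (stabilizer G α) (orbit (stabilizer G α) (u • α)) := inferInstance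
  have hγmem : (u • α) ∈ orbit (stabilizer G α) (u • α) := mem_orbit_self _
  have htrans : IsPretransitive K' (orbit (stabilizer G α) (u • α)) := by
    apply hq.isPretransitive_of_normal
    intro hfix
    have hmem : (⟨u • α, hγmem⟩ : orbit (stabilizer G α) (u • α)) ∈
        fixedPoints K' (orbit (stabilizer G α) (u • α)) := by
      rw [hfix]; trivial
    have h1 := hmem ⟨⟨k, hkα⟩, hk⟩
    apply hne
    exact congrArg Subtype.val h1
  let L : Subgroup G :=
    { carrier := {g | ∀ s ∈ stabilizer G α, ∃ s' ∈ stabilizer G α, g • (s • ω) = s' • ω}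
      mul_mem' := by
        intro a b ha hb s hs
        obtain ⟨s', hs', h1⟩ := hb s hs
        obtain ⟨s'', hs'', h2⟩ := ha s' hs'
        exact ⟨s'', hs'', by rw [mul_smul, h1, h2]⟩
      one_mem' := by
        intro s hs
        exact ⟨s, hs, by simp⟩
      inv_mem' := by
        intro a ha
        have hpow : ∀ n : ℕ, ∀ s ∈ stabilizer G α, ∃ s' ∈ stabilizer G α, a ^ n • (s • ω) = s' • ω := by
          intro n
          induction n with
          | zero => intro s hs; exact ⟨s, hs, by simp⟩
          | succ n ih =>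
            intro s hs
            obtain ⟨s', hs', h1⟩ := ih s hs
            obtain ⟨s'', hs'', h2⟩ := ha s' hs'
            exact ⟨s'', hs'', by rw [pow_succ', mul_smul, h1, h2]⟩
        have hinv : a⁻¹ = a ^ (orderOf a - 1) := by
          apply inv_eq_of_mul_eq_one_right
          rw [← pow_succ', Nat.sub_add_cancel (orderOf_pos a), pow_orderOf_eq_one]
        intro s hs
        rw [hinv]
        exact hpow _ s hs }
  have hL1 : stabilizer G α ≤ L := by
    intro a ha s hs
    exact ⟨a * s, (stabilizer G α).mul_mem ha hs, by rw [mul_smul]⟩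
  have hL2 : u⁻¹ ∈ L := by
    intro h hh
    -- `h⁻¹ • γ` lies in the orbit
    have hmem : (h⁻¹ • (u • α)) ∈ orbit (stabilizer G α) (u • α) :=
      ⟨⟨h⁻¹, (stabilizer G α).inv_mem hh⟩, rfl⟩
    obtain ⟨κ, hκ⟩ := htrans.exists_smul_eq ⟨u • α, hγmem⟩ ⟨_, hmem⟩
    have hκ' : ((κ : stabilizer G α) : G) • (u • α) = h⁻¹ • (u • α) := congrArg Subtype.val hκ
    have hκω : ((κ : stabilizer G α) : G) • ω = ω := by
      have := κ.2 1 (one_mem _)
      simpa using this
    refine ⟨u⁻¹ * h * κ * u, ?_, ?_⟩
    · change (u⁻¹ * h * κ * u) • α = α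
      simp only [mul_smul]
      rw [hκ']
      simp
    · simp only [mul_smul]
      rw [huω, hκω]
  have hL3 : u⁻¹ ∉ stabilizer G α := by
    intro h
    apply hγα
    have h1 : u⁻¹ • α = α := h
    rw [inv_smul_eq_iff] at h1
    exact h1.symm
  have hLtop : L = ⊤ := (hcoat α).2 L (lt_of_le_of_ne hL1 (fun h => hL3 (h ▸ hL2)))
  obtain ⟨g, hg⟩ := MulAction.exists_smul_eq G ω α
  have hgL : g ∈ L := by rw [hLtop]; trivial
  obtain ⟨s', hs', h1⟩ := hgL 1 (one_mem _)
  rw [one_smul, hg] at h1
  apply hω
  have h2 : s' • α = α := hs'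
  exact smul_left_cancel s' (h1.symm.trans h2.symm)

open MulAction in
theorem stabilizer_not_le {G : Type*} [Group G] [Finite G] {Ω : Type*} [MulAction G Ω]
    [FaithfulSMul G Ω] [IsPretransitive G Ω]
    (hcoat : ∀ x : Ω, IsCoatom (stabilizer G x))
    {α ω : Ω} (hω : ω ≠ α) (hH : stabilizer G α ≠ ⊥) :
    ¬ stabilizer G ω ≤ stabilizer G α := by
  intro hle
  obtain ⟨g, hg⟩ := MulAction.exists_smul_eq G α ω
  have hstab : stabilizer G ω = (stabilizer G α).map (MulAut.conj g).toMonoidHom := by
    rw [← hg]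
    exact stabilizer_smul_eq_stabilizer_map_conj g α
  have heq : stabilizer G ω = stabilizer G α := by
    apply Subgroup.eq_of_le_of_card_ge hle
    rw [hstab, Subgroup.card_map_of_injective (MulEquiv.injective _)]
  have hgN : g ∈ Subgroup.normalizer (stabilizer G α : Set G) := by
    rw [Subgroup.mem_normalizer_iff]
    intro s
    change s ∈ stabilizer G α ↔ g * s * g⁻¹ ∈ stabilizer G α
    rw [show (g * s * g⁻¹ ∈ stabilizer G α) ↔ (g * s * g⁻¹ ∈ stabilizer G ω) by rw [heq]]
    rw [mem_stabilizer_iff, mem_stabilizer_iff, ← hg]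
    simp only [mul_smul, inv_smul_smul, smul_left_cancel_iff]
  have hgH : g ∉ stabilizer G α := by
    intro h
    apply hω
    rw [← hg]
    exact h
  have hle2 : stabilizer G α ≤ Subgroup.normalizer (stabilizer G α : Set G) :=
    Subgroup.le_normalizer
  have htop : Subgroup.normalizer (stabilizer G α : Set G) = ⊤ :=
    (hcoat α).2 _ (lt_of_le_of_ne hle2 (fun h => hgH (h ▸ hgN)))
  apply hH
  rw [eq_bot_iff]
  intro s hs
  rw [Subgroup.mem_bot]
  apply FaithfulSMul.eq_of_smul_eq_smul (α := Ω)
  intro x
  obtain ⟨c, rfl⟩ := MulAction.exists_smul_eq G α x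
  have hc : c ∈ Subgroup.normalizer (stabilizer G α : Set G) := by rw [htop]; trivial
  have h1 : c⁻¹ * s * c⁻¹⁻¹ ∈ stabilizer G α :=
    (Subgroup.mem_normalizer_iff.mp ((Subgroup.normalizer _).inv_mem hc) s).mp hs
  have h2 : (c⁻¹ * s * c⁻¹⁻¹) • α = α := h1
  simp only [inv_inv, mul_smul, inv_smul_eq_iff] at h2
  rw [one_smul, h2]

/-- Manning's Theorem on extremely primitive groups. Let a finite group G act faithfully and primitively on a finite set Ω with non-trivial point stabilizers, and suppose every point stabilizer G_α acts primitively on each of its orbits. Then G_α acts faithfully on each of its orbits other than {α}: an element of G_α fixing every point of one such orbit is the identity. -/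
theorem result {G : Type*} [Group G] [Finite G] {Ω : Type*} [Fintype Ω] [MulAction G Ω] [FaithfulSMul G Ω] (hprim : MulAction.IsPreprimitive G Ω) (hH : ∀ α : Ω, MulAction.stabilizer G α ≠ ⊥) (hep : ∀ (α : Ω) (ω : Ω), MulAction.IsPreprimitive (MulAction.stabilizer G α) (MulAction.orbit (MulAction.stabilizer G α) ω))
    (α ω : Ω) (hω : ω ≠ α) (h : MulAction.stabilizer G α) (hfix : ∀ x ∈ MulAction.orbit (MulAction.stabilizer G α) ω, h • x = x) : h = 1 := by
  classical
  have hT : MulAction.IsPretransitive G Ω := hprim.toIsPretransitive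
  have hnt : Nontrivial Ω := ⟨⟨ω, α, hω⟩⟩
  have hcoat : ∀ x : Ω, IsCoatom (MulAction.stabilizer G x) := fun x =>
    (MulAction.isCoatom_stabilizer_iff_preprimitive G x).mpr hprim
  let K : Subgroup G :=
    { carrier := {k | k • α = α ∧ ∀ s ∈ MulAction.stabilizer G α, k • (s • ω) = s • ω}
      mul_mem' := by
        rintro a b ⟨ha, ha'⟩ ⟨hb, hb'⟩
        refine ⟨by rw [mul_smul, hb, ha], ?_⟩
        intro s hs
        rw [mul_smul, hb' s hs, ha' s hs]
      one_mem' := ⟨by simp, by simp⟩
      inv_mem' := by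
        rintro a ⟨ha, ha'⟩
        refine ⟨by rw [inv_smul_eq_iff, ha], ?_⟩
        intro s hs
        rw [inv_smul_eq_iff, ha' s hs] }
  have hmem2 : ∀ k : G, k ∈ K ↔ k • ω = ω ∧ ∀ u ∈ MulAction.stabilizer G ω, k • (u • α) = u • α := by
    intro k
    constructor
    · rintro ⟨h1, h2⟩
      have h3 := h2 1 (one_mem _)
      rw [one_smul] at h3
      exact ⟨h3, claim hcoat hep hω h1 h2⟩
    · rintro ⟨h1, h2⟩
      have h3 := h2 1 (one_mem _)
      rw [one_smul] at h3
      exact ⟨h3, claim hcoat hep hω.symm h1 h2⟩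
  have hN1 : MulAction.stabilizer G α ≤ Subgroup.normalizer (K : Set G) := by
    intro g hg
    rw [Subgroup.mem_normalizer_iff]
    intro k
    have hg' : g • α = α := hg
    have key : ∀ g ∈ MulAction.stabilizer G α, ∀ k ∈ K, g * k * g⁻¹ ∈ K := by
      rintro g hg k ⟨h1, h2⟩
      have hg' : g • α = α := hg
      have hgi : g⁻¹ • α = α := by rw [inv_smul_eq_iff, hg']
      refine ⟨by simp only [mul_smul]; rw [hgi, h1, hg'], ?_⟩
      intro s hs
      simp only [mul_smul]
      have hs' := (MulAction.stabilizer G α).mul_mem ((MulAction.stabilizer G α).inv_mem hg) hs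
      have := h2 _ hs'
      simp only [mul_smul] at this
      rw [this, smul_inv_smul]
    constructor
    · exact key g hg k
    · intro h
      have := key g⁻¹ ((MulAction.stabilizer G α).inv_mem hg) _ h
      simpa [mul_assoc] using this
  have hN2 : MulAction.stabilizer G ω ≤ Subgroup.normalizer (K : Set G) := by
    intro g hg
    rw [Subgroup.mem_normalizer_iff]
    intro k
    have key : ∀ g ∈ MulAction.stabilizer G ω, ∀ k ∈ K, g * k * g⁻¹ ∈ K := by
      intro g hg k hk
      rw [hmem2] at hk ⊢
      obtain ⟨h1, h2⟩ := hk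
      have hg' : g • ω = ω := hg
      have hgi : g⁻¹ • ω = ω := by rw [inv_smul_eq_iff, hg']
      refine ⟨by simp only [mul_smul]; rw [hgi, h1, hg'], ?_⟩
      intro s hs
      simp only [mul_smul]
      have hs' := (MulAction.stabilizer G ω).mul_mem ((MulAction.stabilizer G ω).inv_mem hg) hs
      have := h2 _ hs'
      simp only [mul_smul] at this
      rw [this, smul_inv_smul]
    constructor
    · exact key g hg k
    · intro h
      have := key g⁻¹ ((MulAction.stabilizer G ω).inv_mem hg) _ h
      simpa [mul_assoc] using this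
  have hnle := stabilizer_not_le hcoat hω (hH α)
  have htop : Subgroup.normalizer (K : Set G) = ⊤ :=
    (hcoat α).2 _ (lt_of_le_of_ne hN1 (fun he => hnle (he ▸ hN2)))
  have hhK : (h : G) ∈ K := by
    refine ⟨h.2, ?_⟩
    intro s hs
    exact hfix _ ⟨⟨s, hs⟩, rfl⟩
  apply Subtype.ext
  apply FaithfulSMul.eq_of_smul_eq_smul (α := Ω)
  intro x
  obtain ⟨c, rfl⟩ := MulAction.exists_smul_eq G α x
  have hc : c⁻¹ ∈ Subgroup.normalizer (K : Set G) := by rw [htop]; trivial
  have h1 : c⁻¹ * h * c⁻¹⁻¹ ∈ K := (Subgroup.mem_normalizer_iff.mp hc h).mp hhK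
  have h2 := h1.1
  simp only [inv_inv, mul_smul, inv_smul_eq_iff] at h2
  simp only [OneMemClass.coe_one, one_smul]
  exact h2

end Cfsg.Agent.S3494
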