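import Cfsg.Statements.S3495
import Mathlib
import Cfsg.Agent.S3494
import Cfsg.Agent.Lib.Derangement.Basic

set_option autoImplicit false
open Cfsg

namespace Cfsg.Agent.S3495

/-- Let a finite group G act faithfully and primitively on a finite set Ω with non-trivial point stabilizers, each acting primitively on every one of its orbits (an extremely primitive group), and suppose G has an elementary abelian normal p-subgroup N acting regularly on Ω (affine type). Then every non-trivial subgroup M of a point stabilizer G_α that is normal in G_α has the same orbits on Ω as G_α, and normalizes no subgroup of N other than 1 and N. -/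
theorem result {G : Type*} [Group G] [Finite G] {Ω : Type*} [Fintype Ω] [MulAction G Ω] [FaithfulSMul G Ω] (hprim : MulAction.IsPreprimitive G Ω) (hH : ∀ α : Ω, MulAction.stabilizer G α ≠ ⊥) (hep : ∀ (α : Ω) (ω : Ω), MulAction.IsPreprimitive (MulAction.stabilizer G α) (MulAction.orbit (MulAction.stabilizer G α) ω))
    (N : Subgroup G) [N.Normal] (hNc : IsMulCommutative N) (p : ℕ) (hp : p.Prime) (hNp : ∀ n ∈ N, n ^ p = 1)
    (hNtr : MulAction.IsPretransitive N Ω) (hNreg : ∀ ω : Ω, MulAction.stabilizer N ω = ⊥) (α : Ω) (M : Subgroup G) (hM : M ≠ ⊥) (hMle : M ≤ MulAction.stabilizer G α)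
    (hMn : MulAction.stabilizer G α ≤ Subgroup.normalizer (M : Set G)) :
    (∀ ω : Ω, MulAction.orbit M ω = MulAction.orbit (MulAction.stabilizer G α) ω) ∧
    (∀ L : Subgroup G, L ≤ N → M ≤ Subgroup.normalizer (L : Set G) → L = ⊥ ∨ L = N) := by
  classical
  have hM'n : (M.subgroupOf (MulAction.stabilizer G α)).Normal := by
    constructor
    intro a ha g
    rw [Subgroup.mem_subgroupOf] at ha ⊢
    have hg : (g : G) ∈ Subgroup.normalizer (M : Set G) := hMn g.2
    have := (Subgroup.mem_normalizer_iff.mp hg a).mp ha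
    simpa using this
  have horb : ∀ ω : Ω, MulAction.orbit M ω = MulAction.orbit (MulAction.stabilizer G α) ω := by
    intro ω
    apply Set.Subset.antisymm
    · rintro _ ⟨m, rfl⟩
      exact ⟨⟨m, hMle m.2⟩, rfl⟩
    · rintro _ ⟨h, rfl⟩
      by_cases hω : ω = α
      · subst hω
        refine ⟨1, ?_⟩
        have h1 : (h : G) • ω = ω := h.2
        change (1 : G) • ω = (h : G) • ω
        rw [one_smul, h1]
      · have hprim' := hep α ω
        have hq : MulAction.IsQuasiPreprimitive (MulAction.stabilizer G α)
          (MulAction.orbit (MulAction.stabilizer G α) ω) := inferInstance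
        have hωmem : ω ∈ MulAction.orbit (MulAction.stabilizer G α) ω := MulAction.mem_orbit_self _
        have htrans : MulAction.IsPretransitive (M.subgroupOf (MulAction.stabilizer G α))
            (MulAction.orbit (MulAction.stabilizer G α) ω) := by
          apply hq.isPretransitive_of_normal
          intro hfix
          apply hM
          rw [eq_bot_iff]
          intro m hm
          rw [Subgroup.mem_bot]
          have hm' : (⟨m, hMle hm⟩ : MulAction.stabilizer G α) = 1 := by
            apply Cfsg.Agent.S3494.result hprim hH hep α ω hω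
            intro x hx
            have hmem : (⟨x, hx⟩ : MulAction.orbit (MulAction.stabilizer G α) ω) ∈
                MulAction.fixedPoints (M.subgroupOf (MulAction.stabilizer G α))
                  (MulAction.orbit (MulAction.stabilizer G α) ω) := by
              rw [hfix]; trivial
            have h1 := hmem ⟨⟨m, hMle hm⟩, by rw [Subgroup.mem_subgroupOf]; exact hm⟩
            exact congrArg Subtype.val h1
          exact congrArg Subtype.val hm'
        have hy : h • ω ∈ MulAction.orbit (MulAction.stabilizer G α) ω := ⟨h, rfl⟩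
        obtain ⟨κ, hκ⟩ := htrans.exists_smul_eq ⟨ω, hωmem⟩ ⟨_, hy⟩
        have hκ' : ((κ : MulAction.stabilizer G α) : G) • ω = h • ω := congrArg Subtype.val hκ
        exact ⟨⟨_, κ.2⟩, hκ'⟩
  refine ⟨horb, ?_⟩
  intro L hLN hML
  have hreg : ∀ x ∈ N, ∀ y ∈ N, x • α = y • α → x = y := by
    intro x hx y hy h
    have h1 : (⟨x⁻¹ * y, N.mul_mem (N.inv_mem hx) hy⟩ : N) ∈ MulAction.stabilizer N α := by
      change (x⁻¹ * y) • α = α
      rw [mul_smul, ← h, inv_smul_smul]
    rw [hNreg α, Subgroup.mem_bot] at h1
    have h2 : x⁻¹ * y = 1 := congrArg Subtype.val h1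
    rw [inv_mul_eq_one] at h2
    exact h2
  have hNab : ∀ x ∈ N, ∀ y ∈ N, x * y = y * x := by
    intro x hx y hy
    have := hNc.is_comm.comm ⟨x, hx⟩ ⟨y, hy⟩
    exact congrArg Subtype.val this
  -- `H_α` normalizes `L`
  have hstep : ∀ h ∈ MulAction.stabilizer G α, ∀ n ∈ L, h * n * h⁻¹ ∈ L := by
    intro h hh n hn
    have hy : h • (n • α) ∈ MulAction.orbit M (n • α) := by
      rw [horb]
      exact ⟨⟨h, hh⟩, rfl⟩
    obtain ⟨m, hm⟩ := hy
    have hm' : (m : G) • (n • α) = h • (n • α) := hm
    have hhα : h⁻¹ • α = α := by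
      rw [inv_smul_eq_iff]; exact (show h • α = α from hh).symm
    have hmα : (m : G)⁻¹ • α = α := by
      rw [inv_smul_eq_iff]; exact (show (m : G) • α = α from hMle m.2).symm
    have hnN := hLN hn
    have heq : h * n * h⁻¹ = (m : G) * n * (m : G)⁻¹ := by
      apply hreg _ ((inferInstance : N.Normal).conj_mem n hnN h) _
        ((inferInstance : N.Normal).conj_mem n hnN m)
      simp only [mul_smul, hhα, hmα, hm']
    rw [heq]
    exact (Subgroup.mem_normalizer_iff.mp (hML m.2) n).mp hn
  have hnorm : L.Normal := by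
    constructor
    intro n hn g
    obtain ⟨k, hk⟩ := hNtr.exists_smul_eq α (g • α)
    have hk' : (k : G) • α = g • α := hk
    have hh : (k : G)⁻¹ * g ∈ MulAction.stabilizer G α := by
      change ((k : G)⁻¹ * g) • α = α
      rw [mul_smul, ← hk', inv_smul_smul]
    have h1 := hstep _ hh n hn
    have h2 := hNab k k.2 _ (hLN h1)
    have h3 : g * n * g⁻¹ = (k : G)⁻¹ * g * n * ((k : G)⁻¹ * g)⁻¹ := by
      have h4 : (k : G) * ((k : G)⁻¹ * g * n * ((k : G)⁻¹ * g)⁻¹) * (k : G)⁻¹ = g * n * g⁻¹ := by
        group
      rw [← h4, h2]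
      group
    rw [h3]
    exact h1
  by_cases hLb : L = ⊥
  · exact Or.inl hLb
  · right
    apply le_antisymm hLN
    intro n hn
    have TL := Cfsg.Agent.Lib.Derangement.trans_of_normal (Ω := Ω) hLb
    obtain ⟨l, hl, hl2⟩ := TL α (n • α)
    rw [hreg n hn l (hLN hl) hl2.symm]
    exact hl

end Cfsg.Agent.S3495
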