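import Cfsg.Statements.S3496
import Mathlib
import Cfsg.Agent.S3494
import Cfsg.Agent.Lib.ExtPrim.Basic
import Cfsg.Agent.Lib.ExtPrim.Field
import Cfsg.Agent.Lib.Core.MinNormal
import Cfsg.Agent.Lib.Core.MinNormal2
import Cfsg.Agent.Lib.Coprime.SZ
import Cfsg.Agent.Lib.Hall.FPFAction

set_option autoImplicit false
open Cfsg

namespace Cfsg.Agent.S3496

open MulAction in
/-- A nontrivial normal subgroup of a point stabilizer is transitive on each non-trivial orbit. -/
theorem norm_trans {G : Type*} [Group G] [Finite G] {Ω : Type*} [Fintype Ω] [MulAction G Ω]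
    [FaithfulSMul G Ω] (hprim : IsPreprimitive G Ω) (hH : ∀ α : Ω, stabilizer G α ≠ ⊥)
    (hep : ∀ (α : Ω) (ω : Ω), IsPreprimitive (stabilizer G α) (orbit (stabilizer G α) ω))
    {α ω : Ω} (hω : ω ≠ α) (N : Subgroup (stabilizer G α)) [hNn : N.Normal] (hN : N ≠ ⊥)
    (h : stabilizer G α) : ∃ x ∈ N, x • ω = h • ω := by
  classical
  haveI := hep α ω
  let a : orbit (stabilizer G α) ω := ⟨ω, mem_orbit_self ω⟩
  have hb : IsBlock (stabilizer G α) (orbit N a) := IsBlock.orbit_of_normal a
  rcases IsPreprimitive.isTrivialBlock_of_isBlock hb with hs | hu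
  · exfalso
    apply hN
    rw [eq_bot_iff]
    intro x hx
    rw [Subgroup.mem_bot]
    apply Cfsg.Agent.S3494.result hprim hH hep α ω hω x
    rintro _ ⟨k, rfl⟩
    have h1 : (k⁻¹ * x * k) ∈ N := by
      have := hNn.conj_mem x hx k⁻¹
      simpa using this
    have h2 : ((⟨k⁻¹ * x * k, h1⟩ : N) • a) = a := hs (mem_orbit _ _) (mem_orbit_self a)
    have h3 : (k⁻¹ * x * k) • ω = ω := congrArg Subtype.val h2
    show x • (k • ω) = k • ω
    have h4 : x • (k • ω) = k • ((k⁻¹ * x * k) • ω) := by
      rw [smul_smul, smul_smul]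
      congr 1
      group
    rw [h4, h3]
  · have h1 : (h • a) ∈ orbit N a := by rw [hu]; trivial
    obtain ⟨⟨x, hx⟩, hxe⟩ := h1
    exact ⟨x, hx, congrArg Subtype.val hxe⟩

/-- Count of the complement of a point in a finite type. -/
theorem card_ne_sub {X : Type*} [Finite X] (x : X) : Nat.card {y : X // y ≠ x} = Nat.card X - 1 := by
  classical
  haveI := Fintype.ofFinite X
  rw [Nat.card_eq_fintype_card, Nat.card_eq_fintype_card]
  exact Set.card_ne_eq x


/-- The soluble extremely primitive groups. Let a finite solvable group G act faithfully and primitively on a finite set Ω with p ^ d points (p prime), with non-trivial point stabilizers each acting primitively on every one of its orbits. Then there is a prime q such that every orbit of a point stabilizer G_α other than {α} has exactly q points, q divides p ^ d − 1 but no p ^ i − 1 with 0 < i < d, and G_α has a normal subgroup T of order q with G_α generated by T and one further element and the order of G_α dividing q·d (so G_α is cyclic of order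 q, or an extension of T by a cyclic group of order dividing d). -/
theorem result {G : Type*} [Group G] [Finite G] {Ω : Type*} [Fintype Ω] [MulAction G Ω] [FaithfulSMul G Ω] [Group.IsSolvable G] (p d : ℕ) (hp : p.Prime) (hcard : Fintype.card Ω = p ^ d)
    (hprim : MulAction.IsPreprimitive G Ω) (hH : ∀ α : Ω, MulAction.stabilizer G α ≠ ⊥) (hep : ∀ (α : Ω) (ω : Ω), MulAction.IsPreprimitive (MulAction.stabilizer G α) (MulAction.orbit (MulAction.stabilizer G α) ω)) (α : Ω) :
    ∃ q : ℕ, q.Prime ∧ (∀ ω : Ω, ω ≠ α → Nat.card (MulAction.orbit (MulAction.stabilizer G α) ω) = q) ∧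
      q ∣ p ^ d - 1 ∧ (∀ i : ℕ, 0 < i → i < d → ¬ q ∣ p ^ i - 1) ∧
      ∃ T : Subgroup G, T ≤ MulAction.stabilizer G α ∧ MulAction.stabilizer G α ≤ Subgroup.normalizer (T : Set G) ∧ Nat.card T = q ∧
        (∃ h : G, MulAction.stabilizer G α = T ⊔ Subgroup.zpowers h) ∧ Nat.card (MulAction.stabilizer G α) ∣ q * d := by
  classical
  haveI hT : MulAction.IsPretransitive G Ω := hprim.toIsPretransitive
  haveI := hprim
  have hnt : Nontrivial (MulAction.stabilizer G α) :=
    (Subgroup.nontrivial_iff_ne_bot _).mpr (hH α)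
  obtain ⟨ω₀, hω₀⟩ : ∃ ω : Ω, ω ≠ α := by
    obtain ⟨⟨h, hh⟩, hne⟩ := exists_ne (1 : MulAction.stabilizer G α)
    have hh1 : h ≠ 1 := fun h' => hne (Subtype.ext h')
    by_contra hcon
    push Not at hcon
    apply hh1
    apply FaithfulSMul.eq_of_smul_eq_smul (α := Ω)
    intro x
    rw [hcon x, one_smul]
    exact hh
  haveI hGnt : Nontrivial G := by
    obtain ⟨⟨h, hh⟩, hne⟩ := exists_ne (1 : MulAction.stabilizer G α)
    exact ⟨⟨h, 1, fun e => hne (Subtype.ext e)⟩⟩
  haveI : Nonempty Ω := ⟨α⟩
  -- the socle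
  obtain ⟨V, hVn, hV1, -, hVmin⟩ := Cfsg.Agent.Lib.Core.exists_minimal_normal_le (G := G) (K := ⊤)
    inferInstance top_ne_bot
  haveI := hVn
  obtain ⟨hVab, r, hr, hrexp⟩ := Cfsg.Agent.Lib.Core.minimal_normal_elementary V hV1 hVmin
  haveI := hVab
  have hab : ∀ x ∈ V, ∀ y ∈ V, x * y = y * x := by
    intro x hx y hy
    exact congrArg Subtype.val (mul_comm' (⟨x, hx⟩ : V) ⟨y, hy⟩)
  letI iV : CommGroup V := { (inferInstance : Group V) with
    mul_comm := fun a b => Subtype.ext (hab a a.2 b b.2) }
  have hnil : Group.IsNilpotent V := CommGroup.isNilpotent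
  haveI hVnt : Nontrivial V := (Subgroup.nontrivial_iff_ne_bot V).mpr hV1
  obtain ⟨-, -, htr⟩ := Cfsg.Agent.Lib.ExtPrim.nilpotent_normal_structure (X := Ω) hV1 hnil
  have hreg : ∀ v ∈ V, ∀ ω : Ω, v • ω = ω → v = 1 := fun v hv ω h =>
    Cfsg.Agent.Lib.Derangement.eq_one_of_commute_of_fix htr (fun s hs => hab v hv s hs) h
  have hcV : Nat.card V = p ^ d := by
    rw [← hcard, ← Nat.card_eq_fintype_card]
    refine Nat.card_congr (Equiv.ofBijective (fun v : V => (v : G) • α) ⟨?_, ?_⟩)
    · intro a b hab'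
      have h1 : (a : G) • α = (b : G) • α := hab'
      have h2 : ((b : G)⁻¹ * a) • α = α := by rw [mul_smul, h1, inv_smul_smul]
      have h3 := hreg _ (V.mul_mem (V.inv_mem b.2) a.2) α h2
      rw [inv_mul_eq_one] at h3
      exact Subtype.ext h3.symm
    · intro ω
      obtain ⟨v, hv, he⟩ := htr α ω
      exact ⟨⟨v, hv⟩, he⟩
  -- fixed points and commutation
  have hfixcomm : ∀ x ∈ MulAction.stabilizer G α, ∀ v ∈ V, x • (v • α) = v • α ↔ x * v = v * x := by
    intro x hx v hv
    have hxα : x • α = α := hx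
    constructor
    · intro h
      have hc : x * v * x⁻¹ ∈ V := hVn.conj_mem v hv x
      have hxi : x⁻¹ • α = α := by
        rw [inv_smul_eq_iff, hxα]
      have h1 : (v⁻¹ * (x * v * x⁻¹)) • α = α := by
        rw [mul_smul, mul_smul, mul_smul, hxi, h, inv_smul_smul]
      have h2 := hreg _ (V.mul_mem (V.inv_mem hv) hc) α h1
      have h3 : x * v * x⁻¹ = v := by
        rw [inv_mul_eq_one] at h2
        exact h2.symm
      calc x * v = x * v * x⁻¹ * x := by group
        _ = v * x := by rw [h3]
    · intro h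
      rw [← mul_smul, h, mul_smul, hxα]
  have hcinj : ∀ z ∈ MulAction.stabilizer G α, (∀ v ∈ V, z * v = v * z) → z = 1 := by
    intro z hz hc
    exact Cfsg.Agent.Lib.Derangement.eq_one_of_commute_of_fix htr hc hz
  -- a minimal normal subgroup of the stabilizer
  obtain ⟨N, hNn, hN1, -, hNmin⟩ := Cfsg.Agent.Lib.Core.exists_minimal_normal_le
    (G := MulAction.stabilizer G α) (K := ⊤) inferInstance top_ne_bot
  haveI := hNn
  obtain ⟨hNab, q, hq, hqexp⟩ := Cfsg.Agent.Lib.Core.minimal_normal_elementary N hN1 hNmin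
  have hNc : ∀ x ∈ N, ∀ y ∈ N, x * y = y * x := by
    intro x hx y hy
    exact congrArg Subtype.val (mul_comm' (⟨x, hx⟩ : N) ⟨y, hy⟩)
  have htrN : ∀ ω : Ω, ω ≠ α → ∀ h : MulAction.stabilizer G α, ∃ x ∈ N, x • ω = h • ω :=
    fun ω hω h => norm_trans hprim hH hep hω N hN1 h
  have hcomfix : ∀ ω : Ω, ω ≠ α → ∀ y : MulAction.stabilizer G α, y • ω = ω →
      (∀ x ∈ N, y * x = x * y) → y = 1 := by
    intro ω hω y hy hc
    apply Cfsg.Agent.S3494.result hprim hH hep α ω hω y
    rintro _ ⟨k, rfl⟩
    obtain ⟨a, ha, he⟩ := htrN ω hω k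
    show y • (k • ω) = k • ω
    rw [← he, smul_smul, hc a ha, mul_smul, hy]
  have hfree : ∀ ω : Ω, ω ≠ α → ∀ x ∈ N, x • ω = ω → x = 1 :=
    fun ω hω x hx hfx => hcomfix ω hω x hfx (fun y hy => hNc x hx y hy)
  -- the action on the socle is fixed point free
  let N' : Subgroup G := N.map (MulAction.stabilizer G α).subtype
  have hN'ab : IsMulCommutative N' := by
    refine ⟨⟨?_⟩⟩
    rintro ⟨_, x, hx, rfl⟩ ⟨_, y, hy, rfl⟩
    exact Subtype.ext (show (x : G) * (y : G) = (y : G) * (x : G) from congrArg Subtype.val (hNc x hx y hy))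
  have hfpf : ∀ a ∈ N', a ≠ 1 → V ⊓ Subgroup.centralizer {a} = ⊥ := by
    rintro _ ⟨x, hx, rfl⟩ hne
    rw [eq_bot_iff]
    rintro v ⟨hvV, hvc⟩
    rw [Subgroup.mem_bot]
    by_contra hv1
    have hω : v • α ≠ α := fun h => hv1 (hreg v hvV α h)
    have hcomm : (x : G) * v = v * x := by
      have := Subgroup.mem_centralizer_iff.mp hvc (x : G) (Set.mem_singleton _)
      exact this
    have hfx : x • (v • α) = v • α := (hfixcomm x x.2 v hvV).mpr hcomm
    have h1 := hfree _ hω x hx hfx
    apply hne
    rw [h1]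
    rfl
  have hcy : IsCyclic N' := Cfsg.Agent.Lib.Hall.isCyclic_of_fpf N' V hV1
    (by
      intro a _
      rw [Subgroup.mem_normalizer_iff]
      intro n
      constructor
      · exact fun hn => hVn.conj_mem n hn a
      · intro hn
        have := hVn.conj_mem _ hn a⁻¹
        simpa [mul_assoc] using this) hfpf (Or.inl hN'ab)
  have hcN'N : Nat.card N' = Nat.card N :=
    (Nat.card_congr (N.equivMapOfInjective _ (Subgroup.subtype_injective _)).toEquiv).symm
  have hcN : Nat.card N = q := by
    obtain ⟨g, hg⟩ := IsCyclic.exists_generator (α := N')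
    have h2 : orderOf g = Nat.card N' := orderOf_eq_card_of_forall_mem_zpowers hg
    have h3 : g ^ q = 1 := by
      obtain ⟨g0, hg0⟩ := g
      obtain ⟨x, hx, rfl⟩ := hg0
      apply Subtype.ext
      have h6 := congrArg Subtype.val (hqexp x hx)
      simpa using h6
    have h4 := orderOf_dvd_of_pow_eq_one h3
    rw [h2, hcN'N] at h4
    have h5 : Nat.card N ≠ 1 := by
      intro h
      apply hN1
      exact (Subgroup.eq_bot_iff_card N).mpr h
    exact ((Nat.dvd_prime hq).mp h4).resolve_left h5
  haveI hfq : Fact q.Prime := ⟨hq⟩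
  have hPN : IsPGroup q N := IsPGroup.of_card (n := 1) (by rw [hcN, pow_one])
  have horb : ∀ ω : Ω, ω ≠ α → Nat.card (MulAction.orbit (MulAction.stabilizer G α) ω) = q := by
    intro ω hω
    rw [← hcN]
    symm
    apply Nat.card_congr
    refine Equiv.ofBijective (fun x : N => ⟨(x : MulAction.stabilizer G α) • ω, MulAction.mem_orbit _ _⟩)
      ⟨?_, ?_⟩
    · intro a b hab'
      have h1 : (a : MulAction.stabilizer G α) • ω = (b : MulAction.stabilizer G α) • ω :=
        congrArg Subtype.val hab'
      have h2 : ((b : MulAction.stabilizer G α)⁻¹ * a) • ω = ω := by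
        rw [mul_smul, h1, inv_smul_smul]
      have h3 := hfree ω hω _ (N.mul_mem (N.inv_mem b.2) a.2) h2
      rw [inv_mul_eq_one] at h3
      exact Subtype.ext h3.symm
    · rintro ⟨_, k, rfl⟩
      obtain ⟨x, hx, he⟩ := htrN ω hω k
      exact ⟨⟨x, hx⟩, Subtype.ext he⟩
  have hcompl : ∀ ω : Ω, ω ≠ α → Subgroup.IsComplement' N
      (MulAction.stabilizer (MulAction.stabilizer G α) ω) := by
    intro ω hω
    apply Subgroup.isComplement'_of_disjoint_and_mul_eq_univ
    · rw [Subgroup.disjoint_def]
      intro x hx hx2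
      exact hfree ω hω x hx hx2
    · ext k
      simp only [Set.mem_univ, iff_true]
      obtain ⟨x, hx, he⟩ := htrN ω hω k
      refine Set.mem_mul.mpr ⟨x, hx, x⁻¹ * k, ?_, by group⟩
      show (x⁻¹ * k) • ω = ω
      rw [mul_smul, ← he, inv_smul_smul]
  -- the complement
  let K : Subgroup (MulAction.stabilizer G α) := MulAction.stabilizer (MulAction.stabilizer G α) ω₀
  have hK0 : Subgroup.IsComplement' N K := hcompl ω₀ hω₀
  have hcK : Nat.card N * Nat.card K = Nat.card (MulAction.stabilizer G α) := hK0.card_mul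
  let ψ : K →* MulAut N := (MulAut.conjNormal (H := N)).comp K.subtype
  have hψ : Function.Injective ψ := by
    rw [injective_iff_map_eq_one]
    rintro ⟨y, hy⟩ hψy
    apply Subtype.ext
    apply hcomfix ω₀ hω₀ y hy
    intro x hx
    have h1 := congrArg (fun e : MulAut N => ((e ⟨x, hx⟩ : N) : MulAction.stabilizer G α)) hψy
    have h2 : y * x * y⁻¹ = x := h1
    calc y * x = y * x * y⁻¹ * y := by group
      _ = x * y := by rw [h2]
  haveI hcycN : IsCyclic N := isCyclic_of_prime_card hcN
  haveI hfN : Fact (Nat.card N).Prime := ⟨by rw [hcN]; exact hq⟩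
  haveI hcycK : IsCyclic K :=
    isCyclic_of_injective ((IsCyclic.mulAutMulEquiv N).toMonoidHom.comp ψ)
      ((IsCyclic.mulAutMulEquiv N).injective.comp hψ)
  have hKdvd : Nat.card K ∣ q - 1 := by
    have h1 := Subgroup.card_dvd_of_injective ψ hψ
    rw [IsCyclic.card_mulAut N, hcN, Nat.totient_prime hq] at h1
    exact h1
  have hcop : (Nat.card N).Coprime (Nat.card K) := by
    rw [hcN, hq.coprime_iff_not_dvd]
    intro h
    have h1 : q ∣ q - 1 := h.trans hKdvd
    have h2 := Nat.le_of_dvd (by have := hq.two_le; omega) h1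
    have := hq.two_le
    omega
  obtain ⟨g, hg⟩ := IsCyclic.exists_generator (α := K)
  have hsup : MulAction.stabilizer G α = N' ⊔ Subgroup.zpowers (((g : MulAction.stabilizer G α)) : G) := by
    apply le_antisymm
    · intro x hx
      obtain ⟨a, ha, he⟩ := htrN ω₀ hω₀ ⟨x, hx⟩
      have hy : a⁻¹ * ⟨x, hx⟩ ∈ K := by
        show (a⁻¹ * ⟨x, hx⟩) • ω₀ = ω₀
        rw [mul_smul, ← he, inv_smul_smul]
      obtain ⟨n, hn⟩ := hg ⟨_, hy⟩
      have h1 : ((g ^ n : K) : MulAction.stabilizer G α) = a⁻¹ * ⟨x, hx⟩ := congrArg Subtype.val hn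
      have h2 : (g : MulAction.stabilizer G α) ^ n = a⁻¹ * ⟨x, hx⟩ := by
        rw [← h1]
        simp
      have h3 : ((g : MulAction.stabilizer G α) : G) ^ n = (a : G)⁻¹ * x := by
        have := congrArg (Subtype.val) h2
        simpa using this
      have h4 : x = (a : G) * ((g : MulAction.stabilizer G α) : G) ^ n := by
        rw [h3]
        group
      rw [h4]
      exact Subgroup.mul_mem_sup ⟨a, ha, rfl⟩ ⟨n, rfl⟩
    · apply sup_le
      · rintro _ ⟨x, -, rfl⟩
        exact x.2
      · rw [Subgroup.zpowers_le]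
        exact (g : MulAction.stabilizer G α).2
  have hNle : N' ≤ MulAction.stabilizer G α := by
    rintro _ ⟨x, -, rfl⟩
    exact x.2
  have hNnorm : MulAction.stabilizer G α ≤ Subgroup.normalizer (N' : Set G) := by
    intro h hh
    rw [Subgroup.mem_normalizer_iff]
    intro n
    constructor
    · rintro ⟨x, hx, rfl⟩
      exact ⟨_, hNn.conj_mem x hx ⟨h, hh⟩, rfl⟩
    · rintro ⟨x, hx, he⟩
      have h1 : (⟨h, hh⟩ : MulAction.stabilizer G α)⁻¹ * x * ((⟨h, hh⟩ : MulAction.stabilizer G α)⁻¹)⁻¹ ∈ N :=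
        hNn.conj_mem x hx _
      refine ⟨_, h1, ?_⟩
      have h2 : (x : G) = h * n * h⁻¹ := he
      simp [h2]
      group
  -- the representation on the socle
  let s : Set (MulAut V) := Set.range (fun x : N =>
    (MulAut.conjNormal (H := V) (((x : MulAction.stabilizer G α)) : G)))
  have hcomms : ∀ x ∈ s, ∀ y ∈ s, x * y = y * x := by
    rintro _ ⟨a, rfl⟩ _ ⟨b, rfl⟩
    show MulAut.conjNormal (H := V) (((a : MulAction.stabilizer G α)) : G) * MulAut.conjNormal (H := V) (((b : MulAction.stabilizer G α)) : G) =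
      MulAut.conjNormal (H := V) (((b : MulAction.stabilizer G α)) : G) * MulAut.conjNormal (H := V) (((a : MulAction.stabilizer G α)) : G)
    rw [← map_mul, ← map_mul]
    congr 1
    exact congrArg Subtype.val (hNc a a.2 b b.2)
  have hsq : ∀ f ∈ s, f ^ q = 1 := by
    rintro _ ⟨a, rfl⟩
    show (MulAut.conjNormal (H := V) (((a : MulAction.stabilizer G α)) : G)) ^ q = 1
    rw [← map_pow]
    have h1 : (((a : MulAction.stabilizer G α)) : G) ^ q = 1 := by
      have := congrArg Subtype.val (hqexp a a.2)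
      simpa using this
    rw [h1, map_one]
  haveI : Nontrivial N := (Subgroup.nontrivial_iff_ne_bot N).mpr hN1
  have hcount : ∀ W : Subgroup V, (∀ a ∈ s, ∀ w ∈ W, a w ∈ W) → Nat.card W ≡ 1 [MOD q] := by
    intro W hW
    let Y : SubMulAction N Ω :=
      { carrier := {ω | ∃ w ∈ W, ((w : V) : G) • α = ω}
        smul_mem' := by
          rintro c _ ⟨w, hw, rfl⟩
          have h1 := hW _ ⟨c, rfl⟩ w hw
          refine ⟨_, h1, ?_⟩
          have hcα : (((c : MulAction.stabilizer G α)) : G) • α = α := (c : MulAction.stabilizer G α).2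
          have hxi : (((c : MulAction.stabilizer G α)) : G)⁻¹ • α = α := by
            rw [inv_smul_eq_iff, hcα]
          show ((MulAut.conjNormal (H := V) (((c : MulAction.stabilizer G α)) : G) w : V) : G) • α =
            (((c : MulAction.stabilizer G α)) : G) • (((w : V) : G) • α)
          rw [MulAut.conjNormal_apply, mul_smul, mul_smul, hxi] }
    have hmod := hPN.card_modEq_card_fixedPoints Y
    have hfix1 : Nat.card (MulAction.fixedPoints N Y) = 1 := by
      have key : ∀ z : Y, z ∈ MulAction.fixedPoints N Y → (z : Ω) = α := by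
        intro z hz
        by_contra hne
        obtain ⟨⟨x, hx⟩, hx1⟩ := exists_ne (1 : N)
        have h1 : (⟨x, hx⟩ : N) • z = z := hz ⟨x, hx⟩
        have h2 : x • (z : Ω) = z := congrArg Subtype.val h1
        exact hx1 (Subtype.ext (hfree _ hne x hx h2))
      rw [Nat.card_eq_one_iff_unique]
      refine ⟨⟨?_⟩, ⟨⟨⟨α, 1, W.one_mem, one_smul _ _⟩, ?_⟩⟩⟩
      · rintro ⟨a, ha⟩ ⟨b, hb⟩
        apply Subtype.ext
        apply Subtype.ext
        rw [key a ha, key b hb]
      · intro c
        apply Subtype.ext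
        exact (c : MulAction.stabilizer G α).2
    have hYW : Nat.card Y = Nat.card W := by
      symm
      refine Nat.card_congr (Equiv.ofBijective (fun w : W => (⟨(((w : V) : G)) • α, w, w.2, rfl⟩ : Y)) ⟨?_, ?_⟩)
      · intro a b hab'
        have h1 : (((a : V) : G)) • α = (((b : V) : G)) • α := congrArg Subtype.val hab'
        have h2 : ((((b : V) : G))⁻¹ * ((a : V) : G)) • α = α := by rw [mul_smul, h1, inv_smul_smul]
        have h3 := hreg _ (V.mul_mem (V.inv_mem (b : V).2) (a : V).2) α h2
        rw [inv_mul_eq_one] at h3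
        exact Subtype.ext (Subtype.ext h3.symm)
      · rintro ⟨_, w, hw, rfl⟩
        exact ⟨⟨w, hw⟩, rfl⟩
    rw [hYW, hfix1] at hmod
    exact hmod
  have hqd : q ∣ p ^ d - 1 := by
    have h1 := hcount ⊤ (fun _ _ _ _ => Subgroup.mem_top _)
    have h2 : Nat.card (⊤ : Subgroup V) = p ^ d := by rw [Subgroup.card_top, hcV]
    rw [h2] at h1
    exact (Nat.modEq_iff_dvd' (Nat.one_le_pow _ _ hp.pos)).mp h1.symm
  refine ⟨q, hq, horb, hqd, ?_⟩
  suffices hmain : (∀ i : ℕ, 0 < i → i < d → ¬ q ∣ p ^ i - 1) ∧ Nat.card K ∣ d by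
    refine ⟨hmain.1, N', hNle, hNnorm, hcN'N.trans hcN, ⟨_, hsup⟩, ?_⟩
    rw [← hcK, hcN]
    exact Nat.mul_dvd_mul_left _ hmain.2
  by_cases hK : K = ⊥
  · -- the stabilizer is `N`
    have hNtop : ∀ k : MulAction.stabilizer G α, k ∈ N := by
      intro k
      obtain ⟨x, hx, he⟩ := htrN ω₀ hω₀ k
      have h1 : x⁻¹ * k ∈ K := by
        show (x⁻¹ * k) • ω₀ = ω₀
        rw [mul_smul, ← he, inv_smul_smul]
      rw [hK, Subgroup.mem_bot, inv_mul_eq_one] at h1
      rw [← h1]
      exact hx
    have hirr : ∀ W : Subgroup V, (∀ a ∈ s, ∀ w ∈ W, a w ∈ W) → W = ⊥ ∨ W = ⊤ := by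
      intro W hW
      let W₀ : Subgroup G := W.map V.subtype
      have hW₀le : W₀ ≤ V := by
        rintro _ ⟨w, -, rfl⟩
        exact w.2
      have hW₀n : W₀.Normal := by
        constructor
        rintro _ ⟨w, hw, rfl⟩ g
        obtain ⟨v, hv, he⟩ := htr α (g • α)
        have hk : v⁻¹ * g ∈ MulAction.stabilizer G α := by
          show (v⁻¹ * g) • α = α
          rw [mul_smul, ← he, inv_smul_smul]
        have h1 := hW _ ⟨⟨⟨_, hk⟩, hNtop _⟩, rfl⟩ w hw
        refine ⟨_, h1, ?_⟩
        have h2 : (((MulAut.conjNormal (H := V) (v⁻¹ * g)) w : V) : G) = (v⁻¹ * g) * w * (v⁻¹ * g)⁻¹ :=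
          MulAut.conjNormal_apply _ _
        have h3 : v * ((v⁻¹ * g) * w * (v⁻¹ * g)⁻¹) * v⁻¹ = (v⁻¹ * g) * w * (v⁻¹ * g)⁻¹ := by
          have h4 : (v⁻¹ * g) * w * (v⁻¹ * g)⁻¹ ∈ V := hVn.conj_mem _ w.2 _
          rw [hab v hv _ h4, mul_assoc, mul_inv_cancel, mul_one]
        show (V.subtype _ : G) = g * V.subtype w * g⁻¹
        show (((MulAut.conjNormal (H := V) (v⁻¹ * g)) w : V) : G) = g * (w : G) * g⁻¹
        rw [h2, ← h3]
        group
      rcases hVmin W₀ hW₀n hW₀le with h | h
      · left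
        exact (Subgroup.map_eq_bot_iff_of_injective _ (Subgroup.subtype_injective _)).mp h
      · right
        rw [eq_top_iff]
        intro v _
        have h1 : (v : G) ∈ W₀ := by rw [h]; exact v.2
        obtain ⟨w, hw, he⟩ := h1
        have : w = v := Subtype.ext he
        rw [← this]
        exact hw
    refine ⟨?_, ?_⟩
    · intro i hi hid hdvd
      have := Cfsg.Agent.Lib.ExtPrim.abs_le_of_pow (A := V) s hcomms hirr hp hcV hi hsq hdvd
      omega
    · rw [hK, Subgroup.card_bot]
      exact one_dvd _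
  · -- the partition of the points by the conjugates of `K`
    let K' : Subgroup G := K.map (MulAction.stabilizer G α).subtype
    let C : Subgroup V := (Subgroup.centralizer (K' : Set G)).subgroupOf V
    have hmemC : ∀ v : V, v ∈ C ↔ ∀ y : MulAction.stabilizer G α, y ∈ K → (y : G) * v = v * (y : G) := by
      intro v
      constructor
      · intro hv y hy
        have h1 : (v : G) ∈ Subgroup.centralizer (K' : Set G) := hv
        exact Subgroup.mem_centralizer_iff.mp h1 y ⟨y, hy, rfl⟩
      · intro h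
        show (v : G) ∈ Subgroup.centralizer (K' : Set G)
        rw [Subgroup.mem_centralizer_iff]
        rintro _ ⟨y, hy, rfl⟩
        exact h y hy
    let pt : C → Ω := fun v => (((v : V) : G)) • α
    have hptK : ∀ v : C, ∀ y ∈ K, y • pt v = pt v := by
      intro v y hy
      exact (hfixcomm y y.2 _ (v : V).2).mpr ((hmemC v).mp v.2 y hy)
    have hptα : ∀ v : C, pt v = α → v = 1 := by
      intro v h
      have h1 := hreg _ (v : V).2 α h
      exact Subtype.ext (Subtype.ext h1)
    -- stabilizers containing `K` equal `K`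
    have hstab : ∀ ω : Ω, ω ≠ α → (∀ y ∈ K, y • ω = ω) →
        MulAction.stabilizer (MulAction.stabilizer G α) ω = K := by
      intro ω hω hy
      symm
      apply Subgroup.eq_of_le_of_card_ge
      · intro y hyK
        exact hy y hyK
      · have h1 := (hcompl ω hω).card_mul
        rw [← hcK] at h1
        exact (Nat.eq_of_mul_eq_mul_left Nat.card_pos h1).le
    haveI hsolN : Group.IsSolvable N := inferInstance
    have hB : Nat.card (N × {v : C // v ≠ 1}) = Nat.card {ω : Ω // ω ≠ α} := by
      refine Nat.card_congr (Equiv.ofBijective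
        (fun u : N × {v : C // v ≠ 1} => (⟨(u.1 : MulAction.stabilizer G α) • pt u.2.1, ?_⟩ : {ω : Ω // ω ≠ α})) ⟨?_, ?_⟩)
      · intro h
        rw [smul_eq_iff_eq_inv_smul] at h
        have h1 : (u.1 : MulAction.stabilizer G α)⁻¹ • α = α := by
          rw [inv_smul_eq_iff]
          exact (((u.1 : MulAction.stabilizer G α)).2).symm
        rw [h1] at h
        exact u.2.2 (hptα _ h)
      · -- injectivity
        rintro ⟨x, v, hv⟩ ⟨x', v', hv'⟩ he
        have he1 : (x : MulAction.stabilizer G α) • pt v = (x' : MulAction.stabilizer G α) • pt v' :=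
          congrArg Subtype.val he
        have hvα : pt v ≠ α := fun h => hv (hptα _ h)
        have hvα' : pt v' ≠ α := fun h => hv' (hptα _ h)
        set z : MulAction.stabilizer G α := (x' : MulAction.stabilizer G α)⁻¹ * x with hz
        have hzN : z ∈ N := N.mul_mem (N.inv_mem x'.2) x.2
        have hzω : z • pt v = pt v' := by
          rw [hz, mul_smul, he1, inv_smul_smul]
        have hs1 := hstab _ hvα (hptK v)
        have hs2 := hstab _ hvα' (hptK v')
        -- `z` normalizes `K`, so it centralizes it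
        have hzc : ∀ y ∈ K, z * y = y * z := by
          intro y hy
          have h1 : z * y * z⁻¹ ∈ K := by
            rw [← hs2]
            show (z * y * z⁻¹) • pt v' = pt v'
            rw [← hzω, mul_smul, mul_smul, inv_smul_smul, hptK v y hy]
          have h2 : z * y * z⁻¹ * y⁻¹ ∈ K := K.mul_mem h1 (K.inv_mem hy)
          have h3 : z * y * z⁻¹ * y⁻¹ ∈ N := by
            have h4 : y * z⁻¹ * y⁻¹ ∈ N := hNn.conj_mem _ (N.inv_mem hzN) y
            have h5 : z * (y * z⁻¹ * y⁻¹) ∈ N := N.mul_mem hzN h4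
            convert h5 using 1
            group
          have h6 : z * y * z⁻¹ * y⁻¹ = 1 := by
            have h7 := Subgroup.disjoint_def.mp hK0.disjoint h3 h2
            exact h7
          have h8 : z * y * z⁻¹ = y := by
            rw [mul_inv_eq_one] at h6
            exact h6
          calc z * y = z * y * z⁻¹ * z := by group
            _ = y * z := by rw [h8]
        have hz1 : z = 1 := by
          by_contra hzne
          -- a non-trivial element of `K`
          have hKnt : Nontrivial K := (Subgroup.nontrivial_iff_ne_bot K).mpr hK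
          obtain ⟨⟨y, hy⟩, hy1⟩ := exists_ne (1 : K)
          apply hy1
          apply Subtype.ext
          apply hcomfix ω₀ hω₀ y hy
          intro a ha
          have hzne' : (⟨z, hzN⟩ : N) ≠ 1 := fun h => hzne (congrArg Subtype.val h)
          have hmem : (⟨a, ha⟩ : N) ∈ Subgroup.zpowers (⟨z, hzN⟩ : N) := mem_zpowers_of_prime_card hcN hzne'
          obtain ⟨n, hn⟩ := hmem
          have h1 : z ^ n = a := by
            have := congrArg Subtype.val hn
            simpa using this
          rw [← h1]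
          exact ((show Commute y z from (hzc y hy).symm).zpow_right n).eq
        have hxx' : x = x' := by
          have h1 := hz1
          rw [hz, inv_mul_eq_one] at h1
          exact (Subtype.ext h1).symm
        subst hxx'
        have hpp : pt v = pt v' := smul_left_cancel _ he1
        have h2 : (((v' : V) : G))⁻¹ * ((v : V) : G) = 1 := by
          apply hreg _ (V.mul_mem (V.inv_mem (v' : V).2) (v : V).2) α
          show ((((v' : V) : G))⁻¹ * ((v : V) : G)) • α = α
          rw [mul_smul]
          show (((v' : V) : G))⁻¹ • pt v = α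
          rw [hpp]
          exact inv_smul_smul _ _
        rw [inv_mul_eq_one] at h2
        have h3 : v = v' := Subtype.ext (Subtype.ext h2.symm)
        subst h3
        rfl
      · -- surjectivity
        rintro ⟨ω, hω⟩
        obtain ⟨g₀, hg₀, hconj⟩ := Cfsg.Agent.Lib.Coprime.complement_conj hcop hK0 (hcompl ω hω) (Or.inl hsolN)
        have hfixω' : ∀ y ∈ K, y • (g₀⁻¹ • ω) = g₀⁻¹ • ω := by
          intro y hy
          have h1 : g₀ * y * g₀⁻¹ ∈ MulAction.stabilizer (MulAction.stabilizer G α) ω := by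
            rw [hconj]
            exact ⟨y, hy, rfl⟩
          have h2 : (g₀ * y * g₀⁻¹) • ω = ω := h1
          rw [smul_smul]
          calc (y * g₀⁻¹) • ω = g₀⁻¹ • ((g₀ * y * g₀⁻¹) • ω) := by
                rw [smul_smul]
                congr 1
                group
            _ = g₀⁻¹ • ω := by rw [h2]
        obtain ⟨v, hv, he⟩ := htr α (g₀⁻¹ • ω)
        have hvC : (⟨v, hv⟩ : V) ∈ C := by
          rw [hmemC]
          intro y hy
          apply (hfixcomm y y.2 v hv).mp
          show (y : MulAction.stabilizer G α) • (v • α) = v • α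
          rw [he]
          exact hfixω' y hy
        have hv1 : (⟨⟨v, hv⟩, hvC⟩ : C) ≠ 1 := by
          intro h
          have h1 : v = 1 := congrArg (fun c : C => ((c : V) : G)) h
          rw [h1, one_smul] at he
          have h4 : g₀ • α = α := g₀.2
          have h5 : g₀ • (g₀⁻¹ • ω) = ω := smul_inv_smul _ _
          rw [← he, h4] at h5
          exact hω h5.symm
        refine ⟨(⟨g₀, hg₀⟩, ⟨⟨⟨v, hv⟩, hvC⟩, hv1⟩), ?_⟩
        apply Subtype.ext
        show g₀ • (v • α) = ω
        rw [he, smul_inv_smul]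
    rw [Nat.card_prod, card_ne_sub, card_ne_sub, hcN, Nat.card_eq_fintype_card (α := Ω), hcard] at hB
    -- the size of the fixed space
    obtain ⟨f, hfd, hcC⟩ := (Nat.dvd_prime_pow hp).mp (hcV ▸ Subgroup.card_subgroup_dvd_card C)
    rw [hcC] at hB
    have hf0 : 0 < f := by
      by_contra hf
      have hf0 : f = 0 := by omega
      rw [hf0, pow_zero] at hcC
      obtain ⟨v, hv, he⟩ := htr α ω₀
      have hvC : (⟨v, hv⟩ : V) ∈ C := by
        rw [hmemC]
        intro y hy
        apply (hfixcomm y y.2 v hv).mp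
        show (y : MulAction.stabilizer G α) • (v • α) = v • α
        rw [he]
        exact hy
      have hsub : Subsingleton C := (Nat.card_eq_one_iff_unique.mp hcC).1
      have h1 : (⟨⟨v, hv⟩, hvC⟩ : C) = 1 := Subsingleton.elim _ _
      have h2 : v = 1 := congrArg (fun c : C => ((c : V) : G)) h1
      rw [h2, one_smul] at he
      exact hω₀ he.symm
    have hfd' : f < d := by
      refine lt_of_le_of_ne hfd ?_
      intro hfe
      apply hK
      have hCtop : C = ⊤ := by
        apply Subgroup.eq_top_of_card_eq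
        rw [hcC, hcV, hfe]
      rw [eq_bot_iff]
      intro y hy
      rw [Subgroup.mem_bot]
      apply Subtype.ext
      apply hcinj _ y.2
      intro v hv
      have h1 : (⟨v, hv⟩ : V) ∈ C := by rw [hCtop]; trivial
      exact (hmemC _).mp h1 y hy
    have hnd : ∀ i : ℕ, 0 < i → i < d → ¬ q ∣ p ^ i - 1 :=
      Cfsg.Agent.Lib.ExtPrim.not_dvd_of_spread hp hf0 hfd' hB.symm
    refine ⟨hnd, ?_⟩
    have hirr : ∀ W : Subgroup V, (∀ a ∈ s, ∀ w ∈ W, a w ∈ W) → W = ⊥ ∨ W = ⊤ := by
      intro W hW
      obtain ⟨i, hid, hcW⟩ := (Nat.dvd_prime_pow hp).mp (hcV ▸ Subgroup.card_subgroup_dvd_card W)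
      by_cases hi0 : i = 0
      · left
        rw [hi0, pow_zero] at hcW
        exact (Subgroup.eq_bot_iff_card W).mpr hcW
      by_cases hid' : i = d
      · right
        apply Subgroup.eq_top_of_card_eq
        rw [hcW, hcV, hid']
      · exfalso
        have h1 := hcount W hW
        rw [hcW] at h1
        exact hnd i (by omega) (by omega)
          ((Nat.modEq_iff_dvd' (Nat.one_le_pow _ _ hp.pos)).mp h1.symm)
    let cK : K →* MulAut V := (MulAut.conjNormal (H := V)).comp
      ((MulAction.stabilizer G α).subtype.comp K.subtype)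
    have hconjinj : ∀ u ∈ MulAction.stabilizer G α, ∀ w ∈ MulAction.stabilizer G α,
        MulAut.conjNormal (H := V) u = MulAut.conjNormal (H := V) w → u = w := by
      intro u hu w hw he
      have h1 : w⁻¹ * u = 1 := by
        apply hcinj _ (Subgroup.mul_mem _ (Subgroup.inv_mem _ hw) hu)
        intro v hv
        have h2 := congrArg (fun e : MulAut V => ((e ⟨v, hv⟩ : V) : G)) he
        have h3 : u * v * u⁻¹ = w * v * w⁻¹ := h2
        have h4 : w⁻¹ * (u * v * u⁻¹) * w = v := by
          rw [h3]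
          group
        calc w⁻¹ * u * v = (w⁻¹ * (u * v * u⁻¹) * w) * (w⁻¹ * u) := by group
          _ = v * (w⁻¹ * u) := by rw [h4]
      rw [inv_mul_eq_one] at h1
      exact h1.symm
    exact Cfsg.Agent.Lib.ExtPrim.abs_dvd (A := V) s hcomms hirr hp hcV cK (by
      rintro ⟨y, hy⟩ _ ⟨a, rfl⟩
      refine ⟨⟨y * a * y⁻¹, hNn.conj_mem _ a.2 y⟩, ?_⟩
      show MulAut.conjNormal (H := V) ((y : G) * (a : MulAction.stabilizer G α) * (y : G)⁻¹) = _
      show _ = MulAut.conjNormal (H := V) (y : G) * MulAut.conjNormal (H := V) ((a : MulAction.stabilizer G α) : G) * (MulAut.conjNormal (H := V) (y : G))⁻¹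
      rw [map_mul, map_mul, map_inv]) (by
      rintro ⟨y, hy⟩ hc
      apply Subtype.ext
      apply hcomfix ω₀ hω₀ y hy
      intro a ha
      have h1 := hc _ ⟨⟨a, ha⟩, rfl⟩
      apply Subtype.ext
      apply hconjinj _ (Subgroup.mul_mem _ y.2 a.2) _ (Subgroup.mul_mem _ a.2 y.2)
      show MulAut.conjNormal (H := V) ((y : G) * (a : G)) = MulAut.conjNormal (H := V) ((a : G) * (y : G))
      rw [map_mul, map_mul]
      exact h1)

end Cfsg.Agent.S3496
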