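import Cfsg.Statements.S3497
import Mathlib
import Cfsg.Agent.S3494
import Cfsg.Agent.Lib.ExtPrim.Basic

set_option autoImplicit false
open Cfsg

namespace Cfsg.Agent.S3497

/-- Restrictions on the point stabilizer of an extremely primitive group. Let a finite group G act faithfully and primitively on a finite set Ω with point stabilizers H = G_α whose order is neither 1 nor a prime, each acting primitively on every one of its orbits. Then H has trivial center, the Fitting subgroup F(H) is an elementary abelian p-group for some prime p, and if F(H) ≠ 1 has order p ^ e then p ^ e divides the number of points minus one and H / F(H) embeds in GL_e(p) (there is a homomorphism from H to GL_e(p) with kernel exactly F(H)). -/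
theorem result {G : Type*} [Group G] [Finite G] {Ω : Type*} [Fintype Ω] [MulAction G Ω] [FaithfulSMul G Ω] (hprim : MulAction.IsPreprimitive G Ω) (hep : ∀ (α : Ω) (ω : Ω), MulAction.IsPreprimitive (MulAction.stabilizer G α) (MulAction.orbit (MulAction.stabilizer G α) ω)) (α : Ω)
    (hH1 : MulAction.stabilizer G α ≠ ⊥) (hHp : ¬ (Nat.card (MulAction.stabilizer G α)).Prime) :
    Subgroup.center (MulAction.stabilizer G α) = ⊥ ∧
    IsMulCommutative (Cfsg.fittingSubgroup (MulAction.stabilizer G α)) ∧
    ∃ p e : ℕ, p.Prime ∧ Nat.card (Cfsg.fittingSubgroup (MulAction.stabilizer G α)) = p ^ e ∧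
      (∀ x ∈ Cfsg.fittingSubgroup (MulAction.stabilizer G α), x ^ p = 1) ∧
      (Cfsg.fittingSubgroup (MulAction.stabilizer G α) ≠ ⊥ →
        p ^ e ∣ Fintype.card Ω - 1 ∧
        ∃ φ : MulAction.stabilizer G α →* GL (Fin e) (ZMod p), φ.ker = Cfsg.fittingSubgroup (MulAction.stabilizer G α)) := by
  classical
  have hT : MulAction.IsPretransitive G Ω := hprim.toIsPretransitive
  -- all stabilizers are non-trivial
  have hH : ∀ β : Ω, MulAction.stabilizer G β ≠ ⊥ := by
    intro β hβ
    obtain ⟨g, rfl⟩ := MulAction.exists_smul_eq G α β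
    rw [MulAction.stabilizer_smul_eq_stabilizer_map_conj] at hβ
    apply hH1
    exact (Subgroup.map_eq_bot_iff_of_injective _ (MulEquiv.injective _)).mp hβ
  -- faithfulness on orbits
  have hfaith : ∀ ω : Ω, ω ≠ α → FaithfulSMul (MulAction.stabilizer G α)
      (MulAction.orbit (MulAction.stabilizer G α) ω) := by
    intro ω hω
    constructor
    intro a b hab
    have h1 : a⁻¹ * b = 1 := by
      apply Cfsg.Agent.S3494.result hprim hH hep α ω hω
      intro x hx
      have := hab ⟨x, hx⟩
      have h2 : (a : G) • x = (b : G) • x := congrArg Subtype.val this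
      change ((a : G)⁻¹ * (b : G)) • x = x
      rw [mul_smul, ← h2, inv_smul_smul]
    rw [inv_mul_eq_one] at h1
    exact h1
  have hnt : Nontrivial (MulAction.stabilizer G α) :=
    (Subgroup.nontrivial_iff_ne_bot _).mpr hH1
  -- a point other than `α`
  obtain ⟨ω₀, hω₀⟩ : ∃ ω : Ω, ω ≠ α := by
    obtain ⟨⟨h, hh⟩, hne⟩ := exists_ne (1 : MulAction.stabilizer G α)
    have hh1 : h ≠ 1 := fun h' => hne (Subtype.ext h')
    by_contra hcon
    push Not at hcon
    apply hh1
    apply FaithfulSMul.eq_of_smul_eq_smul (α := Ω)
    intro x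
    rw [hcon x, one_smul]
    exact hh
  have hprim₀ := hep α ω₀
  have hf₀ := hfaith ω₀ hω₀
  have hne₀ : Nonempty (MulAction.orbit (MulAction.stabilizer G α) ω₀) :=
    ⟨⟨ω₀, MulAction.mem_orbit_self _⟩⟩
  refine ⟨?_, ?_⟩
  · -- the centre is trivial
    by_contra hZ
    have hnil : Group.IsNilpotent (Subgroup.center (MulAction.stabilizer G α)) := by
      have hcm : ∀ a b : Subgroup.center (MulAction.stabilizer G α), a * b = b * a :=
        fun a b => Subtype.ext ((Subgroup.mem_center_iff.mp b.2) (a : MulAction.stabilizer G α))
      let iC : CommGroup (Subgroup.center (MulAction.stabilizer G α)) :=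
        { (inferInstance : Group (Subgroup.center (MulAction.stabilizer G α))) with mul_comm := hcm }
      exact CommGroup.isNilpotent
    obtain ⟨-, hc, -⟩ := Lib.ExtPrim.nilpotent_normal_structure
      (X := MulAction.orbit (MulAction.stabilizer G α) ω₀) hZ hnil
    have hcomm : ∀ a b : MulAction.stabilizer G α, a * b = b * a := by
      intro a b
      have : a ∈ Subgroup.center (MulAction.stabilizer G α) := by
        apply hc
        intro z hz
        exact (Subgroup.mem_center_iff.mp hz a)
      exact (Subgroup.mem_center_iff.mp this b).symm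
    exact hHp (Lib.ExtPrim.prime_card_of_comm (X := MulAction.orbit (MulAction.stabilizer G α) ω₀) hcomm)
  · by_cases hF : Cfsg.fittingSubgroup (MulAction.stabilizer G α) = ⊥
    · rw [hF]
      refine ⟨?_, 2, 0, Nat.prime_two, ?_, ?_, ?_⟩
      · exact ⟨⟨fun a b => Subsingleton.elim _ _⟩⟩
      · simp
      · intro x hx
        rw [Subgroup.mem_bot] at hx
        simp [hx]
      · intro h
        exact absurd rfl h
    · have hnil : Group.IsNilpotent (Cfsg.fittingSubgroup (MulAction.stabilizer G α)) :=
        Lib.Core.isNilpotent_fittingSubgroup _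
      have hFn : (Cfsg.fittingSubgroup (MulAction.stabilizer G α)).Normal :=
        Lib.Core.fittingSubgroup_normal _
      obtain ⟨hab, hcen, hTF⟩ := Lib.ExtPrim.nilpotent_normal_structure
        (X := MulAction.orbit (MulAction.stabilizer G α) ω₀) hF hnil
      obtain ⟨p, hp, hexp⟩ := Lib.ExtPrim.exists_prime_exponent
        (X := MulAction.orbit (MulAction.stabilizer G α) ω₀) hF hab
      obtain ⟨e, he, φ, hφ⟩ := Lib.ExtPrim.exists_rep _ hp hab hexp
      refine ⟨⟨⟨fun a b => Subtype.ext (hab a a.2 b b.2)⟩⟩, p, e, hp, he, hexp, fun _ => ⟨?_, φ, ?_⟩⟩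
      · -- the free action
        rw [← he]
        have hfree : ∀ (γ : Cfsg.fittingSubgroup (MulAction.stabilizer G α))
            (y : SubMulAction.ofStabilizer G α), γ • y = y → γ = 1 := by
          rintro ⟨γ, hγ⟩ ⟨y, hy⟩ hfix
          have hyα : y ≠ α := hy
          have hf := hfaith y hyα
          have hpr := hep α y
          have hne : Nonempty (MulAction.orbit (MulAction.stabilizer G α) y) :=
            ⟨⟨y, MulAction.mem_orbit_self _⟩⟩
          obtain ⟨hab', hcen', hT'⟩ := Lib.ExtPrim.nilpotent_normal_structure
            (X := MulAction.orbit (MulAction.stabilizer G α) y) hF hnil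
          have hfix' : γ • y = y := congrArg Subtype.val hfix
          have h1 : γ = 1 := Lib.Derangement.eq_one_of_commute_of_fix hT'
            (ω := ⟨y, MulAction.mem_orbit_self _⟩) (fun s hs => hab' γ hγ s hs)
            (Subtype.ext hfix')
          exact Subtype.ext h1
        have := Lib.ExtPrim.card_dvd_of_free hfree
        rwa [SubMulAction.nat_card_ofStabilizer_eq, Nat.card_eq_fintype_card (α := Ω)] at this
      · ext h
        rw [MonoidHom.mem_ker, hφ]
        constructor
        · intro hh
          exact hcen h hh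
        · intro hh x hx
          exact hab h hh x hx

end Cfsg.Agent.S3497
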