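import Cfsg.Statements.S3501
import Mathlib
import Cfsg.Agent.Lib.Derangement.Affine
import Cfsg.Agent.Lib.Perm.SharplyTwo

set_option autoImplicit false
open Cfsg

namespace Cfsg.Agent.S3501

/-- Let a finite group G act faithfully and primitively on a finite set Ω with at least two points, and suppose G is not almost simple (it has no non-abelian simple normal subgroup with trivial centralizer). Then the derangements of G form a single conjugacy class if and only if G is sharply 2-transitive (2-transitive, and no non-identity element fixes two points). -/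
theorem result {G : Type*} [Group G] [Finite G] {Ω : Type*} [Fintype Ω] [MulAction G Ω] [FaithfulSMul G Ω] (hΩ : 2 ≤ Fintype.card Ω) (hprim : MulAction.IsPreprimitive G Ω) (hnas : ¬ ∃ T : Subgroup G, T.Normal ∧ IsSimpleGroup T ∧ ¬ IsMulCommutative T ∧ Subgroup.centralizer (T : Set G) = ⊥) :
    Nat.card {c : ConjClasses G // ∃ g : G, ConjClasses.mk g = c ∧ ∀ ω : Ω, g • ω ≠ ω} = 1 ↔ (MulAction.IsMultiplyPretransitive G Ω 2 ∧ ∀ g : G, g ≠ 1 → ∀ a b : Ω, a ≠ b → g • a = a → g • b ≠ b) := by
  classical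
  have hΩ' : 2 ≤ Nat.card Ω := by rwa [Nat.card_eq_fintype_card]
  have hnΩ : Nonempty Ω := (Nat.card_pos_iff.mp (by omega : 0 < Nat.card Ω)).1
  constructor
  · intro hκ
    have h1 := Lib.Derangement.noThree_of_card_one hκ
    have h3 : Lib.Derangement.NoThree G Ω := fun x y z hx hy _ => Or.inl (h1 x y hx hy)
    obtain ⟨N, hNn, hNb, hab, TN⟩ := Lib.Derangement.exists_abelian_transitive hΩ' hnas h3
    have hderN := fun n hn h1 => Lib.Derangement.der_of_mem (Ω := Ω) hab TN (n := n) hn h1
    refine ⟨Lib.Derangement.two_trans_of_conj hab TN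
      (fun x hx y hy hx1 hy1 => h1 x y (hderN x hx hx1) (hderN y hy hy1)), ?_⟩
    obtain ⟨a, ha, ha1⟩ : ∃ a ∈ N, a ≠ 1 := by
      obtain ⟨⟨a, ha⟩, h⟩ := Subgroup.ne_bot_iff_exists_ne_one.mp hNb
      exact ⟨a, ha, fun h' => h (Subtype.ext h')⟩
    have hderin : ∀ z : G, Lib.Derangement.Der Ω z → z ∈ N := by
      intro z hz
      obtain ⟨c, rfl⟩ := isConj_iff.mp (h1 a z (hderN a ha ha1) hz)
      exact hNn.conj_mem a ha c
    intro g hg a' b' hne h2 h4
    by_cases hgN : g ∈ N
    · exact absurd h2 (hderN g hgN hg a')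
    · have hz : ∀ n ∈ N, ¬ Lib.Derangement.Der Ω (g * n) := by
        intro n hn hd
        apply hgN
        have := N.mul_mem (hderin _ hd) (N.inv_mem hn)
        simpa using this
      have h1' : (g * 1) • a' = a' := by simpa using h2
      have h2' : (g * 1) • b' = b' := by simpa using h4
      exact hne (Lib.Derangement.coset_inj hab TN g hz N.one_mem h1' h2')
  · rintro ⟨h2, hS⟩
    rw [MulAction.is_two_pretransitive_iff] at h2
    obtain ⟨N, p, j, hp, hj, hcard, hNn, hab, hNp, TN, hreg, hmem, hcN, hcG, hpN⟩ :=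
      Lib.Perm.sharply_two_structure (Γ := G) (α := Ω) hΩ' (fun a b c d hab hcd => h2 hab hcd)
        (fun g a b hab ha hb => by
          by_contra hg
          exact hS g hg a b hab ha hb)
    obtain ⟨α⟩ := hnΩ
    -- any two derangements are conjugate
    have hconj : ∀ x y : G, (∀ ω : Ω, x • ω ≠ ω) → (∀ ω : Ω, y • ω ≠ ω) → IsConj x y := by
      intro x y hx hy
      have hxN : x ∈ N := (hmem x).mpr (Or.inr hx)
      have hyN : y ∈ N := (hmem y).mpr (Or.inr hy)
      obtain ⟨g, hg1, hg2⟩ := h2 (hx α).symm (hy α).symm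
      rw [isConj_iff]
      refine ⟨g, ?_⟩
      have h5 : (y⁻¹ * (g * x * g⁻¹)) • α = α := by
        have h6 : g⁻¹ • α = α := by rw [inv_smul_eq_iff, hg1]
        simp only [mul_smul, h6, hg2, inv_smul_smul]
      have h7 := hreg _ (N.mul_mem (N.inv_mem hyN) (hNn.conj_mem x hxN g)) α h5
      rw [inv_mul_eq_one] at h7
      exact h7.symm
    rw [Nat.card_eq_one_iff_unique]
    constructor
    · constructor
      rintro ⟨_, x, rfl, hx⟩ ⟨_, y, rfl, hy⟩
      apply Subtype.ext
      exact ConjClasses.mk_eq_mk_iff_isConj.mpr (hconj x y hx hy)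
    · -- a derangement exists
      obtain ⟨β, hβ⟩ : ∃ β : Ω, β ≠ α := by
        have : Nontrivial Ω := Fintype.one_lt_card_iff_nontrivial.mp (by omega)
        exact exists_ne α
      obtain ⟨n, hn, hnα⟩ := TN α β
      have hn1 : n ≠ 1 := by
        rintro rfl
        exact hβ (by simpa using hnα.symm)
      have hd : ∀ ω : Ω, n • ω ≠ ω := by
        intro ω hω
        exact hn1 (hreg n hn ω hω)
      exact ⟨⟨ConjClasses.mk n, n, rfl, hd⟩⟩

end Cfsg.Agent.S3501
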