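import Cfsg.Statements.S3520
import Mathlib
import Cfsg.Agent.Lib.Derangement.Affine

set_option autoImplicit false
open Cfsg

namespace Cfsg.Agent.S3520

/-- Let a finite group G act faithfully and primitively on a finite set Ω with at least two points, suppose G is not almost simple (no non-abelian simple normal subgroup with trivial centralizer), and suppose the derangements of G form exactly two conjugacy classes. Then either Ω has 3 points and G has order 3; or G has a non-trivial abelian normal subgroup N acting regularly, every non-identity element of G fixes at most one point (so, when n > 3, G is a Frobenius group with kernel N), the number n of points is odd and a point stabilizer has order (n − 1)/2; or G is 2-transitive with a non-trivial abelian regular normal subgroup and some non-identity element fixes at least two points (a non-Frobenius 2-transitive affine group). -/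
theorem result {G : Type*} [Group G] [Finite G] {Ω : Type*} [Fintype Ω] [MulAction G Ω] [FaithfulSMul G Ω] (hΩ : 2 ≤ Fintype.card Ω) (hprim : MulAction.IsPreprimitive G Ω) (hnas : ¬ ∃ T : Subgroup G, T.Normal ∧ IsSimpleGroup T ∧ ¬ IsMulCommutative T ∧ Subgroup.centralizer (T : Set G) = ⊥)
    (hκ : Nat.card {c : ConjClasses G // ∃ g : G, ConjClasses.mk g = c ∧ ∀ ω : Ω, g • ω ≠ ω} = 2) (α : Ω) :
    (Fintype.card Ω = 3 ∧ Nat.card G = 3) ∨
    ((∃ N : Subgroup G, N.Normal ∧ N ≠ ⊥ ∧ IsMulCommutative N ∧ ∀ ω : Ω, MulAction.stabilizer N ω = ⊥) ∧ (∀ g : G, g ≠ 1 → Nat.card (MulAction.fixedBy Ω g) ≤ 1) ∧ ¬ 2 ∣ Fintype.card Ω ∧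
        2 * Nat.card (MulAction.stabilizer G α) = Fintype.card Ω - 1) ∨
    ((∃ N : Subgroup G, N.Normal ∧ N ≠ ⊥ ∧ IsMulCommutative N ∧ ∀ ω : Ω, MulAction.stabilizer N ω = ⊥) ∧ MulAction.IsMultiplyPretransitive G Ω 2 ∧ ∃ g : G, g ≠ 1 ∧ 2 ≤ Nat.card (MulAction.fixedBy Ω g)) := by
  classical
  have hΩ' : 2 ≤ Nat.card Ω := by rwa [Nat.card_eq_fintype_card]
  have hnΩ : Nonempty Ω := ⟨α⟩
  have h3 := Lib.Derangement.noThree_of_card_two hκ
  obtain ⟨N, hNn, hNb, hab, TN⟩ := Lib.Derangement.exists_abelian_transitive hΩ' hnas h3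
  have hcomm : IsMulCommutative N := ⟨⟨fun x y => Subtype.ext (hab x x.2 y y.2)⟩⟩
  have hreg : ∀ ω : Ω, MulAction.stabilizer N ω = ⊥ := by
    intro ω
    rw [eq_bot_iff]
    intro x hx
    rw [Subgroup.mem_bot]
    exact Subtype.ext (Lib.Derangement.semireg hab TN x.2 hx)
  have hderN := fun n hn h1 => Lib.Derangement.der_of_mem (Ω := Ω) hab TN (n := n) hn h1
  obtain ⟨a, ha, ha1⟩ : ∃ a ∈ N, a ≠ 1 := by
    obtain ⟨⟨a, ha⟩, h⟩ := Subgroup.ne_bot_iff_exists_ne_one.mp hNb
    exact ⟨a, ha, fun h' => h (Subtype.ext h')⟩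
  by_cases hall : ∀ x ∈ N, ∀ y ∈ N, x ≠ 1 → y ≠ 1 → IsConj x y
  · -- the third alternative
    right; right
    refine ⟨⟨N, hNn, hNb, hcomm, hreg⟩, Lib.Derangement.two_trans_of_conj hab TN hall, ?_⟩
    -- a derangement outside `N`
    obtain ⟨z, hz, hzc⟩ : ∃ z : G, Lib.Derangement.Der Ω z ∧ ¬ IsConj a z := by
      rw [Nat.card_eq_two_iff] at hκ
      obtain ⟨A, B, hAB, _⟩ := hκ
      obtain ⟨_, g₁, rfl, h₁⟩ := A
      obtain ⟨_, g₂, rfl, h₂⟩ := B
      by_cases h : IsConj a g₁
      · refine ⟨g₂, h₂, fun h' => hAB ?_⟩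
        apply Subtype.ext
        exact ConjClasses.mk_eq_mk_iff_isConj.mpr (h.symm.trans h')
      · exact ⟨g₁, h₁, h⟩
    have hzN : z ∉ N := by
      intro hzN
      apply hzc
      apply hall a ha z hzN ha1
      rintro rfl
      exact hz α (by simp)
    obtain ⟨n, hn, ω, ω', hne, h1, h2⟩ := Lib.Derangement.der_two hab TN hz
    refine ⟨z * n, ?_, ?_⟩
    · intro h
      apply hzN
      have : z = n⁻¹ := eq_inv_of_mul_eq_one_left h
      rw [this]
      exact N.inv_mem hn
    · have : Nontrivial (MulAction.fixedBy Ω (z * n)) :=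
        ⟨⟨⟨ω, h1⟩, ⟨ω', h2⟩, fun h => hne (congrArg Subtype.val h)⟩⟩
      exact Finite.one_lt_card
  · -- the second alternative
    right; left
    push Not at hall
    obtain ⟨a, ha, b, hb, ha1, hb1, hnc⟩ := hall
    have hderin : ∀ z : G, Lib.Derangement.Der Ω z → z ∈ N := by
      intro z hz
      have memconj : ∀ x ∈ N, IsConj x z → z ∈ N := by
        intro x hx hc
        obtain ⟨c, rfl⟩ := isConj_iff.mp hc
        exact hNn.conj_mem x hx c
      rcases h3 a b z (hderN a ha ha1) (hderN b hb hb1) hz with h | h | h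
      · exact absurd h hnc
      · exact memconj a ha h
      · exact memconj b hb h
    have hfix : ∀ g : G, g ≠ 1 → ∀ ω ω' : Ω, g • ω = ω → g • ω' = ω' → ω = ω' := by
      intro g hg ω ω' h1 h2
      by_cases hgN : g ∈ N
      · exact absurd h1 (hderN g hgN hg ω)
      · have hz : ∀ n ∈ N, ¬ Lib.Derangement.Der Ω (g * n) := by
          intro n hn hd
          apply hgN
          have := N.mul_mem (hderin _ hd) (N.inv_mem hn)
          simpa using this
        have h1' : (g * 1) • ω = ω := by simpa using h1
        have h2' : (g * 1) • ω' = ω' := by simpa using h2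
        exact Lib.Derangement.coset_inj hab TN g hz N.one_mem h1' h2'
    have hfixcard : ∀ g : G, g ≠ 1 → Nat.card (MulAction.fixedBy Ω g) ≤ 1 := by
      intro g hg
      apply Finite.card_le_one_iff_subsingleton.mpr
      constructor
      rintro ⟨x, hx⟩ ⟨y, hy⟩
      exact Subtype.ext (hfix g hg x y hx hy)
    -- the count
    have hcount : 2 * Nat.card (MulAction.stabilizer G α) = Fintype.card Ω - 1 := by
      let c : Fin 2 → G := ![a, b]
      have h := Lib.Derangement.count_stabilizer hab TN hNn α c
        (by intro i; fin_cases i <;> simp [c, ha, hb])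
        (by intro i; fin_cases i <;> simp [c, ha1, hb1])
        (by
          intro i j hij
          fin_cases i <;> fin_cases j
          · rfl
          · exact absurd hij hnc
          · exact absurd (IsConj.symm hij) hnc
          · rfl)
        (by
          intro n hn hn1
          rcases h3 a b n (hderN a ha ha1) (hderN b hb hb1) (hderN n hn hn1) with h | h | h
          · exact absurd h hnc
          · exact ⟨0, by simpa [c] using h⟩
          · exact ⟨1, by simpa [c] using h⟩)
        hfix
      have h2 : Nat.card {ω : Ω // ω ≠ α} = Fintype.card Ω - 1 := by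
        simp [Nat.card_eq_fintype_card, Fintype.card_subtype_compl]
      rw [h2] at h
      simp only [Nat.card_eq_fintype_card (α := Fin 2), Fintype.card_fin] at h
      omega
    refine ⟨⟨N, hNn, hNb, hcomm, hreg⟩, hfixcard, ?_, hcount⟩
    omega

end Cfsg.Agent.S3520
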