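import Cfsg.Statements.S3532
import Cfsg.Agent.Lib.KS2.PSL2Spec
import Mathlib

set_option autoImplicit false
open Cfsg

namespace Cfsg.Agent.S3532

section Aff

variable {K : Type} [Field K]

/-- Multiplication action of units on the additive group. -/
def act (C : Subgroup Kˣ) : C →* MulAut (Multiplicative K) where
  toFun u :=
    { toFun := fun x => Multiplicative.ofAdd (((u : Kˣ) : K) * Multiplicative.toAdd x)
      invFun := fun x => Multiplicative.ofAdd ((((u : Kˣ)⁻¹ : Kˣ) : K) * Multiplicative.toAdd x)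
      left_inv := fun x => by simp
      right_inv := fun x => by simp
      map_mul' := fun x y => by
        show Multiplicative.ofAdd (((u : Kˣ) : K) * (Multiplicative.toAdd x + Multiplicative.toAdd y)) = _
        rw [mul_add]
        rfl }
  map_one' := by
    ext x
    simp
  map_mul' u v := by
    ext x
    simp [mul_assoc]

/-- The affine group over a subgroup of units. -/
abbrev T (C : Subgroup Kˣ) : Type := Multiplicative K ⋊[act C] C

lemma act_apply (C : Subgroup Kˣ) (u : C) (x : Multiplicative K) :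
    act C u x = Multiplicative.ofAdd (((u : Kˣ) : K) * Multiplicative.toAdd x) := rfl

/-- Powers in the affine group. -/
lemma pow_left (C : Subgroup Kˣ) (h : T C) (n : ℕ) :
    Multiplicative.toAdd (h ^ n).left =
      (∑ i ∈ Finset.range n, (((h.right : Kˣ) : K)) ^ i) * Multiplicative.toAdd h.left := by
  induction n with
  | zero => simp
  | succ n ih =>
    rw [pow_succ', SemidirectProduct.mul_left, toAdd_mul, Finset.sum_range_succ', act_apply,
      toAdd_ofAdd, ih]
    have h1 : (∑ k ∈ Finset.range n, (((h.right : Kˣ) : K)) ^ (k + 1)) =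
        ((h.right : Kˣ) : K) * ∑ k ∈ Finset.range n, (((h.right : Kˣ) : K)) ^ k := by
      rw [Finset.mul_sum]
      apply Finset.sum_congr rfl
      intro i _
      ring
    rw [h1]
    ring

lemma pow_right (C : Subgroup Kˣ) (h : T C) (n : ℕ) : (h ^ n).right = h.right ^ n := by
  rw [← SemidirectProduct.rightHom_eq_right, map_pow]

/-- The order of an element of the affine group with non-trivial linear part. -/
lemma orderOf_of_ne (C : Subgroup Kˣ) (h : T C) (hu : h.right ≠ 1) :
    orderOf h = orderOf h.right := by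
  apply Nat.dvd_antisymm
  · apply orderOf_dvd_of_pow_eq_one
    apply SemidirectProduct.ext
    · apply Multiplicative.toAdd.injective
      rw [pow_left]
      have h1 : (h.right ^ orderOf h.right) = 1 := pow_orderOf_eq_one _
      have h2 : (((h.right : Kˣ) : K)) ^ orderOf h.right = 1 := by
        have h3 : (((h.right ^ orderOf h.right : C) : Kˣ) : K) = 1 := by rw [h1]; rfl
        rw [Subgroup.coe_pow, Units.val_pow_eq_pow_val] at h3
        exact h3
      have hne : (((h.right : Kˣ) : K)) ≠ 1 := by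
        intro h3
        apply hu
        apply Subtype.ext
        apply Units.ext
        simpa using h3
      have h3 : (∑ i ∈ Finset.range (orderOf h.right), (((h.right : Kˣ) : K)) ^ i) = 0 := by
        have h4 := geom_sum_mul (((h.right : Kˣ) : K)) (orderOf h.right)
        rw [h2, sub_self] at h4
        exact (mul_eq_zero.1 h4).resolve_right (sub_ne_zero.2 hne)
      rw [h3, zero_mul]
      rfl
    · rw [pow_right, pow_orderOf_eq_one]
      rfl
  · have := orderOf_map_dvd (SemidirectProduct.rightHom : T C →* C) h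
    rwa [SemidirectProduct.rightHom_eq_right] at this

variable {p : ℕ} [hp : Fact p.Prime] [CharP K p]

lemma orderOf_of_eq (C : Subgroup Kˣ) (h : T C) (hu : h.right = 1) : orderOf h ∣ p := by
  apply orderOf_dvd_of_pow_eq_one
  apply SemidirectProduct.ext
  · apply Multiplicative.toAdd.injective
    rw [pow_left, hu]
    simp
  · rw [pow_right, hu, one_pow]
    rfl

omit [CharP K p] in
/-- Range of orders for the affine group over a cyclic subgroup of order `d`. -/
theorem range_orderOf [Finite K] [CharP K p] (ζ : Kˣ) :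
    Set.range (orderOf : T (Subgroup.zpowers ζ) → ℕ) = {m : ℕ | m ∣ p ∨ m ∣ orderOf ζ} := by
  have hpp : p.Prime := hp.out
  apply Set.eq_of_subset_of_subset
  · rintro _ ⟨h, rfl⟩
    by_cases hu : h.right = 1
    · left
      exact orderOf_of_eq _ h hu
    · right
      rw [orderOf_of_ne _ h hu]
      rw [Subgroup.orderOf_coe h.right |>.symm]
      obtain ⟨n, hn⟩ := h.right.2
      rw [← hn]
      apply orderOf_dvd_of_pow_eq_one
      rw [← zpow_natCast, ← zpow_mul, mul_comm, zpow_mul, zpow_natCast, pow_orderOf_eq_one, one_zpow]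
  · rintro m (hm | hm)
    · rcases (Nat.dvd_prime hpp).1 hm with rfl | rfl
      · exact ⟨1, orderOf_one⟩
      · refine ⟨SemidirectProduct.inl (Multiplicative.ofAdd 1), ?_⟩
        have h1 : orderOf (Multiplicative.ofAdd (1 : K)) = m := by
          rw [orderOf_ofAdd_eq_addOrderOf]
          exact CharP.eq K (CharP.addOrderOf_one K) inferInstance
        rw [← h1]
        exact orderOf_injective _ SemidirectProduct.inl_injective _
    · have hord : 0 < orderOf ζ := orderOf_pos ζ
      have hm0 : m ≠ 0 := fun h => by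
        rw [h, zero_dvd_iff] at hm
        omega
      have h1 : orderOf (ζ ^ (orderOf ζ / m)) = m := by
        rw [orderOf_pow_of_dvd (Nat.div_ne_zero_iff_of_dvd hm |>.2 ⟨hord.ne', hm0⟩)
          (Nat.div_dvd_of_dvd hm), Nat.div_div_self hm hord.ne']
      let u : Subgroup.zpowers ζ := ⟨ζ ^ (orderOf ζ / m), Subgroup.npow_mem_zpowers _ _⟩
      refine ⟨SemidirectProduct.inr u, ?_⟩
      rw [orderOf_injective _ SemidirectProduct.inr_injective, ← h1]
      exact Subgroup.orderOf_mk _ _

end Aff

/-- Solvability of the affine group. -/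
instance solvT {K : Type} [Field K] (C : Subgroup Kˣ) : Group.IsSolvable (T C) :=
  Group.isSolvable_of_ker_le_range (SemidirectProduct.inl : Multiplicative K →* T C)
    (SemidirectProduct.rightHom : T C →* C)
    (by rw [SemidirectProduct.range_inl_eq_ker_rightHom])

instance finT {K : Type} [Field K] [Finite K] (C : Subgroup Kˣ) : Finite (T C) :=
  Finite.of_equiv _ SemidirectProduct.equivProd.symm

/-- Orders in a direct product. -/
lemma range_prod {X Y : Type*} [Group X] [Group Y] :
    Set.range (orderOf : X × Y → ℕ) =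
      Set.image2 Nat.lcm (Set.range (orderOf : X → ℕ)) (Set.range (orderOf : Y → ℕ)) := by
  ext m
  constructor
  · rintro ⟨⟨x, y⟩, rfl⟩
    exact ⟨_, ⟨x, rfl⟩, _, ⟨y, rfl⟩, (Prod.orderOf_mk).symm⟩
  · rintro ⟨_, ⟨x, rfl⟩, _, ⟨y, rfl⟩, rfl⟩
    exact ⟨(x, y), Prod.orderOf_mk⟩

/-- Let q ≥ 4 be a prime power and L = PSL(2,q). There is a finite solvable group with the same set of element orders as L × L (so L × L is not determined by its spectrum). -/
theorem result {F : Type*} [Field F] [Fintype F] (hF : 4 ≤ Fintype.card F) :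
    ∃ (H : Type) (_ : Group H) (_ : Finite H), Group.IsSolvable H ∧
      Set.range (orderOf : H → ℕ) = Set.range (orderOf : Matrix.ProjectiveSpecialLinearGroup (Fin 2) F × Matrix.ProjectiveSpecialLinearGroup (Fin 2) F → ℕ) := by
  classical
  obtain ⟨p, hcp, n, hpp, hq⟩ := FiniteField.card' F
  haveI : Fact p.Prime := ⟨hpp⟩
  haveI := hcp
  have hspec := Cfsg.Agent.Lib.KS2.SL2.spectrum (F := F) p hF
  set q := Fintype.card F with hqdef
  set g := Nat.gcd 2 (q - 1) with hg
  set A := (q - 1) / g with hA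
  set B := (q + 1) / g with hB
  have hg0 : 0 < g := Nat.gcd_pos_of_pos_left _ (by norm_num)
  have hgA : g ∣ q - 1 := Nat.gcd_dvd_right _ _
  have hgB : g ∣ q + 1 := by
    have h1 : g ∣ 2 := Nat.gcd_dvd_left _ _
    have h2 : q + 1 = (q - 1) + 2 := by omega
    rw [h2]
    exact dvd_add hgA h1
  -- the big field
  let K : Type := GaloisField p (2 * n)
  have h2n : 2 * (n : ℕ) ≠ 0 := by have := n.pos; omega
  haveI hKf : Finite K := by
    show Finite (GaloisField p (2 * n))
    have hcard := GaloisField.card p (2 * n) h2n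
    apply Nat.finite_of_card_ne_zero
    rw [hcard]
    exact pow_ne_zero _ hpp.ne_zero
  letI hFK : Fintype K := Fintype.ofFinite K
  have hKc : Nat.card K = q ^ 2 := by
    show Nat.card (GaloisField p (2 * n)) = _
    rw [GaloisField.card p (2 * n) h2n, hq]
    ring
  have hcycl : IsCyclic Kˣ := inferInstance
  obtain ⟨z, hz⟩ := IsCyclic.exists_ofOrder_eq_natCard (α := Kˣ)
  have hzc : orderOf z = q ^ 2 - 1 := by
    rw [hz, Nat.card_units, hKc]
  have hsub : q ^ 2 - 1 = (q - 1) * (q + 1) := by
    have h1 : 1 ≤ q := by omega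
    obtain ⟨r, hr⟩ : ∃ r, q = r + 1 := ⟨q - 1, by omega⟩
    rw [hr]
    simp only [Nat.add_sub_cancel]
    have : (r + 1) ^ 2 - 1 = r * (r + 1 + 1) := by
      have h3 : (r + 1) ^ 2 = r * (r + 1 + 1) + 1 := by ring
      omega
    exact this
  have hdiv : ∀ d, d ∣ q ^ 2 - 1 → ∃ ζ : Kˣ, orderOf ζ = d := by
    intro d hd
    have hd0 : d ≠ 0 := by
      rintro rfl
      rw [zero_dvd_iff] at hd
      have : q ^ 2 ≥ 2 ^ 2 := Nat.pow_le_pow_left (by omega) 2
      omega
    have hord : d ∣ orderOf z := by rw [hzc]; exact hd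
    refine ⟨z ^ (orderOf z / d), ?_⟩
    rw [orderOf_pow_of_dvd (Nat.div_ne_zero_iff_of_dvd hord |>.2 ⟨(orderOf_pos z).ne', hd0⟩)
      (Nat.div_dvd_of_dvd hord), Nat.div_div_self hord (orderOf_pos z).ne']
  obtain ⟨ζA, hζA⟩ := hdiv A (by
    rw [hsub]
    exact Dvd.dvd.mul_right (Nat.div_dvd_of_dvd hgA) _)
  obtain ⟨ζB, hζB⟩ := hdiv B (by
    rw [hsub]
    exact Dvd.dvd.mul_left (Nat.div_dvd_of_dvd hgB) _)
  haveI hcK : CharP K p := by
    show CharP (GaloisField p (2 * n)) p
    infer_instance
  refine ⟨T (Subgroup.zpowers ζA) × T (Subgroup.zpowers ζB), inferInstance, inferInstance,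
    inferInstance, ?_⟩
  rw [range_prod, range_prod, range_orderOf (p := p), range_orderOf (p := p), hspec, hζA, hζB]
  have hpone : (1 : ℕ) ∣ p := one_dvd _
  apply Set.Subset.antisymm
  · apply Set.image2_subset
    · rintro m (h | h)
      · exact Or.inl h
      · exact Or.inr (Or.inl h)
    · rintro m (h | h)
      · exact Or.inl h
      · exact Or.inr (Or.inr h)
  · rintro _ ⟨a, ha, b, hb, rfl⟩
    have hrA : ∀ x, (x ∣ p ∨ x ∣ A) → x ∈ {m : ℕ | m ∣ p ∨ m ∣ A} := fun x h => h
    have hrB : ∀ x, (x ∣ p ∨ x ∣ B) → x ∈ {m : ℕ | m ∣ p ∨ m ∣ B} := fun x h => h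
    rcases ha with ha | ha | ha <;> rcases hb with hb | hb | hb
    · exact ⟨a, Or.inl ha, b, Or.inl hb, rfl⟩
    · exact ⟨b, Or.inr hb, a, Or.inl ha, Nat.lcm_comm _ _⟩
    · exact ⟨a, Or.inl ha, b, Or.inr hb, rfl⟩
    · exact ⟨a, Or.inr ha, b, Or.inl hb, rfl⟩
    · exact ⟨Nat.lcm a b, Or.inr (Nat.lcm_dvd ha hb), 1, Or.inl hpone, Nat.lcm_one_right _⟩
    · exact ⟨a, Or.inr ha, b, Or.inr hb, rfl⟩
    · exact ⟨b, Or.inl hb, a, Or.inr ha, Nat.lcm_comm _ _⟩
    · exact ⟨b, Or.inr hb, a, Or.inr ha, Nat.lcm_comm _ _⟩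
    · exact ⟨1, Or.inl hpone, Nat.lcm a b, Or.inr (Nat.lcm_dvd ha hb), Nat.lcm_one_left _⟩

end Cfsg.Agent.S3532
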