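import Cfsg.Statements.S3554
import Mathlib

set_option autoImplicit false
open Cfsg

namespace Cfsg.Agent.S3554

/-- Let G act faithfully and transitively on a finite set and suppose G has a non-trivial cyclic normal subgroup. Then some element of G of prime order fixes no point. -/
theorem result {G Ω : Type*} [Group G] [Finite G] [MulAction G Ω] [FaithfulSMul G Ω] [Finite Ω]
    (htrans : MulAction.IsPretransitive G Ω) (C : Subgroup G) (hC : C.Normal) (hC1 : C ≠ ⊥) (hcyc : IsCyclic ↥C) :
    ∃ g : G, (orderOf g).Prime ∧ ∀ ω : Ω, g • ω ≠ ω := by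
  classical
  have : Fintype C := Fintype.ofFinite C
  have hC1 : Nat.card C ≠ 1 := by
    intro h
    exact hC1 (Subgroup.eq_bot_of_card_eq C h)
  obtain ⟨p, hp, hpd⟩ := Nat.exists_prime_and_dvd hC1
  have hpf : Fact p.Prime := ⟨hp⟩
  obtain ⟨z, hz⟩ := exists_prime_orderOf_dvd_card' (G := C) p hpd
  -- every solution of `x ^ p = 1` in `C` is a power of `z`
  have key : ∀ x : C, x ^ p = 1 → x ∈ Subgroup.zpowers z := by
    intro x hx
    have hle := IsCyclic.card_pow_eq_one_le (α := C) hp.pos
    have hsub : (Subgroup.zpowers z : Set C).toFinset ⊆ Finset.univ.filter (fun a : C => a ^ p = 1) := by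
      intro y hy
      simp only [Set.mem_toFinset, SetLike.mem_coe] at hy
      obtain ⟨k, rfl⟩ := Subgroup.mem_zpowers_iff.1 hy
      simp only [Finset.mem_filter, Finset.mem_univ, true_and]
      rw [← zpow_natCast, zpow_comm, zpow_natCast, ← hz, pow_orderOf_eq_one, one_zpow]
    have hcard : (Subgroup.zpowers z : Set C).toFinset.card = p := by
      rw [Set.toFinset_card, ← Nat.card_eq_fintype_card]
      exact (Nat.card_zpowers z).trans hz
    have heq := Finset.eq_of_subset_of_card_le hsub (by rw [hcard]; exact hle)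
    have hx' : x ∈ Finset.univ.filter (fun a : C => a ^ p = 1) := by simp [hx]
    rw [← heq] at hx'
    simpa using hx'
  have hz1 : (z : G) ≠ 1 := by
    intro h
    have : z = 1 := Subtype.ext h
    rw [this, orderOf_one] at hz
    exact hp.one_lt.ne hz
  refine ⟨z, ?_, ?_⟩
  · have : orderOf (z : G) = p := by
      rw [← hz]; exact Subgroup.orderOf_coe z
    rw [this]; exact hp
  · intro ω hω
    apply hz1
    apply eq_of_smul_eq_smul (α := Ω)
    intro y
    rw [one_smul]
    obtain ⟨g, rfl⟩ := MulAction.exists_smul_eq G ω y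
    -- `g⁻¹ z g` is in `C` with `p`-th power 1
    have hmem : g⁻¹ * (z : G) * (g⁻¹)⁻¹ ∈ C := hC.conj_mem _ z.2 _
    let w : C := ⟨_, hmem⟩
    have hw : w ^ p = 1 := by
      apply Subtype.ext
      have h3 : (z : G) ^ p = 1 := by
        have := pow_orderOf_eq_one z
        rw [hz] at this
        exact congrArg Subtype.val this
      simp only [w, Subgroup.coe_pow, Subgroup.coe_one]
      rw [conj_pow, h3]; simp
    obtain ⟨k, hk⟩ := Subgroup.mem_zpowers_iff.1 (key w hw)
    have hzk : ((z : G) ^ k) • ω = ω := by
      have : ∀ k : ℤ, ((z : G) ^ k) • ω = ω := by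
        intro k
        have hst : (z : G) ∈ MulAction.stabilizer G ω := hω
        exact (MulAction.stabilizer G ω).zpow_mem hst k
      exact this k
    have h4 : (z : G) ^ k = g⁻¹ * (z : G) * g := by
      have := congrArg Subtype.val hk
      simpa [w] using this
    rw [h4] at hzk
    have h5 : (z : G) • g • ω = g • ((g⁻¹ * (z : G) * g) • ω) := by
      simp [mul_smul]
    rw [h5, hzk]

end Cfsg.Agent.S3554
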