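import Cfsg.Statements.S3555
import Mathlib

set_option autoImplicit false
open Cfsg

namespace Cfsg.Agent.S3555

open scoped Pointwise

section
variable {G Ω : Type*} [Group G] [MulAction G Ω]

/-- Counting core: if all derangements are involutions, then a non-identity element fixes at most
one point. -/
lemma fix_le_one [Fintype G] [Fintype Ω] [DecidableEq G] [DecidableEq Ω] [FaithfulSMul G Ω]
    (htrans : MulAction.IsPretransitive G Ω) (hinv : ∀ g : G, (∀ ω : Ω, g • ω ≠ ω) → orderOf g = 2)
    [Nonempty Ω] (g : G) (hg : g ≠ 1) (a b : Ω) (ha : g • a = a) (hb : g • b = b) : a = b := by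
  classical
  set n : ℕ := Fintype.card Ω with hn
  let fix : G → ℕ := fun g => (Finset.univ.filter (fun a : Ω => g • a = a)).card
  let D : Finset G := Finset.univ.filter (fun g : G => ∀ ω : Ω, g • ω ≠ ω)
  let st2 : Ω → Ω → Finset G := fun a b => Finset.univ.filter (fun g : G => g • a = a ∧ g • b = b)
  let R : Ω → ℕ := fun a => ∑ b ∈ Finset.univ.erase a, (st2 a b).card
  -- involutions
  have hD2 : ∀ y ∈ D, y * y = 1 := by
    intro y hy
    have h2 := hinv y (by simpa [D] using hy)
    have := pow_orderOf_eq_one y
    rw [h2, pow_two] at this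
    exact this
  -- upper bound for `D`
  have hS1 : ∀ a : Ω, D.card ≤ R a := by
    intro a
    have hmaps : ∀ y ∈ D, y • a ∈ (Finset.univ.erase a : Finset Ω) := by
      intro y hy
      have : ∀ ω : Ω, y • ω ≠ ω := by simpa [D] using hy
      simp [this a]
    rw [Finset.card_eq_sum_card_fiberwise hmaps]
    apply Finset.sum_le_sum
    intro b _
    rcases (D.filter (fun y => y • a = b)).eq_empty_or_nonempty with he | ⟨y0, hy0⟩
    · rw [he]; simp
    have hy0D := (Finset.mem_filter.1 hy0).1
    have hy0a := (Finset.mem_filter.1 hy0).2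
    apply Finset.card_le_card_of_injOn (fun y => y0⁻¹ * y)
    · intro y hy
      have hyy := Finset.mem_coe.1 hy
      have hyD := (Finset.mem_filter.1 hyy).1
      have hya := (Finset.mem_filter.1 hyy).2
      have hy0inv : y0⁻¹ = y0 := inv_eq_of_mul_eq_one_left (hD2 y0 hy0D)
      have hyinv : y • b = a := by
        rw [← hya, smul_smul, hD2 y hyD, one_smul]
      have hy0b : y0 • b = a := by
        rw [← hy0a, smul_smul, hD2 y0 hy0D, one_smul]
      simp only [st2, Finset.coe_filter, Finset.mem_univ, true_and, Set.mem_ofPred_eq]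
      constructor
      · rw [mul_smul, hya, hy0inv]
        exact hy0b
      · rw [mul_smul, hyinv, hy0inv, hy0a]
    · intro x _ y _ hxy
      exact mul_left_cancel hxy
  -- first moment
  have hS2 : ∑ g : G, fix g = Fintype.card G := by
    have h1 := MulAction.sum_card_fixedBy_eq_card_orbits_mul_card_group G Ω
    have h2 : Fintype.card (MulAction.orbitRel.Quotient G Ω) = 1 := by
      rw [Fintype.card_eq_one_iff]
      refine ⟨Quotient.mk _ (Classical.arbitrary Ω), fun y => ?_⟩
      induction y using Quotient.inductionOn with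
      | _ y =>
        obtain ⟨g, hg⟩ := MulAction.exists_smul_eq G (Classical.arbitrary Ω) y
        exact Quotient.sound (MulAction.orbitRel_apply.2 ⟨g, hg⟩)
    rw [h2, one_mul] at h1
    rw [← h1]
    apply Finset.sum_congr rfl
    intro g _
    simp only [fix]
    rw [Fintype.card_subtype]
    rfl
  -- second moment
  have hfix_eq : ∀ g : G, fix g = ∑ a : Ω, if g • a = a then 1 else 0 := by
    intro g
    simp only [fix, Finset.card_filter]
  have hS3 : ∑ g : G, fix g * fix g = Fintype.card G + ∑ a : Ω, R a := by
    have h1 : ∑ g : G, fix g * fix g = ∑ a : Ω, ∑ b : Ω, (st2 a b).card := by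
      have : ∀ g : G, fix g * fix g
          = ∑ a : Ω, ∑ b : Ω, if g • a = a ∧ g • b = b then 1 else 0 := by
        intro g
        rw [hfix_eq g, Finset.sum_mul_sum]
        apply Finset.sum_congr rfl
        intro a _
        apply Finset.sum_congr rfl
        intro b _
        by_cases h1 : g • a = a <;> by_cases h2 : g • b = b <;> simp [h1, h2]
      simp_rw [this]
      rw [Finset.sum_comm]
      apply Finset.sum_congr rfl
      intro a _
      rw [Finset.sum_comm]
      apply Finset.sum_congr rfl
      intro b _
      simp only [st2, Finset.card_filter]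
    rw [h1]
    have h2 : ∀ a : Ω, ∑ b : Ω, (st2 a b).card = (st2 a a).card + R a := by
      intro a
      simp only [R]
      rw [← Finset.add_sum_erase _ _ (Finset.mem_univ a)]
    simp_rw [h2]
    rw [Finset.sum_add_distrib]
    congr 1
    rw [← hS2]
    have h3 : ∀ a : Ω, (st2 a a).card = ∑ g : G, if g • a = a then 1 else 0 := by
      intro a
      simp only [st2, Finset.card_filter, and_self]
    simp_rw [h3, hfix_eq]
    rw [Finset.sum_comm]
  have hfixle : ∀ g : G, fix g ≤ n := by
    intro g
    exact Finset.card_le_univ _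
  -- the integer identity
  let term : G → ℤ := fun g => ((fix g : ℤ) - 1) * ((fix g : ℤ) - n)
  let bound : G → ℤ := fun g => if g ∈ D then (n : ℤ) else 0
  have hterm_le : ∀ g : G, term g ≤ bound g := by
    intro g
    by_cases hgD : g ∈ D
    · have h0 : fix g = 0 := by
        simp only [fix]
        rw [Finset.card_eq_zero, Finset.filter_eq_empty_iff]
        intro x _
        exact (by simpa [D] using hgD : ∀ ω : Ω, g • ω ≠ ω) x
      simp [term, bound, hgD, h0]
    · have h1 : 1 ≤ fix g := by
        simp only [fix]
        rw [Nat.succ_le_iff, Finset.card_pos]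
        have : ¬ ∀ ω : Ω, g • ω ≠ ω := by simpa [D] using hgD
        push Not at this
        obtain ⟨ω, hω⟩ := this
        exact ⟨ω, by simp [hω]⟩
      have h2 := hfixle g
      have h3 : (1 : ℤ) ≤ fix g := by exact_mod_cast h1
      have h4 : (fix g : ℤ) ≤ n := by exact_mod_cast h2
      simp only [term, bound, hgD, if_false]
      nlinarith
  have hsum_term : ∑ g : G, term g = ∑ a : Ω, (R a : ℤ) := by
    have h1 : ∑ g : G, term g = ∑ g : G, ((fix g : ℤ) * fix g) - (n + 1) * ∑ g : G, (fix g : ℤ)
        + n * Fintype.card G := by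
      simp only [term]
      have : ∀ g : G, ((fix g : ℤ) - 1) * ((fix g : ℤ) - n)
          = (fix g : ℤ) * fix g - (n + 1) * (fix g : ℤ) + n := by
        intro g; ring
      simp_rw [this]
      rw [Finset.sum_add_distrib, Finset.sum_sub_distrib, ← Finset.mul_sum]
      simp [Finset.card_univ]
      ring
    have h2 : ∑ g : G, ((fix g : ℤ) * fix g) = (Fintype.card G : ℤ) + ∑ a : Ω, (R a : ℤ) := by
      exact_mod_cast hS3
    have h3 : ∑ g : G, (fix g : ℤ) = (Fintype.card G : ℤ) := by
      exact_mod_cast hS2
    rw [h1, h2, h3]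
    ring
  have hsum_bound : ∑ g : G, bound g = n * D.card := by
    simp only [bound]
    rw [Finset.sum_ite_mem]
    simp
    ring
  have hsum_le : ∑ a : Ω, (R a : ℤ) ≤ n * D.card := by
    rw [← hsum_term, ← hsum_bound]
    exact Finset.sum_le_sum (fun g _ => hterm_le g)
  have hsum_ge : (n : ℤ) * D.card ≤ ∑ a : Ω, (R a : ℤ) := by
    have : ∑ _a : Ω, (D.card : ℤ) ≤ ∑ a : Ω, (R a : ℤ) := by
      apply Finset.sum_le_sum
      intro a _
      exact_mod_cast hS1 a
    simpa [Finset.card_univ, hn] using this
  have htermeq : ∀ g : G, term g = bound g := by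
    have h1 : ∑ g : G, term g = ∑ g : G, bound g := by
      rw [hsum_term, hsum_bound]
      exact le_antisymm hsum_le hsum_ge
    have := (Finset.sum_eq_sum_iff_of_le (fun g _ => hterm_le g)).1 h1
    exact fun g => this g (Finset.mem_univ g)
  -- conclusion
  have hgD : g ∉ D := by
    have : ¬ ∀ ω : Ω, g • ω ≠ ω := by
      push Not
      exact ⟨a, ha⟩
    simpa [D] using this
  have h0 := htermeq g
  simp only [term, bound, hgD, if_false] at h0
  have hcases := mul_eq_zero.1 h0
  rcases hcases with h1 | h1
  · have h2 : fix g = 1 := by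
      have : (fix g : ℤ) = 1 := by linarith
      exact_mod_cast this
    simp only [fix] at h2
    rw [Finset.card_eq_one] at h2
    obtain ⟨c, hc⟩ := h2
    have ha' : a ∈ Finset.univ.filter (fun a : Ω => g • a = a) := by simp [ha]
    have hb' : b ∈ Finset.univ.filter (fun a : Ω => g • a = a) := by simp [hb]
    rw [hc, Finset.mem_singleton] at ha' hb'
    rw [ha', hb']
  · exfalso
    have h2 : fix g = n := by
      have : (fix g : ℤ) = n := by linarith
      exact_mod_cast this
    apply hg
    apply FaithfulSMul.eq_of_smul_eq_smul (α := Ω)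
    intro x
    rw [one_smul]
    have hfull : Finset.univ.filter (fun a : Ω => g • a = a) = Finset.univ := by
      apply Finset.eq_univ_of_card
      exact h2
    have : x ∈ Finset.univ.filter (fun a : Ω => g • a = a) := by rw [hfull]; simp
    simpa using this

end

/-- Let G act faithfully and transitively on a finite set and suppose every element of G fixing no point is an involution. Then either G is an elementary abelian 2-group, or G is a Frobenius group whose Frobenius kernel is an elementary abelian 2-group: G has a Frobenius complement H, and the elements lying in no conjugate of H, together with the identity, pairwise commute and square to the identity. -/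
theorem result {G Ω : Type*} [Group G] [Finite G] [MulAction G Ω] [FaithfulSMul G Ω] [Finite Ω]
    (htrans : MulAction.IsPretransitive G Ω) (hinv : ∀ g : G, (∀ ω : Ω, g • ω ≠ ω) → orderOf g = 2) :
    (IsMulCommutative G ∧ ∀ g : G, g ^ 2 = 1) ∨
    (∃ H : Subgroup G, Cfsg.IsFrobeniusComplement H ∧
      (∀ x ∈ Cfsg.frobeniusKernel H, x ^ 2 = 1) ∧
      ∀ x ∈ Cfsg.frobeniusKernel H, ∀ y ∈ Cfsg.frobeniusKernel H, x * y = y * x) := by
  classical
  haveI : Fintype G := Fintype.ofFinite G
  haveI : Fintype Ω := Fintype.ofFinite Ω
  have hexp : (∀ g : G, g ^ 2 = 1) → IsMulCommutative G := by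
    intro h
    refine ⟨⟨fun a b => ?_⟩⟩
    have h1 : ∀ g : G, g * g = 1 := fun g => by rw [← pow_two]; exact h g
    have h2 := h1 (a * b)
    calc a * b = a * (a * b * (a * b)) * b := by rw [h2]; simp
      _ = (a * a) * b * a * (b * b) := by group
      _ = b * a := by rw [h1 a, h1 b]; simp
  rcases isEmpty_or_nonempty Ω with hemp | hne
  · left
    have hsub : Subsingleton G := by
      refine ⟨fun a b => ?_⟩
      apply FaithfulSMul.eq_of_smul_eq_smul (α := Ω)
      intro x
      exact (hemp.false x).elim
    have h2 : ∀ g : G, g ^ 2 = 1 := fun g => Subsingleton.elim _ _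
    exact ⟨hexp h2, h2⟩
  have hfix := fun (g : G) hg a b ha hb => fix_le_one htrans hinv g hg a b ha hb
  obtain ⟨ω⟩ := hne
  set H := MulAction.stabilizer G ω with hH
  -- derangements
  have hderange : ∀ x : G, (∀ g : G, x ∉ MulAut.conj g • H) → ∀ a : Ω, x • a ≠ a := by
    intro x hx a ha
    obtain ⟨g, hg⟩ := MulAction.exists_smul_eq G ω a
    apply hx g
    rw [Subgroup.mem_pointwise_smul_iff_inv_smul_mem]
    rw [MulAut.smul_def]
    simp only [map_inv, MulAut.conj_inv_apply]
    rw [hH, MulAction.mem_stabilizer_iff, mul_smul, mul_smul, hg, ha, ← hg, inv_smul_smul]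
  by_cases hHbot : H = ⊥
  · left
    have h2 : ∀ g : G, g ^ 2 = 1 := by
      intro g
      by_cases hg : g = 1
      · simp [hg]
      have : orderOf g = 2 := by
        apply hinv
        intro a ha
        obtain ⟨h, hh⟩ := MulAction.exists_smul_eq G ω a
        have h1 : h⁻¹ * g * h ∈ H := by
          rw [hH, MulAction.mem_stabilizer_iff, mul_smul, mul_smul, hh, ha, ← hh, inv_smul_smul]
        rw [hHbot, Subgroup.mem_bot] at h1
        apply hg
        have h3 : g = h * (h⁻¹ * g * h) * h⁻¹ := by group
        rw [h3, h1]
        simp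
      rw [← this]
      exact pow_orderOf_eq_one g
    exact ⟨hexp h2, h2⟩
  right
  have hDinv : ∀ x ∈ Cfsg.frobeniusKernel H, x ^ 2 = 1 := by
    intro x hx
    rcases hx with rfl | hx
    · simp
    · have := hinv x (hderange x hx)
      rw [← this]
      exact pow_orderOf_eq_one x
  refine ⟨H, ⟨hHbot, ?_, ?_⟩, hDinv, ?_⟩
  · intro htop
    apply hHbot
    rw [eq_bot_iff]
    intro g _
    rw [Subgroup.mem_bot]
    apply FaithfulSMul.eq_of_smul_eq_smul (α := Ω)
    intro x
    rw [one_smul]
    obtain ⟨h, hh⟩ := MulAction.exists_smul_eq G ω x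
    have h1 : ∀ k : G, k • ω = ω := fun k => by
      have : k ∈ H := htop ▸ Subgroup.mem_top k
      exact this
    have hxω : x = ω := by rw [← hh, h1 h]
    rw [hxω]
    exact h1 g
  · intro g hg
    rw [eq_bot_iff]
    intro x hx
    rw [Subgroup.mem_bot]
    by_contra hx1
    obtain ⟨hx1', hx2⟩ := Subgroup.mem_inf.1 hx
    rw [Subgroup.mem_pointwise_smul_iff_inv_smul_mem, MulAut.smul_def] at hx2
    simp only [map_inv, MulAut.conj_inv_apply] at hx2
    have h2 : x • (g • ω) = g • ω := by
      have h3 : (g⁻¹ * x * g) • ω = ω := hx2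
      rw [mul_smul, mul_smul] at h3
      rw [inv_smul_eq_iff] at h3
      exact h3
    have h4 := hfix x hx1 ω (g • ω) hx1' h2
    apply hg
    rw [hH, MulAction.mem_stabilizer_iff]
    exact h4.symm
  · intro x hx y hy
    rcases hx with rfl | hx
    · simp
    rcases hy with rfl | hy
    · simp
    have hx2 : x * x = 1 := by
      have := hDinv x (Or.inr hx)
      rwa [pow_two] at this
    have hy2 : y * y = 1 := by
      have := hDinv y (Or.inr hy)
      rwa [pow_two] at this
    by_cases hxy : ∀ a : Ω, (x * y) • a ≠ a
    · have h1 := hinv _ hxy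
      have h2 := pow_orderOf_eq_one (x * y)
      rw [h1, pow_two] at h2
      calc x * y = x * (x * y * (x * y)) * y := by rw [h2]; simp
        _ = (x * x) * y * x * (y * y) := by group
        _ = y * x := by rw [hx2, hy2]; simp
    · push Not at hxy
      obtain ⟨a, ha⟩ := hxy
      have hb : y • a = x • a := by
        have := congrArg (fun z => x • z) ha
        simp only [smul_smul] at this
        rw [← mul_assoc, hx2, one_mul] at this
        exact this
      have h3 := hderange x hx a
      have hxinv : x⁻¹ = x := inv_eq_of_mul_eq_one_left hx2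
      have hfixa : (x⁻¹ * y) • a = a := by
        rw [hxinv]
        exact ha
      have hfixb : (x⁻¹ * y) • (x • a) = x • a := by
        rw [hxinv, mul_smul, ← hb, smul_smul y y, hy2, one_smul, hb]
      have hne1 : x⁻¹ * y = 1 := by
        by_contra hne
        exact h3 (hfix _ hne a (x • a) hfixa hfixb).symm
      have : x = y := by
        rw [hxinv] at hne1
        calc x = x * (x * y) := by rw [hne1, mul_one]
          _ = (x * x) * y := by group
          _ = y := by rw [hx2, one_mul]
      rw [this]

end Cfsg.Agent.S3555
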