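import Cfsg.Statements.S3556
import Cfsg.Agent.Lib.Derangement.Basic
import Mathlib

set_option autoImplicit false
open Cfsg

namespace Cfsg.Agent.S3556

open MulAction
open Cfsg.Agent.Lib.Derangement (Trans trans_of_normal eq_one_of_commute_of_fix exists_not_mem_conj)

/-- A finite group that is not a `p`-group has an element of prime order different from `p`. -/
lemma exists_prime_order_ne {Γ : Type*} [Group Γ] [Finite Γ] {p : ℕ} (hp : p.Prime)
    (h : ¬ IsPGroup p Γ) : ∃ y : Γ, (orderOf y).Prime ∧ orderOf y ≠ p := by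
  classical
  by_contra hcon
  push Not at hcon
  apply h
  haveI : Fact p.Prime := ⟨hp⟩
  have hall : ∀ {d : ℕ}, d.Prime → d ∣ Nat.card Γ → d = p := by
    intro d hd hdvd
    haveI : Fact d.Prime := ⟨hd⟩
    obtain ⟨y, hy⟩ := exists_prime_orderOf_dvd_card' d hdvd
    rw [← hy]
    exact hcon y (by rw [hy]; exact hd)
  exact IsPGroup.of_card (Nat.eq_prime_pow_of_unique_prime_dvd Nat.card_pos.ne' hall)

theorem main {G Ω : Type*} [Group G] [Finite G] [MulAction G Ω] [FaithfulSMul G Ω] [Finite Ω]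
    (hprim : MulAction.IsPreprimitive G Ω) (hΩ : 2 ≤ Nat.card Ω) (p : ℕ) (hp : p.Prime)
    (hder : ∀ g : G, (∀ ω : Ω, g • ω ≠ ω) → ∃ k : ℕ, orderOf g = p ^ k) :
    (∃ (N : Subgroup G) (r : ℕ), r.Prime ∧ N.Normal ∧ Cfsg.IsElementaryAbelian r N ∧
      MulAction.IsPretransitive N Ω ∧ ∀ a : Ω, MulAction.stabilizer N a = ⊥) ∨
    (∃ T : Subgroup G, T.Normal ∧ IsSimpleGroup ↥T ∧ ¬ IsMulCommutative ↥T ∧
      Subgroup.centralizer (T : Set G) = ⊥) := by
  classical
  haveI := hprim
  haveI : Fact p.Prime := ⟨hp⟩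
  obtain ⟨a⟩ : Nonempty Ω := by
    apply Nat.card_pos_iff.1 _ |>.1
    omega
  -- `G` is non-trivial
  have htop : (⊤ : Subgroup G) ≠ ⊥ := by
    intro h
    have h1 : Nontrivial Ω := (Finite.one_lt_card_iff_nontrivial).1 (by omega)
    obtain ⟨x, y, hxy⟩ := h1
    obtain ⟨g, hg⟩ := MulAction.exists_smul_eq G x y
    have : g = 1 := by
      have hg' : g ∈ (⊤ : Subgroup G) := Subgroup.mem_top g
      rw [h, Subgroup.mem_bot] at hg'
      exact hg'
    rw [this, one_smul] at hg
    exact hxy hg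
  -- a minimal normal subgroup
  obtain ⟨N, hNmin⟩ : ∃ N : Subgroup G, Minimal (fun M : Subgroup G => M.Normal ∧ M ≠ ⊥) N :=
    (Set.toFinite {M : Subgroup G | M.Normal ∧ M ≠ ⊥}).exists_minimal ⟨⊤, inferInstance, htop⟩
  obtain ⟨⟨hNn, hNbot⟩, hNm⟩ := hNmin
  haveI := hNn
  have hNminimal : ∀ M : Subgroup G, M.Normal → M ≠ ⊥ → M ≤ N → M = N := by
    intro M hM hM1 hle
    exact le_antisymm hle (hNm ⟨hM, hM1⟩ hle)
  have hNtrans : Trans N Ω := trans_of_normal hNbot
  by_cases hab : ∀ x ∈ N, ∀ y ∈ N, x * y = y * x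
  · -- abelian case
    left
    haveI : Nontrivial ↥N := (Subgroup.nontrivial_iff_ne_bot N).2 hNbot
    obtain ⟨r, hr, hrd⟩ := Nat.exists_prime_and_dvd (Finite.one_lt_card (α := ↥N)).ne'
    haveI : Fact r.Prime := ⟨hr⟩
    obtain ⟨z, hz⟩ := exists_prime_orderOf_dvd_card' r hrd
    -- the `r`-torsion
    let M : Subgroup G :=
      { carrier := {x | x ∈ N ∧ x ^ r = 1}
        one_mem' := ⟨N.one_mem, one_pow _⟩
        mul_mem' := by
          rintro x y ⟨hx, hx1⟩ ⟨hy, hy1⟩
          refine ⟨N.mul_mem hx hy, ?_⟩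
          have hc : Commute x y := hab x hx y hy
          rw [hc.mul_pow, hx1, hy1, one_mul]
        inv_mem' := by
          rintro x ⟨hx, hx1⟩
          exact ⟨N.inv_mem hx, by rw [inv_pow, hx1, inv_one]⟩ }
    have hMn : M.Normal := by
      constructor
      rintro x ⟨hx, hx1⟩ g
      refine ⟨hNn.conj_mem x hx g, ?_⟩
      rw [conj_pow, hx1]
      simp
    have hMbot : M ≠ ⊥ := by
      intro h
      have hzM : (z : G) ∈ M := by
        refine ⟨z.2, ?_⟩
        have := pow_orderOf_eq_one z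
        rw [hz] at this
        have h2 := congrArg (Subtype.val) this
        simpa using h2
      rw [h, Subgroup.mem_bot] at hzM
      have hz1 : z = 1 := Subtype.ext hzM
      rw [hz1, orderOf_one] at hz
      exact hr.one_lt.ne hz
    have hMN : M = N := hNminimal M hMn hMbot (fun x hx => hx.1)
    refine ⟨N, r, hr, hNn, ⟨⟨⟨?_⟩⟩, ?_⟩, ?_, ?_⟩
    · rintro ⟨x, hx⟩ ⟨y, hy⟩
      exact Subtype.ext (hab x hx y hy)
    · intro x hx
      rw [← hMN] at hx
      exact hx.2
    · constructor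
      intro x y
      obtain ⟨s, hs, h⟩ := hNtrans x y
      exact ⟨⟨s, hs⟩, h⟩
    · intro ω
      rw [eq_bot_iff]
      rintro ⟨x, hx⟩ hfix
      rw [Subgroup.mem_bot]
      apply Subtype.ext
      show x = 1
      apply eq_one_of_commute_of_fix hNtrans (fun s hs => hab x hx s hs) (ω := ω)
      exact hfix
  -- non-abelian case: a minimal `N`-invariant subgroup
  let PP : Subgroup G → Prop := fun T => T ≠ ⊥ ∧ T ≤ N ∧ ∀ n ∈ N, ∀ t ∈ T, n * t * n⁻¹ ∈ T
  obtain ⟨T, hTmin⟩ : ∃ T : Subgroup G, Minimal PP T :=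
    (Set.toFinite {M : Subgroup G | PP M}).exists_minimal
      ⟨N, hNbot, le_rfl, fun n hn t ht => N.mul_mem (N.mul_mem hn ht) (N.inv_mem hn)⟩
  obtain ⟨⟨hTbot, hTN, hTinv⟩, hTm⟩ := hTmin
  have hTminimal : ∀ M : Subgroup G, PP M → M ≤ T → M = T := fun M hM hle =>
    le_antisymm hle (hTm hM hle)
  -- conjugates
  let cj : G → Subgroup G := fun g => T.map (MulAut.conj g).toMonoidHom
  have hcjmem : ∀ g t, t ∈ T → g * t * g⁻¹ ∈ cj g := fun g t ht => ⟨t, ht, rfl⟩
  have hcjinv : ∀ g x, x ∈ cj g → g⁻¹ * x * g ∈ T := by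
    rintro g _ ⟨t, ht, rfl⟩
    simpa [MulAut.conj_apply, mul_assoc] using ht
  have hcjN : ∀ g, cj g ≤ N := by
    rintro g _ ⟨t, ht, rfl⟩
    exact hNn.conj_mem t (hTN ht) g
  have hcjinv2 : ∀ g, ∀ n ∈ N, ∀ x ∈ cj g, n * x * n⁻¹ ∈ cj g := by
    intro g n hn x hx
    have h1 := hcjinv g x hx
    have h2 : g⁻¹ * n * g ∈ N := by
      have := hNn.conj_mem n hn g⁻¹
      simpa using this
    have h3 := hTinv _ h2 _ h1
    refine ⟨(g⁻¹ * n * g) * (g⁻¹ * x * g) * (g⁻¹ * n * g)⁻¹, h3, ?_⟩
    simp [MulAut.conj_apply]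
    group
  -- dichotomy for conjugates
  have hdich : ∀ g, cj g = T ∨ ∀ x ∈ cj g, ∀ t ∈ T, x * t = t * x := by
    intro g
    by_cases hg : cj g = T
    · exact Or.inl hg
    right
    have hcard : Nat.card (cj g) = Nat.card T :=
      Nat.card_congr (T.equivMapOfInjective _ (MulAut.conj g).injective).symm.toEquiv
    have hinter : cj g ⊓ T = ⊥ := by
      by_contra hne
      have h1 : PP (cj g ⊓ T) := by
        refine ⟨hne, inf_le_right.trans hTN, ?_⟩
        rintro n hn t ⟨ht1, ht2⟩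
        exact ⟨hcjinv2 g n hn t ht1, hTinv n hn t ht2⟩
      have h2 := hTminimal _ h1 inf_le_right
      have h3 : T ≤ cj g := by
        rw [← h2]
        exact inf_le_left
      exact hg (Subgroup.eq_of_le_of_card_ge h3 hcard.le).symm
    intro x hx t ht
    have h1 : x * t * x⁻¹ * t⁻¹ ∈ T := T.mul_mem (hTinv x (hcjN g hx) t ht) (T.inv_mem ht)
    have h2 : x * t * x⁻¹ * t⁻¹ ∈ cj g := by
      have h3 := hcjinv2 g t (hTN ht) x⁻¹ ((cj g).inv_mem hx)
      have h4 : x * t * x⁻¹ * t⁻¹ = x * (t * x⁻¹ * t⁻¹) := by group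
      rw [h4]
      exact (cj g).mul_mem hx h3
    have h3 : x * t * x⁻¹ * t⁻¹ ∈ cj g ⊓ T := ⟨h2, h1⟩
    rw [hinter, Subgroup.mem_bot] at h3
    have h4 : x * t * x⁻¹ = t := by
      have := congrArg (· * t) h3
      simpa using this
    have := congrArg (· * x) h4
    simpa using this
  -- the normal closure
  have hclosure : Subgroup.normalClosure (T : Set G) = N := by
    apply hNminimal _ (Subgroup.normalClosure_normal) _
    · exact Subgroup.normalClosure_le_normal (by exact hTN)
    · intro h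
      apply hTbot
      rw [eq_bot_iff, ← h]
      exact Subgroup.subset_normalClosure
  have hconjmem : ∀ x ∈ Group.conjugatesOfSet (T : Set G), ∃ g, x ∈ cj g := by
    intro x hx
    obtain ⟨b, hb, hbx⟩ := Group.mem_conjugatesOfSet_iff.1 hx
    obtain ⟨c, hc⟩ := isConj_iff.1 hbx
    exact ⟨c, by rw [← hc]; exact hcjmem c b hb⟩
  -- every element of `N` acts on `T` as an element of `T`
  have hQ : ∀ n ∈ N, ∃ t ∈ T, ∀ s ∈ T, n * s * n⁻¹ = t * s * t⁻¹ := by
    intro n hn
    rw [← hclosure] at hn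
    induction hn using Subgroup.closure_induction with
    | mem x hx =>
      obtain ⟨g, hg⟩ := hconjmem x hx
      rcases hdich g with h | h
      · rw [h] at hg
        exact ⟨x, hg, fun s _ => rfl⟩
      · refine ⟨1, T.one_mem, fun s hs => ?_⟩
        rw [h x hg s hs]
        simp
    | one => exact ⟨1, T.one_mem, fun s _ => by simp⟩
    | mul x y hx hy ihx ihy =>
      obtain ⟨t₁, ht₁, h₁⟩ := ihx
      obtain ⟨t₂, ht₂, h₂⟩ := ihy
      refine ⟨t₁ * t₂, T.mul_mem ht₁ ht₂, fun s hs => ?_⟩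
      have h3 : x * y * s * (x * y)⁻¹ = x * (y * s * y⁻¹) * x⁻¹ := by group
      rw [h3, h₂ s hs, h₁ _ (T.mul_mem (T.mul_mem ht₂ hs) (T.inv_mem ht₂))]
      group
    | inv x hx ihx =>
      obtain ⟨t, ht, h⟩ := ihx
      refine ⟨t⁻¹, T.inv_mem ht, fun s hs => ?_⟩
      have h1 := h (t⁻¹ * s * t⁻¹⁻¹) (T.mul_mem (T.mul_mem (T.inv_mem ht) hs) (T.inv_mem (T.inv_mem ht)))
      have h2 : t * (t⁻¹ * s * t⁻¹⁻¹) * t⁻¹ = s := by group
      rw [h2] at h1
      calc x⁻¹ * s * x⁻¹⁻¹ = x⁻¹ * (x * (t⁻¹ * s * t⁻¹⁻¹) * x⁻¹) * x⁻¹⁻¹ := by rw [h1]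
        _ = t⁻¹ * s * t⁻¹⁻¹ := by group
  -- `T` is not a `p`-group
  have hTnp : ¬ IsPGroup p ↥T := by
    intro hpT
    haveI hnt : Nontrivial ↥T := (Subgroup.nontrivial_iff_ne_bot T).2 hTbot
    have hc := hpT.center_nontrivial
    -- the centre of `T`
    let Z : Subgroup G := (Subgroup.center ↥T).map T.subtype
    have hZle : Z ≤ T := by
      rintro _ ⟨z, _, rfl⟩
      exact z.2
    have hZmem : ∀ z ∈ Z, ∀ t ∈ T, z * t = t * z := by
      rintro _ ⟨z, hz, rfl⟩ t ht
      have := Subgroup.mem_center_iff.1 hz ⟨t, ht⟩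
      exact (congrArg Subtype.val this).symm
    have hZbot : Z ≠ ⊥ := by
      intro h
      obtain ⟨⟨z, hz⟩, hz1⟩ := exists_ne (1 : Subgroup.center ↥T)
      apply hz1
      apply Subtype.ext
      have h1 : (z : G) ∈ Z := ⟨z, hz, rfl⟩
      rw [h, Subgroup.mem_bot] at h1
      exact Subtype.ext h1
    have hZP : PP Z := by
      refine ⟨hZbot, hZle.trans hTN, ?_⟩
      intro n hn z hz
      have h1 : n * z * n⁻¹ ∈ T := hTinv n hn z (hZle hz)
      refine ⟨⟨n * z * n⁻¹, h1⟩, ?_, rfl⟩
      show (⟨n * z * n⁻¹, h1⟩ : ↥T) ∈ Subgroup.center ↥T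
      rw [Subgroup.mem_center_iff]
      rintro ⟨t, ht⟩
      apply Subtype.ext
      show t * (n * z * n⁻¹) = n * z * n⁻¹ * t
      have h2 : n⁻¹ * t * n⁻¹⁻¹ ∈ T := hTinv n⁻¹ (N.inv_mem hn) t ht
      have h3 := hZmem z hz _ h2
      calc t * (n * z * n⁻¹) = n * ((n⁻¹ * t * n⁻¹⁻¹) * z) * n⁻¹ := by group
        _ = n * (z * (n⁻¹ * t * n⁻¹⁻¹)) * n⁻¹ := by rw [h3]
        _ = _ := by group
    have hZT : Z = T := hTminimal Z hZP hZle
    have hTab : ∀ x ∈ T, ∀ t ∈ T, x * t = t * x := by
      intro x hx t ht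
      rw [← hZT] at hx
      exact hZmem x hx t ht
    -- `N` centralizes `T`
    have hNc : ∀ n ∈ N, ∀ t ∈ T, n * t = t * n := by
      intro n hn
      rw [← hclosure] at hn
      induction hn using Subgroup.closure_induction with
      | mem x hx =>
        obtain ⟨g, hg⟩ := hconjmem x hx
        rcases hdich g with h | h
        · rw [h] at hg
          exact hTab x hg
        · exact h x hg
      | one => intro t _; simp
      | mul x y _ _ ihx ihy =>
        intro t ht
        rw [mul_assoc, ihy t ht, ← mul_assoc, ihx t ht, mul_assoc]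
      | inv x _ ihx =>
        intro t ht
        have := ihx t ht
        calc x⁻¹ * t = x⁻¹ * (t * x) * x⁻¹ := by group
          _ = x⁻¹ * (x * t) * x⁻¹ := by rw [this]
          _ = t * x⁻¹ := by group
    -- the centre of `N` is normal in `G`
    let C : Subgroup G := N ⊓ Subgroup.centralizer (N : Set G)
    have hCn : C.Normal := inferInstance
    have hCbot : C ≠ ⊥ := by
      intro h
      apply hTbot
      rw [eq_bot_iff, ← h]
      intro t ht
      refine ⟨hTN ht, ?_⟩
      show t ∈ Subgroup.centralizer (N : Set G)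
      rw [Subgroup.mem_centralizer_iff]
      intro n hn
      exact hNc n hn t ht
    have hCN : C = N := hNminimal C hCn hCbot inf_le_left
    apply hab
    intro x hx y hy
    have hxC : x ∈ C := by rw [hCN]; exact hx
    exact (Subgroup.mem_centralizer_iff.1 hxC.2 y hy).symm
  obtain ⟨y₀, hy₀, hy₀p⟩ := exists_prime_order_ne hp hTnp
  by_cases hall : ∀ g, cj g = T
  · -- `T` is normal and equals `N`
    have hTnormal : T.Normal := by
      constructor
      intro t ht g
      rw [← hall g]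
      exact hcjmem g t ht
    have hTNeq : T = N := hNminimal T hTnormal hTbot hTN
    subst hTNeq
    right
    refine ⟨T, hNn, ?_, ?_, ?_⟩
    · haveI : Nontrivial ↥T := (Subgroup.nontrivial_iff_ne_bot T).2 hTbot
      constructor
      intro M hM
      by_cases hMb : M = ⊥
      · exact Or.inl hMb
      right
      have h1 : PP (M.map T.subtype) := by
        refine ⟨?_, ?_, ?_⟩
        · intro h
          apply hMb
          rw [eq_bot_iff]
          intro x hx
          have hx1 : (x : G) ∈ M.map T.subtype := ⟨x, hx, rfl⟩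
          rw [h, Subgroup.mem_bot] at hx1
          rw [Subgroup.mem_bot]
          exact Subtype.ext hx1
        · rintro _ ⟨x, _, rfl⟩
          exact x.2
        · rintro n hn _ ⟨x, hx, rfl⟩
          exact ⟨⟨n, hn⟩ * x * ⟨n, hn⟩⁻¹, hM.conj_mem x hx ⟨n, hn⟩, rfl⟩
      have h2 := hTminimal _ h1 (by
        rintro _ ⟨x, _, rfl⟩
        exact x.2)
      rw [eq_top_iff]
      rintro ⟨x, hx⟩ _
      rw [← h2] at hx
      obtain ⟨z, hz, hzx⟩ := hx
      have : z = ⟨x, (by rw [← h2]; exact ⟨z, hz, hzx⟩)⟩ := Subtype.ext hzx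
      rw [← this]
      exact hz
    · rintro ⟨⟨hc⟩⟩
      apply hab
      intro x hx y hy
      exact congrArg Subtype.val (hc ⟨x, hx⟩ ⟨y, hy⟩)
    · by_contra hC
      -- the centralizer is transitive
      haveI hCn : (Subgroup.centralizer (T : Set G)).Normal := inferInstance
      have htr : Trans (Subgroup.centralizer (T : Set G)) Ω := trans_of_normal hC
      -- so every non-identity element of `T` is a derangement
      apply hTnp
      intro x
      by_cases hx1 : x = 1
      · exact ⟨0, by rw [hx1]; simp⟩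
      have hd : ∀ ω : Ω, (x : G) • ω ≠ ω := by
        intro ω hω
        apply hx1
        apply Subtype.ext
        apply eq_one_of_commute_of_fix htr (c := (x : G)) _ hω
        intro s hs
        exact Subgroup.mem_centralizer_iff.1 hs x x.2
      obtain ⟨k, hk⟩ := hder x hd
      refine ⟨k, ?_⟩
      apply Subtype.ext
      rw [Subgroup.coe_pow, ← hk, pow_orderOf_eq_one]
      rfl
  · -- two different conjugates
    exfalso
    push Not at hall
    obtain ⟨g, hg⟩ := hall
    have hcomm := (hdich g).resolve_left hg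
    -- a derangement in `T`
    have hS : (stabilizer G a).subgroupOf T ≠ ⊤ := by
      intro h
      apply hTbot
      rw [eq_bot_iff]
      intro t ht
      rw [Subgroup.mem_bot]
      apply FaithfulSMul.eq_of_smul_eq_smul (α := Ω)
      intro ω
      obtain ⟨n, hn, rfl⟩ := hNtrans a ω
      have h1 : n⁻¹ * t * n⁻¹⁻¹ ∈ T := hTinv n⁻¹ (N.inv_mem hn) t ht
      have h2 : (⟨_, h1⟩ : ↥T) ∈ (stabilizer G a).subgroupOf T := by rw [h]; trivial
      have h3 : (n⁻¹ * t * n⁻¹⁻¹) • a = a := h2
      rw [one_smul]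
      calc t • n • a = n • (n⁻¹ * t * n⁻¹⁻¹) • a := by
            simp [mul_smul]
        _ = n • a := by rw [h3]
    obtain ⟨x, hx⟩ := exists_not_mem_conj _ hS
    have hxder : ∀ ω : Ω, (x : G) • ω ≠ ω := by
      intro ω hω
      obtain ⟨n, hn, rfl⟩ := hNtrans a ω
      obtain ⟨t, ht, h⟩ := hQ n⁻¹ (N.inv_mem hn)
      have h1 := h x x.2
      apply hx ⟨t⁻¹, T.inv_mem ht⟩
      show (⟨t⁻¹, T.inv_mem ht⟩ : ↥T)⁻¹ * x * ⟨t⁻¹, T.inv_mem ht⟩ ∈ (stabilizer G a).subgroupOf T
      rw [Subgroup.mem_subgroupOf]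
      have h2 : (((⟨t⁻¹, T.inv_mem ht⟩ : ↥T)⁻¹ * x * ⟨t⁻¹, T.inv_mem ht⟩ : ↥T) : G) = t * x * t⁻¹ := by
        simp
      rw [h2, ← h1, mem_stabilizer_iff]
      have h3 : n⁻¹ • (x : G) • n • a = n⁻¹ • n • a := by rw [hω]
      simpa [mul_smul] using h3
    obtain ⟨k, hk⟩ := hder x hxder
    -- a commuting element of prime order
    set q := orderOf y₀ with hq
    set y : G := g * (y₀ : G) * g⁻¹ with hy
    have hyord : orderOf y = q := by
      rw [hq, hy]
      have h1 := MulEquiv.orderOf_eq (MulAut.conj g) (y₀ : G)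
      rw [MulAut.conj_apply, Subgroup.orderOf_coe] at h1
      exact h1
    have hyT : y ∈ cj g := hcjmem g _ y₀.2
    have hcom : Commute y (x : G) := hcomm y hyT x x.2
    -- the product is a derangement
    have hcop : Nat.Coprime q (orderOf (x : G)) := by
      rw [hk]
      exact Nat.Coprime.pow_right _ ((Nat.coprime_primes hy₀ hp).2 hy₀p)
    have hwder : ∀ ω : Ω, ((x : G) * y) • ω ≠ ω := by
      intro ω hω
      have h1 : (((x : G) * y) ^ q) • ω = ω := by
        have : ∀ m : ℕ, (((x : G) * y) ^ m) • ω = ω := by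
          intro m
          induction m with
          | zero => simp
          | succ m ih => rw [pow_succ, mul_smul, hω, ih]
        exact this q
      have h2 : ((x : G) * y) ^ q = (x : G) ^ q := by
        rw [hcom.symm.mul_pow, ← hyord, pow_orderOf_eq_one, mul_one]
      rw [h2] at h1
      have h3 : (x : G) ∈ Subgroup.zpowers ((x : G) ^ q) := by
        obtain ⟨m, hm⟩ := exists_pow_eq_self_of_coprime (x := (x : G)) (n := q) hcop
        exact ⟨m, by simpa [zpow_natCast] using hm⟩
      obtain ⟨m, hm⟩ := h3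
      apply hxder ω
      have h4 : ∀ j : ℤ, (((x : G) ^ q) ^ j) • ω = ω := by
        intro j
        have h5 : ((x : G) ^ q) ∈ MulAction.stabilizer G ω := h1
        exact (MulAction.stabilizer G ω).zpow_mem h5 j
      have h6 := h4 m
      simp only at hm
      rw [hm] at h6
      exact h6
    obtain ⟨j, hj⟩ := hder _ hwder
    have h1 : ((x : G) * y) ^ (p ^ j) = 1 := by rw [← hj, pow_orderOf_eq_one]
    rw [hcom.symm.mul_pow] at h1
    have h2 : y ^ (p ^ j) = 1 := by
      have h3 : y ^ (p ^ j) ∈ T := by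
        have : y ^ (p ^ j) = ((x : G) ^ (p ^ j))⁻¹ := by
          exact eq_inv_of_mul_eq_one_right h1
        rw [this]
        exact T.inv_mem (T.pow_mem x.2 _)
      have h4 : y ^ (p ^ j) ∈ cj g := (cj g).pow_mem hyT _
      -- `cj g` and `T` intersect trivially
      have h5 : y ^ (p ^ j) ∈ cj g ⊓ T := ⟨h4, h3⟩
      have hinter : cj g ⊓ T = ⊥ := by
        by_contra hne
        have hPP : PP (cj g ⊓ T) := by
          refine ⟨hne, inf_le_right.trans hTN, ?_⟩
          rintro n hn t ⟨ht1, ht2⟩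
          exact ⟨hcjinv2 g n hn t ht1, hTinv n hn t ht2⟩
        have h6 := hTminimal _ hPP inf_le_right
        have h7 : T ≤ cj g := by
          rw [← h6]
          exact inf_le_left
        have hcard : Nat.card (cj g) = Nat.card T :=
          Nat.card_congr (T.equivMapOfInjective _ (MulAut.conj g).injective).symm.toEquiv
        exact hg (Subgroup.eq_of_le_of_card_ge h7 hcard.le).symm
      rw [hinter, Subgroup.mem_bot] at h5
      exact h5
    have h3 : q ∣ p ^ j := by
      rw [← hyord]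
      exact orderOf_dvd_of_pow_eq_one h2
    have h4 := (Nat.prime_dvd_prime_iff_eq hy₀ hp).1 (hy₀.dvd_of_dvd_pow h3)
    exact hy₀p h4

/-- Let G act faithfully and primitively on a finite set with at least two points, and suppose that for some fixed prime p every element of G fixing no point has order a power of p. Then G is of affine type (it has a regular normal subgroup that is an elementary abelian r-group for some prime r) or almost simple (it has a non-abelian simple normal subgroup with trivial centralizer). -/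
theorem result {G Ω : Type*} [Group G] [Finite G] [MulAction G Ω] [FaithfulSMul G Ω] [Finite Ω]
    (hprim : MulAction.IsPreprimitive G Ω) (hΩ : 2 ≤ Nat.card Ω) (p : ℕ) (hp : p.Prime)
    (hder : ∀ g : G, (∀ ω : Ω, g • ω ≠ ω) → ∃ k : ℕ, orderOf g = p ^ k) :
    (∃ (N : Subgroup G) (r : ℕ), r.Prime ∧ N.Normal ∧ Cfsg.IsElementaryAbelian r N ∧
      MulAction.IsPretransitive N Ω ∧ ∀ a : Ω, MulAction.stabilizer N a = ⊥) ∨
    (∃ T : Subgroup G, T.Normal ∧ IsSimpleGroup ↥T ∧ ¬ IsMulCommutative ↥T ∧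
      Subgroup.centralizer (T : Set G) = ⊥) := main hprim hΩ p hp hder

end Cfsg.Agent.S3556
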