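import Cfsg.Statements.S3557
import Cfsg.Agent.Lib.Core.Basic
import Mathlib

set_option autoImplicit false
open Cfsg

namespace Cfsg.Agent.S3557

section pgroup
variable {Q : Type*} [Group Q] [Finite Q] {p : ℕ} [Fact p.Prime]

lemma exists_central_order (hQ : IsPGroup p Q) (N : Subgroup Q) [N.Normal] (hN : N ≠ ⊥) :
    ∃ z : Q, z ∈ N ∧ z ∈ Subgroup.center Q ∧ orderOf z = p := by
  haveI : Group.IsNilpotent Q := hQ.isNilpotent
  have h := Cfsg.Agent.Lib.Core.normal_inf_center_ne_bot N hN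
  have hp : IsPGroup p ↥(N ⊓ Subgroup.center Q) := hQ.to_subgroup _
  haveI : Nontrivial ↥(N ⊓ Subgroup.center Q) := (Subgroup.nontrivial_iff_ne_bot _).2 h
  have hdvd : p ∣ Nat.card ↥(N ⊓ Subgroup.center Q) := by
    obtain ⟨n, hn⟩ := IsPGroup.iff_card.1 hp
    have h1 : Nat.card ↥(N ⊓ Subgroup.center Q) ≠ 1 := by
      exact (Finite.one_lt_card (α := ↥(N ⊓ Subgroup.center Q))).ne'
    rw [hn] at h1 ⊢
    cases n with
    | zero => simp at h1
    | succ n => exact dvd_pow_self _ (by omega)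
  obtain ⟨x, hx⟩ := exists_prime_orderOf_dvd_card' p hdvd
  refine ⟨x, x.2.1, x.2.2, ?_⟩
  rw [Subgroup.orderOf_coe]; exact hx

lemma exists_central_mod (hQ : IsPGroup p Q) (K R : Subgroup Q) [K.Normal] (hn : (K ⊔ R).Normal)
    (hR : ¬ R ≤ K) :
    ∃ u : Q, u ∈ R ∧ u ∉ K ∧ (∀ x : Q, x * u * x⁻¹ * u⁻¹ ∈ K) ∧ u ^ p ∈ K := by
  classical
  let π := QuotientGroup.mk' K
  have hπ : Function.Surjective π := QuotientGroup.mk'_surjective K
  have hQ' : IsPGroup p (Q ⧸ K) := hQ.to_quotient K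
  haveI hN : ((K ⊔ R).map π).Normal := hn.map π hπ
  have hne : (K ⊔ R).map π ≠ ⊥ := by
    intro h
    apply hR
    intro r hr
    have h1 : π r ∈ (K ⊔ R).map π := ⟨r, (le_sup_right : R ≤ K ⊔ R) hr, rfl⟩
    rw [h, Subgroup.mem_bot] at h1
    exact (QuotientGroup.eq_one_iff r).1 h1
  obtain ⟨z, hz, hzc, hzo⟩ := exists_central_order hQ' _ hne
  obtain ⟨w, hw, rfl⟩ := hz
  have hw' : w ∈ ((K ⊔ R : Subgroup Q) : Set Q) := hw
  rw [Subgroup.normal_mul] at hw'
  obtain ⟨k, hk, r, hr, rfl⟩ := Set.mem_mul.1 hw'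
  have hk1 : π k = 1 := (QuotientGroup.eq_one_iff k).2 hk
  have hπr : π (k * r) = π r := by rw [map_mul, hk1, one_mul]
  rw [hπr] at hzc hzo
  refine ⟨r, hr, ?_, ?_, ?_⟩
  · intro hrK
    have : π r = 1 := (QuotientGroup.eq_one_iff r).2 hrK
    rw [this, orderOf_one] at hzo
    exact (Fact.out : p.Prime).one_lt.ne hzo
  · intro x
    rw [← QuotientGroup.eq_one_iff]
    change π (x * r * x⁻¹ * r⁻¹) = 1
    have := (Subgroup.mem_center_iff.1 hzc) (π x)
    simp only [map_mul, map_inv]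
    rw [this]; group
  · rw [← QuotientGroup.eq_one_iff]
    change π (r ^ p) = 1
    rw [map_pow, ← hzo, pow_orderOf_eq_one]

/-- A subgroup `H` of a finite `p`-group whose index properly divides `p ^ 2` is normal. -/
lemma normal_of_lt_index_sq (hQ : IsPGroup p Q) (R H : Subgroup Q) (hRH : R < H)
    (hR : R.index = p ^ 2) : H.Normal := by
  classical
  have hp := (Fact.out : p.Prime)
  have h1 : H.index ∣ R.index := Subgroup.index_dvd_of_le hRH.le
  rw [hR] at h1
  obtain ⟨k, hk, hk2⟩ := (Nat.dvd_prime_pow hp).1 h1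
  have hne : H.index ≠ p ^ 2 := by
    intro he
    have h2 := Subgroup.relIndex_mul_index hRH.le
    rw [hR, he] at h2
    have h3 : R.relIndex H = 1 := by
      have hp2 : 0 < p ^ 2 := pow_pos hp.pos _
      nlinarith
    have h4 : H ≤ R := Subgroup.relIndex_eq_one.1 h3
    exact absurd (le_antisymm hRH.le h4) hRH.ne
  have hk' : k < 2 := by
    rcases (by omega : k < 2 ∨ k = 2) with h | h
    · exact h
    · subst h; exact absurd hk2 hne
  interval_cases k
  · rw [pow_zero, Subgroup.index_eq_one] at hk2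
    rw [hk2]; infer_instance
  · rw [pow_one] at hk2
    apply Subgroup.normal_of_index_eq_minFac_card
    rw [hk2]
    obtain ⟨n, hn⟩ := IsPGroup.iff_card.1 hQ
    have hn0 : n ≠ 0 := by
      rintro rfl
      have h5 : R.index ∣ Nat.card Q := Subgroup.index_dvd_card R
      rw [hn, hR, pow_zero] at h5
      have := Nat.le_of_dvd one_pos h5
      have h6 : 1 < p ^ 2 := Nat.one_lt_pow (by norm_num) hp.one_lt
      omega
    rw [hn]
    exact (hp.pow_minFac hn0).symm
end pgroup

section orbit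
variable {G Ω : Type*} [Group G] [Finite G] [MulAction G Ω] [Finite Ω]

lemma pow_dvd_card_orbit (htrans : MulAction.IsPretransitive G Ω) {p : ℕ} [Fact p.Prime]
    (P : Sylow p G) (m : ℕ) (hm : p ^ m ∣ Nat.card Ω) (ω : Ω) :
    p ^ m ∣ (MulAction.orbit (P : Subgroup G) ω).ncard := by
  classical
  have hp := (Fact.out : p.Prime)
  have h1 := Subgroup.index_mul_card (MulAction.stabilizer (P : Subgroup G) ω)
  rw [MulAction.index_stabilizer] at h1
  have h2 := Subgroup.index_mul_card (MulAction.stabilizer G ω)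
  rw [MulAction.index_stabilizer_of_transitive] at h2
  -- stabilizer in P is a p-group
  have hS : IsPGroup p ↥(MulAction.stabilizer (P : Subgroup G) ω) := P.isPGroup'.to_subgroup _
  obtain ⟨c, hc⟩ := IsPGroup.iff_card.1 hS
  have hdiv : p ^ c ∣ Nat.card ↥(MulAction.stabilizer G ω) := by
    rw [← hc]
    let T : Subgroup G := (MulAction.stabilizer (P : Subgroup G) ω).map (P : Subgroup G).subtype
    have hT : T ≤ MulAction.stabilizer G ω := by
      rintro _ ⟨x, hx, rfl⟩
      exact hx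
    have hcard : Nat.card T = Nat.card ↥(MulAction.stabilizer (P : Subgroup G) ω) :=
      Nat.card_congr ((MulAction.stabilizer (P : Subgroup G) ω).equivMapOfInjective _
        (Subgroup.subtype_injective _)).symm.toEquiv
    rw [← hcard]
    exact Subgroup.card_dvd_of_le hT
  have h3 : p ^ (m + c) ∣ Nat.card G := by
    rw [← h2, pow_add]
    exact mul_dvd_mul hm hdiv
  have h4 := P.pow_dvd_card_of_pow_dvd_card h3
  rw [← h1, pow_add, hc] at h4
  exact Nat.dvd_of_mul_dvd_mul_right (pow_pos hp.pos c) h4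
end orbit

section main
variable {G Ω : Type*} [Group G] [Finite G] [MulAction G Ω] [FaithfulSMul G Ω] [Finite Ω]

lemma mem_orbit_smul_iff {Q : Type*} [Group Q] [MulAction Q Ω] (b ω : Ω) (x : Q) :
    x • ω ∈ MulAction.orbit Q b ↔ ω ∈ MulAction.orbit Q b := by
  constructor
  · rintro ⟨y, hy⟩
    refine ⟨x⁻¹ * y, ?_⟩
    change (x⁻¹ * y) • b = ω
    have hy' : y • b = x • ω := hy
    rw [mul_smul, hy', inv_smul_smul]
  · rintro ⟨y, rfl⟩
    exact ⟨x * y, mul_smul _ _ _⟩

lemma odd_case {p : ℕ} [Fact p.Prime] (P : Sylow p G)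
    (hcl : ∀ σ : Equiv.Perm Ω, (∀ a b : Ω, ∃ g : G, σ a = g • a ∧ σ b = g • b) →
      ∃ g : G, ∀ a : Ω, σ a = g • a)
    (hcard : Nat.card Ω = 2 * p ^ 2)
    (horb : ∀ ω : Ω, (MulAction.orbit (P : Subgroup G) ω).ncard = p ^ 2) :
    ∃ g : G, (orderOf g).Prime ∧ ∀ ω : Ω, g • ω ≠ ω := by
  classical
  have hp := (Fact.out : p.Prime)
  set Q : Subgroup G := (P : Subgroup G) with hQdef
  have hQ : IsPGroup p Q := P.isPGroup'
  have hpp : 0 < p ^ 2 := pow_pos hp.pos _
  haveI hne : Nonempty Ω := by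
    apply Nat.card_pos_iff.1 _ |>.1
    rw [hcard]; omega
  have hp2 : 1 < p ^ 2 := Nat.one_lt_pow (by norm_num) hp.one_lt
  -- Q nontrivial
  have hQbot : (⊤ : Subgroup Q) ≠ ⊥ := by
    intro h
    obtain ⟨ω⟩ := hne
    have h1 := MulAction.index_stabilizer Q ω
    rw [horb ω] at h1
    have h2 : (MulAction.stabilizer Q ω) = ⊤ := by
      ext x
      have hx : x ∈ (⊤ : Subgroup Q) := Subgroup.mem_top x
      rw [h, Subgroup.mem_bot] at hx
      simp [hx]
    rw [h2, Subgroup.index_top] at h1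
    omega
  obtain ⟨z₀, -, hz₀c, hz₀o⟩ := exists_central_order hQ ⊤ hQbot
  have hz₀ne : z₀ ≠ 1 := by
    rintro rfl
    rw [orderOf_one] at hz₀o
    exact hp.one_lt.ne hz₀o
  have hcomm : ∀ (z : Q), z ∈ Subgroup.center Q → ∀ (x : Q) (ω : Ω), z • (x • ω) = x • (z • ω) := by
    intro z hz x ω
    rw [← mul_smul, ← mul_smul, (Subgroup.mem_center_iff.1 hz x)]
  by_cases hfix : ∀ ω : Ω, z₀ • ω ≠ ω
  · refine ⟨(z₀ : G), ?_, hfix⟩
    rw [Subgroup.orderOf_coe, hz₀o]; exact hp
  push Not at hfix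
  obtain ⟨b, hb⟩ := hfix
  obtain ⟨a, ha⟩ : ∃ a : Ω, z₀ • a ≠ a := by
    by_contra h
    push Not at h
    apply hz₀ne
    apply FaithfulSMul.eq_of_smul_eq_smul (α := Ω)
    intro ω
    rw [h ω, one_smul]
  set A : Set Ω := MulAction.orbit Q a with hA
  set B : Set Ω := MulAction.orbit Q b with hB
  have hz₀B : ∀ ω ∈ B, z₀ • ω = ω := by
    rintro _ ⟨x, rfl⟩
    change z₀ • (x • b) = x • b
    rw [hcomm z₀ hz₀c, hb]
  have hz₀A : ∀ ω ∈ A, z₀ • ω ≠ ω := by
    rintro _ ⟨x, rfl⟩ h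
    change z₀ • (x • a) = x • a at h
    rw [hcomm z₀ hz₀c] at h
    exact ha (smul_left_cancel x h)
  have hdisj : Disjoint A B := by
    rw [Set.disjoint_left]
    intro ω h1 h2
    exact hz₀A ω h1 (hz₀B ω h2)
  have hAB : ∀ ω : Ω, ω ∉ A ↔ ω ∈ B := by
    have h1 : A ∪ B = Set.univ := by
      apply Set.eq_of_subset_of_ncard_le (Set.subset_univ _)
      rw [Set.ncard_univ, hcard, Set.ncard_union_eq hdisj, horb a, horb b]
      omega
    intro ω
    constructor
    · intro h
      have h2 : ω ∈ A ∪ B := by rw [h1]; trivial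
      rcases h2 with h2 | h2
      · exact absurd h2 h
      · exact h2
    · intro h h'
      exact hz₀A ω h' (hz₀B ω h)
  have hAinv : ∀ (x : Q) (ω : Ω), x • ω ∈ A ↔ ω ∈ A := fun x ω => mem_orbit_smul_iff a ω x
  have hBinv : ∀ (x : Q) (ω : Ω), x • ω ∈ B ↔ ω ∈ B := fun x ω => mem_orbit_smul_iff b ω x
  have hnormal : ∀ S : Set Ω, (∀ (x : Q) (ω : Ω), x • ω ∈ S ↔ ω ∈ S) →
      (fixingSubgroup Q S).Normal := by
    intro S hS
    constructor
    intro n hn g
    rw [mem_fixingSubgroup_iff] at hn ⊢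
    intro y hy
    have hy' : g⁻¹ • y ∈ S := (hS g⁻¹ y).2 hy
    rw [mul_smul, mul_smul, hn _ hy', smul_inv_smul]
  -- K₁
  haveI hK₁n : (fixingSubgroup Q A).Normal := hnormal A hAinv
  by_cases hK₁ : fixingSubgroup Q A = ⊥
  swap
  · obtain ⟨z₁, hz₁K, hz₁c, hz₁o⟩ := exists_central_order hQ _ hK₁
    have hz₁ne : z₁ ≠ 1 := by
      rintro rfl
      rw [orderOf_one] at hz₁o
      exact hp.one_lt.ne hz₁o
    rw [mem_fixingSubgroup_iff] at hz₁K
    obtain ⟨c, hc⟩ : ∃ c : Ω, z₁ • c ≠ c := by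
      by_contra h
      push Not at h
      apply hz₁ne
      apply FaithfulSMul.eq_of_smul_eq_smul (α := Ω)
      intro ω
      rw [h ω, one_smul]
    have hcB : c ∈ B := by
      rw [← hAB]
      intro h
      exact hc (hz₁K c h)
    have hz₁B : ∀ ω ∈ B, z₁ • ω ≠ ω := by
      intro ω hω h
      obtain ⟨x, hx⟩ := hcB
      obtain ⟨y, hy⟩ := hω
      change x • b = c at hx
      change y • b = ω at hy
      apply hc
      have hb' : z₁ • b = b := by
        rw [← hy, hcomm z₁ hz₁c] at h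
        exact smul_left_cancel y h
      rw [← hx, hcomm z₁ hz₁c, hb']
    have hcomm01 : Commute z₀ z₁ := (Subgroup.mem_center_iff.1 hz₀c z₁).symm
    have hfpf : ∀ ω : Ω, (z₀ * z₁) • ω ≠ ω := by
      intro ω h
      by_cases hω : ω ∈ A
      · rw [mul_smul, hz₁K ω hω] at h
        exact hz₀A ω hω h
      · have hωB := (hAB ω).1 hω
        rw [hcomm01.eq, mul_smul, hz₀B ω hωB] at h
        exact hz₁B ω hωB h
    refine ⟨((z₀ * z₁ : Q) : G), ?_, hfpf⟩
    rw [Subgroup.orderOf_coe]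
    have hord : orderOf (z₀ * z₁) = p := by
      apply orderOf_eq_prime
      · rw [hcomm01.mul_pow, ← hz₀o, pow_orderOf_eq_one, hz₀o, ← hz₁o, pow_orderOf_eq_one,
          one_mul]
      · intro h
        apply hfpf a
        rw [h, one_smul]
    rw [hord]; exact hp
  -- K₂
  haveI hK₂n : (fixingSubgroup Q B).Normal := hnormal B hBinv
  have hz₀K₂ : z₀ ∈ fixingSubgroup Q B := by
    rw [mem_fixingSubgroup_iff]; exact hz₀B
  have hz₀R : z₀ ∉ MulAction.stabilizer Q a := ha
  have hRindex : (MulAction.stabilizer Q a).index = p ^ 2 := by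
    rw [MulAction.index_stabilizer]; exact horb a
  have hbindex : (MulAction.stabilizer Q b).index = p ^ 2 := by
    rw [MulAction.index_stabilizer]; exact horb b
  have hlt : MulAction.stabilizer Q a < fixingSubgroup Q B ⊔ MulAction.stabilizer Q a := by
    refine lt_of_le_of_ne le_sup_right ?_
    intro h
    apply hz₀R
    rw [h]
    exact (le_sup_left : fixingSubgroup Q B ≤ _) hz₀K₂
  have hnormalH : (fixingSubgroup Q B ⊔ MulAction.stabilizer Q a).Normal :=
    normal_of_lt_index_sq hQ _ _ hlt hRindex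
  have hnotle : ¬ MulAction.stabilizer Q a ≤ fixingSubgroup Q B := by
    intro hle
    have h1 : MulAction.stabilizer Q a ≤ MulAction.stabilizer Q b := by
      intro x hx
      have h2 := hle hx
      rw [mem_fixingSubgroup_iff] at h2
      exact h2 b (MulAction.mem_orbit_self b)
    have h2 := Subgroup.relIndex_mul_index h1
    rw [hRindex, hbindex] at h2
    have h3 : (MulAction.stabilizer Q a).relIndex (MulAction.stabilizer Q b) = 1 := by
      nlinarith
    have h4 := Subgroup.relIndex_eq_one.1 h3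
    apply hz₀R
    apply h4
    exact hb
  obtain ⟨u, huR, huK, huc, hup⟩ := exists_central_mod hQ _ _ hnormalH hnotle
  rw [mem_fixingSubgroup_iff] at huK
  have huc' : ∀ (x : Q), ∀ ω ∈ B, (x * u * x⁻¹ * u⁻¹) • ω = ω := by
    intro x ω hω
    have := huc x
    rw [mem_fixingSubgroup_iff] at this
    exact this ω hω
  rw [mem_fixingSubgroup_iff] at hup
  have hua : u • a = a := huR
  -- the permutation
  let σ : Equiv.Perm Ω :=
    { toFun := fun ω => if ω ∈ B then u • ω else ω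
      invFun := fun ω => if ω ∈ B then u⁻¹ • ω else ω
      left_inv := by
        intro ω
        by_cases h : ω ∈ B
        · have h' : u • ω ∈ B := (hBinv u ω).2 h
          simp [h, h']
        · simp [h]
      right_inv := by
        intro ω
        by_cases h : ω ∈ B
        · have h' : u⁻¹ • ω ∈ B := (hBinv u⁻¹ ω).2 h
          simp [h, h']
        · simp [h] }
  have hσB : ∀ ω ∈ B, σ ω = u • ω := by
    intro ω h
    change (if ω ∈ B then u • ω else ω) = u • ω
    rw [if_pos h]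
  have hσA : ∀ ω, ω ∉ B → σ ω = ω := by
    intro ω h
    change (if ω ∈ B then u • ω else ω) = ω
    rw [if_neg h]
  have hmixed : ∀ x w : Ω, x ∉ B → w ∈ B → ∃ g : G, g • x = x ∧ g • w = u • w := by
    intro x w hx hw
    have hxA : x ∈ A := by
      by_contra h
      exact hx ((hAB x).1 h)
    obtain ⟨y, hy⟩ := hxA
    change y • a = x at hy
    refine ⟨((y * u * y⁻¹ : Q) : G), ?_, ?_⟩
    · change (y * u * y⁻¹) • x = x
      rw [← hy, mul_smul, mul_smul, inv_smul_smul, hua]
    · change (y * u * y⁻¹) • w = u • w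
      have h1 := huc' y (u • w) ((hBinv u w).2 hw)
      rw [mul_smul (y * u * y⁻¹) u⁻¹, inv_smul_smul] at h1
      exact h1
  obtain ⟨g₀, hg₀⟩ := hcl σ (by
    intro x y
    by_cases hx : x ∈ B <;> by_cases hy : y ∈ B
    · exact ⟨(u : G), hσB x hx, hσB y hy⟩
    · obtain ⟨g, h1, h2⟩ := hmixed y x hy hx
      exact ⟨g, by rw [hσB x hx, h2], by rw [hσA y hy, h1]⟩
    · obtain ⟨g, h1, h2⟩ := hmixed x y hx hy
      exact ⟨g, by rw [hσA x hx, h1], by rw [hσB y hy, h2]⟩
    · exact ⟨1, by rw [hσA x hx, one_smul], by rw [hσA y hy, one_smul]⟩)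
  have hg₀B : ∀ ω ∈ B, g₀ • ω = u • ω := fun ω h => by rw [← hg₀, hσB ω h]
  have hg₀A : ∀ ω, ω ∉ B → g₀ • ω = ω := fun ω h => by rw [← hg₀, hσA ω h]
  -- commutes with `Q`
  have hcommg : ∀ x : Q, (x : G) * g₀ = g₀ * (x : G) := by
    intro x
    apply FaithfulSMul.eq_of_smul_eq_smul (α := Ω)
    intro ω
    rw [mul_smul, mul_smul]
    by_cases hω : ω ∈ B
    · have hxω : x • ω ∈ B := (hBinv x ω).2 hω
      rw [hg₀B ω hω]
      change x • (u • ω) = g₀ • (x • ω)
      rw [hg₀B _ hxω]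
      have h1 := huc' x (u • (x • ω)) ((hBinv u _).2 hxω)
      have h2 : (x * u * x⁻¹ * u⁻¹) • (u • (x • ω)) = x • (u • ω) := by
        simp [mul_smul]
      rw [← h2, h1]
    · have hxω : x • ω ∉ B := fun h => hω ((hBinv x ω).1 h)
      rw [hg₀A ω hω]
      change x • ω = g₀ • (x • ω)
      rw [hg₀A _ hxω]
  have hpowB : ∀ k : ℕ, ∀ ω ∈ B, (g₀ ^ k) • ω = (u ^ k) • ω := by
    intro k
    induction k with
    | zero => intro ω _; simp
    | succ k ih =>
      intro ω hω
      rw [pow_succ, pow_succ, mul_smul, mul_smul, hg₀B ω hω]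
      exact ih _ ((hBinv u ω).2 hω)
  have hpowA : ∀ k : ℕ, ∀ ω, ω ∉ B → (g₀ ^ k) • ω = ω := by
    intro k
    induction k with
    | zero => intro ω _; simp
    | succ k ih =>
      intro ω hω
      rw [pow_succ, mul_smul, hg₀A ω hω]
      exact ih _ hω
  have hg₀p : g₀ ^ p = 1 := by
    apply FaithfulSMul.eq_of_smul_eq_smul (α := Ω)
    intro ω
    rw [one_smul]
    by_cases hω : ω ∈ B
    · rw [hpowB p ω hω]; exact hup ω hω
    · exact hpowA p ω hω
  obtain ⟨c, hcB, hc⟩ : ∃ c ∈ B, u • c ≠ c := by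
    by_contra h
    push Not at h
    exact huK h
  have hg₀ne : g₀ ≠ 1 := by
    rintro rfl
    apply hc
    rw [← hg₀B c hcB, one_smul]
  have hord : orderOf g₀ = p := orderOf_eq_prime hg₀p hg₀ne
  have hzp : IsPGroup p (Subgroup.zpowers g₀) := by
    apply IsPGroup.of_card (n := 1)
    rw [Nat.card_zpowers, hord, pow_one]
  have hcz : ∀ x ∈ Q, ∀ y ∈ Subgroup.zpowers g₀, x * y * x⁻¹ = y := by
    intro x hx y hy
    obtain ⟨k, rfl⟩ := Subgroup.mem_zpowers_iff.1 hy
    have : Commute x (g₀ ^ k) := Commute.zpow_right (hcommg ⟨x, hx⟩) k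
    rw [this.eq]; group
  have hnorm : Q ≤ Subgroup.normalizer ((Subgroup.zpowers g₀ : Subgroup G) : Set G) := by
    intro x hx
    rw [Subgroup.mem_normalizer_iff]
    intro h
    constructor
    · intro hh
      rw [hcz x hx h hh]; exact hh
    · intro hh
      have h1 := hcz x⁻¹ (Q.inv_mem hx) _ hh
      have h2 : x⁻¹ * (x * h * x⁻¹) * x⁻¹⁻¹ = h := by group
      rw [h2] at h1
      rw [h1]; exact hh
  have hsup := IsPGroup.to_sup_of_normal_right' hQ hzp hnorm
  have hmax := P.is_maximal' hsup le_sup_left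
  have hg₀Q : g₀ ∈ Q := by
    have h1 : g₀ ∈ Q ⊔ Subgroup.zpowers g₀ :=
      (le_sup_right : Subgroup.zpowers g₀ ≤ Q ⊔ Subgroup.zpowers g₀) (Subgroup.mem_zpowers g₀)
    rw [hmax] at h1
    exact h1
  have hmemK : (⟨g₀, hg₀Q⟩ : Q) ∈ fixingSubgroup Q A := by
    rw [mem_fixingSubgroup_iff]
    intro ω hω
    apply hg₀A
    intro h
    exact hz₀A ω hω (hz₀B ω h)
  rw [hK₁, Subgroup.mem_bot] at hmemK
  exact absurd (congrArg Subtype.val hmemK) hg₀ne

end main

theorem result {G Ω : Type*} [Group G] [Finite G] [MulAction G Ω] [FaithfulSMul G Ω] [Finite Ω]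
    (htrans : MulAction.IsPretransitive G Ω) (p : ℕ) (hp : p.Prime) (hcard : Nat.card Ω = 2 * p ^ 2)
    (hcl : ∀ σ : Equiv.Perm Ω, (∀ a b : Ω, ∃ g : G, σ a = g • a ∧ σ b = g • b) → ∃ g : G, ∀ a : Ω, σ a = g • a) :
    ∃ g : G, (orderOf g).Prime ∧ ∀ ω : Ω, g • ω ≠ ω := by
  classical
  haveI : Fact p.Prime := ⟨hp⟩
  obtain ⟨P⟩ : Nonempty (Sylow p G) := inferInstance
  by_cases h2 : p = 2
  · subst h2
    -- the Sylow subgroup is transitive
    have hne : Nonempty Ω := by
      apply Nat.card_pos_iff.1 _ |>.1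
      rw [hcard]; norm_num
    have hQ : IsPGroup 2 (P : Subgroup G) := P.isPGroup'
    have hcard8 : Nat.card Ω = 2 ^ 3 := by rw [hcard]; norm_num
    have horb : ∀ ω : Ω, MulAction.orbit (P : Subgroup G) ω = Set.univ := by
      intro ω
      have h1 := pow_dvd_card_orbit htrans P 3 (by rw [hcard8]) ω
      apply Set.eq_of_subset_of_ncard_le (Set.subset_univ _)
      rw [Set.ncard_univ, hcard8]
      apply Nat.le_of_dvd _ h1
      exact (Set.ncard_pos (Set.toFinite _)).2 ⟨ω, MulAction.mem_orbit_self ω⟩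
    have hQbot : (⊤ : Subgroup (P : Subgroup G)) ≠ ⊥ := by
      intro h
      obtain ⟨ω⟩ := hne
      have h1 := MulAction.index_stabilizer (P : Subgroup G) ω
      rw [horb ω, Set.ncard_univ, hcard8] at h1
      have h2 : (MulAction.stabilizer (P : Subgroup G) ω) = ⊤ := by
        ext x
        have hx : x ∈ (⊤ : Subgroup (P : Subgroup G)) := Subgroup.mem_top x
        rw [h, Subgroup.mem_bot] at hx
        simp [hx]
      rw [h2, Subgroup.index_top] at h1
      norm_num at h1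
    obtain ⟨z, -, hzc, hzo⟩ := exists_central_order hQ ⊤ hQbot
    have hzne : z ≠ 1 := by
      rintro rfl
      rw [orderOf_one] at hzo
      omega
    refine ⟨(z : G), ?_, ?_⟩
    · rw [Subgroup.orderOf_coe, hzo]; exact hp
    · intro ω hω
      apply hzne
      apply FaithfulSMul.eq_of_smul_eq_smul (α := Ω)
      intro w
      have hw : w ∈ MulAction.orbit (P : Subgroup G) ω := by rw [horb]; trivial
      obtain ⟨x, rfl⟩ := hw
      change z • (x • ω) = (1 : (P : Subgroup G)) • (x • ω)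
      rw [one_smul, ← mul_smul, ← (Subgroup.mem_center_iff.1 hzc x), mul_smul]
      congr 1
  · -- odd case
    apply odd_case P hcl hcard
    intro ω
    have h1 := pow_dvd_card_orbit htrans P 2 (by rw [hcard]; exact dvd_mul_left _ _) ω
    have hS : (MulAction.orbit (P : Subgroup G) ω).ncard ∣ p ^ (Nat.card (P : Subgroup G)) := by
      obtain ⟨n, hn⟩ := IsPGroup.iff_card.1 (P.isPGroup' : IsPGroup p (P : Subgroup G))
      rw [← MulAction.index_stabilizer]
      have := Subgroup.index_dvd_card (MulAction.stabilizer (P : Subgroup G) ω)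
      rw [hn] at this
      rw [hn]
      exact this.trans (pow_dvd_pow _ (Nat.lt_two_pow_self.le.trans (Nat.pow_le_pow_left hp.two_le _)))
    obtain ⟨k, hk, hk2⟩ := (Nat.dvd_prime_pow hp).1 hS
    rw [hk2]
    rw [hk2] at h1
    have hk3 : 2 ≤ k := (Nat.pow_dvd_pow_iff_le_right hp.one_lt).1 h1
    have hp3 : 3 ≤ p := by
      have := hp.two_le
      omega
    have hk4 : k ≤ 2 := by
      by_contra hk5
      have h5 : p ^ 3 ≤ p ^ k := Nat.pow_le_pow_right hp.pos (by omega)
      have h6 : (MulAction.orbit (P : Subgroup G) ω).ncard ≤ Nat.card Ω := by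
        rw [← Set.ncard_univ]
        exact Set.ncard_le_ncard (Set.subset_univ _) (Set.toFinite _)
      rw [hk2, hcard] at h6
      have h7 : p ^ 3 = p * p ^ 2 := by ring
      have h8 : 0 < p ^ 2 := pow_pos hp.pos _
      nlinarith
    rw [le_antisymm hk4 hk3]

end Cfsg.Agent.S3557
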