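import Cfsg.Statements.S3599
import Cfsg.Agent.S3532
import Mathlib

set_option autoImplicit false
open Cfsg

namespace Cfsg.Agent.S3599

section Abstract

variable {F : Type*} [Group F]

/-- Abstract Frobenius data: kernel `A` of exponent `p`, minimal under any outer element, and every
element outside `A` has order `q` and acts without fixed points. -/
structure FrobData (A : Subgroup F) (p q : ℕ) : Prop where
  normal : A.Normal
  ne_bot : A ≠ ⊥
  exp_p : ∀ a ∈ A, a ^ p = 1
  out_q : ∀ x, x ∉ A → x ^ q = 1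
  fpf : ∀ x, x ∉ A → ∀ a ∈ A, x * a * x⁻¹ = a → a = 1
  minimal : ∀ x, x ∉ A → ∀ B : Subgroup F, B ≤ A → B ≠ ⊥ → (∀ b ∈ B, x * b * x⁻¹ ∈ B) → B = A
  gen : ∀ H : Subgroup F, A ≤ H → ∀ x ∈ H, x ∉ A → H = ⊤
  exists_out : ∃ x, x ∉ A
  card_eq : ∃ e, 1 ≤ e ∧ Nat.card A = p ^ e ∧ Nat.card F = p ^ e * q

variable {A : Subgroup F} {p q : ℕ}

/-- Powers with coprime exponents. -/
lemma mem_of_pow_mem (N : Subgroup F) {x : F} (hpq : Nat.Coprime p q) (h1 : x ^ p ∈ N)
    (h2 : x ^ q ∈ N) : x ∈ N := by
  have h := Nat.gcd_eq_gcd_ab p q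
  rw [hpq] at h
  have h3 : x = (x ^ p) ^ Nat.gcdA p q * (x ^ q) ^ Nat.gcdB p q := by
    rw [← zpow_natCast, ← zpow_natCast, ← zpow_mul, ← zpow_mul, ← zpow_add, ← h]
    simp
  rw [h3]
  exact N.mul_mem (N.zpow_mem h1 _) (N.zpow_mem h2 _)

/-- Criticality of the single factor, elementwise. -/
theorem crit (D : FrobData A p q) (hpq : Nat.Coprime p q) (H N : Subgroup F) (hNH : N ≤ H)
    (hnorm : ∀ n ∈ N, ∀ h ∈ H, h * n * h⁻¹ ∈ N)
    {x y : F} (hxH : x ∈ H) (hxN : x ∉ N) (hxp : x ^ p ∈ N)
    (hyH : y ∈ H) (hyN : y ∉ N) (hyq : y ^ q ∈ N) : H = ⊤ ∧ N = ⊥ := by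
  haveI := D.normal
  have hyA : y ∉ A := by
    intro h
    apply hyN
    refine mem_of_pow_mem N hpq ?_ hyq
    rw [D.exp_p y h]
    exact N.one_mem
  have hxA : x ∈ A := by
    by_contra h
    apply hxN
    refine mem_of_pow_mem N hpq hxp ?_
    rw [D.out_q x h]
    exact N.one_mem
  have hx1 : x ≠ 1 := by
    rintro rfl
    exact hxN N.one_mem
  have hB : H ⊓ A = A := by
    apply D.minimal y hyA _ inf_le_right
    · intro hb
      apply hx1
      have : x ∈ H ⊓ A := ⟨hxH, hxA⟩
      rw [hb] at this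
      exact this
    · rintro b ⟨hb1, hb2⟩
      exact ⟨H.mul_mem (H.mul_mem hyH hb1) (H.inv_mem hyH), D.normal.conj_mem b hb2 y⟩
  have hAH : A ≤ H := inf_eq_right.1 hB
  have hH : H = ⊤ := D.gen H hAH y hyH hyA
  refine ⟨hH, ?_⟩
  have hnorm' : ∀ n ∈ N, ∀ h : F, h * n * h⁻¹ ∈ N := fun n hn h =>
    hnorm n hn h (by rw [hH]; trivial)
  have hinf : N ⊓ A = ⊥ := by
    by_contra hne
    have h1 := D.minimal y hyA (N ⊓ A) inf_le_right hne (by
      rintro b ⟨hb1, hb2⟩
      exact ⟨hnorm' b hb1 y, D.normal.conj_mem b hb2 y⟩)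
    apply hxN
    have : x ∈ N ⊓ A := by rw [h1]; exact hxA
    exact this.1
  rw [eq_bot_iff]
  intro n hn
  rw [Subgroup.mem_bot]
  by_contra hn1
  have hnA : n ∉ A := by
    intro h
    have : n ∈ N ⊓ A := ⟨hn, h⟩
    rw [hinf] at this
    exact hn1 this
  apply D.ne_bot
  rw [eq_bot_iff]
  intro a ha
  rw [Subgroup.mem_bot]
  apply D.fpf n hnA a ha
  have h2 : n * a * n⁻¹ * a⁻¹ ∈ N ⊓ A := by
    constructor
    · have h3 : n * a * n⁻¹ * a⁻¹ = n * (a * n⁻¹ * a⁻¹) := by group
      rw [h3]
      exact N.mul_mem hn (hnorm' _ (N.inv_mem hn) a)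
    · exact A.mul_mem (D.normal.conj_mem a ha n) (A.inv_mem ha)
  rw [hinf] at h2
  have h3 : n * a * n⁻¹ * a⁻¹ = 1 := h2
  exact mul_inv_eq_one.1 h3

/-- The three kinds of elements. -/
lemma orderOf_cases (D : FrobData A p q) (hp : p.Prime) (hq : q.Prime) (x : F) :
    orderOf x = 1 ∨ orderOf x = p ∨ orderOf x = q := by
  by_cases hx : x ∈ A
  · by_cases h1 : x = 1
    · left
      rw [h1, orderOf_one]
    · right; left
      haveI : Fact p.Prime := ⟨hp⟩
      exact orderOf_eq_prime (D.exp_p x hx) h1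
  · right; right
    haveI : Fact q.Prime := ⟨hq⟩
    refine orderOf_eq_prime (D.out_q x hx) ?_
    rintro rfl
    exact hx A.one_mem

lemma exists_order_p (D : FrobData A p q) (hp : p.Prime) : ∃ x : F, orderOf x = p := by
  obtain ⟨x, hx, hx1⟩ := A.bot_or_exists_ne_one.resolve_left D.ne_bot
  haveI : Fact p.Prime := ⟨hp⟩
  exact ⟨x, orderOf_eq_prime (D.exp_p x hx) hx1⟩

lemma exists_order_q (D : FrobData A p q) (hq : q.Prime) : ∃ x : F, orderOf x = q := by
  obtain ⟨x, hx⟩ := D.exists_out
  haveI : Fact q.Prime := ⟨hq⟩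
  refine ⟨x, orderOf_eq_prime (D.out_q x hx) ?_⟩
  rintro rfl
  exact hx A.one_mem

/-- The size of the kernel is one modulo `q`. -/
lemma card_modEq [Finite F] (D : FrobData A p q) (hq : q.Prime) :
    Nat.card A ≡ 1 [MOD q] := by
  classical
  haveI := D.normal
  haveI : Fact q.Prime := ⟨hq⟩
  obtain ⟨x, hx⟩ := D.exists_out
  have hord : orderOf x = q := by
    refine orderOf_eq_prime (D.out_q x hx) ?_
    rintro rfl
    exact hx A.one_mem
  let C : Subgroup F := Subgroup.zpowers x
  letI act : MulAction C A :=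
    MulAction.compHom A ((MulAut.conjNormal (H := A)).comp C.subtype)
  have hpg : IsPGroup q C := by
    apply IsPGroup.of_card (n := 1)
    rw [pow_one, Nat.card_zpowers, hord]
  have h1 := hpg.card_modEq_card_fixedPoints (α := A)
  have hfix : Nat.card (MulAction.fixedPoints C A) = 1 := by
    rw [Nat.card_eq_one_iff_unique]
    refine ⟨⟨?_⟩, ⟨⟨1, ?_⟩⟩⟩
    · rintro ⟨a, ha⟩ ⟨b, hb⟩
      have key : ∀ a : A, a ∈ MulAction.fixedPoints C A → a = 1 := by
        intro a ha
        have h2 := ha ⟨x, Subgroup.mem_zpowers x⟩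
        have h3 : (x * (a : F) * x⁻¹) = a := congrArg Subtype.val h2
        have := D.fpf x hx a a.2 h3
        exact Subtype.ext this
      apply Subtype.ext
      show a = b
      rw [key a ha, key b hb]
    · intro c
      apply Subtype.ext
      show (c : F) * 1 * (c : F)⁻¹ = 1
      group
  rw [hfix] at h1
  exact h1

end Abstract

section Product

variable {ι : Type} [Fintype ι] [DecidableEq ι] {F : ι → Type} [∀ j, Group (F j)]
  {A : ∀ j, Subgroup (F j)} {P Q : ι → ℕ}

/-- The primes of different factors are different. -/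
structure Sep (P Q : ι → ℕ) : Prop where
  primeP : ∀ j, (P j).Prime
  primeQ : ∀ j, (Q j).Prime
  ne : ∀ j, P j ≠ Q j
  dis : ∀ j l, j ≠ l → P j ≠ P l ∧ P j ≠ Q l ∧ Q j ≠ P l ∧ Q j ≠ Q l

omit [DecidableEq ι] in
/-- Coprimality of element orders in different factors. -/
lemma coprime_of_cases (S : Sep P Q) {j l : ι} (hjl : j ≠ l) {a b : ℕ}
    (ha : a = 1 ∨ a = P j ∨ a = Q j) (hb : b = 1 ∨ b = P l ∨ b = Q l) : Nat.Coprime a b := by
  obtain ⟨h1, h2, h3, h4⟩ := S.dis j l hjl
  rcases ha with rfl | rfl | rfl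
  · exact Nat.coprime_one_left _
  · rcases hb with rfl | rfl | rfl
    · exact Nat.coprime_one_right _
    · exact (Nat.coprime_primes (S.primeP j) (S.primeP l)).2 h1
    · exact (Nat.coprime_primes (S.primeP j) (S.primeQ l)).2 h2
  · rcases hb with rfl | rfl | rfl
    · exact Nat.coprime_one_right _
    · exact (Nat.coprime_primes (S.primeQ j) (S.primeP l)).2 h3
    · exact (Nat.coprime_primes (S.primeQ j) (S.primeQ l)).2 h4

omit [DecidableEq ι] in
/-- The order of a tuple is the product of the orders of the coordinates. -/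
lemma orderOf_tuple (S : Sep P Q) (D : ∀ j, FrobData (A j) (P j) (Q j)) (f : ∀ j, F j) :
    orderOf f = ∏ j, orderOf (f j) := by
  have hc : ∀ j, orderOf (f j) = 1 ∨ orderOf (f j) = P j ∨ orderOf (f j) = Q j := fun j =>
    orderOf_cases (D j) (S.primeP j) (S.primeQ j) _
  apply Nat.dvd_antisymm
  · apply orderOf_dvd_of_pow_eq_one
    funext j
    show (f j) ^ _ = 1
    rw [← orderOf_dvd_iff_pow_eq_one]
    exact Finset.dvd_prod_of_mem _ (Finset.mem_univ j)
  · apply Finset.prod_dvd_of_isRelPrime
    · intro j _ l _ hjl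
      exact Nat.coprime_iff_isRelPrime.1 (coprime_of_cases S hjl (hc j) (hc l))
    · intro j _
      rw [orderOf_dvd_iff_pow_eq_one]
      have := congrFun (pow_orderOf_eq_one f) j
      exact this

/-- The spectrum of the product. -/
theorem range_tuple (S : Sep P Q) (D : ∀ j, FrobData (A j) (P j) (Q j)) :
    Set.range (orderOf : (∀ j, F j) → ℕ) =
      {m : ℕ | ∃ c : ι → ℕ, (∀ j, c j = 1 ∨ c j = P j ∨ c j = Q j) ∧ m = ∏ j, c j} := by
  apply Set.eq_of_subset_of_subset
  · rintro _ ⟨f, rfl⟩
    exact ⟨fun j => orderOf (f j), fun j => orderOf_cases (D j) (S.primeP j) (S.primeQ j) _,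
      orderOf_tuple S D f⟩
  · rintro _ ⟨c, hc, rfl⟩
    have hex : ∀ j, ∃ x : F j, orderOf x = c j := by
      intro j
      rcases hc j with h | h | h
      · exact ⟨1, by rw [orderOf_one, h]⟩
      · obtain ⟨x, hx⟩ := exists_order_p (D j) (S.primeP j)
        exact ⟨x, by rw [hx, h]⟩
      · obtain ⟨x, hx⟩ := exists_order_q (D j) (S.primeQ j)
        exact ⟨x, by rw [hx, h]⟩
    choose f hf using hex
    refine ⟨f, ?_⟩
    rw [orderOf_tuple S D f]
    exact Finset.prod_congr rfl (fun j _ => hf j)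

/-- Exponent of the other factors. -/
def Mj (P Q : ι → ℕ) (j : ι) : ℕ := ∏ l ∈ Finset.univ.erase j, (P l * Q l)

lemma pow_Mj_eq_single (D : ∀ j, FrobData (A j) (P j) (Q j)) (S : Sep P Q) (f : ∀ j, F j) (j : ι) :
    f ^ Mj P Q j = Pi.mulSingle j (f j ^ Mj P Q j) := by
  funext l
  by_cases hl : l = j
  · subst hl
    simp
  · rw [Pi.mulSingle_eq_of_ne hl]
    show (f l) ^ _ = 1
    rw [← orderOf_dvd_iff_pow_eq_one]
    have h1 : P l * Q l ∣ Mj P Q j :=
      Finset.dvd_prod_of_mem _ (Finset.mem_erase.2 ⟨hl, Finset.mem_univ l⟩)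
    refine dvd_trans ?_ h1
    rcases orderOf_cases (D l) (S.primeP l) (S.primeQ l) (f l) with h | h | h
    · rw [h]; exact one_dvd _
    · rw [h]; exact dvd_mul_right _ _
    · rw [h]; exact dvd_mul_left _ _

lemma not_dvd_Mj (S : Sep P Q) {j : ι} {r : ℕ} (hr : r.Prime) (h : r = P j ∨ r = Q j) :
    ¬ r ∣ Mj P Q j := by
  intro hd
  obtain ⟨l, hl, hrl⟩ := (Prime.exists_mem_finset_dvd hr.prime hd)
  have hlj : l ≠ j := (Finset.mem_erase.1 hl).1
  obtain ⟨h1, h2, h3, h4⟩ := S.dis j l hlj.symm
  rcases (Nat.Prime.dvd_mul hr).1 hrl with h5 | h5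
  · have h6 := (Nat.prime_dvd_prime_iff_eq hr (S.primeP l)).1 h5
    rcases h with rfl | rfl
    · exact h1 h6
    · exact h3 h6
  · have h6 := (Nat.prime_dvd_prime_iff_eq hr (S.primeQ l)).1 h5
    rcases h with rfl | rfl
    · exact h2 h6
    · exact h4 h6

/-- Criticality of the product. -/
theorem crit_tuple [∀ j, Finite (F j)] (S : Sep P Q) (D : ∀ j, FrobData (A j) (P j) (Q j))
    (H : Subgroup (∀ j, F j)) (N : Subgroup H) [hN : N.Normal]
    (hΩ : Set.range (orderOf : (H ⧸ N) → ℕ) =
      {m : ℕ | ∃ c : ι → ℕ, (∀ j, c j = 1 ∨ c j = P j ∨ c j = Q j) ∧ m = ∏ j, c j}) :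
    H = ⊤ ∧ N = ⊥ := by
  classical
  -- elements of the right order in the section
  have hexist : ∀ j, ∀ r : ℕ, (r = P j ∨ r = Q j) → ∃ x : H, x ∉ N ∧ x ^ r ∈ N := by
    intro j r hr
    have hrp : r.Prime := by
      rcases hr with rfl | rfl
      · exact S.primeP j
      · exact S.primeQ j
    have hmem : r ∈ Set.range (orderOf : (H ⧸ N) → ℕ) := by
      rw [hΩ]
      refine ⟨fun l => if l = j then r else 1, ?_, ?_⟩
      · intro l
        by_cases hl : l = j
        · subst hl
          simp only [if_true]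
          exact Or.inr hr
        · simp [hl]
      · simp
    obtain ⟨xb, hxb⟩ := hmem
    obtain ⟨x, rfl⟩ := QuotientGroup.mk_surjective xb
    refine ⟨x, ?_, ?_⟩
    · intro hxN
      have h1 : (x : H ⧸ N) = 1 := (QuotientGroup.eq_one_iff x).2 hxN
      rw [h1, orderOf_one] at hxb
      exact hrp.one_lt.ne hxb
    · rw [← QuotientGroup.eq_one_iff, QuotientGroup.mk_pow, ← hxb, pow_orderOf_eq_one]
  let N' : Subgroup (∀ j, F j) := N.map H.subtype
  have hN'H : N' ≤ H := by
    rintro _ ⟨n, -, rfl⟩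
    exact n.2
  have hN'mem : ∀ x : H, (x : ∀ j, F j) ∈ N' ↔ x ∈ N := by
    intro x
    constructor
    · rintro ⟨n, hn, hnx⟩
      have : n = x := Subtype.ext hnx
      rwa [← this]
    · intro hx
      exact ⟨x, hx, rfl⟩
  let ι' : ∀ j, F j →* ∀ l, F l := fun j => MonoidHom.mulSingle F j
  let Hj : ∀ j, Subgroup (F j) := fun j => H.comap (ι' j)
  let Nj : ∀ j, Subgroup (F j) := fun j => N'.comap (ι' j)
  have hcrit : ∀ j, Hj j = ⊤ ∧ Nj j = ⊥ := by
    intro j
    have hred : ∀ r : ℕ, (r = P j ∨ r = Q j) →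
        ∃ z : F j, z ∈ Hj j ∧ z ∉ Nj j ∧ z ^ r ∈ Nj j := by
      intro r hr
      obtain ⟨x, hx1, hx2⟩ := hexist j r hr
      have hrp : r.Prime := by
        rcases hr with rfl | rfl
        · exact S.primeP j
        · exact S.primeQ j
      set M := Mj P Q j with hM
      have hsingle := pow_Mj_eq_single D S (x : ∀ l, F l) j
      refine ⟨(x : ∀ l, F l) j ^ M, ?_, ?_, ?_⟩
      · show Pi.mulSingle j _ ∈ H
        rw [← hsingle]
        exact H.pow_mem x.2 _
      · intro h
        have h1 : (Pi.mulSingle j ((x : ∀ l, F l) j ^ M) : ∀ l, F l) ∈ N' := h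
        rw [← hsingle] at h1
        have h2 : x ^ M ∈ N := (hN'mem (x ^ M)).1 h1
        have h3 : ((x : H ⧸ N)) ^ M = 1 := by
          rw [← QuotientGroup.mk_pow]
          exact (QuotientGroup.eq_one_iff _).2 h2
        have h4 : ((x : H ⧸ N)) ^ r = 1 := by
          rw [← QuotientGroup.mk_pow]
          exact (QuotientGroup.eq_one_iff _).2 hx2
        have h5 : Nat.Coprime r M := (Nat.Prime.coprime_iff_not_dvd hrp).2 (not_dvd_Mj S hrp hr)
        have h6 : ((x : H ⧸ N)) = 1 := by
          have := orderOf_dvd_of_pow_eq_one h3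
          have h7 := orderOf_dvd_of_pow_eq_one h4
          have h8 := Nat.dvd_gcd h7 this
          rw [h5] at h8
          exact orderOf_eq_one_iff.1 (Nat.dvd_one.1 h8)
        exact hx1 ((QuotientGroup.eq_one_iff _).1 h6)
      · show (Pi.mulSingle j (((x : ∀ l, F l) j ^ M) ^ r) : ∀ l, F l) ∈ N'
        have h1 : (Pi.mulSingle j (((x : ∀ l, F l) j ^ M) ^ r) : ∀ l, F l) =
            (((x ^ r) ^ M : H) : ∀ l, F l) := by
          have h2 := pow_Mj_eq_single D S (((x ^ r : H)) : ∀ l, F l) j
          have h3 : (((x ^ r) ^ M : H) : ∀ l, F l) = (((x ^ r : H)) : ∀ l, F l) ^ M := rfl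
          rw [h3, h2]
          congr 1
          have h4 : ((x ^ r : H) : ∀ l, F l) j = ((x : ∀ l, F l) j) ^ r := rfl
          rw [h4, ← pow_mul, ← pow_mul, mul_comm]
        rw [h1]
        exact (hN'mem _).2 (N.pow_mem hx2 _)
    obtain ⟨x, hxH, hxN, hxp⟩ := hred (P j) (Or.inl rfl)
    obtain ⟨y, hyH, hyN, hyq⟩ := hred (Q j) (Or.inr rfl)
    refine crit (D j) ((Nat.coprime_primes (S.primeP j) (S.primeQ j)).2 (S.ne j)) (Hj j) (Nj j)
      ?_ ?_ hxH hxN hxp hyH hyN hyq
    · intro z hz
      exact hN'H hz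
    · intro n hn h hh
      show ι' j (h * n * h⁻¹) ∈ N'
      have h1 : ι' j (h * n * h⁻¹) = ι' j h * ι' j n * (ι' j h)⁻¹ := by
        rw [map_mul, map_mul, map_inv]
      rw [h1]
      obtain ⟨m, hm, hmn⟩ := (hn : ι' j n ∈ N')
      have h2 := hN.conj_mem m hm ⟨ι' j h, hh⟩
      exact ⟨_, h2, by rw [← hmn]; rfl⟩
  constructor
  · rw [eq_top_iff]
    intro f _
    have hsingle : ∀ j (t : F j), (Pi.mulSingle j t : ∀ l, F l) ∈ H := by
      intro j t
      have h2 : t ∈ Hj j := by
        rw [(hcrit j).1]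
        trivial
      exact h2
    have hind : ∀ T : Finset ι, ∀ g : ∀ l, F l, (∀ i, i ∉ T → g i = 1) → g ∈ H := by
      intro T
      induction T using Finset.induction_on with
      | empty =>
        intro g hg
        have : g = 1 := by
          funext i
          exact hg i (by simp)
        rw [this]
        exact H.one_mem
      | insert a T ha ih =>
        intro g hg
        have hdecomp : g = Function.update g a 1 * Pi.mulSingle a (g a) := by
          funext j
          by_cases hj : j = a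
          · subst hj
            simp
          · simp [hj]
        rw [hdecomp]
        refine H.mul_mem (ih _ ?_) (hsingle _ _)
        intro i hi
        by_cases hia : i = a
        · subst hia
          simp
        · rw [Function.update_of_ne hia]
          exact hg i (by simp [hia, hi])
    exact hind Finset.univ f (by simp)
  · rw [eq_bot_iff]
    intro n hn
    rw [Subgroup.mem_bot]
    apply Subtype.ext
    funext j
    set M := Mj P Q j with hM
    have hsingle := pow_Mj_eq_single D S (n : ∀ l, F l) j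
    have h1 : (n : ∀ l, F l) j ^ M ∈ Nj j := by
      show (Pi.mulSingle j ((n : ∀ l, F l) j ^ M) : ∀ l, F l) ∈ N'
      rw [← hsingle]
      exact (hN'mem (n ^ M)).2 (N.pow_mem hn _)
    rw [(hcrit j).2, Subgroup.mem_bot] at h1
    have h2 := orderOf_dvd_of_pow_eq_one h1
    show (n : ∀ l, F l) j = 1
    rcases orderOf_cases (D j) (S.primeP j) (S.primeQ j) ((n : ∀ l, F l) j) with h | h | h
    · exact orderOf_eq_one_iff.1 h
    · rw [h] at h2
      exact absurd h2 (not_dvd_Mj S (S.primeP j) (Or.inl rfl))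
    · rw [h] at h2
      exact absurd h2 (not_dvd_Mj S (S.primeQ j) (Or.inr rfl))

end Product

section Concrete

open Cfsg.Agent.S3532

variable {K : Type} [Field K]

/-- The subgroup of the affine group whose translation part lies in `V`. -/
def Fs (ζ : Kˣ) (V : AddSubgroup K)
    (hV : ∀ u ∈ Subgroup.zpowers ζ, ∀ c ∈ V, ((u : Kˣ) : K) * c ∈ V) :
    Subgroup (T (Subgroup.zpowers ζ)) where
  carrier := {h | Multiplicative.toAdd h.left ∈ V}
  mul_mem' := by
    intro a b ha hb
    show Multiplicative.toAdd (a * b).left ∈ V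
    rw [SemidirectProduct.mul_left, toAdd_mul, act_apply, toAdd_ofAdd]
    exact V.add_mem ha (hV _ a.right.2 _ hb)
  one_mem' := V.zero_mem
  inv_mem' := by
    intro a ha
    show Multiplicative.toAdd (a⁻¹).left ∈ V
    rw [SemidirectProduct.inv_left, act_apply, toAdd_ofAdd, toAdd_inv]
    exact hV _ (a.right⁻¹).2 _ (V.neg_mem ha)

/-- Conjugation of translations in the affine group. -/
lemma conj_inl (C : Subgroup Kˣ) (x : T C) (c : Multiplicative K) :
    x * SemidirectProduct.inl c * x⁻¹ = SemidirectProduct.inl (act C x.right c) := by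
  have h1 : x = SemidirectProduct.inl x.left * SemidirectProduct.inr x.right :=
    (SemidirectProduct.inl_left_mul_inr_right x).symm
  conv_lhs => rw [h1]
  have h2 : (SemidirectProduct.inl x.left * SemidirectProduct.inr x.right :
        T C) * SemidirectProduct.inl c * (SemidirectProduct.inl x.left * SemidirectProduct.inr x.right)⁻¹ =
      SemidirectProduct.inl x.left * (SemidirectProduct.inr x.right * SemidirectProduct.inl c *
        (SemidirectProduct.inr x.right)⁻¹) * (SemidirectProduct.inl x.left)⁻¹ := by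
    group
  rw [h2, ← map_inv SemidirectProduct.inr, ← SemidirectProduct.inl_aut, ← map_inv SemidirectProduct.inl,
    ← map_mul, ← map_mul]
  congr 1
  rw [mul_comm x.left, mul_assoc, mul_inv_cancel, mul_one]

variable [Finite K] {p q : ℕ}

theorem data_of_minimal (hp : p.Prime) (hq : q.Prime) [CharP K p] (ζ : Kˣ) (hζ : orderOf ζ = q)
    (V : AddSubgroup K) (hV0 : V ≠ ⊥) (hVinv : ∀ c ∈ V, ((ζ : Kˣ) : K) * c ∈ V)
    (hVmin : ∀ W : AddSubgroup K, W ≠ ⊥ → W ≤ V → (∀ c ∈ W, ((ζ : Kˣ) : K) * c ∈ W) → W = V) :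
    ∃ (F : Type) (_ : Group F) (_ : Finite F) (A : Subgroup F), FrobData A p q := by
  classical
  haveI : Fact p.Prime := ⟨hp⟩
  haveI : Fact q.Prime := ⟨hq⟩
  have hV : ∀ u ∈ Subgroup.zpowers ζ, ∀ c ∈ V, ((u : Kˣ) : K) * c ∈ V := by
    intro u hu c hc
    rw [← mem_powers_iff_mem_zpowers] at hu
    obtain ⟨n, hn⟩ := hu
    have hn' : ζ ^ n = u := hn
    rw [← hn']
    clear hn hn'
    induction n with
    | zero => simpa using hc
    | succ n ih =>
      rw [pow_succ', Units.val_mul, mul_assoc]
      exact hVinv _ ih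
  let C : Subgroup Kˣ := Subgroup.zpowers ζ
  have hCcard : Nat.card C = q := by rw [Nat.card_zpowers, hζ]
  let FF : Subgroup (T C) := Fs ζ V hV
  let ρ : FF →* C := (SemidirectProduct.rightHom : T C →* C).comp FF.subtype
  let A : Subgroup FF := ρ.ker
  have memA : ∀ x : FF, x ∈ A ↔ (x : T C).right = 1 := fun x => Iff.rfl
  have hinlA : ∀ x : FF, x ∈ A → (x : T C) = SemidirectProduct.inl (x : T C).left := by
    intro x hx
    apply SemidirectProduct.ext
    · rfl
    · exact (memA x).1 hx
  have hzero : ∀ x : FF, x ∈ A → Multiplicative.toAdd (x : T C).left = 0 → x = 1 := by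
    intro x hx h0
    apply Subtype.ext
    apply SemidirectProduct.ext
    · exact h0
    · exact (memA x).1 hx
  have hinl : ∀ c : K, c ∈ V → (SemidirectProduct.inl (Multiplicative.ofAdd c) : T C) ∈ FF := by
    intro c hc
    exact hc
  -- generation of `C` by a non-trivial element
  have hgenC : ∀ u : C, u ≠ 1 → ∀ w : C, ∃ n : ℕ, u ^ n = w := by
    intro u hu w
    have h1 : Subgroup.zpowers u = ⊤ := zpowers_eq_top_of_prime_card hCcard hu
    have h2 : w ∈ Subgroup.zpowers u := by rw [h1]; trivial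
    rw [← mem_powers_iff_mem_zpowers] at h2
    obtain ⟨n, hn⟩ := h2
    exact ⟨n, hn⟩
  have hvalne : ∀ u : C, u ≠ 1 → ((u : Kˣ) : K) ≠ 1 := by
    intro u hu h
    apply hu
    apply Subtype.ext
    apply Units.ext
    simpa using h
  have hD : FrobData A p q := by
    refine
      { normal := inferInstance
        ne_bot := ?_
        exp_p := ?_
        out_q := ?_
        fpf := ?_
        minimal := ?_
        gen := ?_
        exists_out := ?_
        card_eq := ?_ }
    · -- non-trivial kernel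
      intro hA
      apply hV0
      rw [eq_bot_iff]
      intro c hc
      rw [AddSubgroup.mem_bot]
      have h1 : (⟨_, hinl c hc⟩ : FF) ∈ A := (memA _).2 rfl
      rw [hA] at h1
      have h2 := congrArg (fun x : FF => Multiplicative.toAdd (x : T C).left) (Subgroup.mem_bot.1 h1)
      exact h2
    · intro a ha
      apply Subtype.ext
      have h1 := orderOf_of_eq (p := p) C (a : T C) ((memA a).1 ha)
      exact orderOf_dvd_iff_pow_eq_one.1 h1
    · intro x hx
      apply Subtype.ext
      have h1 := orderOf_of_ne C (x : T C) (fun h => hx ((memA x).2 h))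
      have h2 : orderOf (x : T C).right ∣ q := by
        rw [← hCcard]
        exact orderOf_dvd_natCard _
      rw [← h1] at h2
      exact orderOf_dvd_iff_pow_eq_one.1 h2
    · intro x hx a ha hxa
      apply hzero a ha
      have h1 : (x : T C) * (a : T C) * (x : T C)⁻¹ = (a : T C) := congrArg Subtype.val hxa
      rw [hinlA a ha, conj_inl] at h1
      have h2 := SemidirectProduct.inl_injective h1
      have h3 := congrArg Multiplicative.toAdd h2
      rw [act_apply, toAdd_ofAdd] at h3
      have h4 : (((x : T C).right : Kˣ) : K) ≠ 1 := hvalne _ (fun h => hx ((memA x).2 h))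
      have h5 : ((((x : T C).right : Kˣ) : K) - 1) * Multiplicative.toAdd (a : T C).left = 0 := by
        rw [sub_mul, one_mul, h3, sub_self]
      exact (mul_eq_zero.1 h5).resolve_left (sub_ne_zero.2 h4)
    · intro x hx B hBA hB hinv
      -- additive subgroup of translations in `B`
      let W : AddSubgroup K :=
        { carrier := {c | ∃ b ∈ B, Multiplicative.toAdd ((b : FF) : T C).left = c}
          add_mem' := by
            rintro _ _ ⟨b₁, hb₁, rfl⟩ ⟨b₂, hb₂, rfl⟩
            refine ⟨b₁ * b₂, B.mul_mem hb₁ hb₂, ?_⟩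
            show Multiplicative.toAdd ((b₁ : T C) * (b₂ : T C)).left = _
            rw [SemidirectProduct.mul_left, toAdd_mul, act_apply, toAdd_ofAdd,
              (memA b₁).1 (hBA hb₁)]
            simp
          zero_mem' := ⟨1, B.one_mem, rfl⟩
          neg_mem' := by
            rintro _ ⟨b, hb, rfl⟩
            refine ⟨b⁻¹, B.inv_mem hb, ?_⟩
            show Multiplicative.toAdd ((b : T C)⁻¹).left = _
            rw [SemidirectProduct.inv_left, act_apply, toAdd_ofAdd, toAdd_inv,
              (memA b).1 (hBA hb)]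
            simp }
      have hWV : W ≤ V := by
        rintro _ ⟨b, -, rfl⟩
        exact b.2
      have hW0 : W ≠ ⊥ := by
        intro hW
        apply hB
        rw [eq_bot_iff]
        intro b hb
        rw [Subgroup.mem_bot]
        apply hzero b (hBA hb)
        have : Multiplicative.toAdd ((b : FF) : T C).left ∈ W := ⟨b, hb, rfl⟩
        rw [hW] at this
        exact this
      have hu : (x : T C).right ≠ 1 := fun h => hx ((memA x).2 h)
      have hWu : ∀ c ∈ W, (((x : T C).right : Kˣ) : K) * c ∈ W := by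
        rintro _ ⟨b, hb, rfl⟩
        refine ⟨x * b * x⁻¹, hinv b hb, ?_⟩
        have h1 : ((x * b * x⁻¹ : FF) : T C) = (x : T C) * (b : T C) * (x : T C)⁻¹ := rfl
        rw [h1, hinlA b (hBA hb), conj_inl]
        rfl
      have hWζ : ∀ c ∈ W, ((ζ : Kˣ) : K) * c ∈ W := by
        intro c hc
        obtain ⟨n, hn⟩ := hgenC _ hu ⟨ζ, Subgroup.mem_zpowers ζ⟩
        have h1 : ((ζ : Kˣ) : K) = ((((x : T C).right ^ n : C) : Kˣ) : K) := by rw [hn]
        rw [h1, Subgroup.coe_pow, Units.val_pow_eq_pow_val]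
        clear h1 hn
        induction n with
        | zero => simpa using hc
        | succ n ih =>
          rw [pow_succ', mul_assoc]
          exact hWu _ ih
      have hWeq := hVmin W hW0 hWV hWζ
      apply le_antisymm hBA
      intro a ha
      have h1 : Multiplicative.toAdd ((a : FF) : T C).left ∈ W := by
        rw [hWeq]
        exact a.2
      obtain ⟨b, hb, hab⟩ := h1
      have h2 : b = a := by
        apply Subtype.ext
        apply SemidirectProduct.ext
        · exact Multiplicative.toAdd.injective hab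
        · rw [(memA b).1 (hBA hb), (memA a).1 ha]
      rwa [← h2]
    · intro H hAH x hxH hxA
      rw [eq_top_iff]
      intro f _
      have hu : (x : T C).right ≠ 1 := fun h => hxA ((memA x).2 h)
      obtain ⟨n, hn⟩ := hgenC _ hu (f : T C).right
      have h1 : f * (x ^ n)⁻¹ ∈ A := by
        rw [memA]
        show ((f : T C) * ((x : T C) ^ n)⁻¹).right = 1
        rw [SemidirectProduct.mul_right, SemidirectProduct.inv_right, pow_right, hn, mul_inv_cancel]
      have h2 : f = (f * (x ^ n)⁻¹) * x ^ n := by group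
      rw [h2]
      exact H.mul_mem (hAH h1) (H.pow_mem hxH n)
    · have hζ1 : ζ ≠ 1 := by
        rintro rfl
        rw [orderOf_one] at hζ
        exact hq.one_lt.ne hζ
      refine ⟨⟨SemidirectProduct.inr ⟨ζ, Subgroup.mem_zpowers ζ⟩, V.zero_mem⟩, ?_⟩
      intro h
      have h1 : (⟨ζ, Subgroup.mem_zpowers ζ⟩ : C) = 1 := (memA _).1 h
      exact hζ1 (congrArg Subtype.val h1)
    · -- cardinalities
      have hKf : Finite K := inferInstance
      obtain ⟨e, he, hcard⟩ : ∃ e, 1 ≤ e ∧ Nat.card V = p ^ e := by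
        have hpg : IsPGroup p (Multiplicative V) := by
          intro x
          refine ⟨1, ?_⟩
          apply Multiplicative.toAdd.injective
          apply Subtype.ext
          show (p ^ 1) • ((Multiplicative.toAdd x : V) : K) = 0
          rw [pow_one, nsmul_eq_mul, CharP.cast_eq_zero, zero_mul]
        obtain ⟨e, he⟩ := IsPGroup.iff_card.1 hpg
        have he' : Nat.card V = p ^ e := he
        refine ⟨e, ?_, he'⟩
        by_contra h0
        have h1 : e = 0 := by omega
        rw [h1, pow_zero] at he'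
        exact hV0 (AddSubgroup.eq_bot_of_card_eq _ he')
      let e1 : A ≃ V :=
        { toFun := fun a => ⟨Multiplicative.toAdd ((a : FF) : T C).left, (a : FF).2⟩
          invFun := fun c => ⟨⟨SemidirectProduct.inl (Multiplicative.ofAdd (c : K)), c.2⟩, rfl⟩
          left_inv := fun a => by
            apply Subtype.ext
            apply Subtype.ext
            exact (hinlA a a.2).symm
          right_inv := fun c => rfl }
      let e2 : FF ≃ V × C :=
        { toFun := fun x => (⟨Multiplicative.toAdd (x : T C).left, x.2⟩, (x : T C).right)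
          invFun := fun c => ⟨⟨Multiplicative.ofAdd (c.1 : K), c.2⟩, c.1.2⟩
          left_inv := fun x => rfl
          right_inv := fun c => rfl }
      refine ⟨e, he, ?_, ?_⟩
      · rw [Nat.card_congr e1, hcard]
      · rw [Nat.card_congr e2, Nat.card_prod, hcard, hCcard]
  exact ⟨FF, inferInstance, inferInstance, A, hD⟩

/-- Existence of the Frobenius groups. -/
theorem exists_data (hp : p.Prime) (hq : q.Prime) (hpq : p ≠ q) :
    ∃ (F : Type) (_ : Group F) (_ : Finite F) (A : Subgroup F), FrobData A p q := by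
  classical
  haveI : Fact p.Prime := ⟨hp⟩
  haveI : Fact q.Prime := ⟨hq⟩
  have hq1 : q - 1 ≠ 0 := by
    have := hq.two_le
    omega
  let L : Type := GaloisField p (q - 1)
  haveI hLf : Finite L := by
    show Finite (GaloisField p (q - 1))
    apply Nat.finite_of_card_ne_zero
    rw [GaloisField.card p (q - 1) hq1]
    exact pow_ne_zero _ hp.ne_zero
  haveI hLc : CharP L p := by
    show CharP (GaloisField p (q - 1)) p
    infer_instance
  have hLcard : Nat.card L = p ^ (q - 1) := GaloisField.card p (q - 1) hq1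
  -- an element of order `q`
  have hfermat : q ∣ p ^ (q - 1) - 1 := by
    have hco : Nat.Coprime p q := (Nat.coprime_primes hp hq).2 hpq
    have h1 := Nat.ModEq.pow_totient hco
    rw [Nat.totient_prime hq] at h1
    exact (Nat.modEq_iff_dvd' (Nat.one_le_pow _ _ hp.pos)).1 h1.symm
  obtain ⟨z, hz⟩ := IsCyclic.exists_ofOrder_eq_natCard (α := Lˣ)
  have hzc : orderOf z = p ^ (q - 1) - 1 := by
    rw [hz, Nat.card_units, hLcard]
  have hzpos : 0 < orderOf z := orderOf_pos z
  have hdvd : q ∣ orderOf z := by rw [hzc]; exact hfermat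
  let ζ : Lˣ := z ^ (orderOf z / q)
  have hζ : orderOf ζ = q := by
    show orderOf (z ^ (orderOf z / q)) = q
    rw [orderOf_pow_of_dvd (Nat.div_ne_zero_iff_of_dvd hdvd |>.2 ⟨hzpos.ne', hq.ne_zero⟩)
      (Nat.div_dvd_of_dvd hdvd), Nat.div_div_self hdvd hzpos.ne']
  -- a minimal invariant additive subgroup
  obtain ⟨V, hVm⟩ := Set.Finite.exists_minimal
    (Set.toFinite {W : AddSubgroup L | W ≠ ⊥ ∧ ∀ c ∈ W, ((ζ : Lˣ) : L) * c ∈ W})
    ⟨⊤, top_ne_bot, fun c _ => trivial⟩
  obtain ⟨⟨hV0, hVinv⟩, hVmin⟩ := hVm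
  exact data_of_minimal hp hq ζ hζ V hV0 hVinv (fun W hW0 hWV hWinv =>
    le_antisymm hWV (hVmin ⟨hW0, hWinv⟩ hWV))

end Concrete

/-- Factorization at a prime of a product when only one factor contributes. -/
lemma factorization_prod_single {ι : Type} [Fintype ι] [DecidableEq ι] (n : ι → ℕ) (hn : ∀ l, n l ≠ 0)
    (j : ι) (r : ℕ) (h : ∀ l, l ≠ j → (n l).factorization r = 0) :
    (∏ l, n l).factorization r = (n j).factorization r := by
  rw [Nat.factorization_prod (fun l _ => hn l), Finsupp.finset_sum_apply]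
  apply Finset.sum_eq_single j
  · intro l _ hl
    exact h l hl
  · intro hj
    exact absurd (Finset.mem_univ j) hj

/-- A finite group is critical with respect to a set Ω of natural numbers when its set of element orders is Ω while no proper section H/N (H a subgroup, N normal in H, (H, N) ≠ (whole group, 1)) has Ω as its set of element orders. Let s ≥ 1 and let p(j,0), p(j,1) (j < s) be 2s pairwise distinct primes, and let Ω be the set of all products c(0)·…·c(s−1) with each c(j) ∈ {1, p(j,0), p(j,1)}. Then there are 2^s pairwise non-isomorphic finite groups critical with respect to Ω. -/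
theorem result (s : ℕ) (hs : 1 ≤ s) (p : Fin s → Fin 2 → ℕ)
    (hp : ∀ j i, (p j i).Prime) (hinj : ∀ j i j' i', p j i = p j' i' → j = j' ∧ i = i') :
    ∃ (G : Fin (2 ^ s) → Type) (_ : ∀ a, Group (G a)) (_ : ∀ a, Fintype (G a)),
      (∀ a b, a ≠ b → ¬ Nonempty (G a ≃* G b)) ∧
      ∀ a, Set.range (orderOf : (G a) → ℕ) = {m : ℕ | ∃ c : Fin s → ℕ, (∀ j, c j = 1 ∨ c j = p j 0 ∨ c j = p j 1) ∧ m = ∏ j, c j} ∧
      ∀ (H : Subgroup (G a)) (N : Subgroup ↥H) [N.Normal], (H ≠ ⊤ ∨ N ≠ ⊥) → Set.range (orderOf : (↥H ⧸ N) → ℕ) ≠ {m : ℕ | ∃ c : Fin s → ℕ, (∀ j, c j = 1 ∨ c j = p j 0 ∨ c j = p j 1) ∧ m = ∏ j, c j} := by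
  classical
  let e : Fin (2 ^ s) ≃ (Fin s → Fin 2) := finFunctionFinEquiv.symm
  have hne : ∀ j (i : Fin 2), p j i ≠ p j (i + 1) := by
    intro j i h
    have := (hinj _ _ _ _ h).2
    fin_cases i <;> simp at this
  have hdata : ∀ (j : Fin s) (i : Fin 2), ∃ (F : Type) (_ : Group F) (_ : Finite F) (A : Subgroup F),
      FrobData A (p j i) (p j (i + 1)) := fun j i => exists_data (hp j i) (hp j (i + 1)) (hne j i)
  choose Fam gFam fFam AFam DFam using hdata
  letI : ∀ j i, Group (Fam j i) := gFam
  haveI : ∀ j i, Finite (Fam j i) := fFam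
  have hsep : ∀ α : Fin s → Fin 2, Sep (fun j => p j (α j)) (fun j => p j (α j + 1)) := by
    intro α
    refine ⟨fun j => hp _ _, fun j => hp _ _, fun j => hne j _, ?_⟩
    intro j l hjl
    refine ⟨fun h => hjl (hinj _ _ _ _ h).1, fun h => hjl (hinj _ _ _ _ h).1,
      fun h => hjl (hinj _ _ _ _ h).1, fun h => hjl (hinj _ _ _ _ h).1⟩
  have hΩ : ∀ α : Fin s → Fin 2,
      {m : ℕ | ∃ c : Fin s → ℕ, (∀ j, c j = 1 ∨ c j = p j (α j) ∨ c j = p j (α j + 1)) ∧ m = ∏ j, c j} =
      {m : ℕ | ∃ c : Fin s → ℕ, (∀ j, c j = 1 ∨ c j = p j 0 ∨ c j = p j 1) ∧ m = ∏ j, c j} := by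
    intro α
    ext m
    constructor
    · rintro ⟨c, hc, rfl⟩
      refine ⟨c, fun j => ?_, rfl⟩
      have h1 := hc j
      generalize α j = i at h1
      fin_cases i
      · simpa using h1
      · simp at h1
        rcases h1 with h | h | h
        · exact Or.inl h
        · exact Or.inr (Or.inr h)
        · exact Or.inr (Or.inl h)
    · rintro ⟨c, hc, rfl⟩
      refine ⟨c, fun j => ?_, rfl⟩
      have h1 := hc j
      generalize α j = i
      fin_cases i
      · simpa using h1
      · simp
        rcases h1 with h | h | h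
        · exact Or.inl h
        · exact Or.inr (Or.inr h)
        · exact Or.inr (Or.inl h)
  refine ⟨fun a => ∀ j, Fam j (e a j), fun a => inferInstance, fun a => Fintype.ofFinite _, ?_, ?_⟩
  · -- pairwise non-isomorphic, by cardinality
    intro a b hab ⟨φ⟩
    have hαβ : e a ≠ e b := fun h => hab (e.injective h)
    obtain ⟨j, hj⟩ := Function.ne_iff.1 hαβ
    set α := e a with hα
    set β := e b with hβ
    have hcard : Nat.card (∀ l, Fam l (α l)) = Nat.card (∀ l, Fam l (β l)) := Nat.card_congr φ.toEquiv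
    rw [Nat.card_pi, Nat.card_pi] at hcard
    have hne0 : ∀ l i, Nat.card (Fam l i) ≠ 0 := fun l i => Nat.card_pos.ne'
    have hβj : β j = α j + 1 := by
      generalize α j = i at hj ⊢
      generalize β j = i' at hj ⊢
      revert hj
      revert i i'
      decide
    have hαj : α j = β j + 1 := by
      rw [hβj]
      generalize α j = i
      revert i
      decide
    -- the exponents
    have hfac : ∀ l i r, r.Prime → (r ≠ p l i) → (r ≠ p l (i + 1)) →
        (Nat.card (Fam l i)).factorization r = 0 := by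
      intro l i r hr h1 h2
      obtain ⟨e', -, -, h3⟩ := (DFam l i).card_eq
      apply Nat.factorization_eq_zero_of_not_dvd
      rw [h3]
      intro h4
      rcases (Nat.Prime.dvd_mul hr).1 h4 with h5 | h5
      · exact h1 ((Nat.prime_dvd_prime_iff_eq hr (hp _ _)).1 (hr.dvd_of_dvd_pow h5))
      · exact h2 ((Nat.prime_dvd_prime_iff_eq hr (hp _ _)).1 h5)
    have hP := hp j (α j)
    have hQ := hp j (α j + 1)
    have hPQ := hne j (α j)
    set P := p j (α j) with hPdef
    set Q := p j (α j + 1) with hQdef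
    -- factorization of the two cardinalities
    have hsingle : ∀ (γ : Fin s → Fin 2) (r : ℕ), (r = P ∨ r = Q) → r.Prime →
        (∏ l, Nat.card (Fam l (γ l))).factorization r =
          (Nat.card (Fam j (γ j))).factorization r := by
      intro γ r hr hrp
      apply factorization_prod_single _ (fun l => hne0 l (γ l))
      intro l hl
      apply hfac l _ r hrp
      · rcases hr with rfl | rfl
        · intro h
          exact hl (hinj _ _ _ _ h).1.symm
        · intro h
          exact hl (hinj _ _ _ _ h).1.symm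
      · rcases hr with rfl | rfl
        · intro h
          exact hl (hinj _ _ _ _ h).1.symm
        · intro h
          exact hl (hinj _ _ _ _ h).1.symm
    obtain ⟨e₁, he₁, hA₁, hF₁⟩ := (DFam j (α j)).card_eq
    obtain ⟨e₂, he₂, hA₂, hF₂⟩ := (DFam j (β j)).card_eq
    have hQ2 : p j (β j) = Q := by rw [hβj]
    have hP2 : p j (β j + 1) = P := by rw [← hαj]
    rw [hQ2] at hA₂
    rw [hQ2, hP2] at hF₂
    have hmodP := card_modEq (DFam j (α j)) hQ
    have hmodQ := card_modEq (DFam j (β j)) (by rw [hP2]; exact hP)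
    rw [hA₁] at hmodP
    rw [hA₂, hP2] at hmodQ
    have hfP : e₁ = 1 := by
      have h1 := hsingle α P (Or.inl rfl) hP
      have h2 := hsingle β P (Or.inl rfl) hP
      rw [hcard, h2, hF₂] at h1
      rw [hF₁] at h1
      rw [Nat.factorization_mul (pow_ne_zero _ hQ.ne_zero) hP.ne_zero,
        Nat.factorization_mul (pow_ne_zero _ hP.ne_zero) hQ.ne_zero] at h1
      simp [Nat.factorization_pow, hP.factorization, hQ.factorization,
        Finsupp.single_apply, hPQ, hPQ.symm] at h1
      omega
    have hfQ : e₂ = 1 := by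
      have h1 := hsingle α Q (Or.inr rfl) hQ
      have h2 := hsingle β Q (Or.inr rfl) hQ
      rw [hcard, h2, hF₂] at h1
      rw [hF₁] at h1
      rw [Nat.factorization_mul (pow_ne_zero _ hQ.ne_zero) hP.ne_zero,
        Nat.factorization_mul (pow_ne_zero _ hP.ne_zero) hQ.ne_zero] at h1
      simp [Nat.factorization_pow, hP.factorization, hQ.factorization,
        Finsupp.single_apply, hPQ, hPQ.symm] at h1
      omega
    rw [hfP, pow_one] at hmodP
    rw [hfQ, pow_one] at hmodQ
    have h1 : Q ∣ P - 1 := (Nat.modEq_iff_dvd' hP.one_lt.le).1 hmodP.symm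
    have h2 : P ∣ Q - 1 := (Nat.modEq_iff_dvd' hQ.one_lt.le).1 hmodQ.symm
    have h3 := Nat.le_of_dvd (by have := hP.one_lt; omega) h1
    have h4 := Nat.le_of_dvd (by have := hQ.one_lt; omega) h2
    have := hP.one_lt
    have := hQ.one_lt
    omega
  · intro a
    set α := e a with hα
    have hS := hsep α
    have hD : ∀ j, FrobData (AFam j (α j)) (p j (α j)) (p j (α j + 1)) := fun j => DFam j (α j)
    have hr := range_tuple (F := fun j => Fam j (α j)) hS hD
    rw [hΩ α] at hr
    refine ⟨hr, ?_⟩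
    intro H N _ hHN hrange
    have := crit_tuple (F := fun j => Fam j (α j)) hS hD H N (by
      rw [hrange, hΩ α])
    rcases hHN with h | h
    · exact h this.1
    · exact h this.2

end Cfsg.Agent.S3599
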