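import Cfsg.Statements.S3634
import Mathlib
import Cfsg.Agent.Lib.FrobId.Basic

set_option autoImplicit false
open Cfsg

namespace Cfsg.Agent.S3634

open Cfsg.Agent.Lib.FrobId in
/-- The local configuration yielding the contradiction. -/
lemma core {G : Type*} [Group G] [Finite G] (P Q : Subgroup G) (y : G) (p q r : ℕ) (hp : p.Prime)
    (hq : q.Prime) (hr : r.Prime) (hpq : p ≠ q) (hpr : p ≠ r) (hqr : q ≠ r)
    (hPp : IsPGroup p P) (hPne : P ≠ ⊥) (hQq : IsPGroup q Q) (hQne : Q ≠ ⊥) (hyo : orderOf y = r)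
    (hQN : Q ≤ Subgroup.normalizer (P : Set G)) (hyN : y ∈ Subgroup.normalizer (P : Set G))
    (hyQ : ∀ c ∈ Q, y * c * y⁻¹ ∈ Q)
    (hnpq : ¬ ∃ x : G, orderOf x = p * q) (hnpr : ¬ ∃ x : G, orderOf x = p * r)
    (hnqr : ¬ ∃ x : G, orderOf x = q * r) : False := by
  classical
  have hfp : Fact p.Prime := ⟨hp⟩
  -- the centre of `P`
  let V : Subgroup G := P ⊓ Subgroup.centralizer (P : Set G)
  have hVmem : ∀ v, v ∈ V ↔ v ∈ P ∧ ∀ x ∈ P, x * v = v * x := by
    intro v
    simp only [V, Subgroup.mem_inf, Subgroup.mem_centralizer_iff, SetLike.mem_coe]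
  have hVab : ∀ a ∈ V, ∀ b ∈ V, a * b = b * a := by
    intro a ha b hb
    exact ((hVmem b).1 hb).2 a ((hVmem a).1 ha).1
  have hnormV : Subgroup.normalizer (P : Set G) ≤ Subgroup.normalizer (V : Set G) := by
    intro g hg
    rw [Subgroup.mem_normalizer_iff] at hg ⊢
    have key : ∀ g : G, (∀ h, h ∈ P ↔ g * h * g⁻¹ ∈ P) → ∀ h ∈ V, g * h * g⁻¹ ∈ V := by
      intro g hg h hh
      obtain ⟨h1, h2⟩ := (hVmem h).1 hh
      rw [hVmem]
      refine ⟨(hg h).1 h1, fun x hx => ?_⟩
      have hx' : g⁻¹ * x * g ∈ P := by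
        rw [hg]; simpa [mul_assoc] using hx
      have := h2 _ hx'
      calc x * (g * h * g⁻¹) = g * ((g⁻¹ * x * g) * h) * g⁻¹ := by group
        _ = g * (h * (g⁻¹ * x * g)) * g⁻¹ := by rw [this]
        _ = g * h * g⁻¹ * x := by group
    intro h
    constructor
    · exact key g hg h
    · intro hh
      have hg' : ∀ h, h ∈ P ↔ g⁻¹ * h * g⁻¹⁻¹ ∈ P := by
        intro h
        constructor
        · intro hh
          rw [hg]; simpa [mul_assoc] using hh
        · intro hh
          have := (hg _).1 hh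
          simpa [mul_assoc] using this
      have := key g⁻¹ hg' _ hh
      simpa [mul_assoc] using this
  -- `V` is nontrivial
  have hPnt : Nontrivial P := (Subgroup.nontrivial_iff_ne_bot P).2 hPne
  have hzc := hPp.center_nontrivial
  obtain ⟨z, hz⟩ := exists_ne (1 : Subgroup.center P)
  have hz' : ((z : P) : G) ∈ V := by
    rw [hVmem]
    refine ⟨(z : P).2, fun x hx => ?_⟩
    have := (Subgroup.mem_center_iff.1 z.2) ⟨x, hx⟩
    exact congrArg Subtype.val this
  have hz1 : ((z : P) : G) ≠ 1 := by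
    intro h
    apply hz
    apply Subtype.ext
    apply Subtype.ext
    exact h
  -- orders of elements of `V` are divisible by `p`
  have hVord : ∀ v ∈ V, v ≠ 1 → p ∣ orderOf v := by
    intro v hv hv1
    have hvP : v ∈ P := ((hVmem v).1 hv).1
    obtain ⟨n, hn⟩ := hPp ⟨v, hvP⟩
    have h1 : orderOf v ∣ p ^ n := by
      apply orderOf_dvd_of_pow_eq_one
      have := congrArg Subtype.val hn
      simpa using this
    obtain ⟨k, -, hk⟩ := (Nat.dvd_prime_pow hp).1 h1
    rw [hk]
    cases k with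
    | zero =>
      exfalso
      apply hv1
      simpa using hk
    | succ k => exact dvd_pow_self p (Nat.succ_ne_zero k)
  have hQord : ∀ c ∈ Q, c ≠ 1 → q ∣ orderOf c := by
    intro v hvP hv1
    obtain ⟨n, hn⟩ := hQq ⟨v, hvP⟩
    have h1 : orderOf v ∣ q ^ n := by
      apply orderOf_dvd_of_pow_eq_one
      have := congrArg Subtype.val hn
      simpa using this
    obtain ⟨k, -, hk⟩ := (Nat.dvd_prime_pow hq).1 h1
    rw [hk]
    cases k with
    | zero =>
      exfalso
      apply hv1
      simpa using hk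
    | succ k => exact dvd_pow_self q (Nat.succ_ne_zero k)
  -- the action
  let W := ↥(Subgroup.normalizer (V : Set G))
  letI hVc : CommGroup V := { (inferInstance : Group V) with
    mul_comm := fun a b => Subtype.ext (hVab a a.2 b b.2) }
  letI act : MulDistribMulAction W V :=
    MulDistribMulAction.compHom V (V.normalizerMonoidHom)
  have hact : ∀ (g : W) (v : V), ((g • v : V) : G) = (g : G) * v * (g : G)⁻¹ := fun g v => rfl
  let y' : W := ⟨y, hnormV hyN⟩
  let R : Subgroup W := Q.subgroupOf (Subgroup.normalizer (V : Set G))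
  have hRmem : ∀ c : W, c ∈ R ↔ (c : G) ∈ Q := fun c => Subgroup.mem_subgroupOf
  have hRcard : Nat.card R = Nat.card Q := by
    have hle : Q ≤ Subgroup.normalizer (V : Set G) := hQN.trans hnormV
    exact Nat.card_congr (Subgroup.subgroupOfEquivOfLe hle).toEquiv
  have hRne : R ≠ ⊥ := by
    intro h
    apply hQne
    rw [eq_bot_iff]
    intro c hc
    have h1 : (⟨c, hnormV (hQN hc)⟩ : W) ∈ R := (hRmem _).2 hc
    rw [h, Subgroup.mem_bot] at h1
    have := congrArg Subtype.val h1
    simpa using this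
  have hyr : y' ^ r = 1 := by
    apply Subtype.ext
    show y ^ r = 1
    rw [← hyo]; exact pow_orderOf_eq_one y
  have key := pow_card_eq_one_of_fpf R hRne y' r hr.pos hyr
    (by
      intro c hc
      rw [hRmem] at hc ⊢
      exact hyQ _ hc)
    (by
      intro i hi0 hir c hc hcomm
      rw [hRmem] at hc
      by_contra hc1
      have hc1' : (c : G) ≠ 1 := fun h => hc1 (Subtype.ext h)
      have hcop : Nat.Coprime r i := (Nat.Prime.coprime_iff_not_dvd hr).2 (Nat.not_dvd_of_pos_of_lt hi0 hir)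
      have hoy : orderOf (y ^ i) = r := by
        rw [Nat.Coprime.orderOf_pow (by rw [hyo]; exact hcop), hyo]
      have hc2 : Commute (c : G) (y ^ i) := by
        have h := congrArg Subtype.val hcomm.eq
        rw [Subgroup.coe_mul, Subgroup.coe_mul, Subgroup.coe_pow] at h
        exact h
      exact hnqr (exists_orderOf_mul_of_commute hq hr hqr (orderOf_pos _) (orderOf_pos _)
        (hQord _ hc hc1') (by rw [hoy]) hc2))
    (by
      intro v hv
      by_contra hv1
      have hv1' : (v : G) ≠ 1 := fun h => hv1 (Subtype.ext h)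
      have hv2 : y * (v : G) * y⁻¹ = v := congrArg Subtype.val hv
      have hc2 : Commute (v : G) y := by
        exact (mul_inv_eq_iff_eq_mul.1 hv2).symm
      exact hnpr (exists_orderOf_mul_of_commute hp hr hpr (orderOf_pos _) (orderOf_pos _)
        (hVord _ v.2 hv1') (by rw [hyo]) hc2))
    (by
      intro v c hc hc1 hv
      rw [hRmem] at hc
      by_contra hv1
      have hv1' : (v : G) ≠ 1 := fun h => hv1 (Subtype.ext h)
      have hc1' : (c : G) ≠ 1 := fun h => hc1 (Subtype.ext h)
      have hv2 : (c : G) * (v : G) * (c : G)⁻¹ = v := congrArg Subtype.val hv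
      have hc2 : Commute (v : G) (c : G) := (mul_inv_eq_iff_eq_mul.1 hv2).symm
      exact hnpq (exists_orderOf_mul_of_commute hp hq hpq (orderOf_pos _) (orderOf_pos _)
        (hVord _ v.2 hv1') (hQord _ hc hc1') hc2))
    (⟨_, hz'⟩ : V)
  -- contradiction
  have hpz : p ∣ orderOf ((z : P) : G) := hVord _ hz' hz1
  have h1 : ((z : P) : G) ^ Nat.card Q = 1 := by
    rw [hRcard] at key
    exact congrArg Subtype.val key
  have hd := orderOf_dvd_of_pow_eq_one h1
  have hpQ : p ∣ Nat.card Q := hpz.trans hd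
  have hfq : Fact q.Prime := ⟨hq⟩
  obtain ⟨n, hn⟩ := IsPGroup.iff_card.1 hQq
  rw [hn] at hpQ
  have := (Nat.prime_dvd_prime_iff_eq hp hq).1 (hp.dvd_of_dvd_pow hpQ)
  exact hpq this

/-- Let G be a finite group with normal subgroups K ≤ M, and let p, q, r be distinct primes with p dividing the order of K, q dividing the order of M/K and r dividing the order of G/M. Then p, q, r are not pairwise non-adjacent in the prime graph of G: G has an element of order pq, pr or qr. -/
theorem result {G : Type*} [Group G] [Finite G] (K M : Subgroup G) [K.Normal] [M.Normal] (hKM : K ≤ M)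
    (p q r : ℕ) (hp : p.Prime) (hq : q.Prime) (hr : r.Prime) (hpq : p ≠ q) (hpr : p ≠ r) (hqr : q ≠ r)
    (hpK : p ∣ Nat.card ↥K) (hqM : q ∣ Nat.card ↥M / Nat.card ↥K) (hrG : r ∣ Nat.card G / Nat.card ↥M) :
    (∃ x : G, orderOf x = p * q) ∨ (∃ x : G, orderOf x = p * r) ∨ (∃ x : G, orderOf x = q * r) := by
  classical
  by_contra hcon
  push Not at hcon
  obtain ⟨hnpq, hnpr, hnqr⟩ := hcon
  have hfp : Fact p.Prime := ⟨hp⟩
  have hfq : Fact q.Prime := ⟨hq⟩
  have hfr : Fact r.Prime := ⟨hr⟩
  -- first Frattini argument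
  obtain ⟨P0⟩ : Nonempty (Sylow p K) := inferInstance
  let P : Subgroup G := (P0 : Subgroup K).map K.subtype
  let N : Subgroup G := Subgroup.normalizer (P : Set G)
  have hsup1 : N ⊔ K = ⊤ := P0.normalizer_sup_eq_top
  have hsup2 : N ⊔ M = ⊤ := by
    rw [eq_top_iff, ← hsup1]
    exact sup_le_sup_left hKM _
  have hP0ne : (P0 : Subgroup K) ≠ ⊥ := P0.ne_bot_of_dvd_card hpK
  have hPne : P ≠ ⊥ := by
    intro h
    apply hP0ne
    exact (Subgroup.map_eq_bot_iff_of_injective _ K.subtype_injective).1 h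
  have hPp : IsPGroup p P := P0.isPGroup'.map K.subtype
  -- numbers
  have hrL : r ∣ (M.subgroupOf N).index := by
    have h1 : Nat.card G / Nat.card M = M.index := by
      rw [← Subgroup.card_mul_index M]
      exact Nat.mul_div_cancel_left _ Nat.card_pos
    have h2 : M.relIndex N = M.index := by
      rw [← Subgroup.relIndex_sup_right (H := N) (K := M), hsup2, Subgroup.relIndex_top_right]
    rw [h1, ← h2] at hrG
    exact hrG
  have hqL : q ∣ Nat.card (M.subgroupOf N) := by
    have h1 : Nat.card M / Nat.card K = K.relIndex M := by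
      have h3 := Subgroup.card_mul_index (K.subgroupOf M)
      have h4 : Nat.card (K.subgroupOf M) = Nat.card K :=
        Nat.card_congr (Subgroup.subgroupOfEquivOfLe hKM).toEquiv
      rw [h4] at h3
      rw [← h3]
      exact Nat.mul_div_cancel_left _ Nat.card_pos
    rw [h1] at hqM
    have h5 : (M ⊓ N) ⊔ K = M := by
      apply le_antisymm
      · exact sup_le inf_le_left hKM
      · intro m hm
        have hmtop : m ∈ N ⊔ K := by rw [hsup1]; trivial
        obtain ⟨n, hn, k, hk, rfl⟩ := Subgroup.mem_sup_of_normal_right.1 hmtop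
        have hnM : n ∈ M := by
          have := M.mul_mem hm (M.inv_mem (hKM hk))
          simpa using this
        exact Subgroup.mul_mem_sup ⟨hnM, hn⟩ hk
    have h6 : K.relIndex M = K.relIndex (M ⊓ N) := by
      rw [← Subgroup.relIndex_sup_right (H := M ⊓ N) (K := K), h5]
    rw [h6] at hqM
    have h7 : q ∣ Nat.card ↥(M ⊓ N) := hqM.trans (Subgroup.relIndex_dvd_card _ _)
    have h8 : Nat.card (M.subgroupOf N) = Nat.card ↥(M ⊓ N) := by
      rw [← Subgroup.inf_subgroupOf_right]
      exact Nat.card_congr (Subgroup.subgroupOfEquivOfLe inf_le_right).toEquiv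
    rw [h8]
    exact h7
  -- second Frattini argument, in `N`
  let L : Subgroup N := M.subgroupOf N
  have hLn : L.Normal := inferInstance
  obtain ⟨Q0⟩ : Nonempty (Sylow q L) := inferInstance
  let Q1 : Subgroup N := (Q0 : Subgroup L).map L.subtype
  let N1 : Subgroup N := Subgroup.normalizer (Q1 : Set N)
  have hsup3 : N1 ⊔ L = ⊤ := Q0.normalizer_sup_eq_top
  have hrN1 : r ∣ Nat.card N1 := by
    have h2 : L.relIndex N1 = L.index := by
      rw [← Subgroup.relIndex_sup_right (H := N1) (K := L), hsup3, Subgroup.relIndex_top_right]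
    have h3 : r ∣ L.relIndex N1 := by rw [h2]; exact hrL
    exact h3.trans (Subgroup.relIndex_dvd_card _ _)
  obtain ⟨y0, hy0⟩ := exists_prime_orderOf_dvd_card' r hrN1
  have hQ0ne : (Q0 : Subgroup L) ≠ ⊥ := Q0.ne_bot_of_dvd_card hqL
  have hQ1ne : Q1 ≠ ⊥ := by
    intro h
    apply hQ0ne
    exact (Subgroup.map_eq_bot_iff_of_injective _ L.subtype_injective).1 h
  let Q : Subgroup G := Q1.map N.subtype
  have hQne : Q ≠ ⊥ := by
    intro h
    apply hQ1ne
    exact (Subgroup.map_eq_bot_iff_of_injective _ N.subtype_injective).1 h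
  have hQq : IsPGroup q Q := (Q0.isPGroup'.map L.subtype).map N.subtype
  refine core P Q ((y0 : N) : G) p q r hp hq hr hpq hpr hqr hPp hPne hQq hQne ?_ ?_ ?_ ?_ ?_ ?_ ?_
  · rw [Subgroup.orderOf_coe, Subgroup.orderOf_coe, hy0]
  · rw [Subgroup.map_le_iff_le_comap]
    intro c _
    exact c.2
  · exact (y0 : N).2
  · intro c hc
    obtain ⟨c', hc', rfl⟩ := hc
    have h1 : (y0 : N) * c' * (y0 : N)⁻¹ ∈ Q1 := ((Subgroup.mem_normalizer_iff.1 y0.2) c').1 hc'
    exact ⟨_, h1, rfl⟩
  · exact fun ⟨x, hx⟩ => hnpq x hx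
  · exact fun ⟨x, hx⟩ => hnpr x hx
  · exact fun ⟨x, hx⟩ => hnqr x hx

end Cfsg.Agent.S3634
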