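import Cfsg.Statements.S3633
import Mathlib
import Cfsg.Agent.S3634

set_option autoImplicit false
open Cfsg

namespace Cfsg.Agent.S3633

lemma first_part {G : Type*} [Group G] [Finite G] (ρ : Finset ℕ) (hρ : 3 ≤ ρ.card)
    (hpr : ∀ r ∈ ρ, r.Prime ∧ r ∣ Nat.card G)
    (hnadj : ∀ r ∈ ρ, ∀ s ∈ ρ, r ≠ s → ¬ ∃ x : G, orderOf x = r * s)
    (K : Subgroup G) [K.Normal] (hK : Group.IsSolvable ↥K) :
    ∀ r ∈ ρ, ∀ s ∈ ρ, r ∣ Nat.card ↥K → s ∣ Nat.card ↥K → r = s := by
  classical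
  intro r hr s hs hrK hsK
  by_contra hrs
  let 𝒜 : Set (Subgroup G) := {M | M.Normal ∧ M ≤ K ∧
    ∃ r ∈ ρ, ∃ s ∈ ρ, r ≠ s ∧ r ∣ Nat.card M ∧ s ∣ Nat.card M}
  have hKA : K ∈ 𝒜 := ⟨inferInstance, le_rfl, r, hr, s, hs, hrs, hrK, hsK⟩
  obtain ⟨M1, hM1⟩ := (Set.toFinite 𝒜).exists_minimal ⟨K, hKA⟩
  obtain ⟨hM1n, hM1K, r', hr', s', hs', hrs', hr'M, hs'M⟩ := hM1.1
  have hM1min : ∀ X : Subgroup G, X ∈ 𝒜 → X ≤ M1 → M1 ≤ X := fun X hX hle => hM1.2 hX hle
  have hM1nt : Nontrivial M1 := by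
    rw [← Finite.one_lt_card_iff_nontrivial]
    have h0 : 0 < Nat.card M1 := Nat.card_pos
    have h1 : r' ≤ Nat.card M1 := Nat.le_of_dvd h0 hr'M
    exact lt_of_lt_of_le (hpr r' hr').1.one_lt h1
  have hM1s : Group.IsSolvable M1 :=
    Group.isSolvable_of_isSolvable_injective (Subgroup.inclusion_injective hM1K)
  -- the commutator
  let C : Subgroup G := ⁅M1, M1⁆
  have hCn : C.Normal := Subgroup.commutator_normal M1 M1
  have hCM : C < M1 := by
    have h1 : _root_.commutator M1 < ⊤ := IsSolvable.commutator_lt_top_of_nontrivial M1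
    have h2 : (_root_.commutator M1).map M1.subtype = C := Subgroup.map_subtype_commutator M1
    refine lt_of_le_of_ne (Subgroup.commutator_le_left M1 M1) ?_
    intro h3
    apply h1.ne
    apply Subgroup.map_injective M1.subtype_injective
    rw [h2, h3]
    rw [← MonoidHom.range_eq_map, Subgroup.range_subtype]
  let ℬ : Set (Subgroup G) := {X | X.Normal ∧ C ≤ X ∧ X < M1}
  have hCB : C ∈ ℬ := ⟨hCn, le_rfl, hCM⟩
  obtain ⟨L, hL⟩ := (Set.toFinite ℬ).exists_maximal ⟨C, hCB⟩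
  obtain ⟨hLn, hCL, hLM⟩ := hL.1
  have hLmax : ∀ X : Subgroup G, X ∈ ℬ → L ≤ X → X ≤ L := fun X hX hle => hL.2 hX hle
  -- the quotient
  let N0 : Subgroup M1 := L.subgroupOf M1
  have hN0n : N0.Normal := inferInstance
  let Q := M1 ⧸ N0
  have hidx : N0.index ≠ 1 := by
    intro h
    rw [Subgroup.index_eq_one] at h
    apply hLM.not_ge
    intro x hx
    have : (⟨x, hx⟩ : M1) ∈ N0 := by rw [h]; trivial
    exact this
  have hQnt : Nontrivial Q := by
    rw [← Finite.one_lt_card_iff_nontrivial]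
    have h0 : 0 < N0.index := Nat.pos_of_ne_zero Subgroup.index_ne_zero_of_finite
    show 1 < N0.index
    omega
  set t := (Nat.card Q).minFac with ht
  have htp : t.Prime := Nat.minFac_prime (Finite.one_lt_card_iff_nontrivial.2 hQnt).ne'
  have hfact : Fact t.Prime := ⟨htp⟩
  obtain ⟨ξ, hξ⟩ := exists_prime_orderOf_dvd_card' t (Nat.minFac_dvd (Nat.card Q))
  -- `Q` is commutative
  have hQc : ∀ a b : M1, Commute (a : Q) (b : Q) := by
    intro a b
    show ((a * b : M1) : Q) = ((b * a : M1) : Q)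
    rw [QuotientGroup.eq]
    show (((a * b)⁻¹ * (b * a) : M1) : G) ∈ L
    apply hCL
    have := Subgroup.commutator_mem_commutator (H₁ := M1) (H₂ := M1) (g₁ := (b : G)⁻¹) (g₂ := (a : G)⁻¹)
      (M1.inv_mem b.2) (M1.inv_mem a.2)
    simpa [commutatorElement_def, mul_assoc] using this
  have hmem : ∀ z : M1, (z : Q) = 1 ↔ (z : G) ∈ L := fun z => QuotientGroup.eq_one_iff z
  -- the subgroup of elements with `t`-th power in `L`
  let A : Subgroup G :=
    { carrier := {z | ∃ hz : z ∈ M1, (((⟨z, hz⟩ : M1)) : Q) ^ t = 1}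
      mul_mem' := by
        rintro a b ⟨ha, ha'⟩ ⟨hb, hb'⟩
        refine ⟨M1.mul_mem ha hb, ?_⟩
        have : ((⟨a * b, M1.mul_mem ha hb⟩ : M1) : Q) = ((⟨a, ha⟩ : M1) : Q) * ((⟨b, hb⟩ : M1) : Q) := rfl
        rw [this, (hQc ⟨a, ha⟩ ⟨b, hb⟩).mul_pow, ha', hb', one_mul]
      one_mem' := ⟨M1.one_mem, by
        have : ((⟨1, M1.one_mem⟩ : M1) : Q) = 1 := rfl
        rw [this, one_pow]⟩
      inv_mem' := by
        rintro a ⟨ha, ha'⟩
        refine ⟨M1.inv_mem ha, ?_⟩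
        have : ((⟨a⁻¹, M1.inv_mem ha⟩ : M1) : Q) = ((⟨a, ha⟩ : M1) : Q)⁻¹ := rfl
        rw [this, inv_pow, ha', inv_one] }
  have hAmem : ∀ z, z ∈ A ↔ z ∈ M1 ∧ z ^ t ∈ L := by
    intro z
    constructor
    · rintro ⟨hz, hz'⟩
      refine ⟨hz, ?_⟩
      have h1 : ((⟨z, hz⟩ ^ t : M1) : Q) = 1 := by
        rw [QuotientGroup.mk_pow]; exact hz'
      have h2 := (hmem _).1 h1
      simpa using h2
    · rintro ⟨hz, hz'⟩
      refine ⟨hz, ?_⟩
      have h1 : ((⟨z, hz⟩ ^ t : M1) : Q) = 1 := by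
        rw [hmem]; simpa using hz'
      rw [QuotientGroup.mk_pow] at h1
      exact h1
  have hAn : A.Normal := by
    constructor
    intro z hz a
    rw [hAmem] at hz ⊢
    refine ⟨hM1n.conj_mem z hz.1 a, ?_⟩
    rw [conj_pow]
    exact hLn.conj_mem _ hz.2 a
  have hLA : L ≤ A := by
    intro z hz
    rw [hAmem]
    exact ⟨hLM.le hz, L.pow_mem hz t⟩
  have hAM : A ≤ M1 := fun z hz => ((hAmem z).1 hz).1
  have hAeq : A = M1 := by
    by_contra hne
    have hAB : A ∈ ℬ := ⟨hAn, hCL.trans hLA, lt_of_le_of_ne hAM hne⟩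
    have hAL := hLmax A hAB hLA
    -- the element `ξ`
    obtain ⟨x, rfl⟩ := QuotientGroup.mk'_surjective N0 ξ
    have hx1 : ((x : M1) : Q) ^ t = 1 := by
      have := pow_orderOf_eq_one (QuotientGroup.mk' N0 x)
      rw [hξ] at this
      exact this
    have hxA : (x : G) ∈ A := ⟨x.2, hx1⟩
    have hxL := hAL hxA
    have h3 : ((x : M1) : Q) = 1 := (hmem x).2 hxL
    have h4 : orderOf (QuotientGroup.mk' N0 x) = 1 := by
      rw [orderOf_eq_one_iff]; exact h3
    rw [hξ] at h4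
    exact htp.one_lt.ne' h4
  have hQp : IsPGroup t Q := by
    intro q
    obtain ⟨z, rfl⟩ := QuotientGroup.mk'_surjective N0 q
    refine ⟨1, ?_⟩
    rw [pow_one]
    have hz : (z : G) ∈ A := by rw [hAeq]; exact z.2
    obtain ⟨_, hz'⟩ := hz
    exact hz'
  obtain ⟨a, ha⟩ := IsPGroup.iff_card.1 hQp
  have ha0 : a ≠ 0 := by
    rintro rfl
    have := Finite.one_lt_card_iff_nontrivial.2 hQnt
    rw [ha] at this
    simp at this
  have hN0card : Nat.card N0 = Nat.card L := by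
    exact Nat.card_congr (Subgroup.subgroupOfEquivOfLe hLM.le).toEquiv
  have hcardM1 : Nat.card M1 = Nat.card L * t ^ a := by
    rw [← hN0card, ← ha]
    exact (Subgroup.card_mul_index N0).symm
  have hdiv : ∀ w : ℕ, w.Prime → w ∣ Nat.card M1 → w = t ∨ w ∣ Nat.card L := by
    intro w hw hd
    rw [hcardM1] at hd
    rcases (Nat.Prime.dvd_mul hw).1 hd with h | h
    · exact Or.inr h
    · exact Or.inl ((Nat.prime_dvd_prime_iff_eq hw htp).1 (hw.dvd_of_dvd_pow h))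
  -- minimality
  have hLnot : ∀ r ∈ ρ, ∀ s ∈ ρ, r ≠ s → r ∣ Nat.card L → s ∣ Nat.card L → False := by
    intro r hr s hs hrs h1 h2
    have hLA' : L ∈ 𝒜 := ⟨hLn, hLM.le.trans hM1K, r, hr, s, hs, hrs, h1, h2⟩
    exact hLM.not_ge (hM1min L hLA' hLM.le)
  -- choose `p` and show `t ∈ ρ`
  obtain ⟨p, hpρ, htρ, hpt, hpL⟩ : ∃ p ∈ ρ, t ∈ ρ ∧ p ≠ t ∧ p ∣ Nat.card L := by
    rcases hdiv r' (hpr r' hr').1 hr'M with h1 | h1
    · subst h1
      rcases hdiv s' (hpr s' hs').1 hs'M with h2 | h2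
      · exact absurd h2.symm hrs'
      · exact ⟨s', hs', hr', hrs'.symm, h2⟩
    · rcases hdiv s' (hpr s' hs').1 hs'M with h2 | h2
      · subst h2
        exact ⟨r', hr', hs', hrs', h1⟩
      · exact (hLnot r' hr' s' hs' hrs' h1 h2).elim
  obtain ⟨u, huρ, hu⟩ : ∃ u ∈ ρ, u ∉ ({p, t} : Finset ℕ) := by
    apply Finset.exists_mem_notMem_of_card_lt_card
    have := Finset.card_le_two (a := p) (b := t)
    omega
  simp only [Finset.mem_insert, Finset.mem_singleton, not_or] at hu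
  obtain ⟨hup, hut⟩ := hu
  have huM : ¬ u ∣ Nat.card M1 := by
    intro h
    rcases hdiv u (hpr u huρ).1 h with h1 | h1
    · exact hut h1
    · exact hLnot u huρ p hpρ hup h1 hpL
  have huG : u ∣ Nat.card G / Nat.card M1 := by
    have h1 := Subgroup.card_mul_index M1
    have h2 : Nat.card G / Nat.card M1 = M1.index := by
      rw [← h1]; exact Nat.mul_div_cancel_left _ Nat.card_pos
    rw [h2]
    have h3 := (hpr u huρ).2
    rw [← h1] at h3
    exact ((Nat.Prime.dvd_mul (hpr u huρ).1).1 h3).resolve_left huM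
  have htM : t ∣ Nat.card M1 / Nat.card L := by
    rw [hcardM1, Nat.mul_div_cancel_left _ Nat.card_pos]
    exact dvd_pow_self t ha0
  rcases Cfsg.Agent.S3634.result L M1 hLM.le p t u (hpr p hpρ).1 htp (hpr u huρ).1 hpt (Ne.symm hup) (Ne.symm hut)
    hpL htM huG with h | h | h
  · exact hnadj p hpρ t htρ hpt h
  · exact hnadj p hpρ u huρ (Ne.symm hup) h
  · exact hnadj t htρ u huρ (Ne.symm hut) h

/-- Let G be a finite group and ρ a set of at least three prime divisors of the order of G that are pairwise non-adjacent in the prime graph (no element of order rs for distinct r, s ∈ ρ). Then at most one prime of ρ divides the order of any given solvable normal subgroup of G; in particular G is not solvable. -/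
theorem result {G : Type*} [Group G] [Finite G] (ρ : Finset ℕ) (hρ : 3 ≤ ρ.card) (hc : ((∀ r ∈ ρ, r.Prime ∧ r ∣ Nat.card G) ∧ (∀ r ∈ ρ, ∀ s ∈ ρ, r ≠ s → ¬ ∃ x : G, orderOf x = r * s)))
    (K : Subgroup G) [K.Normal] (hK : Group.IsSolvable ↥K) :
    (∀ r ∈ ρ, ∀ s ∈ ρ, r ∣ Nat.card ↥K → s ∣ Nat.card ↥K → r = s) ∧ ¬ Group.IsSolvable G := by
  obtain ⟨hpr, hnadj⟩ := hc
  refine ⟨first_part ρ hρ hpr hnadj K hK, fun hG => ?_⟩
  have h1 : 1 < ρ.card := by omega
  obtain ⟨r, hr, s, hs, hrs⟩ := Finset.one_lt_card.1 h1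
  have htop : Group.IsSolvable (⊤ : Subgroup G) :=
    Group.isSolvable_of_isSolvable_injective (Subgroup.subtype_injective ⊤)
  have h2 : Nat.card (⊤ : Subgroup G) = Nat.card G := Nat.card_congr Subgroup.topEquiv.toEquiv
  exact hrs (first_part ρ hρ hpr hnadj ⊤ htop r hr s hs (h2 ▸ (hpr r hr).2) (h2 ▸ (hpr s hs).2))

end Cfsg.Agent.S3633
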