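import Cfsg.Statements.S3639
import Cfsg.Agent.Lib.PrimeGraph.Char2
import Cfsg.Agent.Lib.KS2.LawSz
import Mathlib

set_option autoImplicit false
open Cfsg

namespace Cfsg.Agent.S3639

open Matrix Polynomial
open Cfsg.Lie

section four
variable {R : Type*} [CommRing R]

lemma det_four (M : Matrix (Fin 4) (Fin 4) R) :
    M.det =
      M 0 0 * (M 1 1 * (M 2 2 * M 3 3 - M 2 3 * M 3 2) - M 1 2 * (M 2 1 * M 3 3 - M 2 3 * M 3 1) + M 1 3 * (M 2 1 * M 3 2 - M 2 2 * M 3 1))
      - M 0 1 * (M 1 0 * (M 2 2 * M 3 3 - M 2 3 * M 3 2) - M 1 2 * (M 2 0 * M 3 3 - M 2 3 * M 3 0) + M 1 3 * (M 2 0 * M 3 2 - M 2 2 * M 3 0))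
      + M 0 2 * (M 1 0 * (M 2 1 * M 3 3 - M 2 3 * M 3 1) - M 1 1 * (M 2 0 * M 3 3 - M 2 3 * M 3 0) + M 1 3 * (M 2 0 * M 3 1 - M 2 1 * M 3 0))
      - M 0 3 * (M 1 0 * (M 2 1 * M 3 2 - M 2 2 * M 3 1) - M 1 1 * (M 2 0 * M 3 2 - M 2 2 * M 3 0) + M 1 2 * (M 2 0 * M 3 1 - M 2 1 * M 3 0)) := by
  rw [Matrix.det_succ_row_zero]
  simp only [Fin.sum_univ_four]
  simp only [Matrix.det_fin_three, Matrix.submatrix_apply]
  simp [Fin.succAbove, Fin.succ]
  ring

/-- Second elementary symmetric function of the eigenvalues. -/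
def E2 (M : Matrix (Fin 4) (Fin 4) R) : R :=
  (M 0 0 * M 1 1 - M 0 1 * M 1 0) + (M 0 0 * M 2 2 - M 0 2 * M 2 0) + (M 0 0 * M 3 3 - M 0 3 * M 3 0)
    + (M 1 1 * M 2 2 - M 1 2 * M 2 1) + (M 1 1 * M 3 3 - M 1 3 * M 3 1) + (M 2 2 * M 3 3 - M 2 3 * M 3 2)

/-- A principal `3 × 3` minor. -/
def pm3 (M : Matrix (Fin 4) (Fin 4) R) (a b c : Fin 4) : R :=
  M a a * (M b b * M c c - M b c * M c b) - M a b * (M b a * M c c - M b c * M c a)
    + M a c * (M b a * M c b - M b b * M c a)

/-- Third elementary symmetric function of the eigenvalues. -/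
def E3 (M : Matrix (Fin 4) (Fin 4) R) : R :=
  pm3 M 0 1 2 + pm3 M 0 1 3 + pm3 M 0 2 3 + pm3 M 1 2 3

lemma charpoly_four (M : Matrix (Fin 4) (Fin 4) R) :
    M.charpoly = X ^ 4 - C (M.trace) * X ^ 3 + C (E2 M) * X ^ 2 - C (E3 M) * X + C M.det := by
  rw [Matrix.charpoly, det_four, det_four M]
  simp only [Matrix.charmatrix_apply, Matrix.trace, Matrix.diag, Fin.sum_univ_four, E2, E3, pm3]
  simp [Fin.ext_iff]
  ring

lemma trace_adj (M : Matrix (Fin 4) (Fin 4) R) : (Matrix.adjugate M).trace = E3 M := by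
  simp only [Matrix.trace, Matrix.diag, Fin.sum_univ_four, Matrix.adjugate_fin_succ_eq_det_submatrix]
  simp only [Matrix.det_fin_three, Matrix.submatrix_apply, E3, pm3]
  simp [Fin.succAbove]
  ring

/-- Cayley–Hamilton in degree four. -/
lemma ch_four (M : Matrix (Fin 4) (Fin 4) R) :
    M ^ 4 - M.trace • M ^ 3 + E2 M • M ^ 2 - E3 M • M + M.det • (1 : Matrix (Fin 4) (Fin 4) R) = 0 := by
  have h := Matrix.aeval_self_charpoly M
  rw [charpoly_four] at h
  simp only [map_add, map_sub, map_mul, map_pow, aeval_X, aeval_C] at h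
  simpa [Algebra.algebraMap_eq_smul_one, smul_mul_assoc] using h

/-- The reversed transpose. -/
def revT (A : Matrix (Fin 4) (Fin 4) R) : Matrix (Fin 4) (Fin 4) R := Matrix.of fun i j => A j.rev i.rev

end four

section symp
variable {F : Type*} [Field F]

lemma altForm_single (a b : Fin 4) :
    altForm4 (Pi.single a (1 : F)) (Pi.single b (1 : F)) = if a.rev = b then 1 else 0 := by
  fin_cases a <;> fin_cases b <;> simp [altForm4, Fin.rev]

lemma row_rel (g : GL (Fin 4) F) (hg : g ∈ Sp4 F) (a b : Fin 4) :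
    (g : Matrix (Fin 4) (Fin 4) F) 0 a * (g : Matrix (Fin 4) (Fin 4) F) 3 b
      + (g : Matrix (Fin 4) (Fin 4) F) 1 a * (g : Matrix (Fin 4) (Fin 4) F) 2 b
      + (g : Matrix (Fin 4) (Fin 4) F) 2 a * (g : Matrix (Fin 4) (Fin 4) F) 1 b
      + (g : Matrix (Fin 4) (Fin 4) F) 3 a * (g : Matrix (Fin 4) (Fin 4) F) 0 b
      = if a.rev = b then 1 else 0 := by
  have h : altForm4 ((g : Matrix (Fin 4) (Fin 4) F) *ᵥ Pi.single a (1 : F))
      ((g : Matrix (Fin 4) (Fin 4) F) *ᵥ Pi.single b (1 : F))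
      = altForm4 (Pi.single a (1 : F)) (Pi.single b (1 : F)) := hg _ _
  rw [altForm_single, Matrix.mulVec_single_one, Matrix.mulVec_single_one] at h
  exact h

lemma revT_mul (A : Matrix (Fin 4) (Fin 4) F)
    (hrow : ∀ a b : Fin 4, A 0 a * A 3 b + A 1 a * A 2 b + A 2 a * A 1 b + A 3 a * A 0 b
      = if a.rev = b then 1 else 0) : revT A * A = 1 := by
  ext i j
  have h := hrow i.rev j
  rw [Fin.rev_rev] at h
  rw [Matrix.mul_apply, Fin.sum_univ_four, Matrix.one_apply]
  simp only [revT, Matrix.of_apply]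
  have e0 : (0 : Fin 4).rev = 3 := rfl
  have e1 : (1 : Fin 4).rev = 2 := rfl
  have e2 : (2 : Fin 4).rev = 1 := rfl
  have e3 : (3 : Fin 4).rev = 0 := rfl
  rw [e0, e1, e2, e3]
  linear_combination h

lemma col_rel (A : Matrix (Fin 4) (Fin 4) F)
    (hrow : ∀ a b : Fin 4, A 0 a * A 3 b + A 1 a * A 2 b + A 2 a * A 1 b + A 3 a * A 0 b
      = if a.rev = b then 1 else 0) (k l : Fin 4) :
    A k 0 * A l 3 + A k 1 * A l 2 + A k 2 * A l 1 + A k 3 * A l 0 = if k.rev = l then 1 else 0 := by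
  have h1 : A * revT A = 1 := mul_eq_one_comm.1 (revT_mul A hrow)
  have h := congrFun (congrFun h1 k) l.rev
  rw [Matrix.mul_apply, Fin.sum_univ_four, Matrix.one_apply] at h
  simp only [revT, Matrix.of_apply, Fin.rev_rev] at h
  have e0 : (0 : Fin 4).rev = 3 := rfl
  have e1 : (1 : Fin 4).rev = 2 := rfl
  have e2 : (2 : Fin 4).rev = 1 := rfl
  have e3 : (3 : Fin 4).rev = 0 := rfl
  rw [e0, e1, e2, e3] at h
  have e4 : (k = l.rev) ↔ (k.rev = l) := by
    constructor
    · rintro rfl; exact Fin.rev_rev l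
    · rintro rfl; exact (Fin.rev_rev k).symm
  simp only [e4] at h
  linear_combination h

/-- Two-by-two minors of a product (Cauchy--Binet, with the two middle terms cancelling). -/
lemma minor_mul (h2 : (2 : F) = 0) (A B : Matrix (Fin 4) (Fin 4) F) (k l i j : Fin 4)
    (hk : A k 0 * A l 3 + A k 1 * A l 2 + A k 2 * A l 1 + A k 3 * A l 0 = 0)
    (hi : B 0 i * B 3 j + B 1 i * B 2 j + B 2 i * B 1 j + B 3 i * B 0 j = 0) :
    (A * B) k i * (A * B) l j - (A * B) l i * (A * B) k j =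
      (A k 0 * A l 1 - A l 0 * A k 1) * (B 0 i * B 1 j - B 1 i * B 0 j)
      + (A k 0 * A l 2 - A l 0 * A k 2) * (B 0 i * B 2 j - B 2 i * B 0 j)
      + (A k 1 * A l 3 - A l 1 * A k 3) * (B 1 i * B 3 j - B 3 i * B 1 j)
      + (A k 2 * A l 3 - A l 2 * A k 3) * (B 2 i * B 3 j - B 3 i * B 2 j) := by
  simp only [Matrix.mul_apply, Fin.sum_univ_four]
  have e : ∀ M03 M12 N03 N12 a b : F, M03 + M12 + 2 * a = 0 → N03 + N12 + 2 * b = 0 →
      M03 * N03 + M12 * N12 = 0 := by
    intro M03 M12 N03 N12 a b h1 h3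
    linear_combination M12 * h3 + N03 * h1 - (N03 * M12 + a * N03 + b * M12) * h2
  have h0 := e (A k 0 * A l 3 - A l 0 * A k 3) (A k 1 * A l 2 - A l 1 * A k 2)
    (B 0 i * B 3 j - B 3 i * B 0 j) (B 1 i * B 2 j - B 2 i * B 1 j)
    (A l 0 * A k 3 + A l 1 * A k 2) (B 3 i * B 0 j + B 2 i * B 1 j)
    (by linear_combination hk) (by linear_combination hi)
  linear_combination h0

lemma pair0 : pairOf 0 = ((0 : Fin 4), (1 : Fin 4)) := rfl
lemma pair1 : pairOf 1 = ((0 : Fin 4), (2 : Fin 4)) := rfl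
lemma pair2 : pairOf 2 = ((1 : Fin 4), (3 : Fin 4)) := rfl
lemma pair3 : pairOf 3 = ((2 : Fin 4), (3 : Fin 4)) := rfl

lemma star4_apply (A : Matrix (Fin 4) (Fin 4) F) (p r : Fin 4) :
    star4 A p r = A (pairOf p).1 (pairOf r).1 * A (pairOf p).2 (pairOf r).2
      - A (pairOf p).2 (pairOf r).1 * A (pairOf p).1 (pairOf r).2 := rfl

lemma star4_mul (h2 : (2 : F) = 0) (A B : Matrix (Fin 4) (Fin 4) F)
    (hA : ∀ a b : Fin 4, A 0 a * A 3 b + A 1 a * A 2 b + A 2 a * A 1 b + A 3 a * A 0 b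
      = if a.rev = b then 1 else 0)
    (hB : ∀ a b : Fin 4, B 0 a * B 3 b + B 1 a * B 2 b + B 2 a * B 1 b + B 3 a * B 0 b
      = if a.rev = b then 1 else 0) :
    star4 (A * B) = star4 A * star4 B := by
  ext p r
  have hp : (pairOf p).1.rev ≠ (pairOf p).2 := by
    fin_cases p <;> decide
  have hr : (pairOf r).1.rev ≠ (pairOf r).2 := by
    fin_cases r <;> decide
  have hk := col_rel A hA (pairOf p).1 (pairOf p).2
  rw [if_neg hp] at hk
  have hi := hB (pairOf r).1 (pairOf r).2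
  rw [if_neg hr] at hi
  have := minor_mul h2 A B (pairOf p).1 (pairOf p).2 (pairOf r).1 (pairOf r).2 hk hi
  rw [star4_apply, this, Matrix.mul_apply, Fin.sum_univ_four]
  simp only [star4_apply]
  rfl

lemma star4_one : star4 (1 : Matrix (Fin 4) (Fin 4) F) = 1 := by
  ext p r
  rw [star4_apply]
  fin_cases p <;> fin_cases r <;> simp [pair0, pair1, pair2, pair3, Matrix.one_apply]

variable {e : ℕ}

/-- The elements of the generating set form a group. -/
lemma mem_sz (h2 : (2 : F) = 0) (θ : F →+* F) (hθ : ∀ x, θ x = x ^ e) (g : GL (Fin 4) F)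
    (hg : g ∈ Sz F e) :
    g ∈ Sp4 F ∧ star4 (g : Matrix (Fin 4) (Fin 4) F) = (g : Matrix (Fin 4) (Fin 4) F).map (fun x => x ^ e) := by
  have hmap : ∀ M : Matrix (Fin 4) (Fin 4) F, M.map (fun x => x ^ e) = θ.mapMatrix M := by
    intro M
    ext i j
    simp [hθ]
  induction hg using Subgroup.closure_induction with
  | mem x hx => exact hx
  | one =>
    refine ⟨Subgroup.one_mem _, ?_⟩
    rw [hmap]
    simp [star4_one]
  | mul x y _ _ hx hy =>
    refine ⟨Subgroup.mul_mem _ hx.1 hy.1, ?_⟩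
    rw [Units.val_mul, star4_mul h2 _ _ (row_rel x hx.1) (row_rel y hy.1), hx.2, hy.2, hmap, hmap, hmap,
      map_mul]
  | inv x _ hx =>
    have hi : x⁻¹ ∈ Sp4 F := Subgroup.inv_mem _ hx.1
    refine ⟨hi, ?_⟩
    have h1 : star4 ((x⁻¹ : GL (Fin 4) F) : Matrix (Fin 4) (Fin 4) F)
        * star4 (x : Matrix (Fin 4) (Fin 4) F) = 1 := by
      rw [← star4_mul h2 _ _ (row_rel _ hi) (row_rel x hx.1), ← Units.val_mul, inv_mul_cancel,
        Units.val_one, star4_one]
    have h3 : ((x⁻¹ : GL (Fin 4) F) : Matrix (Fin 4) (Fin 4) F).map (fun x => x ^ e)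
        * (x : Matrix (Fin 4) (Fin 4) F).map (fun x => x ^ e) = 1 := by
      rw [hmap, hmap, ← map_mul, ← Units.val_mul, inv_mul_cancel, Units.val_one, map_one]
    rw [hx.2] at h1
    have h4 := mul_eq_one_comm.1 h3
    calc star4 ((x⁻¹ : GL (Fin 4) F) : Matrix (Fin 4) (Fin 4) F)
        = star4 ((x⁻¹ : GL (Fin 4) F) : Matrix (Fin 4) (Fin 4) F)
          * ((x : Matrix (Fin 4) (Fin 4) F).map (fun x => x ^ e)
            * ((x⁻¹ : GL (Fin 4) F) : Matrix (Fin 4) (Fin 4) F).map (fun x => x ^ e)) := by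
          rw [h4, mul_one]
      _ = _ := by rw [← mul_assoc, h1, one_mul]

/-- The key property: an element of `Sz` with a nonzero fixed vector has order dividing `4`. -/
lemma pow4_of_fix (h2 : (2 : F) = 0) (he : e ≠ 0) (θ : F →+* F) (hθ : ∀ x, θ x = x ^ e)
    (g : GL (Fin 4) F) (hg : g ∈ Sz F e) (u : Fin 4 → F) (hu : u ≠ 0)
    (hfix : (g : Matrix (Fin 4) (Fin 4) F) *ᵥ u = u) : g ^ 4 = 1 := by
  obtain ⟨hsp, hst⟩ := mem_sz h2 θ hθ g hg
  set A := (g : Matrix (Fin 4) (Fin 4) F) with hA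
  have hrow := row_rel g hsp
  rw [← hA] at hrow
  have hcol := col_rel A hrow
  -- determinant
  have hrm := revT_mul A hrow
  have hdet : A.det = 1 := by
    have h1 : (revT A).det = A.det := by
      rw [det_four, det_four A]
      simp only [revT, Matrix.of_apply]
      have e0 : (0 : Fin 4).rev = 3 := rfl
      have e1 : (1 : Fin 4).rev = 2 := rfl
      have e2 : (2 : Fin 4).rev = 1 := rfl
      have e3 : (3 : Fin 4).rev = 0 := rfl
      rw [e0, e1, e2, e3]
      ring
    have h3 := congrArg Matrix.det hrm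
    rw [Matrix.det_mul, h1, Matrix.det_one] at h3
    have h4 : (A.det - 1) ^ 2 = 0 := by
      linear_combination h3 + (1 - A.det) * h2
    have h5 := pow_eq_zero_iff (two_ne_zero) |>.1 h4
    exact sub_eq_zero.1 h5
  -- E3 = trace
  have hE3 : E3 A = A.trace := by
    rw [← trace_adj]
    have h1 : Matrix.adjugate A = revT A := by
      have h3 : Matrix.adjugate A * A = 1 := by
        rw [Matrix.adjugate_mul, hdet, one_smul]
      have h4 : A * revT A = 1 := mul_eq_one_comm.1 hrm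
      calc Matrix.adjugate A = Matrix.adjugate A * (A * revT A) := by rw [h4, mul_one]
        _ = revT A := by rw [← mul_assoc, h3, one_mul]
    rw [h1]
    simp only [Matrix.trace, Matrix.diag, revT, Matrix.of_apply, Fin.sum_univ_four]
    have e0 : (0 : Fin 4).rev = 3 := rfl
    have e1 : (1 : Fin 4).rev = 2 := rfl
    have e2 : (2 : Fin 4).rev = 1 := rfl
    have e3 : (3 : Fin 4).rev = 0 := rfl
    rw [e0, e1, e2, e3]
    ring
  -- E2
  have hE2 : E2 A = A.trace ^ e := by
    have h03 := hrow 0 3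
    have h12 := hcol 1 2
    have h5 : ((0 : Fin 4).rev = 3) := rfl
    have h6 : ((1 : Fin 4).rev = 2) := rfl
    rw [if_pos h5] at h03
    rw [if_pos h6] at h12
    have hT : (A 0 0 * A 3 3 - A 0 3 * A 3 0) + (A 1 1 * A 2 2 - A 1 2 * A 2 1) = 0 := by
      linear_combination h03 + h12 + (1 - A 0 3 * A 3 0 - A 1 2 * A 2 1 - A 1 0 * A 2 3 - A 2 0 * A 1 3) * h2
    have htr : (star4 A).trace = A.trace ^ e := by
      rw [hst, ← hθ]
      simp only [Matrix.trace, Matrix.diag, Matrix.map_apply]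
      rw [map_sum]
      simp only [hθ]
    rw [← htr]
    simp only [E2, Matrix.trace, Matrix.diag, Fin.sum_univ_four, star4_apply, pair0, pair1, pair2, pair3]
    linear_combination hT
  have hpow : ∀ k : ℕ, (A ^ k) *ᵥ u = u := by
    intro k
    induction k with
    | zero => simp
    | succ k ih => rw [pow_succ, ← Matrix.mulVec_mulVec, hfix, ih]
  have hCH := ch_four A
  -- apply to `u`
  have hscal : ∀ i, (1 - A.trace + E2 A - E3 A + A.det) * u i = 0 := by
    intro i
    have h3 := congrFun (congrArg (fun M : Matrix (Fin 4) (Fin 4) F => M *ᵥ u) hCH) i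
    simp only [Matrix.add_mulVec, Matrix.sub_mulVec, Matrix.smul_mulVec, Matrix.zero_mulVec,
      Matrix.one_mulVec, hpow, hfix, Pi.add_apply, Pi.sub_apply, Pi.smul_apply, smul_eq_mul,
      Pi.zero_apply] at h3
    linear_combination h3
  have hs0 : 1 - A.trace + E2 A - E3 A + A.det = 0 := by
    by_contra hne
    apply hu
    funext i
    exact (mul_eq_zero.1 (hscal i)).resolve_left hne
  have hE20 : E2 A = 0 := by
    rw [hE3, hdet] at hs0
    linear_combination hs0 + (A.trace - 1) * h2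
  have ht0 : A.trace = 0 := by
    rw [hE2] at hE20
    exact pow_eq_zero_iff he |>.1 hE20
  rw [hE3, hdet, hE20, ht0] at hCH
  apply Units.ext
  rw [Units.val_pow_eq_pow_val, Units.val_one, ← hA]
  ext a b
  have h3 := congrFun (congrFun hCH a) b
  simp only [Matrix.add_apply, Matrix.sub_apply, Matrix.smul_apply, smul_eq_mul, zero_mul, sub_zero,
    zero_add, one_mul, Matrix.zero_apply, add_zero] at h3
  linear_combination h3 - (1 : Matrix (Fin 4) (Fin 4) F) a b * h2

end symp

section semi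
variable {F : Type*} [Field F] (S : Subgroup (GL (Fin 4) F))

/-- The coordinatewise action on `(F⁴)^k`. -/
def act (k : ℕ) : ↥S →* MulAut (Multiplicative (Fin k → Fin 4 → F)) where
  toFun g :=
    { toFun := fun v => Multiplicative.ofAdd
        (fun i => ((g : GL (Fin 4) F) : Matrix (Fin 4) (Fin 4) F) *ᵥ (Multiplicative.toAdd v i))
      invFun := fun v => Multiplicative.ofAdd
        (fun i => (((g : GL (Fin 4) F)⁻¹ : GL (Fin 4) F) : Matrix (Fin 4) (Fin 4) F) *ᵥ (Multiplicative.toAdd v i))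
      left_inv := fun v => by
        apply Multiplicative.toAdd.injective
        funext i
        simp only [toAdd_ofAdd, Matrix.mulVec_mulVec]
        rw [← Units.val_mul, inv_mul_cancel]
        simp
      right_inv := fun v => by
        apply Multiplicative.toAdd.injective
        funext i
        simp only [toAdd_ofAdd, Matrix.mulVec_mulVec]
        rw [← Units.val_mul, mul_inv_cancel]
        simp
      map_mul' := fun v w => by
        apply Multiplicative.toAdd.injective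
        funext i
        simp [Matrix.mulVec_add] }
  map_one' := by
    apply MulEquiv.ext
    intro v
    apply Multiplicative.toAdd.injective
    funext i
    show (((1 : ↥S) : GL (Fin 4) F) : Matrix (Fin 4) (Fin 4) F) *ᵥ (Multiplicative.toAdd v i) = _
    simp
  map_mul' g h := by
    apply MulEquiv.ext
    intro v
    apply Multiplicative.toAdd.injective
    funext i
    show (((g * h : ↥S) : GL (Fin 4) F) : Matrix (Fin 4) (Fin 4) F) *ᵥ (Multiplicative.toAdd v i) =
      ((g : GL (Fin 4) F) : Matrix (Fin 4) (Fin 4) F) *ᵥ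
        (((h : GL (Fin 4) F) : Matrix (Fin 4) (Fin 4) F) *ᵥ (Multiplicative.toAdd v i))
    rw [Matrix.mulVec_mulVec]
    rfl

/-- The semidirect product `(F⁴)^k ⋊ S`. -/
abbrev GG (k : ℕ) : Type _ := Multiplicative (Fin k → Fin 4 → F) ⋊[act S k] ↥S

variable {S}

lemma act_apply (k : ℕ) (g : ↥S) (v : Multiplicative (Fin k → Fin 4 → F)) (i : Fin k) :
    Multiplicative.toAdd (act S k g v) i =
      ((g : GL (Fin 4) F) : Matrix (Fin 4) (Fin 4) F) *ᵥ (Multiplicative.toAdd v i) := rfl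

lemma pow_right {k : ℕ} (h : GG S k) (n : ℕ) : (h ^ n).right = h.right ^ n := by
  rw [← SemidirectProduct.rightHom_eq_right, map_pow]

lemma pow_left {k : ℕ} (h : GG S k) (n : ℕ) (i : Fin k) :
    Multiplicative.toAdd (h ^ n).left i =
      (∑ j ∈ Finset.range n, (((h.right : GL (Fin 4) F) : Matrix (Fin 4) (Fin 4) F)) ^ j) *ᵥ
        (Multiplicative.toAdd h.left i) := by
  induction n with
  | zero =>
    simp
  | succ n ih =>
    rw [pow_succ', SemidirectProduct.mul_left, toAdd_mul, Pi.add_apply, act_apply, ih,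
      Finset.sum_range_succ', Matrix.add_mulVec, Matrix.mulVec_mulVec, add_comm]
    congr 1
    · congr 1
      rw [Finset.mul_sum]
      apply Finset.sum_congr rfl
      intro j _
      rw [pow_succ']
    · simp

/-- Every element has order dividing `8`, or the order of its image in `S`. -/
theorem orderOf_cases {k : ℕ} (h2 : (2 : F) = 0)
    (hS : ∀ g : ↥S, ∀ u : Fin 4 → F, u ≠ 0 →
      ((g : GL (Fin 4) F) : Matrix (Fin 4) (Fin 4) F) *ᵥ u = u → g ^ 4 = 1)
    (h : GG S k) :
    orderOf h ∣ 8 ∨ orderOf h = orderOf h.right := by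
  set M := ((h.right : GL (Fin 4) F) : Matrix (Fin 4) (Fin 4) F) with hM
  have hMpow : ∀ n : ℕ, M ^ n = (((h.right ^ n : ↥S) : GL (Fin 4) F) : Matrix (Fin 4) (Fin 4) F) := by
    intro n
    rw [hM]
    simp
  by_cases hg : h.right ^ 4 = 1
  · left
    apply orderOf_dvd_of_pow_eq_one
    have hM4 : M ^ 4 = 1 := by
      rw [hMpow, hg]; simp
    apply SemidirectProduct.ext
    · apply Multiplicative.toAdd.injective
      funext i
      rw [pow_left]
      have hsum : (∑ j ∈ Finset.range 8, (((h.right : GL (Fin 4) F) : Matrix (Fin 4) (Fin 4) F)) ^ j) =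
          (1 + 1) + (M + M) + (M ^ 2 + M ^ 2) + (M ^ 3 + M ^ 3) := by
        have h5 : M ^ 5 = M := by rw [pow_succ, hM4, one_mul]
        have h6 : M ^ 6 = M ^ 2 := by rw [show 6 = 4 + 2 from rfl, pow_add, hM4, one_mul]
        have h7 : M ^ 7 = M ^ 3 := by rw [show 7 = 4 + 3 from rfl, pow_add, hM4, one_mul]
        simp only [Finset.sum_range_succ, Finset.sum_range_zero, pow_zero, pow_one, ← hM, h5, h6, h7, hM4]
        abel
      rw [hsum]
      funext a
      simp only [Matrix.add_mulVec, Pi.add_apply, Matrix.one_mulVec]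
      show _ = (0 : F)
      linear_combination (Multiplicative.toAdd h.left i a + (M *ᵥ (Multiplicative.toAdd h.left i)) a
        + ((M ^ 2) *ᵥ (Multiplicative.toAdd h.left i)) a + ((M ^ 3) *ᵥ (Multiplicative.toAdd h.left i)) a) * h2
    · rw [pow_right]
      show h.right ^ 8 = 1
      have : h.right ^ 8 = (h.right ^ 4) ^ 2 := by rw [← pow_mul]
      rw [this, hg, one_pow]
  · right
    apply Nat.dvd_antisymm
    · apply orderOf_dvd_of_pow_eq_one
      apply SemidirectProduct.ext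
      · apply Multiplicative.toAdd.injective
        funext i
        rw [pow_left]
        set d := orderOf h.right with hd
        have hMd : M ^ d = 1 := by
          rw [hMpow, hd, pow_orderOf_eq_one]; simp
        set T := ∑ j ∈ Finset.range d, M ^ j with hT
        have hgeom : (M - 1) * T = 0 := by
          rw [hT, mul_geom_sum, hMd, sub_self]
        have hMT : M * T = T := by
          rw [sub_mul, one_mul] at hgeom
          exact sub_eq_zero.1 hgeom
        set w := T *ᵥ (Multiplicative.toAdd h.left i) with hw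
        have hfix : M *ᵥ w = w := by
          rw [hw, Matrix.mulVec_mulVec, hMT]
        by_contra hne
        exact hg (hS h.right w hne hfix)
      · rw [pow_right, pow_orderOf_eq_one]
        rfl
    · have := orderOf_map_dvd (SemidirectProduct.rightHom : GG S k →* ↥S) h
      rwa [SemidirectProduct.rightHom_eq_right] at this

instance finiteGG {k : ℕ} [Finite F] : Finite (GG S k) :=
  Finite.of_equiv _ SemidirectProduct.equivProd.symm

lemma lt_card_GG [Finite F] (k : ℕ) : k < Nat.card (GG S k) := by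
  classical
  haveI := Fintype.ofFinite F
  have h1 : Nat.card (Multiplicative (Fin k → Fin 4 → F)) ≤ Nat.card (GG S k) :=
    Nat.card_le_card_of_injective _ (SemidirectProduct.inl_injective
      (N := Multiplicative (Fin k → Fin 4 → F)) (G := ↥S) (φ := act S k))
  have h2 : Nat.card (Multiplicative (Fin k → Fin 4 → F)) = (Fintype.card F ^ 4) ^ k := by
    show Nat.card (Fin k → Fin 4 → F) = _
    simp [Nat.card_eq_fintype_card]
  have h3 : 2 ≤ Fintype.card F := Fintype.one_lt_card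
  have h4 : 2 ≤ Fintype.card F ^ 4 := by
    calc 2 ≤ Fintype.card F := h3
      _ ≤ Fintype.card F ^ 4 := Nat.le_self_pow (by norm_num) _
  have h5 : 2 ^ k ≤ (Fintype.card F ^ 4) ^ k := Nat.pow_le_pow_left h4 k
  have h6 : k < 2 ^ k := Nat.lt_two_pow_self
  omega

end semi

/-- The prime graph is determined by element orders, up to divisors of `8`. -/
theorem same_prime_graph {X Y : Type*} [Group X] [Group Y] [Finite X] [Finite Y]
    (hXY : Set.range (orderOf : X → ℕ) ⊆ Set.range (orderOf : Y → ℕ))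
    (hYX : Set.range (orderOf : Y → ℕ) ⊆ {m : ℕ | m ∣ 8} ∪ Set.range (orderOf : X → ℕ))
    (h2 : 2 ∣ Nat.card X) :
    (∀ p : ℕ, p.Prime → (p ∣ Nat.card X ↔ p ∣ Nat.card Y)) ∧
    (∀ p q : ℕ, p.Prime → q.Prime → p ≠ q →
      ((∃ g : X, orderOf g = p * q) ↔ (∃ g : Y, orderOf g = p * q))) := by
  constructor
  · intro p hp
    haveI : Fact p.Prime := ⟨hp⟩
    constructor
    · intro h
      obtain ⟨x, hx⟩ := exists_prime_orderOf_dvd_card' p h
      obtain ⟨y, hy⟩ := hXY ⟨x, rfl⟩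
      rw [← hx, ← hy]
      exact orderOf_dvd_natCard y
    · intro h
      obtain ⟨y, hy⟩ := exists_prime_orderOf_dvd_card' p h
      rcases hYX ⟨y, rfl⟩ with h4 | ⟨x, hx⟩
      · have h4' : orderOf y ∣ 2 ^ 3 := h4
        rw [hy] at h4'
        have := (Nat.prime_dvd_prime_iff_eq hp Nat.prime_two).1 (hp.dvd_of_dvd_pow h4')
        rwa [this]
      · rw [← hy, ← hx]
        exact orderOf_dvd_natCard x
  · intro p q hp hq hpq
    constructor
    · rintro ⟨x, hx⟩
      obtain ⟨y, hy⟩ := hXY ⟨x, rfl⟩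
      exact ⟨y, by rw [hy, hx]⟩
    · rintro ⟨y, hy⟩
      rcases hYX ⟨y, rfl⟩ with h4 | ⟨x, hx⟩
      · exfalso
        have h4' : orderOf y ∣ 2 ^ 3 := h4
        rw [hy] at h4'
        have h5 := (Nat.prime_dvd_prime_iff_eq hp Nat.prime_two).1
          (hp.dvd_of_dvd_pow (dvd_trans (dvd_mul_right p q) h4'))
        have h6 := (Nat.prime_dvd_prime_iff_eq hq Nat.prime_two).1
          (hq.dvd_of_dvd_pow (dvd_trans (dvd_mul_left q p) h4'))
        exact hpq (h5.trans h6.symm)
      · exact ⟨x, by rw [hx, hy]⟩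

/-- Let S be the Suzuki group over the field with q = 2^(2m+1) ≥ 8 elements. Then there are finite groups of arbitrarily large order with the same prime graph as S. -/
theorem result {F : Type*} [Field F] [Fintype F] {m : ℕ} (hm : 1 ≤ m) (hF : Fintype.card F = 2 ^ (2 * m + 1)) (N : ℕ) :
    ∃ (H : Type) (_ : Group H) (_ : Fintype H), N < Fintype.card H ∧ ((∀ r : ℕ, r.Prime → (r ∣ Nat.card ↥(Cfsg.Lie.Sz F (2 ^ (m + 1))) ↔ r ∣ Nat.card H)) ∧
      (∀ r s : ℕ, r.Prime → s.Prime → r ≠ s → ((∃ x : ↥(Cfsg.Lie.Sz F (2 ^ (m + 1))), orderOf x = r * s) ↔ (∃ y : H, orderOf y = r * s)))) := by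
  classical
  -- characteristic two
  obtain ⟨p, hp⟩ := CharP.exists F
  haveI := hp
  obtain ⟨n, hpp, hcard⟩ := FiniteField.card F p
  have hp2 : p = 2 := by
    rw [hF] at hcard
    have h1 : p ∣ 2 ^ (2 * m + 1) := by
      rw [hcard]
      exact dvd_pow_self _ n.ne_zero
    exact (Nat.prime_dvd_prime_iff_eq hpp Nat.prime_two).1 (hpp.dvd_of_dvd_pow h1)
  subst hp2
  have h2 : (2 : F) = 0 := CharTwo.two_eq_zero
  haveI : Fact (Nat.Prime 2) := ⟨Nat.prime_two⟩
  set e := 2 ^ (m + 1) with he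
  have he0 : e ≠ 0 := by positivity
  let θ : F →+* F := iterateFrobenius F 2 (m + 1)
  have hθ : ∀ x, θ x = x ^ e := fun x => iterateFrobenius_def 2 (m + 1) x
  set S := Cfsg.Lie.Sz F e with hSdef
  have hS : ∀ g : ↥S, ∀ u : Fin 4 → F, u ≠ 0 →
      ((g : GL (Fin 4) F) : Matrix (Fin 4) (Fin 4) F) *ᵥ u = u → g ^ 4 = 1 := by
    intro g u hu hfix
    apply Subtype.ext
    exact pow4_of_fix h2 he0 θ hθ g.1 g.2 u hu hfix
  haveI hfinS : Finite ↥S := inferInstance
  -- 2 divides the order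
  have hW : (Cfsg.Agent.Lib.KS2.LawSz.WW : GL (Fin 4) F) ∈ S :=
    Subgroup.subset_closure ⟨Cfsg.Agent.Lib.KS2.LawSz.WW_sp, Cfsg.Agent.Lib.KS2.LawSz.WW_star h2 e he0⟩
  have h2S : 2 ∣ Nat.card ↥S := by
    have hsq : ((⟨_, hW⟩ : ↥S)) ^ 2 = 1 := by
      apply Subtype.ext
      apply Units.ext
      show Cfsg.Agent.Lib.KS2.LawSz.WM ^ 2 = (1 : Matrix (Fin 4) (Fin 4) F)
      rw [sq]
      exact Cfsg.Agent.Lib.KS2.LawSz.WM_sq
    have hne : (⟨_, hW⟩ : ↥S) ≠ 1 := by
      intro h
      have h3 := congrArg (fun x : ↥S => ((x : GL (Fin 4) F) : Matrix (Fin 4) (Fin 4) F) 0 0) h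
      simp [Cfsg.Agent.Lib.KS2.LawSz.WW, Cfsg.Agent.Lib.KS2.LawSz.WM] at h3
    have ho := orderOf_eq_prime hsq hne
    rw [← ho]
    exact orderOf_dvd_natCard _
  obtain ⟨H, gH, fH, ⟨ε⟩⟩ := Cfsg.Agent.Lib.PrimeGraph.exists_copy (X := GG S N)
  letI fH' : Fintype H := Fintype.ofFinite H
  refine ⟨H, gH, fH', ?_, ?_⟩
  · rw [← Nat.card_eq_fintype_card, Nat.card_congr ε.toEquiv]
    exact lt_card_GG N
  · apply same_prime_graph
    · rintro _ ⟨g, rfl⟩
      refine ⟨ε.symm (SemidirectProduct.inr g), ?_⟩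
      rw [MulEquiv.orderOf_eq]
      exact orderOf_injective _ SemidirectProduct.inr_injective _
    · rintro _ ⟨h, rfl⟩
      rw [← MulEquiv.orderOf_eq ε h]
      rcases orderOf_cases h2 hS (ε h) with h1 | h1
      · exact Or.inl h1
      · exact Or.inr ⟨_, h1.symm⟩
    · exact h2S

end Cfsg.Agent.S3639
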