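import Cfsg.Statements.S5914
import Mathlib

set_option autoImplicit false

namespace Cfsg.Agent.S5914

open scoped commutatorElement

/-- A copy of `Fin m` without algebraic structure. -/
def Car (m : ℕ) : Type := Fin m

/-- Characteristic subgroups of direct powers of a simple group. -/
theorem char_simple_pow {S : Type*} [Group S] [IsSimpleGroup S] (n : ℕ)
    (H : Subgroup (Fin n → S)) [hn : H.Normal]
    (hchar : ∀ α : (Fin n → S) ≃* (Fin n → S), ∀ y, y ∈ H → α y ∈ H) : H = ⊥ ∨ H = ⊤ := by
  classical
  rcases H.bot_or_exists_ne_one with hbot | ⟨x, hx, hx1⟩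
  · exact Or.inl hbot
  right
  obtain ⟨i, hi⟩ : ∃ i, x i ≠ 1 := by
    by_contra hcon
    push Not at hcon
    exact hx1 (funext hcon)
  -- a nontrivial element of `H` in a single coordinate
  have hA : ∃ (j : Fin n) (s : S), s ≠ 1 ∧ Pi.mulSingle j s ∈ H := by
    by_cases hcomm : ∀ a b : S, a * b = b * a
    · by_cases hj : ∃ j, j ≠ i
      · obtain ⟨j, hj⟩ := hj
        -- transvection
        let α : (Fin n → S) ≃* (Fin n → S) :=
          { toFun := fun y => y * Pi.mulSingle j (y i)
            invFun := fun y => y * Pi.mulSingle j (y i)⁻¹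
            left_inv := by
              intro y
              funext k
              by_cases hk : k = j
              · subst hk
                simp [Pi.mulSingle_eq_of_ne hj.symm]
              · simp [Pi.mulSingle_eq_of_ne hk]
            right_inv := by
              intro y
              funext k
              by_cases hk : k = j
              · subst hk
                simp [Pi.mulSingle_eq_of_ne hj.symm]
              · simp [Pi.mulSingle_eq_of_ne hk]
            map_mul' := by
              intro y z
              funext k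
              by_cases hk : k = j
              · subst hk
                simp only [Pi.mul_apply, Pi.mulSingle_eq_same]
                rw [mul_assoc, mul_assoc, ← mul_assoc (z k), ← mul_assoc (y i), hcomm (z k) (y i)]
              · simp [Pi.mulSingle_eq_of_ne hk] }
        refine ⟨j, x i, hi, ?_⟩
        have h1 := H.mul_mem (H.inv_mem hx) (hchar α x hx)
        have h2 : x⁻¹ * α x = Pi.mulSingle j (x i) := by
          show x⁻¹ * (x * Pi.mulSingle j (x i)) = _
          group
        rwa [h2] at h1
      · push Not at hj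
        refine ⟨i, x i, hi, ?_⟩
        have : x = Pi.mulSingle i (x i) := by
          funext k
          rw [hj k]; simp
        rwa [← this]
    · -- center trivial: commutator
      have hz : ∃ t : S, ⁅x i, t⁆ ≠ 1 := by
        by_contra hcon
        push Not at hcon
        have hzm : x i ∈ Subgroup.center S := by
          rw [Subgroup.mem_center_iff]
          intro s
          have := hcon s
          rw [commutatorElement_eq_one_iff_commute] at this
          exact this.symm.eq
        have htop : Subgroup.center S = ⊤ := by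
          rcases (inferInstance : (Subgroup.center S).Normal).eq_bot_or_eq_top with h | h
          · rw [h] at hzm; exact absurd (Subgroup.mem_bot.1 hzm) hi
          · exact h
        apply hcomm
        intro a b
        have : a ∈ Subgroup.center S := by rw [htop]; trivial
        exact ((Subgroup.mem_center_iff.1 this) b).symm
      obtain ⟨t, ht⟩ := hz
      refine ⟨i, ⁅x i, t⁆, ht, ?_⟩
      have h1 : Pi.mulSingle i ⁅x i, t⁆ = ⁅x, (Pi.mulSingle i t : Fin n → S)⁆ := by
        funext j
        by_cases hj : j = i
        · subst hj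
          simp [commutatorElement_def]
        · simp [commutatorElement_def, Pi.mulSingle_eq_of_ne hj]
      rw [h1, commutatorElement_def]
      have h3 : x * (Pi.mulSingle i t : Fin n → S) * x⁻¹ * (Pi.mulSingle i t)⁻¹
          = x * ((Pi.mulSingle i t : Fin n → S) * x⁻¹ * (Pi.mulSingle i t)⁻¹) := by group
      rw [h3]
      exact H.mul_mem hx (hn.conj_mem _ (H.inv_mem hx) _)
  obtain ⟨j, s, hs, hjs⟩ := hA
  -- all coordinates, by permuting
  have hB : ∀ k, Pi.mulSingle k s ∈ H := by
    intro k
    let β : (Fin n → S) ≃* (Fin n → S) := MulEquiv.arrowCongr (Equiv.swap j k) (MulEquiv.refl S)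
    have := hchar β _ hjs
    have h1 : β (Pi.mulSingle j s) = Pi.mulSingle k s := by
      funext l
      by_cases hl : l = k
      · subst hl
        simp [β, MulEquiv.arrowCongr]
      · have h2 : (Equiv.swap j k).symm l ≠ j := by
          intro h3
          apply hl
          rw [Equiv.symm_swap] at h3
          have := congrArg (Equiv.swap j k) h3
          simpa using this
        simp only [β, MulEquiv.arrowCongr, MulEquiv.coe_mk, Equiv.coe_fn_mk, Function.comp_apply,
          MulEquiv.refl_apply]
        rw [Pi.mulSingle_eq_of_ne h2, Pi.mulSingle_eq_of_ne hl]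
    rwa [h1] at this
  have hC : ∀ k t, Pi.mulSingle k t ∈ H := by
    intro k t
    let φ : S →* (Fin n → S) := MonoidHom.mulSingle (fun _ => S) k
    have hcomap : (H.comap φ).Normal := inferInstance
    have hmem : s ∈ H.comap φ := hB k
    have htop : H.comap φ = ⊤ := by
      rcases hcomap.eq_bot_or_eq_top with h | h
      · rw [h] at hmem; exact absurd (Subgroup.mem_bot.1 hmem) hs
      · exact h
    have : t ∈ H.comap φ := by rw [htop]; trivial
    exact this
  rw [eq_top_iff]
  intro z _
  -- induct on the support
  have hind : ∀ A : Finset (Fin n), ∀ z : Fin n → S, (∀ i, i ∉ A → z i = 1) → z ∈ H := by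
    intro A
    induction A using Finset.induction_on with
    | empty =>
      intro z hz
      have : z = 1 := by
        funext i; exact hz i (by simp)
      rw [this]; exact H.one_mem
    | insert a A ha ih =>
      intro z hz
      have hdecomp : z = Function.update z a 1 * Pi.mulSingle a (z a) := by
        funext j
        by_cases hj : j = a
        · subst hj; simp
        · simp [hj]
      rw [hdecomp]
      refine H.mul_mem (ih _ ?_) (hC _ _)
      intro i hi
      by_cases hia : i = a
      · subst hia; simp
      · rw [Function.update_of_ne hia]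
        exact hz i (by simp [hia, hi])
  exact hind Finset.univ z (by simp)

/-- A finite group with only trivial characteristic subgroups is a direct power of a simple group. -/
theorem forward {G : Type*} [Group G] [Finite G] [Nontrivial G]
    (hc : ∀ H : Subgroup G, H.Characteristic → H = ⊥ ∨ H = ⊤) :
    ∃ (S : Type) (_ : Group S) (_ : IsSimpleGroup S) (n : ℕ), 1 ≤ n ∧ Nonempty (G ≃* (Fin n → S)) := by
  classical
  -- a minimal normal subgroup
  obtain ⟨S, hSm⟩ := Set.Finite.exists_minimal (Set.toFinite {N : Subgroup G | N.Normal ∧ N ≠ ⊥})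
    ⟨⊤, inferInstance, top_ne_bot⟩
  obtain ⟨⟨hSn, hSb⟩, hSmin⟩ := hSm
  have hSmin' : ∀ Y : Subgroup G, Y.Normal → Y ≠ ⊥ → Y ≤ S → Y = S := by
    intro Y hY hYb hYS
    exact le_antisymm hYS (hSmin ⟨hY, hYb⟩ hYS)
  -- the orbit under automorphisms
  let O : Set (Subgroup G) := Set.range (fun φ : G ≃* G => S.map φ.toMonoidHom)
  have hOn : ∀ X ∈ O, X.Normal := by
    rintro _ ⟨φ, rfl⟩
    exact hSn.map φ.toMonoidHom φ.surjective
  have hOb : ∀ X ∈ O, X ≠ ⊥ := by
    rintro _ ⟨φ, rfl⟩ h
    apply hSb
    rw [eq_bot_iff]
    intro x hx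
    have : φ x ∈ S.map φ.toMonoidHom := ⟨x, hx, rfl⟩
    change S.map φ.toMonoidHom = ⊥ at h
    rw [h] at this
    have h1 : φ x = 1 := this
    simpa using h1
  have hOmin : ∀ X ∈ O, ∀ Y : Subgroup G, Y.Normal → Y ≠ ⊥ → Y ≤ X → Y = X := by
    rintro _ ⟨φ, rfl⟩ Y hY hYb hYX
    have h1 : Y.comap φ.toMonoidHom ≤ S := by
      intro x hx
      obtain ⟨y, hy, hyx⟩ := hYX hx
      have : y = x := φ.injective hyx
      rwa [← this]
    have h2 : (Y.comap φ.toMonoidHom).Normal := hY.comap _
    have h3 : Y.comap φ.toMonoidHom ≠ ⊥ := by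
      intro h
      apply hYb
      rw [eq_bot_iff]
      intro y hy
      have : φ.symm y ∈ Y.comap φ.toMonoidHom := by
        show φ (φ.symm y) ∈ Y
        simpa using hy
      rw [h] at this
      have h4 : φ.symm y = 1 := this
      simpa using h4
    have h4 := hSmin' _ h2 h3 h1
    apply le_antisymm hYX
    rintro _ ⟨x, hx, rfl⟩
    rw [← h4] at hx
    exact hx
  -- sup of the orbit is everything
  have hsupO : sSup O = ⊤ := by
    have hchar : (sSup O).Characteristic := by
      rw [Subgroup.characteristic_iff_le_comap]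
      intro φ
      apply sSup_le
      rintro _ ⟨ψ, rfl⟩
      rw [← Subgroup.map_le_iff_le_comap]
      apply le_sSup
      refine ⟨ψ.trans φ, ?_⟩
      ext x
      simp [Subgroup.mem_map]
    rcases hc _ hchar with h | h
    · exfalso
      apply hSb
      rw [eq_bot_iff, ← h]
      apply le_sSup
      exact ⟨MulEquiv.refl G, by ext x; simp [Subgroup.mem_map]⟩
    · exact h
  -- a maximal independent family
  obtain ⟨T, hTm⟩ := Set.Finite.exists_maximal (Set.toFinite {T : Set (Subgroup G) | T ⊆ O ∧ sSupIndep T})
    ⟨∅, Set.empty_subset _, by simp [sSupIndep]⟩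
  obtain ⟨⟨hTO, hTi⟩, hTmax⟩ := hTm
  have hTn : ∀ X ∈ T, X.Normal := fun X hX => hOn X (hTO hX)
  have hsupn : ∀ A : Set (Subgroup G), A ⊆ T → (sSup A).Normal := fun A hA =>
    Subgroup.sSup_normal A (fun X hX => hTn X (hA hX))
  have hMn : (sSup T).Normal := hsupn T subset_rfl
  have hM : sSup T = ⊤ := by
    by_contra hne
    have : ∃ X ∈ O, ¬ X ≤ sSup T := by
      by_contra hcon
      push Not at hcon
      exact hne (top_le_iff.1 (hsupO ▸ sSup_le hcon))
    obtain ⟨X, hXO, hXM⟩ := this
    have hXnorm := hOn X hXO
    have hdis : X ⊓ sSup T = ⊥ := by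
      by_contra hb
      have := hOmin X hXO (X ⊓ sSup T) (Subgroup.normal_inf_normal _ _) hb inf_le_left
      exact hXM (this ▸ inf_le_right)
    have hXT : X ∉ T := fun h => hXM (le_sSup h)
    have hins : insert X T ⊆ O ∧ sSupIndep (insert X T) := by
      refine ⟨Set.insert_subset hXO hTO, ?_⟩
      intro Y hY
      rw [Subgroup.disjoint_def]
      intro y hy1 hy2
      rcases hY with rfl | hYT
      · have h1 : sSup (insert Y T \ {Y}) ≤ sSup T := by
          apply sSup_le_sSup
          rintro z ⟨hz1 | hz1, hz2⟩
          · exact absurd hz1 hz2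
          · exact hz1
        have : y ∈ Y ⊓ sSup T := ⟨hy1, h1 hy2⟩
        rw [hdis] at this
        exact this
      · -- `Y ∈ T`
        have hW : (sSup (T \ {Y})).Normal := hsupn _ Set.diff_subset
        have h1 : sSup (insert X T \ {Y}) ≤ X ⊔ sSup (T \ {Y}) := by
          apply sSup_le
          rintro z ⟨hz1 | hz1, hz2⟩
          · rw [hz1]; exact le_sup_left
          · exact le_sup_of_le_right (le_sSup ⟨hz1, hz2⟩)
        have h2 := h1 hy2
        rw [← SetLike.mem_coe, Subgroup.mul_normal] at h2
        obtain ⟨x, hx, w, hw, rfl⟩ := h2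
        have hwM : w ∈ sSup T := (sSup_le_sSup Set.diff_subset : sSup (T \ {Y}) ≤ sSup T) hw
        have hyM : x * w ∈ sSup T := (le_sSup hYT : Y ≤ sSup T) hy1
        have hxM : x ∈ sSup T := by
          have := (sSup T).mul_mem hyM ((sSup T).inv_mem hwM)
          simpa using this
        have hx1 : x = 1 := by
          have : x ∈ X ⊓ sSup T := ⟨hx, hxM⟩
          rw [hdis] at this
          exact this
        subst hx1
        simp only [one_mul] at hy1 ⊢
        have := (hTi hYT)
        rw [Subgroup.disjoint_def] at this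
        exact this hy1 hw
    have := hTmax hins (Set.subset_insert X T)
    exact hXT (this (Set.mem_insert X T))
  -- `T` is nonempty
  have hTne : T.Nonempty := by
    by_contra hcon
    rw [Set.not_nonempty_iff_eq_empty] at hcon
    rw [hcon, sSup_empty] at hM
    exact bot_ne_top hM
  -- the commuting condition
  have hcomm : Pairwise fun i j : T => ∀ x y : G, x ∈ (i : Subgroup G) → y ∈ (j : Subgroup G) → Commute x y := by
    intro i j hij x y hx hy
    apply Subgroup.commute_of_normal_of_disjoint _ _ (hTn _ i.2) (hTn _ j.2) _ x y hx hy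
    exact hTi.pairwiseDisjoint i.2 j.2 (fun h => hij (Subtype.ext h))
  have hindep : iSupIndep (fun i : T => (i : Subgroup G)) := (sSupIndep_iff T).1 hTi
  haveI : Fintype T := Fintype.ofFinite T
  let Φ := Subgroup.noncommPiCoprod hcomm
  have hinj : Function.Injective Φ := Subgroup.injective_noncommPiCoprod_of_iSupIndep hindep
  have hsurj : Function.Surjective Φ := by
    rw [← MonoidHom.range_eq_top, Subgroup.noncommPiCoprod_range, ← sSup_eq_iSup', hM]
  let Ψ : (∀ i : T, (i : Subgroup G)) ≃* G := MulEquiv.ofBijective Φ ⟨hinj, hsurj⟩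
  -- every member of `T` is isomorphic to `S`
  have hiso : ∀ i : T, Nonempty (S ≃* (i : Subgroup G)) := by
    intro i
    obtain ⟨φ, hφ⟩ := hTO i.2
    refine ⟨(φ.subgroupMap S).trans (MulEquiv.subgroupCongr hφ)⟩
  let e : ∀ i : T, S ≃* (i : Subgroup G) := fun i => Classical.choice (hiso i)
  -- `S` is simple
  obtain ⟨X₀, hX₀⟩ := hTne
  have hsimple : IsSimpleGroup X₀ := by
    rw [Subgroup.isSimpleGroup_iff]
    refine ⟨hOb _ (hTO hX₀), fun H' hH' hn' => ?_⟩
    by_cases hb : H' = ⊥
    · exact Or.inl hb
    right
    -- `H'` is normal in `G`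
    have hcent : sSup (T \ {X₀}) ≤ Subgroup.centralizer (X₀ : Set G) := by
      apply sSup_le
      rintro Y ⟨hY, hYne⟩ y hy
      rw [Subgroup.mem_centralizer_iff]
      intro x hx
      exact Subgroup.commute_of_normal_of_disjoint _ _ (hTn _ hX₀) (hTn _ hY)
        (hTi.pairwiseDisjoint hX₀ hY (fun h => hYne h.symm)) x y hx hy
    have hW : (sSup (T \ {X₀})).Normal := hsupn _ Set.diff_subset
    have hX₀n := hTn _ hX₀
    have hsupeq : X₀ ⊔ sSup (T \ {X₀}) = ⊤ := by
      rw [← hM, eq_comm]
      apply le_antisymm
      · apply sSup_le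
        intro Z hZ
        by_cases hZX : Z = X₀
        · rw [hZX]; exact le_sup_left
        · exact le_sup_of_le_right (le_sSup ⟨hZ, hZX⟩)
      · exact sup_le (le_sSup hX₀) (sSup_le_sSup Set.diff_subset)
    have hH'n : H'.Normal := by
      refine ⟨fun n hn g => ?_⟩
      have hg : g ∈ (X₀ ⊔ sSup (T \ {X₀}) : Subgroup G) := by rw [hsupeq]; trivial
      rw [← SetLike.mem_coe, Subgroup.mul_normal] at hg
      obtain ⟨x, hx, w, hw, rfl⟩ := hg
      have h1 : w * n * w⁻¹ = n := by
        have := (Subgroup.mem_centralizer_iff.1 (hcent hw)) n (hH' hn)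
        rw [← this]; group
      have h2 : x * w * n * (x * w)⁻¹ = x * n * x⁻¹ := by
        calc x * w * n * (x * w)⁻¹ = x * (w * n * w⁻¹) * x⁻¹ := by group
          _ = x * n * x⁻¹ := by rw [h1]
      rw [h2]
      have h3 : (⟨n, hH' hn⟩ : X₀) ∈ H'.subgroupOf X₀ := hn
      have := hn'.conj_mem _ h3 ⟨x, hx⟩
      exact this
    exact hOmin _ (hTO hX₀) H' hH'n hb hH'
  have hSsimple : IsSimpleGroup S := (e ⟨X₀, hX₀⟩).isSimpleGroup
  -- transport to a type in the lowest universe
  let m := Nat.card S
  let ε : Car m ≃ S := (Finite.equivFin S).symm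
  letI gS : Group (Car m) := ε.group
  let E : Car m ≃* S := ε.mulEquiv
  have hSim' : IsSimpleGroup (Car m) := E.isSimpleGroup
  let κ : Fin (Nat.card T) ≃ T := (Finite.equivFin T).symm
  refine ⟨Car m, gS, hSim', Nat.card T, ?_, ⟨?_⟩⟩
  · have : Nonempty T := ⟨⟨X₀, hX₀⟩⟩
    exact Nat.card_pos
  · refine Ψ.symm.trans ?_
    refine (MulEquiv.piCongrRight (fun i : T => (e i).symm)).trans ?_
    refine (MulEquiv.arrowCongr κ.symm E.symm)

theorem result {G : Type*} [Group G] [Finite G] [Nontrivial G] :
    (∀ H : Subgroup G, H.Characteristic → H = ⊥ ∨ H = ⊤) ↔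
    ∃ (S : Type) (_ : Group S) (_ : IsSimpleGroup S) (n : ℕ), 1 ≤ n ∧ Nonempty (G ≃* (Fin n → S)) := by
  constructor
  · exact forward
  · rintro ⟨S, _, _, n, -, ⟨e⟩⟩ H hH
    have hH' : (H.comap e.symm.toMonoidHom).Normal := by
      have : H.Normal := inferInstance
      exact this.comap _
    have hchar : ∀ ϕ : G ≃* G, ∀ g, g ∈ H → ϕ g ∈ H := by
      intro ϕ g hg
      have := (Subgroup.characteristic_iff_le_comap.1 hH) ϕ hg
      exact this
    have := char_simple_pow n (H.comap e.symm.toMonoidHom) (fun α y hy => by
      have h1 := hchar (e.trans (α.trans e.symm)) _ hy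
      simpa using h1)
    rcases this with h | h
    · left
      rw [eq_bot_iff]
      intro x hx
      have h1 : e x ∈ H.comap e.symm.toMonoidHom := by
        show e.symm (e x) ∈ H
        simpa using hx
      rw [h] at h1
      have h2 : e x = 1 := h1
      simpa using h2
    · right
      rw [eq_top_iff]
      intro x _
      have h1 : e x ∈ H.comap e.symm.toMonoidHom := by rw [h]; trivial
      have h2 : e.symm (e x) ∈ H := h1
      simpa using h2

end Cfsg.Agent.S5914
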