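import Cfsg.Statements.S3680
import Cfsg.Agent.S5914
import Cfsg.Agent.Lib.Core.MinNormal
import Mathlib

set_option autoImplicit false
open Cfsg

namespace Cfsg.Agent.S3680

variable {G Ω : Type*} [Group G] [MulAction G Ω] [FaithfulSMul G Ω]

/-- An element commuting with a transitive subgroup and fixing a point is trivial. -/
lemma eq_one_of_comm (V : Subgroup G) (hV : MulAction.IsPretransitive V Ω) (c : G)
    (hc : ∀ v ∈ V, c * v = v * c) (a : Ω) (hca : c • a = a) : c = 1 := by
  apply eq_of_smul_eq_smul (α := Ω)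
  intro b
  obtain ⟨v, hv⟩ := MulAction.exists_smul_eq V a b
  have hv' : (v : G) • a = b := hv
  rw [one_smul, ← hv', ← mul_smul, hc v v.2, mul_smul, hca]

/-- Centralizing subgroups are semiregular. -/
lemma stab_bot (V C : Subgroup G) (hV : MulAction.IsPretransitive V Ω)
    (hc : ∀ c ∈ C, ∀ v ∈ V, c * v = v * c) (a : Ω) : MulAction.stabilizer C a = ⊥ := by
  rw [eq_bot_iff]
  rintro ⟨c, hcC⟩ hca
  rw [Subgroup.mem_bot]
  have h1 : c • a = a := hca
  have := eq_one_of_comm V hV c (hc c hcC) a h1
  exact Subtype.ext this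

lemma isTrans_of_normal [Finite G] (hprim : MulAction.IsPreprimitive G Ω) (V : Subgroup G)
    (hVn : V.Normal) (hVb : V ≠ ⊥) : MulAction.IsPretransitive V Ω := by
  have hq : MulAction.IsQuasiPreprimitive G Ω := MulAction.IsPreprimitive.isQuasiPreprimitive
  apply hq.isPretransitive_of_normal
  intro h
  apply hVb
  rw [eq_bot_iff]
  intro v hv
  rw [Subgroup.mem_bot]
  apply eq_of_smul_eq_smul (α := Ω)
  intro b
  have hb : b ∈ MulAction.fixedPoints V Ω := by rw [h]; trivial
  have := hb ⟨v, hv⟩
  rw [one_smul]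
  exact this

/-- The relevant predicate. -/
def IsMinN (V : Subgroup G) : Prop :=
  V.Normal ∧ V ≠ ⊥ ∧ ∀ M : Subgroup G, M.Normal → M ≤ V → M = ⊥ ∨ M = V

/-- Two regular commuting subgroups are isomorphic. -/
lemma iso_of_regular (V W : Subgroup G) (hV : MulAction.IsPretransitive V Ω)
    (hW : MulAction.IsPretransitive W Ω)
    (hcomm : ∀ v ∈ V, ∀ w ∈ W, v * w = w * v) (a : Ω) : Nonempty (V ≃* W) := by
  have hVs : ∀ v : V, (v : G) • a = a → v = 1 := by
    intro v hv
    apply Subtype.ext
    exact eq_one_of_comm W hW v (hcomm v v.2) a hv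
  have hWs : ∀ w : W, (w : G) • a = a → w = 1 := by
    intro w hw
    apply Subtype.ext
    exact eq_one_of_comm V hV w (fun v hv => (hcomm v hv w w.2).symm) a hw
  have binj : ∀ (U : Subgroup G), (∀ u : U, (u : G) • a = a → u = 1) →
      Function.Injective (fun u : U => (u : G) • a) := by
    intro U hU x y hxy
    have h1 : ((y⁻¹ * x : U) : G) • a = a := by
      have hxy' : (x : G) • a = (y : G) • a := hxy
      show ((y : G)⁻¹ * (x : G)) • a = a
      rw [mul_smul, hxy', inv_smul_smul]
    have := hU _ h1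
    exact (inv_mul_eq_one.1 this).symm
  have bsurj : ∀ (U : Subgroup G), MulAction.IsPretransitive U Ω →
      Function.Surjective (fun u : U => (u : G) • a) := by
    intro U hU b
    obtain ⟨u, hu⟩ := MulAction.exists_smul_eq U a b
    exact ⟨u, hu⟩
  let eV : V ≃ Ω := Equiv.ofBijective _ ⟨binj V hVs, bsurj V hV⟩
  let eW : W ≃ Ω := Equiv.ofBijective _ ⟨binj W hWs, bsurj W hW⟩
  have heW : ∀ b, ((eW.symm b : W) : G) • a = b := fun b => eW.apply_symm_apply b
  let f : V ≃ W := (eV.trans eW.symm).trans (Equiv.inv W)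
  refine ⟨MulEquiv.mk f ?_⟩
  intro x y
  show (eW.symm (((x * y : V) : G) • a))⁻¹ = (eW.symm ((x : G) • a))⁻¹ * (eW.symm ((y : G) • a))⁻¹
  rw [← mul_inv_rev, inv_inj]
  apply eW.symm_apply_eq.2
  show ((x * y : V) : G) • a = (((eW.symm ((y : G) • a) * eW.symm ((x : G) • a) : W) : W) : G) • a
  push_cast
  rw [mul_smul (x : G) (y : G) a, mul_smul (eW.symm ((y : G) • a) : G) _ a, heW, ← mul_smul _ (x : G) a,
    ← hcomm x x.2 _ (eW.symm ((y : G) • a)).2, mul_smul, heW]

lemma le_of_comm (V W U : Subgroup G) (hV : MulAction.IsPretransitive V Ω)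
    (hW : MulAction.IsPretransitive W Ω) (hWc : ∀ v ∈ V, ∀ w ∈ W, v * w = w * v)
    (hUc : ∀ v ∈ V, ∀ u ∈ U, v * u = u * v) (a : Ω) : U ≤ W := by
  intro u hu
  obtain ⟨w, hw⟩ := MulAction.exists_smul_eq W a (u • a)
  have hw' : (w : G) • a = u • a := hw
  have h1 : (w : G)⁻¹ * u = 1 := by
    apply eq_one_of_comm V hV _ _ a
    · rw [mul_smul, ← hw', inv_smul_smul]
    · intro v hv
      have h2 := hWc v hv w w.2
      have h3 := hUc v hv u hu
      have h4 : (w : G)⁻¹ * v = v * (w : G)⁻¹ := by
        rw [inv_mul_eq_iff_eq_mul, ← mul_assoc, ← h2, mul_assoc, mul_inv_cancel, mul_one]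
      rw [mul_assoc, ← h3, ← mul_assoc, h4, mul_assoc]
  have h5 : u = w := (inv_mul_eq_one.1 h1).symm
  rw [h5]
  exact w.2

omit [FaithfulSMul G Ω] in
/-- The minimal normal subgroup is characteristically simple, hence a direct power. -/
lemma simple_pow [Finite G] (V : Subgroup G) (hVn : V.Normal) (hVb : V ≠ ⊥)
    (hVm : ∀ M : Subgroup G, M.Normal → M ≤ V → M = ⊥ ∨ M = V)
    (hnab : ¬ ∀ x ∈ V, ∀ y ∈ V, x * y = y * x) :
    ∃ (T : Type) (_ : Group T) (m : ℕ), 1 ≤ m ∧ IsSimpleGroup T ∧ ¬ IsMulCommutative T ∧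
      Nonempty (V ≃* (Fin m → T)) := by
  haveI := hVn
  haveI hnt : Nontrivial V := (Subgroup.nontrivial_iff_ne_bot V).2 hVb
  obtain ⟨S, gS, hS, n, hn, ⟨e⟩⟩ := Cfsg.Agent.S5914.forward (G := V) (by
    intro C hC
    have h1 : (C.map V.subtype).Normal := inferInstance
    have h2 : C.map V.subtype ≤ V := by
      rintro _ ⟨x, -, rfl⟩
      exact x.2
    rcases hVm _ h1 h2 with h | h
    · left
      exact (Subgroup.map_eq_bot_iff_of_injective _ V.subtype_injective).1 h
    · right
      rw [eq_top_iff]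
      intro x _
      have h3 : (x : G) ∈ C.map V.subtype := by rw [h]; exact x.2
      obtain ⟨y, hy, hyx⟩ := h3
      have : y = x := Subtype.ext hyx
      rwa [← this])
  refine ⟨S, gS, n, hn, hS, ?_, ⟨e⟩⟩
  intro hc
  apply hnab
  intro x hx y hy
  have h1 : e (⟨x, hx⟩ * ⟨y, hy⟩) = e (⟨y, hy⟩ * ⟨x, hx⟩) := by
    rw [map_mul, map_mul]
    funext i
    exact hc.is_comm.comm _ _
  have h2 := e.injective h1
  exact congrArg Subtype.val h2

/-- The power-doubling isomorphism. -/
def doubleIso (T : Type) [Group T] (m : ℕ) :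
    (Fin m → T) × (Fin m → T) ≃* (Fin (m + m) → T) :=
  MulEquiv.mk (((Equiv.sumArrowEquivProdArrow (Fin m) (Fin m) T).symm).trans
    (Equiv.arrowCongr finSumFinEquiv (Equiv.refl T))) (by
    intro x y
    funext i
    show (Equiv.sumArrowEquivProdArrow (Fin m) (Fin m) T).symm (x * y) (finSumFinEquiv.symm i) =
      (Equiv.sumArrowEquivProdArrow (Fin m) (Fin m) T).symm x (finSumFinEquiv.symm i) *
      (Equiv.sumArrowEquivProdArrow (Fin m) (Fin m) T).symm y (finSumFinEquiv.symm i)
    generalize finSumFinEquiv.symm i = j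
    rcases j with j | j <;> rfl)


/-- The socle of a finite primitive permutation group. Let a finite group G act faithfully and primitively on a set Ω, and let N be the subgroup generated by the minimal normal subgroups of G. Then either N is an elementary abelian p-group for some prime p and acts regularly on Ω (transitively with trivial point stabilizers), or N is isomorphic to a direct product of m ≥ 1 copies of a non-abelian simple group. -/
theorem result {G Ω : Type*} [Group G] [Finite G] [MulAction G Ω] [FaithfulSMul G Ω] [Finite Ω]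
    (hprim : MulAction.IsPreprimitive G Ω) (N : Subgroup G)
    (hN : N = sSup {V : Subgroup G | V.Normal ∧ V ≠ ⊥ ∧ ∀ M : Subgroup G, M.Normal → M ≤ V → M = ⊥ ∨ M = V}) :
    (∃ p : ℕ, p.Prime ∧ IsMulCommutative N ∧ (∀ x : N, x ^ p = 1) ∧
      MulAction.IsPretransitive N Ω ∧ ∀ ω : Ω, MulAction.stabilizer N ω = ⊥) ∨
    (∃ (T : Type) (_ : Group T) (m : ℕ), 1 ≤ m ∧ IsSimpleGroup T ∧ ¬ IsMulCommutative T ∧ Nonempty (N ≃* (Fin m → T))) := by
  classical
  subst hN
  set 𝓜 : Set (Subgroup G) := {V : Subgroup G | V.Normal ∧ V ≠ ⊥ ∧ ∀ M : Subgroup G, M.Normal → M ≤ V → M = ⊥ ∨ M = V} with h𝓜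
  by_cases hE : 𝓜.Nonempty
  swap
  · -- trivial group
    left
    have hbot : (⊤ : Subgroup G) = ⊥ := by
      by_contra hne
      obtain ⟨L, hL1, hL2, -, hL3⟩ := Cfsg.Agent.Lib.Core.exists_minimal_normal_le
        (K := (⊤ : Subgroup G)) inferInstance hne
      exact hE ⟨L, hL1, hL2, hL3⟩
    have hall : ∀ g : G, g = 1 := fun g => by
      have : g ∈ (⊤ : Subgroup G) := trivial
      rw [hbot] at this
      exact this
    rw [Set.not_nonempty_iff_eq_empty] at hE
    rw [hE, sSup_empty]
    refine ⟨2, Nat.prime_two, ⟨⟨fun a b => Subtype.ext ?_⟩⟩, fun x => Subtype.ext ?_, ?_, ?_⟩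
    · rw [hall (a * b : _root_.id _), hall (b * a : _root_.id _)]
    · exact hall _
    · constructor
      intro x y
      obtain ⟨g, hg⟩ := hprim.exists_smul_eq x y
      refine ⟨1, ?_⟩
      rw [hall g] at hg
      simpa using hg
    · intro ω
      rw [eq_bot_iff]
      rintro ⟨x, hx⟩ -
      rw [Subgroup.mem_bot]
      exact Subtype.ext hx
  obtain ⟨V, hVn, hVb, hVm⟩ := hE
  haveI := hVn
  have hVt : MulAction.IsPretransitive V Ω := isTrans_of_normal hprim V hVn hVb
  obtain ⟨a⟩ : Nonempty Ω := by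
    by_contra h
    apply hVb
    rw [eq_bot_iff]
    intro v _
    rw [Subgroup.mem_bot]
    apply eq_of_smul_eq_smul (α := Ω)
    intro b
    exact (h ⟨b⟩).elim
  by_cases h2 : ∃ W ∈ 𝓜, W ≠ V
  · -- two distinct minimal normal subgroups
    obtain ⟨W, ⟨hWn, hWb, hWm⟩, hWV⟩ := h2
    haveI := hWn
    have hWt : MulAction.IsPretransitive W Ω := isTrans_of_normal hprim W hWn hWb
    have hinf : V ⊓ W = ⊥ := by
      rcases hVm (V ⊓ W) inferInstance inf_le_left with h | h
      · exact h
      · exfalso
        have h1 : V ≤ W := inf_eq_left.1 h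
        rcases hWm V hVn h1 with h3 | h3
        · exact hVb h3
        · exact hWV h3.symm
    have hdis : Disjoint V W := disjoint_iff.2 hinf
    have hcomm : ∀ v ∈ V, ∀ w ∈ W, v * w = w * v := fun v hv w hw =>
      (Subgroup.commute_of_normal_of_disjoint V W hVn hWn hdis v w hv hw)
    have hsup : sSup 𝓜 = V ⊔ W := by
      apply le_antisymm
      · apply sSup_le
        rintro U ⟨hUn, hUb, hUm⟩
        haveI := hUn
        by_cases hUV : U = V
        · rw [hUV]; exact le_sup_left
        · have hinfU : V ⊓ U = ⊥ := by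
            rcases hVm (V ⊓ U) inferInstance inf_le_left with h | h
            · exact h
            · exfalso
              have h1 : V ≤ U := inf_eq_left.1 h
              rcases hUm V hVn h1 with h3 | h3
              · exact hVb h3
              · exact hUV h3.symm
          have hUc : ∀ v ∈ V, ∀ u ∈ U, v * u = u * v := fun v hv u hu =>
            (Subgroup.commute_of_normal_of_disjoint V U hVn hUn (disjoint_iff.2 hinfU) v u hv hu)
          exact le_sup_of_le_right (le_of_comm V W U hVt hWt hcomm hUc a)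
      · apply sup_le
        · exact le_sSup ⟨hVn, hVb, hVm⟩
        · exact le_sSup ⟨hWn, hWb, hWm⟩
    right
    have hnab : ¬ ∀ x ∈ V, ∀ y ∈ V, x * y = y * x := by
      intro hab
      have h1 : V ≤ W := le_of_comm V W V hVt hWt hcomm hab a
      rcases hWm V hVn h1 with h3 | h3
      · exact hVb h3
      · exact hWV h3.symm
    obtain ⟨T, gT, m, hm, hT, hTn, ⟨e⟩⟩ := simple_pow V hVn hVb hVm hnab
    obtain ⟨e'⟩ := iso_of_regular V W hVt hWt hcomm a
    refine ⟨T, gT, m + m, by omega, hT, hTn, ⟨?_⟩⟩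
    rw [hsup]
    let φ : V × W →* G := MonoidHom.noncommCoprod V.subtype W.subtype (fun v w => hcomm v v.2 w w.2)
    have hφi : Function.Injective φ := by
      refine (MonoidHom.noncommCoprod_injective _ _ _).2
        ⟨V.subtype_injective, W.subtype_injective, ?_⟩
      rw [Subgroup.range_subtype, Subgroup.range_subtype]
      exact hdis
    have hφr : φ.range = V ⊔ W := by
      refine (MonoidHom.noncommCoprod_range _ _ _).trans ?_
      rw [Subgroup.range_subtype, Subgroup.range_subtype]
    refine (MulEquiv.subgroupCongr hφr.symm).trans ?_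
    refine (MonoidHom.ofInjective hφi).symm.trans ?_
    refine (MulEquiv.prodCongr e (e'.symm.trans e)).trans (doubleIso T m)
  · -- a unique minimal normal subgroup
    have hsup : sSup 𝓜 = V := by
      apply le_antisymm
      · apply sSup_le
        intro U hU
        by_contra hne
        exact h2 ⟨U, hU, fun h => hne (h ▸ le_rfl)⟩
      · exact le_sSup ⟨hVn, hVb, hVm⟩
    rw [hsup]
    by_cases hab : ∀ x ∈ V, ∀ y ∈ V, x * y = y * x
    · left
      haveI : Nontrivial V := (Subgroup.nontrivial_iff_ne_bot V).2 hVb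
      obtain ⟨p, hp⟩ : ∃ p : ℕ, p.Prime ∧ p ∣ Nat.card V := by
        have h1 : Nat.card V ≠ 1 := by
          intro h
          have := (Nat.card_eq_one_iff_unique.1 h).1
          exact not_subsingleton V this
        exact ⟨_, Nat.minFac_prime h1, Nat.minFac_dvd _⟩
      obtain ⟨hpp, hpd⟩ := hp
      haveI : Fact p.Prime := ⟨hpp⟩
      obtain ⟨x0, hx0⟩ := exists_prime_orderOf_dvd_card' p hpd
      let M : Subgroup G :=
        { carrier := {x | x ∈ V ∧ x ^ p = 1}
          mul_mem' := by
            rintro x y ⟨hx, hx'⟩ ⟨hy, hy'⟩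
            refine ⟨V.mul_mem hx hy, ?_⟩
            have hc : Commute x y := hab x hx y hy
            rw [hc.mul_pow, hx', hy', one_mul]
          one_mem' := ⟨V.one_mem, one_pow _⟩
          inv_mem' := by
            rintro x ⟨hx, hx'⟩
            exact ⟨V.inv_mem hx, by rw [inv_pow, hx', inv_one]⟩ }
      have hMn : M.Normal := by
        refine ⟨fun x hx g => ⟨hVn.conj_mem x hx.1 g, ?_⟩⟩
        rw [conj_pow, hx.2]
        simp
      have hMV : M ≤ V := fun x hx => hx.1
      have hMeq : M = V := by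
        rcases hVm M hMn hMV with h | h
        · exfalso
          have h1 : (x0 : G) ∈ M := by
            refine ⟨x0.2, ?_⟩
            have := pow_orderOf_eq_one x0
            rw [hx0] at this
            exact congrArg Subtype.val this
          rw [h] at h1
          have h3 : x0 = 1 := Subtype.ext h1
          rw [h3, orderOf_one] at hx0
          exact hpp.one_lt.ne hx0
        · exact h
      refine ⟨p, hpp, ⟨⟨fun x y => Subtype.ext (hab x x.2 y y.2)⟩⟩, ?_, hVt, ?_⟩
      · intro x
        apply Subtype.ext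
        have h1 : (x : G) ∈ M := by rw [hMeq]; exact x.2
        exact h1.2
      · intro ω
        exact stab_bot V V hVt hab ω
    · right
      exact simple_pow V hVn hVb hVm hab

end Cfsg.Agent.S3680
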