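import Cfsg.Statements.S3682
import Cfsg.Agent.Lib.TW.Perm

set_option autoImplicit false

namespace Cfsg.Agent.S3682

open Cfsg Cfsg.Agent.Lib.TW

/-- Wielandt's bound toward the Sims conjecture. -/
theorem result {G Ω : Type*} [Group G] [Finite G] [MulAction G Ω] [FaithfulSMul G Ω] [Finite Ω]
    (hprim : MulAction.IsPreprimitive G Ω) (a b : Ω) (d : ℕ) (hd : Nat.card (MulAction.orbit (MulAction.stabilizer G a) b) = d) (h2 : 2 ≤ d) :
    ∃ p : ℕ, p.Prime ∧ ∃ P : Subgroup (MulAction.stabilizer G a), P.Normal ∧ IsPGroup p P ∧ (∀ g : P, ((g : MulAction.stabilizer G a) : G) • b = b) ∧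
      P.index ∣ Nat.factorial d * (Nat.factorial (d - 1)) ^ d := by
  obtain ⟨S, _, _, hcard⟩ := perm_setup hprim a b d hd h2
  obtain ⟨h3, h4⟩ := perm_dich hprim a b d hd h2
  have hbot : ∀ h : Nat.card (MulAction.stabilizer G a) ∣ Nat.factorial d * (Nat.factorial (d - 1)) ^ d,
      ∃ p : ℕ, p.Prime ∧ ∃ P : Subgroup (MulAction.stabilizer G a), P.Normal ∧ IsPGroup p P ∧ (∀ g : P, ((g : MulAction.stabilizer G a) : G) • b = b) ∧
      P.index ∣ Nat.factorial d * (Nat.factorial (d - 1)) ^ d := by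
    intro h
    refine ⟨2, Nat.prime_two, ⊥, inferInstance, IsPGroup.of_bot, ?_, ?_⟩
    · rintro ⟨g, hg⟩
      rw [Subgroup.mem_bot] at hg
      simp [hg]
    · rwa [Subgroup.index_bot]
  by_cases hA : a2 (MulAction.stabilizer G a) (MulAction.stabilizer G b) = ⊥
  · rw [hA, Subgroup.relIndex_bot_left] at h3
    exact hbot h3
  by_cases hB : a2 (MulAction.stabilizer G b) (MulAction.stabilizer G a) = ⊥
  · rw [hB, Subgroup.relIndex_bot_left, hcard] at h4
    exact hbot h4
  obtain ⟨p, hp, hP, _⟩ := main_tw S hA hB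
  refine ⟨p, hp, (a2 (MulAction.stabilizer G a) (MulAction.stabilizer G b)).subgroupOf _,
    subgroupOf_normal_of_NI (a2_NI _ _), ?_, ?_, h3⟩
  · exact (hP.to_le le_sup_left).of_equiv (Subgroup.subgroupOfEquivOfLe (a2_NI _ _).1).symm
  · rintro ⟨g, hg⟩
    rw [Subgroup.mem_subgroupOf] at hg
    have := a1_le_right _ _ (a2_le_a1 _ _ hg)
    exact this

end Cfsg.Agent.S3682
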