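import Cfsg.Statements.S3688
import Cfsg.Agent.Lib.TW.Perm

set_option autoImplicit false

namespace Cfsg.Agent.S3688

open Cfsg Cfsg.Agent.Lib.TW

/-- Let a finite group G act faithfully and primitively on a set Ω, let a and b be points such that the orbit of b under the stabilizer H of a has length d ≥ 2, and suppose that H is not strongly constrained. Then the order of H divides d! · ((d - 1)!)^d. -/
theorem result {G Ω : Type*} [Group G] [Finite G] [MulAction G Ω] [FaithfulSMul G Ω] [Finite Ω]
    (hprim : MulAction.IsPreprimitive G Ω) (a b : Ω) (d : ℕ) (hd : Nat.card (MulAction.orbit (MulAction.stabilizer G a) b) = d) (h2 : 2 ≤ d)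
    (hnc : ∀ p : ℕ, p.Prime → Cfsg.generalizedFittingSubgroup (MulAction.stabilizer G a) ≠ Cfsg.pCore p (MulAction.stabilizer G a)) :
    Nat.card (MulAction.stabilizer G a) ∣ Nat.factorial d * (Nat.factorial (d - 1)) ^ d := by
  obtain ⟨S, _, _, hcard⟩ := perm_setup hprim a b d hd h2
  obtain ⟨h3, h4⟩ := perm_dich hprim a b d hd h2
  by_cases hA : a2 (MulAction.stabilizer G a) (MulAction.stabilizer G b) = ⊥
  · rw [hA, Subgroup.relIndex_bot_left] at h3
    exact h3
  by_cases hB : a2 (MulAction.stabilizer G b) (MulAction.stabilizer G a) = ⊥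
  · rw [hB, Subgroup.relIndex_bot_left, hcard] at h4
    exact h4
  obtain ⟨p, hp, _, h5, _⟩ := main_tw S hA hB
  exact absurd h5 (hnc p hp)

end Cfsg.Agent.S3688
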