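import Cfsg.Statements.S3693
import Cfsg.Agent.Lib.TW.Perm

set_option autoImplicit false

namespace Cfsg.Agent.S3693

open Subgroup Cfsg Cfsg.Agent.Lib.TW Cfsg.Agent.Lib.Core MulAction

variable {G : Type*} [Group G] [Finite G]

theorem Y_trivial {M₁ M₂ : Subgroup G} (S : TWS M₁ M₂) (r : ℕ) [Fact r.Prime]
    (h : PC r (M₁ ⊓ M₂) ≤ a1 M₁ M₂) : PC r (M₁ ⊓ M₂) = ⊥ := by
  by_contra hne
  have hYD : NI (a1 M₁ M₂) (M₁ ⊓ M₂) := (a1_NI M₁ M₂).mono (a1_le_inf M₁ M₂) inf_le_left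
  have h1 : PC r (M₁ ⊓ M₂) ≤ PC r (a1 M₁ M₂) :=
    le_PC r ((PC_NI r (M₁ ⊓ M₂)).mono h (a1_le_inf M₁ M₂)) (PC_isP r _)
  have h2 : PC r (a1 M₁ M₂) ≤ PC r (M₁ ⊓ M₂) :=
    le_PC r (PC_NI_of r hYD) (PC_isP r _)
  have hEq : PC r (a1 M₁ M₂) = PC r (M₁ ⊓ M₂) := le_antisymm h2 h1
  have hNI : NI (PC r (M₁ ⊓ M₂)) M₁ := by
    rw [← hEq]
    exact PC_NI_of r (a1_NI M₁ M₂)
  have hN := S.h1 _ hne hNI
  have hYle := PC_le r (M₁ ⊓ M₂)
  have hP2 : PC r M₂ ≤ M₁ := by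
    by_contra hcon
    have hnY : ¬ PC r M₂ ≤ PC r (M₁ ⊓ M₂) := fun h => hcon (h.trans (hYle.trans inf_le_left))
    obtain ⟨y', hy'P, hy'Y, hy'n⟩ := grow (PC_isP r M₂) (PC_isP r (M₁ ⊓ M₂))
      (fun y hy x hx => (PC_NI r M₂).2 y (mem_inf.mp (hYle hy)).2 x hx) hnY
    apply hy'Y
    exact PC_inf_le' r M₁ M₂ (mem_inf.mpr ⟨hy'P, hN (nz hy'n)⟩)
  have hle1 : PC r M₂ ≤ PC r (M₁ ⊓ M₂) := fun x hx => PC_inf_le' r M₁ M₂ (mem_inf.mpr ⟨hx, hP2 hx⟩)
  have hle2 : PC r (M₁ ⊓ M₂) ≤ PC r M₁ := le_PC r hNI (PC_isP r _)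
  have he := eq_of_le_card (hle1.trans hle2) (S.cardP r).symm
  apply S.ne2
  have h6 := NI.mem_norm (PC_NI r M₂)
  rw [he] at h6
  have h7 : PC r M₁ ≠ ⊥ := by
    intro hb
    rw [hb, le_bot_iff] at hle2
    exact hne hle2
  exact h6.trans (S.h1 _ h7 (PC_NI r M₁))

variable {Ω : Type*} [MulAction G Ω] [FaithfulSMul G Ω] [Finite Ω]

theorem key_le (a b : Ω)
    (hF : Cfsg.fittingSubgroup ↥(((MulAction.stabilizer G b).subgroupOf (MulAction.stabilizer G a)).map (MulAction.toPermHom (MulAction.stabilizer G a) (MulAction.orbit (MulAction.stabilizer G a) b))) = ⊥)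
    (r : ℕ) [Fact r.Prime] :
    PC r (stabilizer G a ⊓ stabilizer G b) ≤ a1 (stabilizer G a) (stabilizer G b) := by
  set M₁ := stabilizer G a with hM₁
  set M₂ := stabilizer G b with hM₂
  set Y := PC r (M₁ ⊓ M₂) with hY
  have hYD := PC_le r (M₁ ⊓ M₂)
  set ρ := MulAction.toPermHom M₁ (orbit M₁ b) with hρ
  set im := (M₂.subgroupOf M₁).map ρ with him
  set U : Subgroup im := ((Y.subgroupOf M₁).map ρ).subgroupOf im with hU
  have hnorm : U.Normal := by
    constructor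
    rintro ⟨_, u, hu, rfl⟩ h1 ⟨_, g, hg, rfl⟩
    rw [hU, mem_subgroupOf] at h1 ⊢
    obtain ⟨y, hy, hye⟩ := h1
    refine ⟨g * y * g⁻¹, ?_, ?_⟩
    · rw [SetLike.mem_coe, mem_subgroupOf] at hy hg ⊢
      exact (PC_NI r (M₁ ⊓ M₂)).2 g (mem_inf.mpr ⟨g.2, hg⟩) y hy
    · simp only [map_mul, map_inv, Subgroup.coe_mul, InvMemClass.coe_inv]
      rw [hye]
  have hnil : Group.IsNilpotent U := by
    have h1 : IsPGroup r ((Y.subgroupOf M₁).map ρ) :=
      (((PC_isP r (M₁ ⊓ M₂)).of_equiv (subgroupOfEquivOfLe (hYD.trans inf_le_left)).symm)).map _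
    have h2 : IsPGroup r U := h1.of_equiv (subgroupOfEquivOfLe (show (Y.subgroupOf M₁).map ρ ≤ im from
      map_mono (by
        intro x hx
        rw [mem_subgroupOf] at hx ⊢
        exact (mem_inf.mp (hYD hx)).2))).symm
    exact h2.isNilpotent
  have hbot : U = ⊥ := by
    rw [eq_bot_iff, ← hF]
    exact le_fittingSubgroup hnorm hnil
  have hfix : ∀ y ∈ Y, ∀ c ∈ orbit M₁ b, y • c = c := by
    intro y hy c hc
    have hyD := mem_inf.mp (hYD hy)
    have h1 : (⟨ρ ⟨y, hyD.1⟩, ⟨⟨y, hyD.1⟩, by rw [SetLike.mem_coe, mem_subgroupOf]; exact hyD.2, rfl⟩⟩ : im) ∈ U := by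
      rw [hU, mem_subgroupOf]
      exact ⟨⟨y, hyD.1⟩, by rw [SetLike.mem_coe, mem_subgroupOf]; exact hy, rfl⟩
    rw [hbot, mem_bot] at h1
    have h2 : ρ ⟨y, hyD.1⟩ = 1 := congrArg Subtype.val h1
    have h3 := congrArg (fun f : Equiv.Perm (orbit M₁ b) => ((f ⟨c, hc⟩ : orbit M₁ b) : Ω)) h2
    simpa [hρ] using h3
  intro y hy
  rw [a1, mem_rc]
  have hyD := mem_inf.mp (hYD hy)
  refine ⟨hyD.1, ?_⟩
  intro m hm
  refine mem_inf.mpr ⟨mul_mem (mul_mem hm hyD.1) (inv_mem hm), ?_⟩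
  rw [hM₂, mem_stabilizer_iff]
  have h1 : m⁻¹ • b ∈ orbit M₁ b := ⟨⟨m⁻¹, inv_mem hm⟩, rfl⟩
  have h2 := hfix y hy _ h1
  rw [mul_smul, mul_smul, h2, smul_inv_smul]

/-- Let a finite group G act faithfully and primitively on a set Ω, let a and b be points such that the orbit Δ of b under the stabilizer H of a has length d ≥ 2, and consider the permutation group induced on Δ by the elements of H fixing b. If that induced group has trivial Fitting subgroup (no non-trivial nilpotent normal subgroup), then the two-point stabilizer of a and b has trivial Fitting subgroup and the order of H divides d! · ((d - 1)!)^d. -/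
theorem result {G Ω : Type*} [Group G] [Finite G] [MulAction G Ω] [FaithfulSMul G Ω] [Finite Ω]
    (hprim : MulAction.IsPreprimitive G Ω) (a b : Ω) (d : ℕ) (hd : Nat.card (MulAction.orbit (MulAction.stabilizer G a) b) = d) (h2 : 2 ≤ d)
    (hF : Cfsg.fittingSubgroup ↥(((MulAction.stabilizer G b).subgroupOf (MulAction.stabilizer G a)).map (MulAction.toPermHom (MulAction.stabilizer G a) (MulAction.orbit (MulAction.stabilizer G a) b))) = ⊥) :
    Cfsg.fittingSubgroup ↥(MulAction.stabilizer G a ⊓ MulAction.stabilizer G b) = ⊥ ∧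
      Nat.card (MulAction.stabilizer G a) ∣ Nat.factorial d * (Nat.factorial (d - 1)) ^ d := by
  obtain ⟨S, _, _, hcard⟩ := perm_setup hprim a b d hd h2
  have hY : ∀ r : ℕ, r.Prime → PC r (stabilizer G a ⊓ stabilizer G b) = ⊥ := by
    intro r hr
    haveI : Fact r.Prime := ⟨hr⟩
    exact Y_trivial S r (key_le a b hF r)
  constructor
  · have h1 : FT (stabilizer G a ⊓ stabilizer G b) ≤ ⊥ := FT_le_of fun r hr => (hY r hr).le
    rw [le_bot_iff, FT, map_eq_bot_iff_of_injective _ (subtype_injective _)] at h1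
    exact h1
  · obtain ⟨h3, h4⟩ := perm_dich hprim a b d hd h2
    by_cases hA : a2 (MulAction.stabilizer G a) (MulAction.stabilizer G b) = ⊥
    · rw [hA, Subgroup.relIndex_bot_left] at h3
      exact h3
    by_cases hB : a2 (MulAction.stabilizer G b) (MulAction.stabilizer G a) = ⊥
    · rw [hB, Subgroup.relIndex_bot_left, hcard] at h4
      exact h4
    exfalso
    obtain ⟨p, hp, hP, _⟩ := main_tw S hA hB
    haveI : Fact p.Prime := ⟨hp⟩
    have h5 : a2 (stabilizer G a) (stabilizer G b) ≤ PC p (stabilizer G a ⊓ stabilizer G b) :=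
      le_PC p ((a2_NI _ _).mono ((a2_le_a1 _ _).trans (a1_le_inf _ _)) inf_le_left)
        (hP.to_le le_sup_left)
    rw [hY p hp, le_bot_iff] at h5
    exact hA h5

end Cfsg.Agent.S3693
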