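import Cfsg.Statements.S3806
import Mathlib
import Cfsg.Agent.Lib.PGroup.MaxClassK
import Cfsg.Agent.Lib.Transfer.MaxClass2
-- import your own Cfsg.Agent.* helpers here

set_option autoImplicit false
open Cfsg

namespace Cfsg.Agent.S3806

/-- Let p be a prime and S a finite p-group of order pⁿ (n ≥ 2) of maximal nilpotency class n − 1 whose sectional p-rank is exactly k (every section has p-rank at most k, and some section has p-rank k). If p ≥ k + 2 then the order of S is at most p^(2k). -/
theorem result {S : Type*} [Group S] [Finite S] (p : ℕ) [Fact p.Prime] (hS : IsPGroup p S) [Group.IsNilpotent S]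
    (n : ℕ) (hn : 2 ≤ n) (hcard : Nat.card S = p ^ n) (hmax : Group.nilpotencyClass S = n - 1)
    (k : ℕ) (hk : 1 ≤ k) (hsr : Cfsg.SectionalPRankLE p k S ∧ ¬ Cfsg.SectionalPRankLE p (k - 1) S)
    (hpk : k + 2 ≤ p) : Nat.card S ≤ p ^ (2 * k) := by
  have hpp : p.Prime := Fact.out
  by_contra hcon
  rw [not_le, hcard] at hcon
  have hn2 : 2 * k < n := (Nat.pow_lt_pow_iff_right hpp.one_lt).1 hcon
  have hPR : ∀ (N : Subgroup S) [N.Normal], Cfsg.PRankLE p k (S ⧸ N) :=
    fun N _ => Cfsg.Agent.Lib.PGroup.MaxClassK.prank_quot hsr.1 N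
  by_cases hk1 : k = 1
  · subst hk1
    have hc : Nat.card (S ⧸ commutator S) = p ^ 2 :=
      (Cfsg.Agent.Lib.Transfer.max_class_data (p := p) n hn S hcard hmax).1
    have hab := IsPGroup.isMulCommutative_of_card_eq_prime_sq hc
    have h1 := hPR (commutator S) ⊤ ⟨⟨fun a b => Subtype.ext (hab.is_comm.comm a.1 b.1)⟩⟩ (by
      intro a _
      induction a using QuotientGroup.induction_on with
      | H s =>
      have h2 := Cfsg.Agent.Lib.PGroup.MaxClassK.pow_mem_commutator (p := p) n (by omega) hcard hmax s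
      rw [← QuotientGroup.mk_pow]
      exact (QuotientGroup.eq_one_iff _).2 h2)
    rw [Subgroup.card_top, hc] at h1
    have := (Nat.pow_le_pow_iff_right hpp.one_lt).1 h1
    omega
  · obtain ⟨i, rfl⟩ : ∃ i, k = i + 1 := ⟨k - 1, by omega⟩
    have hT := hPR ((⊤ : Subgroup S).lowerCentralSeries (2 * (i + 1)))
    obtain ⟨A, hA, hAe, hAc⟩ := Cfsg.Agent.Lib.PGroup.MaxClassK.exists_elem_ab
      (G := S ⧸ (⊤ : Subgroup S).lowerCentralSeries (2 * (i + 1))) (p := p) i (by omega) (by omega)
      (Cfsg.Agent.Lib.PGroup.MaxClassK.quot_card (p := p) n (by omega) hcard hmax (by omega) (by omega))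
      (Cfsg.Agent.Lib.PGroup.MaxClassK.quot_class (p := p) n (by omega) hcard hmax (by omega) (by omega))
    have h1 := hT A hA hAe
    rw [hAc] at h1
    have := (Nat.pow_le_pow_iff_right hpp.one_lt).1 h1
    omega

end Cfsg.Agent.S3806
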