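import Cfsg.Statements.S3807
import Cfsg.Agent.Lib.PGroup.ClassTwo
-- import your own Cfsg.Agent.* helpers here

set_option autoImplicit false
open Cfsg Subgroup Cfsg.Agent.Lib.PGroup
open scoped commutatorElement

namespace Cfsg.Agent.S3807

/-- Let S be a non-abelian finite p-group with an abelian subgroup A of index p. Then [S : Z(S)] = p·#[S,S], and either [S,S] has order p, S/Z(S) is elementary abelian of order p², and S has exactly p + 1 abelian subgroups of index p; or [S,S] has order at least p² and A is the only abelian subgroup of index p in S. -/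
theorem result {S : Type*} [Group S] [Finite S] (p : ℕ) [Fact p.Prime] (hS : IsPGroup p S) (hna : ¬ IsMulCommutative S)
    (A : Subgroup S) (hA : IsMulCommutative ↥A) (hAi : A.index = p) :
    (Subgroup.center S).index = p * Nat.card (commutator S) ∧
      ((Nat.card (commutator S) = p ∧ Cfsg.IsElementaryAbelian p (⊤ : Subgroup (S ⧸ Subgroup.center S)) ∧
          Nat.card (S ⧸ Subgroup.center S) = p ^ 2 ∧
          Nat.card {B : Subgroup S // IsMulCommutative ↥B ∧ B.index = p} = p + 1) ∨
        (p ^ 2 ≤ Nat.card (commutator S) ∧ ∀ B : Subgroup S, IsMulCommutative ↥B → B.index = p → B = A)) := by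
  classical
  have hpp := (Fact.out : p.Prime)
  have hidx := index_center_of_abelian_index_prime hS hna hA hAi
  have hZA := center_le_of_abelian_index_prime hna hA hAi
  refine ⟨hidx, ?_⟩
  have hAco : IsCoatom A := isCoatom_of_index_prime (by rw [hAi]; exact hpp)
  have hAn : A.Normal := normal_of_index_eq_prime hS hAi
  obtain ⟨k, hk⟩ := IsPGroup.iff_card.mp (hS.to_subgroup (commutator S))
  have hk0 : k ≠ 0 := by
    rintro rfl
    rw [pow_zero] at hk
    have h1 : commutator S = ⊥ := Subgroup.eq_bot_of_card_eq _ hk
    apply hna
    refine ⟨⟨fun a b => ?_⟩⟩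
    have h2 : ⁅a, b⁆ ∈ commutator S := by
      rw [commutator_def]
      exact Subgroup.commutator_mem_commutator (mem_top a) (mem_top b)
    rw [h1] at h2
    exact commutatorElement_eq_one_iff_mul_comm.mp h2
  by_cases hk1 : k = 1
  · subst hk1
    rw [pow_one] at hk
    left
    have hcardQ : Nat.card (S ⧸ center S) = p ^ 2 := by
      rw [← Subgroup.index_eq_card, hidx, hk, sq]
    have hQc : IsMulCommutative (S ⧸ center S) :=
      IsPGroup.isMulCommutative_of_card_eq_prime_sq hcardQ
    have hexp : ∀ u : S ⧸ center S, u ^ p = 1 := by
      intro u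
      have hd : orderOf u ∣ p ^ 2 := by
        rw [← hcardQ]; exact orderOf_dvd_natCard u
      obtain ⟨m, hm2, hm⟩ := (Nat.dvd_prime_pow hpp).mp hd
      rcases (by omega : m = 0 ∨ m = 1 ∨ m = 2) with rfl | rfl | rfl
      · rw [pow_zero, orderOf_eq_one_iff] at hm
        rw [hm, one_pow]
      · rw [pow_one] at hm
        rw [← hm, pow_orderOf_eq_one]
      · exfalso
        have hcyc : IsCyclic (S ⧸ center S) :=
          isCyclic_of_orderOf_eq_card u (by rw [hm, hcardQ])
        apply hna
        exact MonoidHom.isMulCommutative_of_isCyclic_of_ker_le_center (QuotientGroup.mk' (center S))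
          (by rw [QuotientGroup.ker_mk'])
    refine ⟨hk, ⟨isMulCommutative_of_comm fun a _ b _ => hQc.is_comm.comm a b, fun a _ => hexp a⟩, hcardQ, ?_⟩
    -- the count
    have hcount := card_subgroups_prime_mul (p := p) hexp
    rw [hcardQ] at hcount
    let π : S →* S ⧸ center S := QuotientGroup.mk' (center S)
    have hπ : Function.Surjective π := QuotientGroup.mk'_surjective _
    have hker : π.ker = center S := QuotientGroup.ker_mk' _
    -- properties of the correspondence
    have hZle : ∀ B : Subgroup S, IsMulCommutative B → B.index = p → center S ≤ B := fun B h1 h2 =>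
      center_le_of_abelian_index_prime hna h1 h2
    have hmapcard : ∀ B : Subgroup S, IsMulCommutative B → B.index = p → Nat.card (B.map π) = p := by
      intro B h1 h2
      have hZB := hZle B h1 h2
      have h3 := Subgroup.relIndex_ker (f := π) (K := B)
      rw [hker] at h3
      have h4 := card_inf_mul_relIndex (center S) B
      rw [inf_eq_left.mpr hZB, h3] at h4
      have h5 := Subgroup.card_mul_index B
      rw [h2, ← h4] at h5
      have h6 := Subgroup.card_mul_index (center S)
      rw [hidx, hk, ← h5] at h6
      have hpos : 0 < Nat.card (center S) := Nat.card_pos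
      have h7 : Nat.card (B.map π) * p = p * p := by
        apply Nat.eq_of_mul_eq_mul_left hpos
        rw [h6]; ring
      exact Nat.eq_of_mul_eq_mul_right hpp.pos h7
    have hcomapc : ∀ D : Subgroup (S ⧸ center S), Nat.card D = p → IsMulCommutative (D.comap π) := by
      intro D hD
      have hcyc : IsCyclic D := isCyclic_of_prime_card hD
      let f : D.comap π →* D := (π.comp (D.comap π).subtype).codRestrict D (fun x => x.2)
      refine MonoidHom.isMulCommutative_of_isCyclic_of_ker_le_center f ?_
      intro x hx
      have h1 : π (x : S) = 1 := congrArg Subtype.val (MonoidHom.mem_ker.mp hx)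
      have h2 : (x : S) ∈ center S := (QuotientGroup.eq_one_iff (x : S)).mp h1
      apply Subgroup.mem_center_iff.mpr
      intro g
      apply Subtype.ext
      exact Subgroup.mem_center_iff.mp h2 g
    have hcomapidx : ∀ D : Subgroup (S ⧸ center S), Nat.card D = p → (D.comap π).index = p := by
      intro D hD
      rw [Subgroup.index_comap_of_surjective D hπ]
      have h1 := Subgroup.card_mul_index D
      rw [hD, hcardQ, sq] at h1
      exact Nat.eq_of_mul_eq_mul_left hpp.pos h1
    let e : {B : Subgroup S // IsMulCommutative ↥B ∧ B.index = p} ≃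
        {D : Subgroup (S ⧸ center S) // Nat.card D = p} :=
      { toFun := fun B => ⟨B.1.map π, hmapcard B.1 B.2.1 B.2.2⟩
        invFun := fun D => ⟨D.1.comap π, hcomapc D.1 D.2, hcomapidx D.1 D.2⟩
        left_inv := fun B => Subtype.ext (by
          show (B.1.map π).comap π = B.1
          rw [Subgroup.comap_map_eq, hker]
          exact sup_eq_left.mpr (hZle B.1 B.2.1 B.2.2))
        right_inv := fun D => Subtype.ext (Subgroup.map_comap_eq_self_of_surjective hπ D.1) }
    rw [Nat.card_congr e]
    have hp1 : 0 < p - 1 := by have := hpp.one_lt; omega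
    apply Nat.eq_of_mul_eq_mul_right hp1
    rw [hcount]
    obtain ⟨q, rfl⟩ : ∃ q, p = q + 1 := ⟨p - 1, by have := hpp.pos; omega⟩
    simp only [Nat.add_sub_cancel]
    have : (q + 1) ^ 2 = (q + 1 + 1) * q + 1 := by ring
    omega
  · right
    have hk2 : 2 ≤ k := by omega
    refine ⟨?_, ?_⟩
    · rw [hk]
      exact Nat.pow_le_pow_right hpp.pos hk2
    · intro B hBc hBi
      by_contra hne
      have hBco : IsCoatom B := isCoatom_of_index_prime (by rw [hBi]; exact hpp)
      have hsup : A ⊔ B = ⊤ := by
        apply hAco.2
        refine lt_of_le_of_ne le_sup_left ?_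
        intro h
        have h1 : B ≤ A := le_sup_right.trans (le_of_eq h.symm)
        exact hne ((hBco.le_iff.mp h1).resolve_left hAco.1).symm
      have hle : A ⊓ B ≤ center S := by
        intro z hz
        obtain ⟨hzA, hzB⟩ := Subgroup.mem_inf.mp hz
        have h1 : (⊤ : Subgroup S) ≤ centralizer ({z} : Set S) := by
          rw [← hsup]
          refine sup_le ?_ ?_
          · intro a ha
            rw [Subgroup.mem_centralizer_singleton_iff]
            exact comm_of_isMulCommutative hA ha hzA
          · intro b hb
            rw [Subgroup.mem_centralizer_singleton_iff]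
            exact comm_of_isMulCommutative hBc hb hzB
        rw [Subgroup.mem_center_iff]
        intro g
        exact Subgroup.mem_centralizer_singleton_iff.mp (h1 (mem_top g))
      have h1 : (A ⊓ B).index ≤ p * p := by
        have := Subgroup.index_inf_le (H := A) (K := B)
        rwa [hAi, hBi] at this
      have h2 : (center S).index ≤ (A ⊓ B).index :=
        Nat.le_of_dvd (Nat.pos_of_ne_zero Subgroup.index_ne_zero_of_finite) (Subgroup.index_dvd_of_le hle)
      rw [hidx, hk] at h2
      have h3 : p ^ 2 ≤ p ^ k := Nat.pow_le_pow_right hpp.pos hk2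
      have h4 : p * p ^ 2 ≤ p * p := by
        calc p * p ^ 2 ≤ p * p ^ k := Nat.mul_le_mul_left p h3
          _ ≤ p * p := h2.trans h1
      have := hpp.two_le
      nlinarith

end Cfsg.Agent.S3807
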