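import Cfsg.Statements.S3808
import Mathlib
import Cfsg.Agent.Lib.PGroup.Basic

set_option autoImplicit false
open Cfsg

namespace Cfsg.Agent.S3808

open Cfsg.Agent.Lib.PGroup in
/-- Let S be a finite p-group with an extraspecial subgroup Q of index p. Then either Z(S) = Z(Q), or S = Q·Z(S) and Z(S) has order p². -/
theorem result {S : Type*} [Group S] [Finite S] (p : ℕ) [Fact p.Prime] (hS : IsPGroup p S) (Q : Subgroup S) (hQ : Cfsg.IsExtraspecial p ↥Q) (hQi : Q.index = p) :
    Subgroup.center S = (Subgroup.center ↥Q).map Q.subtype ∨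
      (Q ⊔ Subgroup.center S = ⊤ ∧ Nat.card (Subgroup.center S) = p ^ 2) := by
  classical
  have hp := (Fact.out : p.Prime)
  have hQn : Q.Normal := normal_of_index_eq_prime hS hQi
  have hQco : IsCoatom Q := isCoatom_of_index_prime (by rw [hQi]; exact hp)
  let ZQ : Subgroup S := (Subgroup.center ↥Q).map Q.subtype
  have hZQn : ZQ.Normal := map_subtype_normal_of_characteristic Q (Subgroup.center ↥Q)
  have hZQcard : Nat.card ZQ = p := by
    rw [← hQ.2]
    exact Nat.card_congr (Subgroup.equivMapOfInjective _ _ Q.subtype_injective).symm.toEquiv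
  have hZQle : ZQ ≤ Subgroup.center S := le_center_of_normal_of_card_eq_prime hS ZQ hZQcard
  -- `Q ⊓ Z(S) ≤ Z(Q)`
  have hinf : Q ⊓ Subgroup.center S = ZQ := by
    apply le_antisymm
    · rintro z ⟨hzQ, hzZ⟩
      refine ⟨⟨z, hzQ⟩, ?_, rfl⟩
      rw [SetLike.mem_coe, Subgroup.mem_center_iff]
      intro g
      exact Subtype.ext ((Subgroup.mem_center_iff.mp hzZ) g)
    · refine le_inf ?_ hZQle
      rintro _ ⟨z, _, rfl⟩
      exact z.2
  by_cases hle : Subgroup.center S ≤ Q
  · left
    apply le_antisymm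
    · show Subgroup.center S ≤ ZQ
      rw [← hinf]; exact le_inf hle le_rfl
    · exact hZQle
  · right
    have hsup : Q ⊔ Subgroup.center S = ⊤ := by
      apply hQco.2
      rw [lt_iff_le_not_ge]
      exact ⟨le_sup_left, fun h => hle (le_sup_right.trans h)⟩
    refine ⟨hsup, ?_⟩
    have h1 : Q.relIndex (Subgroup.center S) = p := by
      rw [← Subgroup.relIndex_sup_left, hsup, Subgroup.relIndex_top_right, hQi]
    have h2 := card_inf_mul_relIndex Q (Subgroup.center S)
    rw [← h2, h1, hinf, hZQcard, pow_two]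

end Cfsg.Agent.S3808
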