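import Cfsg.Statements.S3809
import Cfsg.Agent.Lib.PGroup.ClassTwo
-- import your own Cfsg.Agent.* helpers here

set_option autoImplicit false
open Cfsg Subgroup Cfsg.Agent.Lib.PGroup

namespace Cfsg.Agent.S3809

/-- Let S be a finite p-group with an extraspecial subgroup of index p. Then S has order p^(2+2n) for some n ≥ 1, derived length at most 3, and exponent dividing p³. -/
theorem result {S : Type*} [Group S] [Finite S] (p : ℕ) [Fact p.Prime] (hS : IsPGroup p S) (Q : Subgroup S) (hQ : Cfsg.IsExtraspecial p ↥Q) (hQi : Q.index = p) :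
    (∃ n : ℕ, 1 ≤ n ∧ Nat.card S = p ^ (2 + 2 * n)) ∧ derivedSeries S 3 = ⊥ ∧ ∀ x : S, x ^ (p ^ 3) = 1 := by
  classical
  have hpp := (Fact.out : p.Prime)
  have hQn : Q.Normal := normal_of_index_eq_prime hS hQi
  obtain ⟨n, hn1, hQc, -⟩ := exists_card_eq_of_extraspecial hQ
  obtain ⟨⟨hpg, hfr, hcomm⟩, hcard⟩ := hQ
  refine ⟨⟨n, hn1, ?_⟩, ?_, ?_⟩
  · rw [← Subgroup.card_mul_index Q, hQi, hQc, ← pow_succ]
    congr 1
    omega
  · -- the derived series
    have h1 : derivedSeries S 1 ≤ Q := by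
      rw [derivedSeries_succ, derivedSeries_zero]
      exact commutator_le_of_index_prime hQi
    let Z₀ : Subgroup S := (center Q).map Q.subtype
    have h2 : derivedSeries S 2 ≤ Z₀ := by
      rw [derivedSeries_succ]
      refine (Subgroup.commutator_mono h1 h1).trans ?_
      have h3 : (⊤ : Subgroup Q).map Q.subtype = Q := by
        rw [← MonoidHom.range_eq_map, Subgroup.range_subtype]
      have h4 : Z₀ = ⁅Q, Q⁆ := by
        show (center Q).map Q.subtype = _
        rw [← hcomm, commutator_def, Subgroup.map_commutator, h3]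
      rw [h4]
    rw [eq_bot_iff, derivedSeries_succ]
    refine (Subgroup.commutator_mono h2 h2).trans ?_
    rw [Subgroup.commutator_le]
    rintro _ ⟨a, ha, rfl⟩ _ ⟨b, hb, rfl⟩
    rw [Subgroup.mem_bot, commutatorElement_eq_one_iff_mul_comm]
    exact congrArg Subtype.val (Subgroup.mem_center_iff.mp hb a)
  · intro x
    have h1 : x ^ p ∈ Q := pow_mem_of_index_prime hQi x
    have h2 := pow_pow_eq_one_of_extraspecial (p := p) (Q := Q) ⟨⟨hpg, hfr, hcomm⟩, hcard⟩ ⟨x ^ p, h1⟩
    have h3 : (((x ^ p) ^ p) ^ p : S) = 1 := by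
      simpa using congrArg Subtype.val h2
    have e : p ^ 3 = p * p * p := by ring
    rw [e, pow_mul, pow_mul]
    exact h3

end Cfsg.Agent.S3809
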