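import Cfsg.Statements.S3810
import Cfsg.Agent.Lib.PGroup.ClassTwo
import Cfsg.Agent.Lib.PGroup.Sylow
-- import your own Cfsg.Agent.* helpers here

set_option autoImplicit false
open Cfsg Subgroup Cfsg.Agent.Lib.PGroup

namespace Cfsg.Agent.S3810

/-- Let S be a finite p-group with an extraspecial subgroup of index p. Then S has an abelian subgroup of index p if and only if S has order p⁴. -/
theorem result {S : Type*} [Group S] [Finite S] (p : ℕ) [Fact p.Prime] (hS : IsPGroup p S) (Q : Subgroup S) (hQ : Cfsg.IsExtraspecial p ↥Q) (hQi : Q.index = p) :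
    (∃ A : Subgroup S, IsMulCommutative ↥A ∧ A.index = p) ↔ Nat.card S = p ^ 4 := by
  classical
  have hpp := (Fact.out : p.Prime)
  have hQn : Q.Normal := normal_of_index_eq_prime hS hQi
  have hQco : IsCoatom Q := isCoatom_of_index_prime (by rw [hQi]; exact hpp)
  obtain ⟨n, hn1, hQc, hQz⟩ := exists_card_eq_of_extraspecial hQ
  have hQ' := hQ
  obtain ⟨⟨hpg, hfr, hcomm⟩, hcard⟩ := hQ
  have hScard : Nat.card S = p ^ (1 + 2 * n) * p := by
    rw [← Subgroup.card_mul_index Q, hQi, hQc]
  have hQna : ¬ IsMulCommutative Q := by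
    intro h
    have h1 : commutator Q = ⊥ := by
      rw [commutator_def, Subgroup.commutator_eq_bot_iff_le_centralizer]
      intro x _
      apply Subgroup.mem_centralizer_iff.mpr
      intro y _
      exact h.is_comm.comm y x
    rw [h1] at hcomm
    rw [← hcomm, Subgroup.card_bot] at hcard
    exact hpp.one_lt.ne hcard
  constructor
  · rintro ⟨A, hAc, hAi⟩
    have hAn : A.Normal := normal_of_index_eq_prime hS hAi
    have hAco : IsCoatom A := isCoatom_of_index_prime (by rw [hAi]; exact hpp)
    have hAQ : A ≠ Q := by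
      rintro rfl
      exact hQna hAc
    have hsup : Q ⊔ A = ⊤ := by
      apply hQco.2
      refine lt_of_le_of_ne le_sup_left ?_
      intro h
      have h1 : A ≤ Q := le_sup_right.trans (le_of_eq h.symm)
      exact hAQ ((hAco.le_iff.mp h1).resolve_left hQco.1).symm
    have hrel : (A.subgroupOf Q).index = p := by
      have h1 := Subgroup.relIndex_sup_right (H := Q) (K := A)
      rw [hsup, Subgroup.relIndex_top_right, hAi] at h1
      exact h1.symm
    have hAQc : IsMulCommutative (A.subgroupOf Q) := isMulCommutative_of_comm fun a ha b hb =>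
      Subtype.ext (comm_of_isMulCommutative hAc ha hb)
    have hidx := index_center_of_abelian_index_prime hpg hQna hAQc hrel
    rw [hcomm, hcard, hQz] at hidx
    have hn2 : n = 1 := by
      have h2 : p ^ (2 * n) = p ^ 2 := by rw [hidx, sq]
      have := Nat.pow_right_injective hpp.two_le h2
      omega
    subst hn2
    rw [hScard]
    ring
  · intro hS4
    have hn2 : n = 1 := by
      have h2 : p ^ (1 + 2 * n) * p = p ^ 4 := by rw [← hScard, hS4]
      rw [← pow_succ] at h2
      have := Nat.pow_right_injective hpp.two_le h2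
      omega
    subst hn2
    -- the centre of `Q` in `S`
    let Z₀ : Subgroup S := (center Q).map Q.subtype
    have hZ₀n : Z₀.Normal := map_subtype_normal_of_characteristic Q (center Q)
    have hZ₀c : Nat.card Z₀ = p := by
      rw [Subgroup.card_map_of_injective Q.subtype_injective, hcard]
    have hZ₀le : Z₀ ≤ Q := Subgroup.map_subtype_le _
    have hZ₀Z : Z₀ ≤ center S := le_center_of_normal_of_card_eq_prime hS Z₀ hZ₀c
    -- the image of `Q`
    let π : S →* S ⧸ Z₀ := QuotientGroup.mk' Z₀
    let K : Subgroup (S ⧸ Z₀) := Q.map π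
    have hKn : K.Normal := Subgroup.Normal.map hQn π (QuotientGroup.mk'_surjective Z₀)
    have hQZ₀ : ¬ Q ≤ Z₀ := by
      intro h
      have := Subgroup.card_le_of_le h
      rw [hQc, hZ₀c] at this
      have h1 : p ^ 1 < p ^ (1 + 2 * 1) := Nat.pow_lt_pow_right hpp.one_lt (by omega)
      rw [pow_one] at h1
      omega
    have hK1 : K ≠ ⊥ := by
      intro h
      apply hQZ₀
      intro q hq
      have h1 : π q ∈ K := ⟨q, hq, rfl⟩
      rw [h, Subgroup.mem_bot] at h1
      exact (QuotientGroup.eq_one_iff q).mp h1
    obtain ⟨ybar, hyK, hyZ, hyo⟩ := exists_central_of_order_prime (hS.to_quotient Z₀) hK1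
    obtain ⟨y, hyQ, rfl⟩ := hyK
    have hyZ₀ : y ∉ Z₀ := by
      intro h
      have h1 : π y = 1 := (QuotientGroup.eq_one_iff y).mpr h
      rw [h1, orderOf_one] at hyo
      exact hpp.one_lt.ne hyo
    -- commutators with `y` lie in `Z₀`
    have hconj : ∀ g : S, g * y * g⁻¹ * y⁻¹ ∈ Z₀ := by
      intro g
      have h2 := Subgroup.mem_center_iff.mp hyZ (π g)
      rw [← QuotientGroup.eq_one_iff]
      show π (g * y * g⁻¹ * y⁻¹) = 1
      rw [map_mul, map_mul, map_mul, map_inv, map_inv, h2]
      group
    let A : Subgroup S := centralizer ({y} : Set S)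
    -- the index of `A`
    have hAle : A.index ≤ p := by
      show (centralizer ({y} : Set S)).index ≤ p
      rw [index_centralizer_singleton, ← hZ₀c]
      refine Nat.card_le_card_of_injective
        (fun u : {u : S // IsConj y u} => (⟨u.1 * y⁻¹, ?_⟩ : Z₀)) ?_
      · obtain ⟨g, hg⟩ := isConj_iff.mp u.2
        rw [← hg]
        exact hconj g
      · rintro ⟨a, ha⟩ ⟨b, hb⟩ hab
        have h1 : a * y⁻¹ = b * y⁻¹ := congrArg Subtype.val hab
        exact Subtype.ext (mul_right_cancel h1)
    have hAne : A ≠ ⊤ := by
      intro h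
      apply hyZ₀
      have hycen : (⟨y, hyQ⟩ : Q) ∈ center Q := by
        rw [Subgroup.mem_center_iff]
        intro g
        apply Subtype.ext
        have h1 : (g : S) ∈ A := by rw [h]; trivial
        have h2 : (g : S) * y = y * g := Subgroup.mem_centralizer_singleton_iff.mp h1
        exact h2
      exact ⟨_, hycen, rfl⟩
    have hAi : A.index = p := by
      have hd : A.index ∣ p ^ 4 := by rw [← hS4]; exact Subgroup.index_dvd_card A
      obtain ⟨k, hk4, hk⟩ := (Nat.dvd_prime_pow hpp).mp hd
      rw [hk] at hAle ⊢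
      have hk1 : k ≤ 1 := by
        by_contra hcon
        have : p ^ 1 < p ^ k := Nat.pow_lt_pow_right hpp.one_lt (by omega)
        rw [pow_one] at this
        omega
      rcases (by omega : k = 0 ∨ k = 1) with rfl | rfl
      · exfalso
        rw [pow_zero, Subgroup.index_eq_one] at hk
        exact hAne hk
      · rw [pow_one]
    refine ⟨A, ?_, hAi⟩
    -- `A` is abelian: the centre has index at most `p`
    have hAcard : Nat.card A = p ^ 3 := by
      have h1 := Subgroup.card_mul_index A
      rw [hAi, hS4, show p ^ 4 = p ^ 3 * p by ring] at h1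
      exact Nat.eq_of_mul_eq_mul_right hpp.pos h1
    have hyA : y ∈ A := by
      show y ∈ centralizer ({y} : Set S)
      rw [Subgroup.mem_centralizer_singleton_iff]
    have hZ₀A : Z₀ ≤ A := by
      intro z hz
      show z ∈ centralizer ({y} : Set S)
      rw [Subgroup.mem_centralizer_singleton_iff]
      exact (Subgroup.mem_center_iff.mp (hZ₀Z hz) y).symm
    let W : Subgroup S := (center A).map A.subtype
    have hWc : Nat.card W = Nat.card (center A) := Subgroup.card_map_of_injective A.subtype_injective
    have hZ₀W : Z₀ ≤ W := by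
      intro z hz
      refine ⟨⟨z, hZ₀A hz⟩, ?_, rfl⟩
      apply Subgroup.mem_center_iff.mpr
      intro g
      apply Subtype.ext
      exact Subgroup.mem_center_iff.mp (hZ₀Z hz) _
    have hyW : y ∈ W := by
      refine ⟨⟨y, hyA⟩, ?_, rfl⟩
      apply Subgroup.mem_center_iff.mpr
      intro g
      apply Subtype.ext
      have h2 : (g : S) * y = y * g := Subgroup.mem_centralizer_singleton_iff.mp g.2
      exact h2
    have hZ₀W' : Z₀ < W := lt_of_le_of_ne hZ₀W (fun h => hyZ₀ (h ▸ hyW))
    have hlt := Cfsg.Agent.Lib.PGroup.card_lt_card_of_lt hZ₀W'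
    rw [hZ₀c] at hlt
    have hWd : Nat.card (center A) ∣ p ^ 3 := by
      rw [← hAcard]; exact Subgroup.card_subgroup_dvd_card _
    obtain ⟨m, hm3, hm⟩ := (Nat.dvd_prime_pow hpp).mp hWd
    rw [hWc, hm] at hlt
    have hm2 : 2 ≤ m := by
      by_contra hcon
      have hm1 : m ≤ 1 := by omega
      have : p ^ m ≤ p ^ 1 := Nat.pow_le_pow_right hpp.pos hm1
      rw [pow_one] at this
      omega
    have hidx : Nat.card (↥A ⧸ center A) ∣ p := by
      rw [← Subgroup.index_eq_card]
      have h1 := Subgroup.card_mul_index (center A)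
      rw [hm, hAcard] at h1
      rcases (by omega : m = 2 ∨ m = 3) with rfl | rfl
      · have : (center A).index = p := by
          have h2 : p ^ 2 * (center A).index = p ^ 2 * p := by rw [h1]; ring
          exact Nat.eq_of_mul_eq_mul_left (pow_pos hpp.pos 2) h2
        rw [this]
      · have : (center A).index = 1 := by
          have h2 : p ^ 3 * (center A).index = p ^ 3 * 1 := by rw [h1, mul_one]
          exact Nat.eq_of_mul_eq_mul_left (pow_pos hpp.pos 3) h2
        rw [this]
        exact one_dvd p
    have hcyc : IsCyclic (↥A ⧸ center A) := by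
      rcases (Nat.dvd_prime hpp).mp hidx with h1 | h1
      · have : Subsingleton (↥A ⧸ center A) := (Nat.card_eq_one_iff_unique.mp h1).1
        infer_instance
      · exact isCyclic_of_prime_card h1
    exact MonoidHom.isMulCommutative_of_isCyclic_of_ker_le_center (QuotientGroup.mk' (center A))
      (by rw [QuotientGroup.ker_mk'])

end Cfsg.Agent.S3810
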