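import Cfsg.Statements.S3824
import Cfsg.Agent.Lib.Char.Burnside
import Cfsg.Agent.Lib.PGroup.MaxNormal
import Cfsg.Agent.Lib.PGroup.Sylow
import Cfsg.Agent.Lib.FF.SylowIn
-- import your own Cfsg.Agent.* helpers here

set_option autoImplicit false
open Cfsg Cfsg.Agent.Lib.PGroup

namespace Cfsg.Agent.S3824

universe u

theorem solvable_aux : ∀ (n : ℕ) (G : Type u) [Group G] [Finite G], Nat.card G = n → ∀ A : Subgroup G,
    IsMulCommutative A → (∃ k : ℕ, A.index = 2 ^ k) → Group.IsSolvable G := by
  intro n
  induction n using Nat.strong_induction_on with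
  | _ n IH =>
  intro G _ _ hn A hA hidx
  classical
  have hdvd2 : ∀ {m k : ℕ}, m ∣ 2 ^ k → ∃ j : ℕ, m = 2 ^ j := by
    intro m k h
    obtain ⟨j, _, hj⟩ := (Nat.dvd_prime_pow Nat.prime_two).mp h
    exact ⟨j, hj⟩
  obtain ⟨k, hk⟩ := hidx
  by_cases hN : ∃ N : Subgroup G, N.Normal ∧ N ≠ ⊥ ∧ N ≠ ⊤
  · obtain ⟨N, hNn, hN1, hNt⟩ := hN
    haveI := hNn
    -- the subgroup `N`
    have hltN : Nat.card N < n := by
      rw [← hn]
      have h1 := card_lt_card_of_lt (lt_top_iff_ne_top.mpr hNt)
      rwa [Subgroup.card_top] at h1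
    have hsolN : Group.IsSolvable N := by
      refine IH _ hltN N rfl (A.subgroupOf N) ?_ ?_
      · apply isMulCommutative_of_comm
        intro x hx y hy
        apply Subtype.ext
        exact comm_of_isMulCommutative hA hx hy
      · have h1 : A.relIndex N ∣ A.index := Cfsg.Agent.Lib.FF.relIndex_dvd_index_of_normal' A N
        rw [hk] at h1
        exact hdvd2 h1
    -- the quotient
    have hltQ : Nat.card (G ⧸ N) < n := by
      rw [← hn]
      have h1 := Subgroup.card_eq_card_quotient_mul_card_subgroup N
      have h2 : 1 < Nat.card N := by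
        have hne : Nontrivial N := (Subgroup.nontrivial_iff_ne_bot _).mpr hN1
        exact Finite.one_lt_card
      have h3 : 0 < Nat.card (G ⧸ N) := Nat.card_pos
      rw [h1]
      nlinarith
    have hsolQ : Group.IsSolvable (G ⧸ N) := by
      refine IH _ hltQ (G ⧸ N) rfl (A.map (QuotientGroup.mk' N)) ?_ ?_
      · apply isMulCommutative_of_comm
        rintro _ ⟨a, ha, rfl⟩ _ ⟨b, hb, rfl⟩
        have h2 : a * b = b * a := comm_of_isMulCommutative hA ha hb
        rw [← map_mul, h2, map_mul]
      · have h1 : (A.map (QuotientGroup.mk' N)).index ∣ A.index :=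
          Subgroup.index_map_dvd A (QuotientGroup.mk'_surjective N)
        rw [hk] at h1
        exact hdvd2 h1
    refine solvable_of_ker_le_range N.subtype (QuotientGroup.mk' N) ?_
    rw [QuotientGroup.ker_mk', Subgroup.range_subtype]
  · push Not at hN
    by_cases hnt : Nontrivial G
    · haveI hs : IsSimpleGroup G := ⟨fun N hNn => by
        by_cases h : N = ⊥
        · exact Or.inl h
        · exact Or.inr (hN N hNn h)⟩
      by_cases hA1 : A = ⊥
      · -- `G` is a 2-group
        have hcard : Nat.card G = 2 ^ k := by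
          rw [← Subgroup.index_bot, ← hA1]
          exact hk
        haveI : Fact (Nat.Prime 2) := ⟨Nat.prime_two⟩
        have hp : IsPGroup 2 G := IsPGroup.of_card hcard
        haveI := hp.isNilpotent
        exact IsNilpotent.to_isSolvable
      · obtain ⟨g, hgA, hg1⟩ : ∃ g ∈ A, g ≠ 1 := by
          obtain ⟨g, hg⟩ := Subgroup.ne_bot_iff_exists_ne_one.mp hA1
          exact ⟨g.1, g.2, fun e => hg (Subtype.ext e)⟩
        have hle : A ≤ Subgroup.centralizer ({g} : Set G) := by
          intro a ha
          rw [Subgroup.mem_centralizer_singleton_iff]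
          exact comm_of_isMulCommutative hA ha hgA
        have h1 : (Subgroup.centralizer ({g} : Set G)).index ∣ 2 ^ k := by
          rw [← hk]
          exact Subgroup.index_dvd_of_le hle
        obtain ⟨j, hj⟩ := hdvd2 h1
        have hpr := Cfsg.Agent.Lib.Char.prime_card_of_conjClass_prime_pow 2 j Nat.prime_two g hg1 hj
        haveI := isCyclic_of_prime_card (p := Nat.card G) (hp := ⟨hpr⟩) rfl
        exact isSolvable_of_comm (fun a b => (IsCyclic.isMulCommutative (α := G)).is_comm.comm a b)
    · rw [not_nontrivial_iff_subsingleton] at hnt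
      infer_instance


/-- Every finite group having an abelian subgroup whose index is a power of 2 is solvable. -/
theorem result {G : Type*} [Group G] [Finite G]
    (A : Subgroup G) (hA : IsMulCommutative A) (hidx : ∃ k : ℕ, A.index = 2 ^ k) : Group.IsSolvable G := by
  exact solvable_aux _ G rfl A hA hidx

end Cfsg.Agent.S3824
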