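import Cfsg.Statements.S3862
import Cfsg.Agent.Lib.Transfer.Frobenius
import Cfsg.Agent.Lib.Transfer.Conj
import Cfsg.Agent.Lib.PGroup.Real
import Cfsg.Agent.Lib.PGroup.Basic
import Cfsg.Agent.Lib.PGroup.ClassTwo
-- import your own Cfsg.Agent.* helpers here

set_option autoImplicit false
open Cfsg Cfsg.Agent.Lib.PGroup Cfsg.Agent.Lib.Transfer

namespace Cfsg.Agent.S3862

/-- The main lemma: under the hypothesis, odd-order elements normalizing a 2-subgroup centralize it. -/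
theorem centralizes_of_real {G : Type*} [Group G] [Finite G]
    (h : ∀ x : G, (∃ j : ℕ, orderOf x = 2 ^ j) → IsConj x x⁻¹ → x ∈ Subgroup.center G)
    (g : G) (hodd : Nat.Coprime (orderOf g) 2) (Q : Subgroup G) :
    IsPGroup 2 Q → g ∈ Subgroup.normalizer (Q : Set G) → g ∈ Subgroup.centralizer (Q : Set G) := by
  classical
  haveI : Fact (Nat.Prime 2) := ⟨Nat.prime_two⟩
  induction Q using WellFoundedLT.induction with
  | ind Q IH =>
  intro hQp hgN
  by_contra hnot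
  have hNorm : ∀ R : Subgroup G, (∀ r ∈ R, g * r * g⁻¹ ∈ R) → g ∈ Subgroup.normalizer (R : Set G) :=
    fun R hR => mem_normalizer_of_conj_mem (fun x hx => hR x hx)
  have hgQ : ∀ x ∈ Q, g * x * g⁻¹ ∈ Q := fun x hx =>
    (Subgroup.mem_normalizer_iff.mp hgN x).mp hx
  have hgQ' : ∀ x ∈ Q, g⁻¹ * x * g ∈ Q := fun x hx => by
    have := (Subgroup.mem_normalizer_iff.mp (inv_mem hgN) x).mp hx
    simpa using this
  -- commuting with `g`
  have hCiff : ∀ {R : Subgroup G}, g ∈ Subgroup.centralizer (R : Set G) → ∀ r ∈ R, g * r * g⁻¹ = r := by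
    intro R hR r hr
    have := Subgroup.mem_centralizer_iff.mp hR r hr
    rw [← this]
    group
  -- proper invariant subgroups are centralized
  have hP1 : ∀ R : Subgroup G, R ≤ Q → R ≠ Q → (∀ r ∈ R, g * r * g⁻¹ ∈ R) → ∀ r ∈ R, g * r * g⁻¹ = r := by
    intro R hRQ hne hRg
    exact hCiff (IH R (lt_of_le_of_ne hRQ hne) (hQp.to_le hRQ) (hNorm R hRg))
  -- the commutator condition
  have hL : ∀ R : Subgroup G, (∀ r ∈ R, g * r * g⁻¹ = r) → (∀ x ∈ Q, x⁻¹ * (g * x * g⁻¹) ∈ R) → False := by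
    intro R hR hk
    apply hnot
    rw [Subgroup.mem_centralizer_iff]
    intro x hx
    set k := x⁻¹ * (g * x * g⁻¹) with hkdef
    have hkR : k ∈ R := hk x hx
    have hkQ : k ∈ Q := Q.mul_mem (Q.inv_mem hx) (hgQ x hx)
    have hgk : g * k * g⁻¹ = k := hR k hkR
    have hpow : ∀ n : ℕ, g ^ n * x * (g ^ n)⁻¹ = x * k ^ n := by
      intro n
      induction n with
      | zero => simp
      | succ n ih =>
        have e1 : g * k ^ n * g⁻¹ = k ^ n := by
          rw [← conj_pow, hgk]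
        have e2 : g * x * g⁻¹ = x * k := by rw [hkdef]; group
        calc g ^ (n + 1) * x * (g ^ (n + 1))⁻¹ = g * (g ^ n * x * (g ^ n)⁻¹) * g⁻¹ := by
              rw [pow_succ']; group
          _ = g * (x * k ^ n) * g⁻¹ := by rw [ih]
          _ = (g * x * g⁻¹) * (g * k ^ n * g⁻¹) := by group
          _ = x * k * k ^ n := by rw [e1, e2]
          _ = x * k ^ (n + 1) := by rw [pow_succ']; group
    have h1 := hpow (orderOf g)
    rw [pow_orderOf_eq_one] at h1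
    have h2 : k ^ orderOf g = 1 := by
      have : x = x * k ^ orderOf g := by simpa using h1
      exact (mul_eq_left.mp this.symm)
    have hk1 : k = 1 := by
      apply eq_one_of_mem_pgroup_of_coprime hQp hkQ
      intro h3
      have h4 : 2 ∣ orderOf g := h3.trans (orderOf_dvd_of_pow_eq_one h2)
      have h5 := Nat.Coprime.eq_one_of_dvd hodd.symm h4
      omega
    have h3 : g * x * g⁻¹ = x := by
      have : g * x * g⁻¹ = x * k := by rw [hkdef]; group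
      rw [this, hk1, mul_one]
    calc x * g = (g * x * g⁻¹) * g := by rw [h3]
      _ = g * x := by group
  -- the subgroup generated by squares
  set T : Subgroup G := Subgroup.closure {y | ∃ x ∈ Q, y = x ^ 2} with hT
  have hTQ : T ≤ Q := by
    rw [hT, Subgroup.closure_le]
    rintro _ ⟨x, hx, rfl⟩
    exact pow_mem hx 2
  have hTconj : ∀ a : G, (∀ x ∈ Q, a * x * a⁻¹ ∈ Q) → ∀ t ∈ T, a * t * a⁻¹ ∈ T := by
    intro a ha t ht
    have : T ≤ T.comap (MulAut.conj a).toMonoidHom := by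
      conv_lhs => rw [hT]
      rw [Subgroup.closure_le]
      rintro _ ⟨x, hx, rfl⟩
      show a * x ^ 2 * a⁻¹ ∈ T
      rw [← conj_pow]
      exact Subgroup.subset_closure ⟨_, ha x hx, rfl⟩
    exact this ht
  have hTne : T ≠ Q := by
    intro hTQe
    have hQne : (⊥ : Subgroup ↥Q) ≠ ⊤ := by
      intro hb
      apply hnot
      rw [Subgroup.mem_centralizer_iff]
      intro x hx
      have : (⟨x, hx⟩ : Q) ∈ (⊥ : Subgroup ↥Q) := by rw [hb]; trivial
      have hx1 : x = 1 := congrArg Subtype.val (Subgroup.mem_bot.mp this)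
      rw [hx1, one_mul, mul_one]
    obtain ⟨M, hM, -⟩ := (eq_top_or_exists_le_coatom (⊥ : Subgroup ↥Q)).resolve_left hQne
    have hi := index_eq_prime_of_isCoatom hQp hM
    haveI := normal_of_index_eq_prime hQp hi
    have hle : T ≤ M.map Q.subtype := by
      rw [hT, Subgroup.closure_le]
      rintro _ ⟨x, hx, rfl⟩
      exact ⟨(⟨x, hx⟩ : Q) ^ 2, pow_mem_of_index_prime hi _, rfl⟩
    apply hM.1
    rw [eq_top_iff]
    rintro ⟨x, hx⟩ -
    have hxT : x ∈ T := by rw [hTQe]; exact hx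
    obtain ⟨m, hm, hme⟩ := hle hxT
    have : m = ⟨x, hx⟩ := Subtype.ext hme
    rwa [← this]
  have hTC : ∀ t ∈ T, g * t * g⁻¹ = t := hP1 T hTQ hTne (hTconj g hgQ)
  -- `T` is central in `Q`
  have hTcen : ∀ y ∈ T, ∀ x ∈ Q, x * y = y * x := by
    intro y hy
    set R := Q ⊓ Subgroup.centralizer ({y} : Set G) with hR
    have hRmem : ∀ z, z ∈ R ↔ z ∈ Q ∧ z * y = y * z := by
      intro z
      rw [hR, Subgroup.mem_inf, Subgroup.mem_centralizer_singleton_iff]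
    by_cases hRQ : R = Q
    · intro x hx
      have hxR : x ∈ R := by rw [hRQ]; exact hx
      exact ((hRmem x).mp hxR).2
    · exfalso
      have hRg : ∀ r ∈ R, g * r * g⁻¹ ∈ R := by
        intro r hr
        obtain ⟨hr1, hr2⟩ := (hRmem r).mp hr
        refine (hRmem _).mpr ⟨hgQ r hr1, ?_⟩
        have e := hTC y hy
        calc g * r * g⁻¹ * y = g * r * g⁻¹ * (g * y * g⁻¹) := by rw [e]
          _ = g * (r * y) * g⁻¹ := by group
          _ = g * (y * r) * g⁻¹ := by rw [hr2]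
          _ = (g * y * g⁻¹) * (g * r * g⁻¹) := by group
          _ = y * (g * r * g⁻¹) := by rw [e]
      refine hL R (hP1 R inf_le_left hRQ hRg) ?_
      intro x hx
      refine (hRmem _).mpr ⟨Q.mul_mem (Q.inv_mem hx) (hgQ x hx), ?_⟩
      have hw := hTC _ (hTconj x (fun z hz => Q.mul_mem (Q.mul_mem hx hz) (Q.inv_mem hx)) y hy)
      have e := hTC y hy
      have e2 : (g * x * g⁻¹) * y * (g * x * g⁻¹)⁻¹ = x * y * x⁻¹ := by
        calc (g * x * g⁻¹) * y * (g * x * g⁻¹)⁻¹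
            = (g * x * g⁻¹) * (g * y * g⁻¹) * (g * x * g⁻¹)⁻¹ := by rw [e]
          _ = g * (x * y * x⁻¹) * g⁻¹ := by group
          _ = x * y * x⁻¹ := hw
      have e3 : (g * x * g⁻¹) * y = x * y * x⁻¹ * (g * x * g⁻¹) := by
        rw [← e2]; group
      calc x⁻¹ * (g * x * g⁻¹) * y = x⁻¹ * ((g * x * g⁻¹) * y) := by group
        _ = x⁻¹ * (x * y * x⁻¹ * (g * x * g⁻¹)) := by rw [e3]
        _ = y * (x⁻¹ * (g * x * g⁻¹)) := by group
  -- commutators lie in `T`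
  have hcm : ∀ x ∈ Q, ∀ y ∈ Q, x * y * x⁻¹ * y⁻¹ ∈ T := by
    intro x hx y hy
    have e : x * y * x⁻¹ * y⁻¹ = (x * y) ^ 2 * (y⁻¹ * x⁻¹ * y) ^ 2 * (y⁻¹) ^ 2 := by
      simp only [pow_two]; group
    rw [e]
    refine mul_mem (mul_mem ?_ ?_) ?_
    · exact Subgroup.subset_closure ⟨_, Q.mul_mem hx hy, rfl⟩
    · exact Subgroup.subset_closure ⟨_, Q.mul_mem (Q.mul_mem (Q.inv_mem hy) (Q.inv_mem hx)) hy, rfl⟩
    · exact Subgroup.subset_closure ⟨_, Q.inv_mem hy, rfl⟩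
  -- multiplicativity of commutators
  have hcmul : ∀ a ∈ Q, ∀ b ∈ Q, ∀ y ∈ Q,
      (a * b) * y * (a * b)⁻¹ * y⁻¹ = (a * y * a⁻¹ * y⁻¹) * (b * y * b⁻¹ * y⁻¹) := by
    intro a ha b hb y hy
    have hc := hTcen _ (hcm b hb y hy)
    have h1 : a * (b * y * b⁻¹ * y⁻¹) = (b * y * b⁻¹ * y⁻¹) * a := hc a ha
    have h2 : (a * y * a⁻¹ * y⁻¹) * (b * y * b⁻¹ * y⁻¹) = (b * y * b⁻¹ * y⁻¹) * (a * y * a⁻¹ * y⁻¹) :=
      hc _ (hTQ (hcm a ha y hy))
    calc (a * b) * y * (a * b)⁻¹ * y⁻¹ = (a * (b * y * b⁻¹ * y⁻¹)) * y * a⁻¹ * y⁻¹ := by group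
      _ = ((b * y * b⁻¹ * y⁻¹) * a) * y * a⁻¹ * y⁻¹ := by rw [h1]
      _ = (b * y * b⁻¹ * y⁻¹) * (a * y * a⁻¹ * y⁻¹) := by group
      _ = _ := h2.symm
  -- the element `u`
  obtain ⟨u, huQ, hu⟩ : ∃ u ∈ Q, g * u * g⁻¹ ≠ u := by
    by_contra hcon
    push Not at hcon
    apply hnot
    rw [Subgroup.mem_centralizer_iff]
    intro x hx
    have := hcon x hx
    calc x * g = (g * x * g⁻¹) * g := by rw [this]
      _ = g * x := by group
  let I : Subgroup G :=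
    { carrier := {z | ∃ c ∈ Q, z = c * u * c⁻¹ * u⁻¹}
      mul_mem' := by
        rintro _ _ ⟨c1, hc1, rfl⟩ ⟨c2, hc2, rfl⟩
        exact ⟨c1 * c2, Q.mul_mem hc1 hc2, (hcmul c1 hc1 c2 hc2 u huQ).symm⟩
      one_mem' := ⟨1, Q.one_mem, by group⟩
      inv_mem' := by
        rintro _ ⟨c, hc, rfl⟩
        refine ⟨c⁻¹, Q.inv_mem hc, ?_⟩
        have := hcmul c hc c⁻¹ (Q.inv_mem hc) u huQ
        have h1 : c * c⁻¹ * u * (c * c⁻¹)⁻¹ * u⁻¹ = 1 := by group
        rw [h1] at this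
        exact (eq_inv_of_mul_eq_one_right this.symm).symm ▸ (by group) }
  have hIT : ∀ z ∈ I, z ∈ T := by
    rintro _ ⟨c, hc, rfl⟩
    exact hcm c hc u huQ
  have hIg : ∀ z ∈ I, g * z * g⁻¹ = z := fun z hz => hTC z (hIT z hz)
  -- all commutators lie in `I`
  let R2 : Subgroup G :=
    { carrier := {x | x ∈ Q ∧ ∀ y ∈ Q, x * y * x⁻¹ * y⁻¹ ∈ I}
      mul_mem' := by
        rintro a b ⟨ha, ha2⟩ ⟨hb, hb2⟩
        refine ⟨Q.mul_mem ha hb, fun y hy => ?_⟩
        rw [hcmul a ha b hb y hy]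
        exact I.mul_mem (ha2 y hy) (hb2 y hy)
      one_mem' := ⟨Q.one_mem, fun y _ => by
        have : (1 : G) * y * 1⁻¹ * y⁻¹ = 1 := by group
        rw [this]
        exact I.one_mem⟩
      inv_mem' := by
        rintro a ⟨ha, ha2⟩
        refine ⟨Q.inv_mem ha, fun y hy => ?_⟩
        have := hcmul a ha a⁻¹ (Q.inv_mem ha) y hy
        have h1 : a * a⁻¹ * y * (a * a⁻¹)⁻¹ * y⁻¹ = 1 := by group
        rw [h1] at this
        have h2 : a⁻¹ * y * a⁻¹⁻¹ * y⁻¹ = (a * y * a⁻¹ * y⁻¹)⁻¹ := eq_inv_of_mul_eq_one_right this.symm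
        rw [h2]
        exact I.inv_mem (ha2 y hy) }
  have huR2 : u ∈ R2 := by
    refine ⟨huQ, fun y hy => ?_⟩
    have : u * y * u⁻¹ * y⁻¹ = (y * u * y⁻¹ * u⁻¹)⁻¹ := by group
    rw [this]
    exact I.inv_mem ⟨y, hy, rfl⟩
  have hR2Q : R2 = Q := by
    by_contra hne
    have hR2g : ∀ r ∈ R2, g * r * g⁻¹ ∈ R2 := by
      rintro r ⟨hr, hr2⟩
      refine ⟨hgQ r hr, fun y hy => ?_⟩
      have hz := hr2 _ (hgQ' y hy)
      have e : (g * r * g⁻¹) * y * (g * r * g⁻¹)⁻¹ * y⁻¹ =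
          g * (r * (g⁻¹ * y * g) * r⁻¹ * (g⁻¹ * y * g)⁻¹) * g⁻¹ := by group
      rw [e, hIg _ hz]
      exact hz
    exact hu (hP1 R2 (fun x hx => hx.1) hne hR2g u huR2)
  have hallI : ∀ x ∈ Q, ∀ y ∈ Q, x * y * x⁻¹ * y⁻¹ ∈ I := by
    intro x hx y hy
    have hxR : x ∈ R2 := by rw [hR2Q]; exact hx
    exact hxR.2 y hy
  -- squares
  have hsqmul : ∀ a ∈ Q, ∀ b ∈ Q, (a * b) ^ 2 = a ^ 2 * b ^ 2 * (b * a * b⁻¹ * a⁻¹) := by
    intro a ha b hb
    have hc := hcm b hb a ha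
    have h1 : a * (b * a * b⁻¹ * a⁻¹) = (b * a * b⁻¹ * a⁻¹) * a := hTcen _ hc a ha
    have h2 : (a ^ 2 * b ^ 2) * (b * a * b⁻¹ * a⁻¹) = (b * a * b⁻¹ * a⁻¹) * (a ^ 2 * b ^ 2) :=
      hTcen _ hc _ (Q.mul_mem (pow_mem ha 2) (pow_mem hb 2))
    rw [h2]
    have h3 : b * a = (b * a * b⁻¹ * a⁻¹) * (a * b) := by group
    calc (a * b) ^ 2 = a * (b * a) * b := by simp only [pow_two]; group
      _ = a * ((b * a * b⁻¹ * a⁻¹) * (a * b)) * b := by rw [← h3]
      _ = (a * (b * a * b⁻¹ * a⁻¹)) * a * b * b := by group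
      _ = ((b * a * b⁻¹ * a⁻¹) * a) * a * b * b := by rw [h1]
      _ = _ := by simp only [pow_two]; group
  let S : Subgroup G :=
    { carrier := {x | x ∈ Q ∧ x ^ 2 ∈ I}
      mul_mem' := by
        rintro a b ⟨ha, ha2⟩ ⟨hb, hb2⟩
        refine ⟨Q.mul_mem ha hb, ?_⟩
        rw [hsqmul a ha b hb]
        exact I.mul_mem (I.mul_mem ha2 hb2) (hallI b hb a ha)
      one_mem' := ⟨Q.one_mem, by rw [one_pow]; exact I.one_mem⟩
      inv_mem' := by
        rintro a ⟨ha, ha2⟩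
        refine ⟨Q.inv_mem ha, ?_⟩
        rw [inv_pow]
        exact I.inv_mem ha2 }
  have hSQ : S = Q := by
    by_contra hne
    have hSg : ∀ r ∈ S, g * r * g⁻¹ ∈ S := by
      rintro r ⟨hr, hr2⟩
      refine ⟨hgQ r hr, ?_⟩
      rw [conj_pow, hIg _ hr2]
      exact hr2
    refine hL S (hP1 S (fun x hx => hx.1) hne hSg) ?_
    intro x hx
    have hx' := hgQ x hx
    refine ⟨Q.mul_mem (Q.inv_mem hx) hx', ?_⟩
    rw [hsqmul _ (Q.inv_mem hx) _ hx']
    have e : (g * x * g⁻¹) ^ 2 = x ^ 2 := by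
      rw [conj_pow]
      exact hTC _ (Subgroup.subset_closure ⟨x, hx, rfl⟩)
    rw [e, inv_pow, inv_mul_cancel, one_mul]
    exact hallI _ hx' _ (Q.inv_mem hx)
  have huS : u ∈ S := by rw [hSQ]; exact huQ
  obtain ⟨c, hc, hcu⟩ := I.inv_mem huS.2
  have hreal : IsConj u u⁻¹ := by
    refine isConj_iff.mpr ⟨c, ?_⟩
    have : c * u * c⁻¹ = (u ^ 2)⁻¹ * u := by rw [hcu]; group
    rw [this, pow_two]
    group
  have hord : ∃ j : ℕ, orderOf u = 2 ^ j := by
    obtain ⟨k, hk⟩ := hQp ⟨u, huQ⟩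
    have hk' : u ^ 2 ^ k = 1 := by
      have := congrArg Subtype.val hk
      simpa using this
    obtain ⟨j, _, hj⟩ := (Nat.dvd_prime_pow Nat.prime_two).mp (orderOf_dvd_of_pow_eq_one hk')
    exact ⟨j, hj⟩
  have hcen := h u hord hreal
  apply hu
  have := (Subgroup.mem_center_iff.mp hcen) g
  rw [this]
  group


/-- If every 2-element of the finite group G that is conjugate to its inverse lies in the centre of G, then G has a normal 2-complement. -/
theorem result {G : Type*} [Group G] [Finite G] (h : ∀ x : G, (∃ j : ℕ, orderOf x = 2 ^ j) → IsConj x x⁻¹ → x ∈ Subgroup.center G) : Cfsg.HasNormalPComplement 2 G := by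
  haveI : Fact (Nat.Prime 2) := ⟨Nat.prime_two⟩
  let P : Sylow 2 G := Classical.choice Sylow.nonempty
  obtain ⟨N, h1, h2⟩ := frobenius P
    (fun Q hQ g hg hodd => centralizes_of_real h g hodd Q (P.2.to_le hQ) hg)
  exact ⟨P, N, h1, h2⟩

end Cfsg.Agent.S3862
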