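import Cfsg.Statements.S3868
import Cfsg.Agent.Lib.PGroup.MinNonClosed
import Cfsg.Agent.Lib.PGroup.Sylow
import Cfsg.Agent.Lib.Core.Basic

set_option autoImplicit false
open Cfsg

namespace Cfsg.Agent.S3868

open Subgroup Cfsg.Agent.Lib.PGroup

variable {G : Type*} [Group G] [Finite G] {p : ℕ} [hp : Fact p.Prime]

/-- A Sylow subgroup inside a `p`-closed normal subgroup is normal. -/
theorem normal_of_closed_normal {X : Subgroup G} [hX : X.Normal] (P : Sylow p G)
    (hPX : (P : Subgroup G) ≤ X) (hcl : IsPClosed p X) : (P : Subgroup G).Normal := by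
  let S : Sylow p X := default
  haveI hSn : (S : Subgroup X).Normal := hcl S
  have hle : ∀ Q : Subgroup G, IsPGroup p Q → Q ≤ X → Q ≤ (S : Subgroup X).map X.subtype := by
    intro Q hQ hQX q hq
    have h1 : IsPGroup p (Q.comap X.subtype) := hQ.comap_of_injective X.subtype X.subtype_injective
    have h2 := le_sylow_of_sylow_normal S h1
    exact ⟨⟨q, hQX hq⟩, h2 hq, rfl⟩
  have hS' : (S : Subgroup X).map X.subtype = P :=
    P.is_maximal' (S.isPGroup'.map X.subtype) (hle _ P.isPGroup' hPX)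
  refine ⟨fun n hn g => ?_⟩
  have h1 : IsPGroup p ((P : Subgroup G).map (MulAut.conj g).toMonoidHom) := P.isPGroup'.map _
  have h2 : (P : Subgroup G).map (MulAut.conj g).toMonoidHom ≤ X := by
    rintro _ ⟨m, hm, rfl⟩
    exact hX.conj_mem m (hPX hm) g
  have h3 := hle _ h1 h2
  rw [hS'] at h3
  exact h3 ⟨n, hn, rfl⟩

/-- Let `P` be a non-normal Sylow subgroup, and all proper subgroups and quotients `p`-closed. -/
theorem sup_eq_top (P : Sylow p G) (hP : ¬ (P : Subgroup G).Normal)
    (hsub : ∀ H : Subgroup G, H ≠ ⊤ → Cfsg.IsPClosed p ↥H)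
    (hquo : ∀ (N : Subgroup G) [N.Normal], N ≠ ⊥ → Cfsg.IsPClosed p (G ⧸ N))
    (N : Subgroup G) [hN : N.Normal] (hN1 : N ≠ ⊥) : (P : Subgroup G) ⊔ N = ⊤ := by
  by_contra hne
  apply hP
  have hS := hquo N hN1 (P.mapSurjective (QuotientGroup.mk'_surjective N))
  have hSeq : ((P.mapSurjective (QuotientGroup.mk'_surjective N) : Sylow p (G ⧸ N)) : Subgroup (G ⧸ N)) =
      (P : Subgroup G).map (QuotientGroup.mk' N) := rfl
  rw [hSeq] at hS
  have hX : ((P : Subgroup G) ⊔ N).Normal := by
    have h1 := Subgroup.Normal.comap hS (QuotientGroup.mk' N)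
    rw [Subgroup.comap_map_eq, QuotientGroup.ker_mk'] at h1
    exact h1
  exact normal_of_closed_normal P le_sup_left (hsub _ hne)

theorem coprime_of_normal (P : Sylow p G) (hP : ¬ (P : Subgroup G).Normal)
    (hsub : ∀ H : Subgroup G, H ≠ ⊤ → Cfsg.IsPClosed p ↥H)
    (hquo : ∀ (N : Subgroup G) [N.Normal], N ≠ ⊥ → Cfsg.IsPClosed p (G ⧸ N))
    (N : Subgroup G) [hN : N.Normal] (hN2 : N ≠ ⊤) : (Nat.card N).Coprime p := by
  let S : Sylow p N := default
  haveI hSn : (S : Subgroup N).Normal := hsub N hN2 S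
  haveI hSc : (S : Subgroup N).Characteristic := Sylow.characteristic_of_normal S hSn
  have hT : ((S : Subgroup N).map N.subtype).Normal := map_subtype_normal_of_characteristic N _
  have hTp : IsPGroup p ((S : Subgroup N).map N.subtype) := S.isPGroup'.map N.subtype
  have hTle : (S : Subgroup N).map N.subtype ≤ P :=
    (Cfsg.Agent.Lib.Core.le_pCore hT hTp).trans (Cfsg.Agent.Lib.Core.pCore_le_sylow P)
  by_cases hT1 : (S : Subgroup N).map N.subtype = ⊥
  · refine ((Nat.Prime.coprime_iff_not_dvd hp.out).2 fun hd => ?_).symm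
    have hne := S.ne_bot_of_dvd_card hd
    exact hne ((Subgroup.map_eq_bot_iff_of_injective _ N.subtype_injective).1 hT1)
  · exfalso
    have h1 := sup_eq_top P hP hsub hquo _ hT1
    rw [sup_eq_left.2 hTle] at h1
    apply hP
    rw [h1]
    infer_instance

theorem inf_eq_bot_of_coprime {Q N : Subgroup G} (hQ : IsPGroup p Q) (hN : (Nat.card N).Coprime p) :
    Q ⊓ N = ⊥ := by
  rw [eq_bot_iff]
  rintro z ⟨hz1, hz2⟩
  obtain ⟨k, hk⟩ := IsPGroup.iff_orderOf.1 hQ (⟨z, hz1⟩ : Q)
  rw [Subgroup.orderOf_mk] at hk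
  have h1 : orderOf z ∣ Nat.card N := by
    have := orderOf_dvd_natCard (⟨z, hz2⟩ : N)
    rwa [Subgroup.orderOf_mk] at this
  have h2 : orderOf z ∣ p ^ k := by rw [hk]
  exact orderOf_eq_one_iff.1 (Nat.Coprime.eq_one_of_dvd
    ((Nat.Coprime.pow_right k hN).coprime_dvd_left h1) h2)

theorem card_sylow_eq_prime (P : Sylow p G) (hP : ¬ (P : Subgroup G).Normal)
    (hsub : ∀ H : Subgroup G, H ≠ ⊤ → Cfsg.IsPClosed p ↥H)
    (hquo : ∀ (N : Subgroup G) [N.Normal], N ≠ ⊥ → Cfsg.IsPClosed p (G ⧸ N))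
    (R : Subgroup G) [hR : R.Normal] (hR1 : R ≠ ⊥) (hR2 : R ≠ ⊤) :
    Nat.card (P : Subgroup G) = p := by
  classical
  have hcopR := coprime_of_normal P hP hsub hquo R hR2
  have hsupR := sup_eq_top P hP hsub hquo R hR1
  have hPt : Nontrivial (P : Subgroup G) := by
    rw [Subgroup.nontrivial_iff_ne_bot]
    rintro h
    apply hP
    rw [h]
    infer_instance
  rcases eq_top_or_exists_le_coatom (⊥ : Subgroup (P : Subgroup G)) with h | ⟨M, hM, -⟩
  · exact absurd h bot_ne_top
  have hMidx := index_eq_prime_of_isCoatom P.isPGroup' hM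
  haveI hMn : M.Normal := normal_of_index_eq_prime P.isPGroup' hMidx
  obtain ⟨M', hM'⟩ : ∃ M' : Subgroup G, M' = M.map (P : Subgroup G).subtype := ⟨_, rfl⟩
  have hM'P : M' ≤ P := by
    rw [hM']
    exact Subgroup.map_subtype_le _
  have hM'card : Nat.card M' = Nat.card M := by
    rw [hM']
    exact Subgroup.card_map_of_injective (Subgroup.subtype_injective _)
  have hinf1 := inf_eq_bot_of_coprime P.isPGroup' hcopR
  have hinf2 : M' ⊓ R = ⊥ := by
    rw [eq_bot_iff]
    exact (inf_le_inf_right R hM'P).trans hinf1.le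
  have hcardG : Nat.card G = Nat.card (P : Subgroup G) * Nat.card R := by
    have h1 := Cfsg.Agent.Lib.PSolv.card_sup_mul_card_inf (P : Subgroup G) R
    rwa [hsupR, hinf1, Subgroup.card_top, Subgroup.card_bot, mul_one] at h1
  have hXn : (M' ⊔ R).Normal := by
    rw [← Subgroup.normalizer_eq_top_iff, eq_top_iff, ← hsupR]
    refine sup_le ?_ (le_sup_right.trans Subgroup.le_normalizer)
    intro y hy
    refine Cfsg.Agent.Lib.Transfer.mem_normalizer_of_conj_mem ?_
    have hle : M' ⊔ R ≤ (M' ⊔ R).comap (MulAut.conj y).toMonoidHom := by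
      refine sup_le ?_ ?_
      · rw [hM']
        rintro _ ⟨m, hm, rfl⟩
        refine Subgroup.mem_sup_left ?_
        have := hMn.conj_mem m hm ⟨y, hy⟩
        exact ⟨_, this, rfl⟩
      · intro r hr
        exact Subgroup.mem_sup_right (hR.conj_mem r hr y)
    exact fun z hz => hle hz
  have hXne : M' ⊔ R ≠ ⊤ := by
    intro h
    have h1 := Cfsg.Agent.Lib.PSolv.card_sup_mul_card_inf M' R
    rw [h, hinf2, Subgroup.card_top, Subgroup.card_bot, mul_one, hcardG, hM'card] at h1
    have hRpos : 0 < Nat.card R := Nat.card_pos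
    have h2 := Nat.eq_of_mul_eq_mul_right hRpos h1
    exact hM.1 (Subgroup.eq_top_of_card_eq _ h2.symm)
  have hcopX := coprime_of_normal P hP hsub hquo (M' ⊔ R) hXne
  have hM'c : (Nat.card M').Coprime p :=
    Nat.Coprime.coprime_dvd_left (Subgroup.card_dvd_of_le le_sup_left) hcopX
  have hM1 : Nat.card M = 1 := by
    rw [← hM'card]
    have hMp : IsPGroup p M' := P.isPGroup'.to_le hM'P
    obtain ⟨n, hn⟩ := IsPGroup.iff_card.1 hMp
    rw [hn] at hM'c ⊢
    by_contra hne
    have hn0 : n ≠ 0 := by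
      rintro rfl
      exact hne (pow_zero p)
    exact (Nat.Prime.coprime_iff_not_dvd hp.out).1 hM'c.symm (dvd_pow_self p hn0)
  have hMbot : M = ⊥ := Subgroup.eq_bot_of_card_eq _ hM1
  rw [hMbot, Subgroup.index_bot] at hMidx
  exact hMidx

/-- Structure of the non-simple minimal non-p-closed groups. Call a finite group p-closed when its Sylow p-subgroups are normal, and minimal non-p-closed when it is not p-closed but every proper subgroup and every proper quotient is. If such a group G is not simple, then there is a prime q ≠ p such that G has order p · q^e, where e is the multiplicative order of q modulo p, and G has a normal subgroup A of order q^e that is elementary abelian and is a minimal normal subgroup of G (so G is the semidirect product of A by a group of order p acting irreducibly). -/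
theorem result {G : Type*} [Group G] [Finite G] {p : ℕ} [Fact p.Prime]
    (hnc : ¬ Cfsg.IsPClosed p G) (hsub : ∀ H : Subgroup G, H ≠ ⊤ → Cfsg.IsPClosed p ↥H)
    (hquo : ∀ (N : Subgroup G) [N.Normal], N ≠ ⊥ → Cfsg.IsPClosed p (G ⧸ N)) (hns : ¬ IsSimpleGroup G) :
    ∃ q : ℕ, q.Prime ∧ q ≠ p ∧ Nat.card G = p * q ^ orderOf (q : ZMod p) ∧
      ∃ A : Subgroup G, A.Normal ∧ Nat.card ↥A = q ^ orderOf (q : ZMod p) ∧ Cfsg.IsElementaryAbelian q A ∧
        ∀ B : Subgroup G, B.Normal → B ≤ A → B = ⊥ ∨ B = A := by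
  classical
  have hpp : p.Prime := Fact.out
  obtain ⟨P, hP⟩ : ∃ P : Sylow p G, ¬ (P : Subgroup G).Normal := by
    unfold IsPClosed at hnc
    push_neg at hnc
    exact hnc
  have hGnt : Nontrivial G := by
    by_contra h
    rw [not_nontrivial_iff_subsingleton] at h
    refine hnc (pclosed_of_coprime ?_)
    rw [Nat.card_of_subsingleton (1 : G)]
    exact Nat.coprime_one_left p
  obtain ⟨R, hRn, hR1, hR2⟩ : ∃ R : Subgroup G, R.Normal ∧ R ≠ ⊥ ∧ R ≠ ⊤ := by
    by_contra hcon
    push_neg at hcon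
    apply hns
    exact { eq_bot_or_eq_top_of_normal := fun H hH => by
              by_cases h : H = ⊥
              · exact Or.inl h
              · exact Or.inr (hcon H hH h) }
  haveI := hRn
  have hPcard := card_sylow_eq_prime P hP hsub hquo R hR1 hR2
  have hcopR := coprime_of_normal P hP hsub hquo R hR2
  have hGcard : ∀ (B : Subgroup G) [B.Normal], B ≠ ⊥ → B ≠ ⊤ → Nat.card G = p * Nat.card B := by
    intro B _ hB1 hB2
    have h1 := Cfsg.Agent.Lib.PSolv.card_sup_mul_card_inf (P : Subgroup G) B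
    rwa [sup_eq_top P hP hsub hquo B hB1, inf_eq_bot_of_coprime P.isPGroup'
      (coprime_of_normal P hP hsub hquo B hB2), Subgroup.card_top, Subgroup.card_bot, mul_one,
      hPcard] at h1
  have hmin : ∀ B : Subgroup G, B.Normal → B ≤ R → B = ⊥ ∨ B = R := by
    intro B hB hBR
    by_cases hB1 : B = ⊥
    · exact Or.inl hB1
    · right
      have hB2 : B ≠ ⊤ := fun h => hR2 (top_le_iff.1 (h ▸ hBR))
      have h1 := hGcard B hB1 hB2
      have h2 := hGcard R hR1 hR2
      have h3 : Nat.card B = Nat.card R := Nat.eq_of_mul_eq_mul_left hpp.pos (h1.symm.trans h2)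
      exact Subgroup.eq_of_le_of_card_ge hBR h3.ge
  obtain ⟨y, hy⟩ := exists_prime_orderOf_dvd_card' (G := (P : Subgroup G)) p (by rw [hPcard])
  obtain ⟨x, hxP⟩ : ∃ x : G, x = y := ⟨_, rfl⟩
  have hxmem : x ∈ (P : Subgroup G) := hxP ▸ y.2
  have hx : orderOf x = p := by rw [hxP, Subgroup.orderOf_coe, hy]
  have hzP : zpowers x = P := by
    refine Subgroup.eq_of_le_of_card_ge (zpowers_le.2 hxmem) ?_
    rw [hPcard, Nat.card_zpowers, hx]
  refine structure_of_min hcopR hR1 hx (hGcard R hR1 hR2) hmin ?_ ?_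
  · intro hc
    apply hP
    rw [← Subgroup.normalizer_eq_top_iff, eq_top_iff,
      ← sup_eq_top P hP hsub hquo R hR1]
    refine sup_le Subgroup.le_normalizer ?_
    intro r hr
    refine Cfsg.Agent.Lib.Transfer.mem_normalizer_of_conj_mem ?_
    rw [← hzP]
    rintro z ⟨k, rfl⟩
    have h1 : Commute r x := (hc r hr).symm
    have h2 : Commute r (x ^ k) := h1.zpow_right k
    simp only
    rw [h2.eq, mul_inv_cancel_right]
    exact ⟨k, rfl⟩
  · intro T hT hxT t ht
    haveI hS := hsub T hT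
    let S : Sylow p T := default
    haveI hSn : (S : Subgroup T).Normal := hS S
    have h1 : IsPGroup p (zpowers (⟨x, hxT⟩ : T)) := IsPGroup.of_card (n := 1) (by
      rw [Nat.card_zpowers, Subgroup.orderOf_mk, hx, pow_one])
    have h2 := le_sylow_of_sylow_normal S h1
    have h3 : (⟨x, hxT⟩ : T) ∈ (S : Subgroup T) := h2 (mem_zpowers _)
    have h4 : IsPGroup p ((S : Subgroup T).map T.subtype) := S.isPGroup'.map T.subtype
    obtain ⟨Y, hY⟩ := h4.exists_le_sylow
    have hYcard : Nat.card (Y : Subgroup G) = p :=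
      (Nat.card_congr (Sylow.equiv Y P).toEquiv).trans hPcard
    have hzS : zpowers x ≤ (S : Subgroup T).map T.subtype :=
      zpowers_le.2 ⟨_, h3, rfl⟩
    have heq : zpowers x = (S : Subgroup T).map T.subtype := by
      refine Subgroup.eq_of_le_of_card_ge hzS ?_
      rw [Nat.card_zpowers, hx]
      have := Nat.le_of_dvd Nat.card_pos (Subgroup.card_dvd_of_le hY)
      rwa [hYcard] at this
    rw [heq]
    exact ⟨_, hSn.conj_mem _ h3 ⟨t, ht⟩, rfl⟩

end Cfsg.Agent.S3868
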