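import Cfsg.Statements.S3869
import Cfsg.Agent.Lib.PGroup.MinNonClosed
-- import your own Cfsg.Agent.* helpers here

set_option autoImplicit false
open Cfsg

namespace Cfsg.Agent.S3869

open Subgroup Cfsg.Agent.Lib.PGroup

/-- Let p and q be distinct primes and G a finite non-abelian group with a normal elementary abelian q-subgroup A that is a minimal normal subgroup of G and has index p. Then A has order q^e with e the multiplicative order of q modulo p, and G is minimal non-p-closed: its Sylow p-subgroups are not normal, while in every proper subgroup and in every proper quotient of G the Sylow p-subgroups are normal. -/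
theorem result {G : Type*} [Group G] [Finite G] {p q : ℕ} [Fact p.Prime] (hq : q.Prime) (hpq : q ≠ p)
    (hna : ¬ IsMulCommutative G) (A : Subgroup G) [A.Normal] (hA : Cfsg.IsElementaryAbelian q A) (hidx : A.index = p)
    (hmin : ∀ B : Subgroup G, B.Normal → B ≤ A → B = ⊥ ∨ B = A) :
    Nat.card ↥A = q ^ orderOf (q : ZMod p) ∧ ¬ Cfsg.IsPClosed p G ∧ (∀ H : Subgroup G, H ≠ ⊤ → Cfsg.IsPClosed p ↥H) ∧
      ∀ (N : Subgroup G) [N.Normal], N ≠ ⊥ → Cfsg.IsPClosed p (G ⧸ N) := by
  haveI : Fact q.Prime := ⟨hq⟩
  have hpp : p.Prime := Fact.out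
  have hcomm : ∀ a ∈ A, ∀ b ∈ A, a * b = b * a := by
    intro a ha b hb
    have := hA.1.is_comm.comm ⟨a, ha⟩ ⟨b, hb⟩
    exact congrArg Subtype.val this
  have hApg : IsPGroup q A := fun a => ⟨1, by
    rw [pow_one]
    exact Subtype.ext (hA.2 a a.2)⟩
  obtain ⟨k, hk⟩ := IsPGroup.iff_card.1 hApg
  have hqp : Nat.Coprime q p := (Nat.coprime_primes hq hpp).2 hpq
  have hAc : (Nat.card A).Coprime p := by
    rw [hk]
    exact Nat.Coprime.pow_left _ hqp
  have hco : IsCoatom A := isCoatom_of_index_prime (hidx ▸ hpp)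
  have hGcard : Nat.card G = Nat.card A * p := by
    rw [← hidx, Subgroup.card_mul_index]
  have hsupof : ∀ H : Subgroup G, ¬ H ≤ A → A ⊔ H = ⊤ := by
    intro H hH
    refine hco.2 _ (lt_of_le_of_ne le_sup_left ?_)
    intro h
    exact hH (h ▸ le_sup_right)
  have hna' : ∀ y, y ∉ A → ¬ ∀ a ∈ A, y * a = a * y := by
    intro y hy hc
    have hsup : A ⊔ zpowers y = ⊤ := hsupof _ (fun h => hy (zpowers_le.1 h))
    exact hna (IsMulCommutative.of_comm (comm_of_sup hcomm hsup hc))
  obtain ⟨x, hx⟩ := exists_prime_orderOf_dvd_card' (G := G) p (by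
    rw [hGcard]
    exact dvd_mul_left _ _)
  have hxA : x ∉ A := by
    intro h
    have h1 := orderOf_dvd_natCard (⟨x, h⟩ : A)
    rw [Subgroup.orderOf_mk, hx] at h1
    exact (Nat.Prime.coprime_iff_not_dvd hpp).1 hAc.symm h1
  refine ⟨card_of_semidirect hpq hA hx (hsupof _ (fun h => hxA (zpowers_le.1 h))) hmin (hna' x hxA),
    ?_, ?_, ?_⟩
  · intro h
    have hzp : IsPGroup p (zpowers x) := IsPGroup.of_card (n := 1) (by
      rw [Nat.card_zpowers, hx, pow_one])
    obtain ⟨P, hP⟩ := hzp.exists_le_sylow
    haveI hPn := h P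
    have hdisj : Disjoint (P : Subgroup G) A :=
      IsPGroup.disjoint_of_ne p q hpq.symm _ _ P.isPGroup' hApg
    refine hna' x hxA fun a ha => ?_
    exact Subgroup.commute_of_normal_of_disjoint _ _ hPn inferInstance hdisj x a (hP (mem_zpowers x)) ha
  · intro H hH
    by_cases hHA : H ≤ A
    · exact pclosed_of_coprime (Nat.Coprime.coprime_dvd_left (Subgroup.card_dvd_of_le hHA) hAc)
    · have hsup := hsupof H hHA
      have hinf : (H ⊓ A).Normal := by
        rw [← Subgroup.normalizer_eq_top_iff, eq_top_iff, ← hsup]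
        refine sup_le ?_ ?_
        · intro a ha
          refine Cfsg.Agent.Lib.Transfer.mem_normalizer_of_conj_mem ?_
          rintro z ⟨hz1, hz2⟩
          have : a * z * a⁻¹ = z := by
            rw [hcomm a ha z hz2]
            group
          rw [this]
          exact ⟨hz1, hz2⟩
        · intro h hh
          refine Cfsg.Agent.Lib.Transfer.mem_normalizer_of_conj_mem ?_
          rintro z ⟨hz1, hz2⟩
          exact ⟨H.mul_mem (H.mul_mem hh hz1) (H.inv_mem hh), Subgroup.Normal.conj_mem inferInstance z hz2 h⟩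
      rcases hmin _ hinf inf_le_right with h | h
      · refine pclosed_of_isPGroup (IsPGroup.of_card (n := 1) ?_)
        have h1 := Cfsg.Agent.Lib.PSolv.card_sup_mul_card_inf H A
        rw [sup_comm, hsup, h, Subgroup.card_top, Subgroup.card_bot, mul_one, hGcard] at h1
        have hApos : 0 < Nat.card A := Nat.card_pos
        rw [pow_one]
        rw [mul_comm (Nat.card A) p] at h1
        exact (Nat.eq_of_mul_eq_mul_right hApos h1).symm
      · exfalso
        apply hH
        have hAH : A ≤ H := by
          rw [← h]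
          exact inf_le_left
        rw [← hsup, sup_eq_right.2 hAH]
  · intro N _ hN
    have hinf : (N ⊓ A).Normal := inferInstance
    rcases hmin _ hinf inf_le_right with h | h
    · exfalso
      obtain ⟨⟨y, hy⟩, hy1⟩ := (Subgroup.ne_bot_iff_exists_ne_one.1 hN)
      have hy1' : y ≠ 1 := fun h => hy1 (Subtype.ext h)
      have hyA : y ∉ A := by
        intro hyA
        have : y ∈ N ⊓ A := ⟨hy, hyA⟩
        rw [h] at this
        exact hy1' this
      refine hna' y hyA fun a ha => ?_
      exact Subgroup.commute_of_normal_of_disjoint _ _ inferInstance inferInstance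
        (disjoint_iff.2 h) y a hy ha
    · have hAN : A ≤ N := by
        rw [← h]
        exact inf_le_left
      refine pclosed_of_isPGroup (IsPGroup.of_card_dvd_pow (n := 1) ?_)
      rw [pow_one, ← hidx]
      exact Subgroup.index_dvd_of_le hAN

end Cfsg.Agent.S3869
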