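import Cfsg.Statements.S3870
import Mathlib
import Cfsg.Agent.Lib.PGroup.Sylow

set_option autoImplicit false
open Cfsg

namespace Cfsg.Agent.S3870

open Cfsg.Agent.Lib.PGroup in
/-- Let G be a finite simple group whose Sylow p-subgroups are not normal but such that every proper subgroup of G has a normal Sylow p-subgroup. Then any two distinct Sylow p-subgroups of G intersect trivially, and for every Sylow p-subgroup P the normalizer of every non-identity subgroup of P lies in the normalizer of P. -/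
theorem result {G : Type*} [Group G] [Finite G] [IsSimpleGroup G] {p : ℕ} [Fact p.Prime]
    (hnc : ¬ Cfsg.IsPClosed p G) (hsub : ∀ H : Subgroup G, H ≠ ⊤ → Cfsg.IsPClosed p ↥H) :
    (∀ P Q : Sylow p G, P ≠ Q → (P : Subgroup G) ⊓ (Q : Subgroup G) = ⊥) ∧
      ∀ (P : Sylow p G) (R : Subgroup G), R ≤ P → R ≠ ⊥ →
        Subgroup.normalizer (R : Set G) ≤ Subgroup.normalizer ((P : Subgroup G) : Set G) := by
  classical
  -- the normalizer of a nontrivial `p`-subgroup is proper
  have hNprop : ∀ R : Subgroup G, IsPGroup p R → R ≠ ⊥ → Subgroup.normalizer (R : Set G) ≠ ⊤ := by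
    intro R hR hR1 htop
    have hRn : R.Normal := Subgroup.normalizer_eq_top_iff.mp htop
    rcases hRn.eq_bot_or_eq_top with h | h
    · exact hR1 h
    · apply hnc
      intro P
      have hG : IsPGroup p G := by
        intro g
        have hgR : g ∈ R := by rw [h]; trivial
        obtain ⟨k, hk⟩ := hR ⟨g, hgR⟩
        exact ⟨k, by simpa using congrArg Subtype.val hk⟩
      have hPtop : (P : Subgroup G) = ⊤ := by
        have := P.is_maximal' (Q := ⊤) (IsPGroup.of_equiv hG (Subgroup.topEquiv (G := G)).symm) le_top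
        exact this.symm
      rw [hPtop]; exact Subgroup.normal_top
  -- TI
  have hTI : ∀ P Q : Sylow p G, P ≠ Q → (P : Subgroup G) ⊓ (Q : Subgroup G) = ⊥ := by
    by_contra hcon
    push Not at hcon
    -- choose a pair with intersection of maximal order
    let Pairs : Set (Sylow p G × Sylow p G) := {x | x.1 ≠ x.2 ∧ (x.1 : Subgroup G) ⊓ (x.2 : Subgroup G) ≠ ⊥}
    have hne : Pairs.Nonempty := by
      obtain ⟨P, Q, h1, h2⟩ := hcon
      exact ⟨(P, Q), h1, h2⟩
    obtain ⟨x, hx, hxmax⟩ := Set.exists_max_image Pairs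
      (fun x => Nat.card ↥((x.1 : Subgroup G) ⊓ (x.2 : Subgroup G))) (Set.toFinite _) hne
    obtain ⟨P, Q⟩ := x
    obtain ⟨hPQ, hD⟩ := hx
    simp only at hPQ hD hxmax
    let D : Subgroup G := (P : Subgroup G) ⊓ (Q : Subgroup G)
    have hDle1 : D ≤ P := inf_le_left
    have hDle2 : D ≤ Q := inf_le_right
    have hDp : IsPGroup p D := P.2.to_le hDle1
    have hclosed := hsub _ (hNprop D hDp hD)
    -- `D` is strictly smaller than `P` and `Q`
    have hDP : D < P := by
      refine lt_of_le_of_ne hDle1 (fun h => hPQ (sylow_eq_of_le ?_))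
      rw [← h]; exact hDle2
    have hDQ : D < Q := by
      refine lt_of_le_of_ne hDle2 (fun h => hPQ (sylow_eq_of_le ?_).symm)
      rw [← h]; exact hDle1
    obtain ⟨y₁, hy₁P, hy₁D, hy₁N⟩ := exists_mem_normalizer_of_lt P.2 hDP
    obtain ⟨y₂, hy₂Q, hy₂D, hy₂N⟩ := exists_mem_normalizer_of_lt Q.2 hDQ
    let N : Subgroup G := Subgroup.normalizer (D : Set G)
    obtain ⟨S⟩ := (inferInstance : Nonempty (Sylow p N))
    have hSn : ((S : Subgroup N)).Normal := hclosed S
    -- p-subgroups of `N` lie in `S`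
    have hleS : ∀ X : Subgroup G, IsPGroup p X → X.subgroupOf N ≤ S := fun X hX =>
      le_sylow_of_sylow_normal S (hX.comap_subtype)
    let M : Subgroup G := (S : Subgroup N).map N.subtype
    have hMp : IsPGroup p M := S.2.map _
    obtain ⟨T, hT⟩ := hMp.exists_le_sylow
    have hPN : (P : Subgroup G) ⊓ N ≤ T := by
      intro z hz
      apply hT
      refine ⟨⟨z, hz.2⟩, ?_, rfl⟩
      exact hleS P P.2 hz.1
    have hQN : (Q : Subgroup G) ⊓ N ≤ T := by
      intro z hz
      apply hT
      refine ⟨⟨z, hz.2⟩, ?_, rfl⟩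
      exact hleS Q Q.2 hz.1
    have hDN : D ≤ N := Subgroup.le_normalizer
    have hDT : D ≤ T := fun z hz => hPN ⟨hDle1 hz, hDN hz⟩
    -- `T = P`
    have hTP : T = P := by
      by_contra hne
      have h1 : (T : Subgroup G) ⊓ (P : Subgroup G) ≠ ⊥ := by
        intro h
        apply hD
        rw [eq_bot_iff, ← h]
        exact le_inf hDT hDle1
      have h2 : Nat.card ↥((T : Subgroup G) ⊓ (P : Subgroup G)) ≤ Nat.card D := hxmax (T, P) ⟨hne, h1⟩
      have h3 : D < (T : Subgroup G) ⊓ (P : Subgroup G) := by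
        refine lt_of_le_of_ne (le_inf hDT hDle1) ?_
        intro h
        apply hy₁D
        show y₁ ∈ D
        rw [h]
        exact ⟨hPN ⟨hy₁P, hy₁N⟩, hy₁P⟩
      have h4 := card_lt_card_of_lt h3
      omega
    have hTQ : T = Q := by
      by_contra hne
      have h1 : (T : Subgroup G) ⊓ (Q : Subgroup G) ≠ ⊥ := by
        intro h
        apply hD
        rw [eq_bot_iff, ← h]
        exact le_inf hDT hDle2
      have h2 : Nat.card ↥((T : Subgroup G) ⊓ (Q : Subgroup G)) ≤ Nat.card D := hxmax (T, Q) ⟨hne, h1⟩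
      have h3 : D < (T : Subgroup G) ⊓ (Q : Subgroup G) := by
        refine lt_of_le_of_ne (le_inf hDT hDle2) ?_
        intro h
        apply hy₂D
        show y₂ ∈ D
        rw [h]
        exact ⟨hQN ⟨hy₂Q, hy₂N⟩, hy₂Q⟩
      have h4 := card_lt_card_of_lt h3
      omega
    exact hPQ (hTP.symm.trans hTQ)
  refine ⟨hTI, ?_⟩
  intro P R hRP hR g hg
  have hmem : g • P = P := by
    by_contra hne
    have h1 := hTI (g • P) P hne
    apply hR
    rw [eq_bot_iff, ← h1]
    refine le_inf ?_ hRP
    intro r hr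
    show r ∈ ((g • P : Sylow p G) : Set G)
    rw [Sylow.coe_smul]
    refine ⟨g⁻¹ * r * g, ?_, ?_⟩
    · apply hRP
      have := (Subgroup.mem_normalizer_iff.mp (inv_mem hg) r).mp hr
      simpa using this
    · simp [mul_assoc]
  exact Sylow.smul_eq_iff_mem_normalizer.mp hmem

end Cfsg.Agent.S3870
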