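import Cfsg.Statements.S3872
import Cfsg.Agent.Lib.ClassSizes.HallPet
import Cfsg.Agent.Lib.ClassSizes.RegOmega
import Cfsg.Agent.Lib.PLocal.Regular2
import Cfsg.Agent.Lib.PGroup.MaxNormal
import Cfsg.Agent.Lib.PGroup.Basic
-- import your own Cfsg.Agent.* helpers here

set_option autoImplicit false
open Cfsg

namespace Cfsg.Agent.S3872

/-- Say that a finite group is p-exponent closed when its elements of order dividing p form a subgroup. Let G be a finite p-group that is not p-exponent closed, but all of whose proper subgroups and proper quotients are. Then G is generated by two elements, has nilpotency class at least p, has exponent p², has cyclic center, and has order at least p^(p+1). -/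
theorem result {G : Type*} [Group G] [Finite G] {p : ℕ} [Fact p.Prime] (hG : IsPGroup p G)
    (hnc : ¬ (∃ H : Subgroup G, (H : Set G) = {g : G | g ^ p = 1})) (hsub : ∀ K : Subgroup G, K ≠ ⊤ → (∃ H : Subgroup ↥K, (H : Set ↥K) = {g : ↥K | g ^ p = 1}))
    (hquo : ∀ (N : Subgroup G) [N.Normal], N ≠ ⊥ → (∃ H : Subgroup (G ⧸ N), (H : Set (G ⧸ N)) = {g : (G ⧸ N) | g ^ p = 1})) :
    (∃ x y : G, Subgroup.closure ({x, y} : Set G) = ⊤) ∧ (⊤ : Subgroup G).lowerCentralSeries (p - 1) ≠ ⊥ ∧
      Monoid.exponent G = p ^ 2 ∧ IsCyclic ↥(Subgroup.center G) ∧ p ^ (p + 1) ≤ Nat.card G := by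
  classical
  -- two elements of order dividing `p` with bad product
  have hex : ∃ x y : G, x ^ p = 1 ∧ y ^ p = 1 ∧ (x * y) ^ p ≠ 1 := by
    by_contra hcon
    push Not at hcon
    apply hnc
    refine ⟨{ carrier := {g : G | g ^ p = 1}
              mul_mem' := fun {a b} ha hb => hcon a b ha hb
              one_mem' := one_pow p
              inv_mem' := fun {a} ha => by
                show a⁻¹ ^ p = 1
                rw [inv_pow, show a ^ p = 1 from ha, inv_one] }, rfl⟩
  obtain ⟨x, y, hx, hy, hxy⟩ := hex
  have hgen : Subgroup.closure ({x, y} : Set G) = ⊤ := by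
    by_contra hne
    obtain ⟨H, hH⟩ := hsub _ hne
    have hx' : x ∈ Subgroup.closure ({x, y} : Set G) := Subgroup.subset_closure (by simp)
    have hy' : y ∈ Subgroup.closure ({x, y} : Set G) := Subgroup.subset_closure (by simp)
    have h1 : (⟨x, hx'⟩ : ↥(Subgroup.closure ({x, y} : Set G))) ∈ H := by
      have : (⟨x, hx'⟩ : ↥(Subgroup.closure ({x, y} : Set G))) ∈ (H : Set _) := by
        rw [hH]
        exact Subtype.ext hx
      exact this
    have h2 : (⟨y, hy'⟩ : ↥(Subgroup.closure ({x, y} : Set G))) ∈ H := by
      have : (⟨y, hy'⟩ : ↥(Subgroup.closure ({x, y} : Set G))) ∈ (H : Set _) := by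
        rw [hH]
        exact Subtype.ext hy
      exact this
    have h3 : ((⟨x, hx'⟩ : ↥(Subgroup.closure ({x, y} : Set G))) * ⟨y, hy'⟩) ∈ (H : Set _) :=
      H.mul_mem h1 h2
    rw [hH] at h3
    exact hxy (congrArg Subtype.val h3)
  -- every nontrivial normal subgroup contains all `p`-th powers
  have hpow : ∀ (N : Subgroup G) [N.Normal], N ≠ ⊥ → ∀ g : G, g ^ p ∈ N := by
    intro N _ hN g
    obtain ⟨H, hH⟩ := hquo N hN
    have hle : Subgroup.closure ({x, y} : Set G) ≤ H.comap (QuotientGroup.mk' N) := by
      rw [Subgroup.closure_le]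
      rintro a (rfl | rfl)
      · have : ((a : G) : G ⧸ N) ∈ (H : Set (G ⧸ N)) := by
          rw [hH]
          show ((a : G) : G ⧸ N) ^ p = 1
          rw [← QuotientGroup.mk_pow, hx]
          rfl
        exact this
      · have : ((a : G) : G ⧸ N) ∈ (H : Set (G ⧸ N)) := by
          rw [hH]
          show ((a : G) : G ⧸ N) ^ p = 1
          rw [← QuotientGroup.mk_pow, hy]
          rfl
        exact this
    rw [hgen] at hle
    have h1 : ((g : G) : G ⧸ N) ∈ (H : Set (G ⧸ N)) := hle (Subgroup.mem_top g)
    rw [hH] at h1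
    have h2 : ((g : G) : G ⧸ N) ^ p = 1 := h1
    rw [← QuotientGroup.mk_pow] at h2
    exact (QuotientGroup.eq_one_iff _).mp h2
  have hnontriv : Nontrivial G := by
    by_contra hcon
    rw [not_nontrivial_iff_subsingleton] at hcon
    exact hxy (Subsingleton.elim _ _)
  have hp := (Fact.out : p.Prime)
  -- normal closure of a central element
  have hcentral : ∀ z ∈ Subgroup.center G, (Subgroup.zpowers z).Normal := by
    intro z hz
    refine ⟨fun n hn g => ?_⟩
    obtain ⟨k, rfl⟩ := Subgroup.mem_zpowers_iff.mp hn
    have h1 : g * z ^ k * g⁻¹ = z ^ k := by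
      have h2 : z ^ k ∈ Subgroup.center G := zpow_mem hz k
      have h3 := Subgroup.mem_center_iff.mp h2 g
      rw [h3]
      group
    rw [h1]
    exact Subgroup.mem_zpowers_iff.mpr ⟨k, rfl⟩
  -- central element of order `p`
  have hZbot : Subgroup.center G ≠ ⊥ := by
    have := hG.center_nontrivial
    exact (Subgroup.nontrivial_iff_ne_bot _).mp this
  have hzex : ∃ z ∈ Subgroup.center G, orderOf z = p := by
    haveI : Nontrivial (Subgroup.center G) := (Subgroup.nontrivial_iff_ne_bot _).mpr hZbot
    have hcard : IsPGroup p (Subgroup.center G) := hG.to_subgroup _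
    obtain ⟨k, hk⟩ := IsPGroup.iff_card.mp hcard
    have hk0 : k ≠ 0 := by
      rintro rfl
      have h1 : Nat.card (Subgroup.center G) = 1 := by simpa using hk
      have := (Subgroup.card_eq_one (H := Subgroup.center G)).mp h1
      exact hZbot this
    have hd : p ∣ Nat.card (Subgroup.center G) := hk ▸ dvd_pow_self p hk0
    obtain ⟨z, hz⟩ := exists_prime_orderOf_dvd_card' (G := Subgroup.center G) p hd
    refine ⟨z, z.2, ?_⟩
    rw [← hz]
    exact Subgroup.orderOf_coe z
  obtain ⟨z, hzZ, hzo⟩ := hzex
  have hexp2 : ∀ g : G, g ^ p ^ 2 = 1 := by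
    intro g
    haveI := hcentral z hzZ
    have hzne : Subgroup.zpowers z ≠ ⊥ := by
      intro h
      have h1 : z = 1 := Subgroup.zpowers_eq_bot.mp h
      rw [h1, orderOf_one] at hzo
      exact hp.one_lt.ne hzo
    have h1 := hpow (Subgroup.zpowers z) hzne g
    obtain ⟨k, hk⟩ := Subgroup.mem_zpowers_iff.mp h1
    rw [pow_two, pow_mul, ← hk, ← zpow_natCast, ← zpow_mul, mul_comm, zpow_mul, zpow_natCast, ← hzo,
      pow_orderOf_eq_one, one_zpow]
  have hcl : (⊤ : Subgroup G).lowerCentralSeries (p - 1) ≠ ⊥ := by
    intro hcl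
    have hreg := Cfsg.Agent.Lib.ClassSizes.HallPet.regular_of_class hG hcl
    have := Cfsg.Agent.Lib.ClassSizes.RegOmega.omega_closed (p := p) 1 _ G rfl hreg x y
      (by simpa using hx) (by simpa using hy)
    exact hxy (by simpa using this)
  have hcomm : ¬ ∀ a b : G, a * b = b * a := by
    intro h
    have h1 : Commute x y := h x y
    rw [h1.mul_pow, hx, hy, one_mul] at hxy
    exact hxy rfl
  refine ⟨⟨x, y, hgen⟩, hcl, ?_, ?_, ?_⟩
  · -- exponent
    have hd : Monoid.exponent G ∣ p ^ 2 := Monoid.exponent_dvd_of_forall_pow_eq_one hexp2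
    obtain ⟨k, hk2, hk⟩ := (Nat.dvd_prime_pow hp).mp hd
    rw [hk]
    have : k = 2 := by
      by_contra hne
      have hk1 : k ≤ 1 := by omega
      apply hxy
      have h1 : (x * y) ^ Monoid.exponent G = 1 := Monoid.pow_exponent_eq_one _
      rw [hk] at h1
      have h2 : p ^ k ∣ p := by
        have := pow_dvd_pow p hk1
        simpa using this
      obtain ⟨e, he⟩ := h2
      rw [he, pow_mul, h1, one_pow]
    rw [this]
  · -- cyclic centre
    have hgenw : ∀ c : G, c ∈ Subgroup.center G → c ^ p = 1 → c ≠ 1 →
        Subgroup.zpowers ((x * y) ^ p) = Subgroup.zpowers c := by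
      intro c hcZ hc hc1
      haveI := hcentral c hcZ
      have hne : Subgroup.zpowers c ≠ ⊥ := fun h => hc1 (Subgroup.zpowers_eq_bot.mp h)
      have h1 := hpow (Subgroup.zpowers c) hne (x * y)
      have hle : Subgroup.zpowers ((x * y) ^ p) ≤ Subgroup.zpowers c := by
        rw [Subgroup.zpowers_le]
        exact h1
      have hcc : Nat.card (Subgroup.zpowers c) = p := by
        haveI : Fact p.Prime := ⟨hp⟩
        rw [Nat.card_zpowers, orderOf_eq_prime hc hc1]
      refine Subgroup.eq_of_le_of_card_ge hle ?_
      rw [hcc]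
      have hd : Nat.card (Subgroup.zpowers ((x * y) ^ p)) ∣ p := by
        have h9 := Subgroup.card_dvd_of_le hle
        rwa [hcc] at h9
      rcases (Nat.dvd_prime hp).mp hd with h2 | h2
      · exfalso
        rw [Nat.card_zpowers, orderOf_eq_one_iff] at h2
        exact hxy h2
      · exact h2.ge
    have key : IsCyclic (Subgroup.center G) := by
      letI : CommGroup (Subgroup.center G) :=
        { (inferInstance : Group (Subgroup.center G)) with
          mul_comm := fun a b => Subtype.ext ((Subgroup.mem_center_iff.mp a.2 (b : G)).symm) }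
      refine Cfsg.Agent.Lib.PGroup.isCyclic_of_card_pow_prime_le (X := Subgroup.center G) fun q hq => ?_
      by_cases hqp : q = p
      · subst hqp
        by_cases hb : (powMonoidHom q : Subgroup.center G →* Subgroup.center G).ker = ⊥
        · rw [hb, Subgroup.card_bot]
          exact hq.one_lt.le
        · obtain ⟨a, ha, ha1⟩ := (Subgroup.bot_or_exists_ne_one _).resolve_left hb
          have ha2 : (a : G) ^ q = 1 := congrArg Subtype.val (MonoidHom.mem_ker.mp ha)
          have ha3 : (a : G) ≠ 1 := fun h => ha1 (Subtype.ext h)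
          have hcc : Nat.card (Subgroup.zpowers (a : G)) = q := by
            rw [Nat.card_zpowers, orderOf_eq_prime ha2 ha3]
          have hmem : ∀ b : (powMonoidHom q : Subgroup.center G →* Subgroup.center G).ker,
              ((b : Subgroup.center G) : G) ∈ Subgroup.zpowers (a : G) := by
            intro b
            have hb2 : ((b : Subgroup.center G) : G) ^ q = 1 := congrArg Subtype.val (MonoidHom.mem_ker.mp b.2)
            by_cases hb3 : ((b : Subgroup.center G) : G) = 1
            · rw [hb3]
              exact one_mem _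
            · have e1 := hgenw _ (b : Subgroup.center G).2 hb2 hb3
              have e2 := hgenw _ a.2 ha2 ha3
              rw [← e2, e1]
              exact Subgroup.mem_zpowers _
          have hfin : Nat.card (powMonoidHom q : Subgroup.center G →* Subgroup.center G).ker ≤
              Nat.card (Subgroup.zpowers (a : G)) := by
            refine Nat.card_le_card_of_injective
              (fun b => (⟨((b : Subgroup.center G) : G), hmem b⟩ : Subgroup.zpowers (a : G))) ?_
            intro b c h
            have h1 := congrArg (fun t : Subgroup.zpowers (a : G) => (t : G)) h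
            exact Subtype.ext (Subtype.ext h1)
          rwa [hcc] at hfin
      · have hb : (powMonoidHom q : Subgroup.center G →* Subgroup.center G).ker = ⊥ := by
          rw [eq_bot_iff]
          intro b hb
          have hb2 : ((b : Subgroup.center G) : G) ^ q = 1 := congrArg Subtype.val (MonoidHom.mem_ker.mp hb)
          have hc : (orderOf ((b : Subgroup.center G) : G)).Coprime q :=
            hG.orderOf_coprime ((Nat.coprime_primes hp hq).mpr (Ne.symm hqp)) _
          have h1 : orderOf ((b : Subgroup.center G) : G) ∣ q := orderOf_dvd_of_pow_eq_one hb2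
          have h2 : orderOf ((b : Subgroup.center G) : G) = 1 := Nat.Coprime.eq_one_of_dvd hc h1
          rw [orderOf_eq_one_iff] at h2
          exact Subgroup.mem_bot.mpr (Subtype.ext h2)
        rw [hb, Subgroup.card_bot]
        exact hq.one_lt.le
    exact key
  · -- order
    have hnil : ∃ m, (⊤ : Subgroup G).lowerCentralSeries m = ⊥ :=
      (Subgroup.isNilpotent_iff_lowerCentralSeries ⊤).mp (IsPGroup.isNilpotent (hG.to_subgroup ⊤))
    have hanti := Subgroup.lowerCentralSeries_antitone (⊤ : Subgroup G)
    have hnotstable : ∀ n, (⊤ : Subgroup G).lowerCentralSeries n ≠ ⊥ →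
        (⊤ : Subgroup G).lowerCentralSeries (n + 1) ≠ (⊤ : Subgroup G).lowerCentralSeries n := by
      intro n hn heq
      have hall : ∀ k, (⊤ : Subgroup G).lowerCentralSeries (n + k) = (⊤ : Subgroup G).lowerCentralSeries n := by
        intro k
        induction k with
        | zero => rfl
        | succ k ih =>
          rw [← add_assoc, Subgroup.lowerCentralSeries_succ, ih, ← Subgroup.lowerCentralSeries_succ, heq]
      obtain ⟨m, hm⟩ := hnil
      apply hn
      rw [← hall m, eq_bot_iff, ← hm]
      exact hanti (Nat.le_add_left m n)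
    have hstep : ∀ n, (⊤ : Subgroup G).lowerCentralSeries n ≠ ⊥ →
        p * Nat.card ((⊤ : Subgroup G).lowerCentralSeries (n + 1)) ≤ Nat.card ((⊤ : Subgroup G).lowerCentralSeries n) := by
      intro n hn
      have hle : (⊤ : Subgroup G).lowerCentralSeries (n + 1) ≤ (⊤ : Subgroup G).lowerCentralSeries n :=
        hanti (Nat.le_succ n)
      obtain ⟨a, ha⟩ := IsPGroup.iff_card.mp (hG.to_subgroup ((⊤ : Subgroup G).lowerCentralSeries n))
      obtain ⟨b, hb⟩ := IsPGroup.iff_card.mp (hG.to_subgroup ((⊤ : Subgroup G).lowerCentralSeries (n + 1)))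
      have hd := Subgroup.card_dvd_of_le hle
      rw [ha, hb] at hd
      have hba : b ≤ a := (Nat.pow_dvd_pow_iff_le_right hp.one_lt).mp hd
      have hne : b ≠ a := by
        rintro rfl
        apply hnotstable n hn
        exact Subgroup.eq_of_le_of_card_ge hle (by rw [ha, hb])
      rw [ha, hb, ← pow_succ']
      exact Nat.pow_le_pow_right hp.pos (by omega)
    have hchain : ∀ d, d ≤ p - 1 → p ^ (d + 1) ≤ Nat.card ((⊤ : Subgroup G).lowerCentralSeries (p - 1 - d)) := by
      intro d
      induction d with
      | zero =>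
        intro _
        obtain ⟨a, ha⟩ := IsPGroup.iff_card.mp (hG.to_subgroup ((⊤ : Subgroup G).lowerCentralSeries (p - 1)))
        rw [Nat.sub_zero, ha, zero_add, pow_one]
        have ha0 : a ≠ 0 := by
          rintro rfl
          rw [pow_zero] at ha
          exact hcl (Subgroup.card_eq_one.mp ha)
        calc p = p ^ 1 := (pow_one p).symm
          _ ≤ p ^ a := Nat.pow_le_pow_right hp.pos (by omega)
      | succ d ih =>
        intro hd
        have h1 := ih (by omega)
        have e : p - 1 - d = (p - 1 - (d + 1)) + 1 := by omega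
        rw [e] at h1
        have hne : (⊤ : Subgroup G).lowerCentralSeries (p - 1 - (d + 1)) ≠ ⊥ := by
          intro h0
          apply hcl
          rw [eq_bot_iff, ← h0]
          exact hanti (by omega)
        have h2 := hstep _ hne
        calc p ^ (d + 1 + 1) = p * p ^ (d + 1) := pow_succ' _ _
          _ ≤ p * Nat.card ((⊤ : Subgroup G).lowerCentralSeries (p - 1 - (d + 1) + 1)) := Nat.mul_le_mul_left _ h1
          _ ≤ _ := h2
    have h2p := hp.two_le
    have hγ1 := hchain (p - 2) (by omega)
    have e1 : p - 1 - (p - 2) = 1 := by omega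
    have e2 : p - 2 + 1 = p - 1 := by omega
    rw [e1, e2] at hγ1
    have hcard := Subgroup.card_mul_index ((⊤ : Subgroup G).lowerCentralSeries 1)
    have hidx := Subgroup.index_dvd_card ((⊤ : Subgroup G).lowerCentralSeries 1)
    obtain ⟨n, hn⟩ := IsPGroup.iff_card.mp hG
    rw [hn] at hidx
    obtain ⟨a, -, ha⟩ := (Nat.dvd_prime_pow hp).mp hidx
    have ha2 : 2 ≤ a := by
      by_contra hlt
      have hcases : a = 0 ∨ a = 1 := by omega
      rcases hcases with rfl | rfl
      · -- commutator is everything
        rw [pow_zero, Subgroup.index_eq_one] at ha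
        have hall : ∀ k, (⊤ : Subgroup G).lowerCentralSeries k = ⊤ := by
          intro k
          induction k with
          | zero => rfl
          | succ k ih =>
            cases k with
            | zero => exact ha
            | succ k =>
              rw [Subgroup.lowerCentralSeries_succ, ih]
              exact ha
        obtain ⟨m, hm⟩ := hnil
        rw [hall m] at hm
        have : (⊤ : Subgroup G) ≠ ⊥ := top_ne_bot
        exact this hm
      · rw [pow_one] at ha
        have hcoat := Cfsg.Agent.Lib.PGroup.isCoatom_of_index_prime (H := (⊤ : Subgroup G).lowerCentralSeries 1) (ha ▸ hp)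
        obtain ⟨g, -, hg⟩ := SetLike.exists_of_lt (lt_top_iff_ne_top.mpr hcoat.1)
        have hgmem : g ∈ Subgroup.closure ({g} : Set G) := Subgroup.subset_closure rfl
        have hsup : Subgroup.closure ({g} : Set G) ⊔ ⁅(⊤ : Subgroup G), (⊤ : Subgroup G)⁆ = ⊤ := by
          have e3 : ⁅(⊤ : Subgroup G), (⊤ : Subgroup G)⁆ = (⊤ : Subgroup G).lowerCentralSeries 1 := rfl
          rw [e3]
          refine hcoat.2 _ (lt_of_le_of_ne le_sup_right fun h => hg ?_)
          rw [h]
          exact (le_sup_left : _ ≤ Subgroup.closure ({g} : Set G) ⊔ _) hgmem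
        have h3 := Cfsg.Agent.Lib.PLocal.eq_closure_of_sup_commutator (hG.to_subgroup ⊤) (Subgroup.mem_top g) hsup
        exact hcomm (Cfsg.Agent.Lib.ClassSizes.RegOmega.comm_of_closure_singleton h3)
    rw [← hcard, ha]
    calc p ^ (p + 1) = p ^ (p - 1) * p ^ 2 := by
          rw [← pow_add]
          congr 1
          omega
      _ ≤ Nat.card ((⊤ : Subgroup G).lowerCentralSeries 1) * p ^ a :=
          Nat.mul_le_mul hγ1 (Nat.pow_le_pow_right hp.pos ha2)

end Cfsg.Agent.S3872
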