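import Cfsg.Statements.S3873
import Cfsg.Agent.Lib.PGroup.MinNonClosed
import Cfsg.Agent.Lib.PGroup.Sylow
-- import your own Cfsg.Agent.* helpers here

set_option autoImplicit false
open Cfsg

namespace Cfsg.Agent.S3873

open Subgroup Cfsg.Agent.Lib.PGroup

/-- Say that a finite group is p-exponent closed when its elements of order dividing p form a subgroup. Let G be a finite group that is not p-exponent closed, but all of whose proper subgroups and proper quotients are, and suppose G is neither simple nor a p-group. Then there is a prime q ≠ p such that G has order p · q^e, where e is the multiplicative order of q modulo p, and G has a normal elementary abelian subgroup of order q^e that is a minimal normal subgroup of G. -/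
theorem result {G : Type*} [Group G] [Finite G] {p : ℕ} [Fact p.Prime]
    (hnc : ¬ (∃ H : Subgroup G, (H : Set G) = {g : G | g ^ p = 1})) (hsub : ∀ K : Subgroup G, K ≠ ⊤ → (∃ H : Subgroup ↥K, (H : Set ↥K) = {g : ↥K | g ^ p = 1}))
    (hquo : ∀ (N : Subgroup G) [N.Normal], N ≠ ⊥ → (∃ H : Subgroup (G ⧸ N), (H : Set (G ⧸ N)) = {g : (G ⧸ N) | g ^ p = 1}))
    (hns : ¬ IsSimpleGroup G) (hnp : ¬ IsPGroup p G) :
    ∃ q : ℕ, q.Prime ∧ q ≠ p ∧ Nat.card G = p * q ^ orderOf (q : ZMod p) ∧
      ∃ A : Subgroup G, A.Normal ∧ Nat.card ↥A = q ^ orderOf (q : ZMod p) ∧ Cfsg.IsElementaryAbelian q A ∧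
        ∀ B : Subgroup G, B.Normal → B ≤ A → B = ⊥ ∨ B = A := by
  classical
  have hpp : p.Prime := Fact.out
  -- the pair `a, b`
  obtain ⟨a, b, ha, hb, hab⟩ : ∃ a b : G, a ^ p = 1 ∧ b ^ p = 1 ∧ (a * b) ^ p ≠ 1 := by
    by_contra hcon
    push_neg at hcon
    exact hnc ⟨{ carrier := {g | g ^ p = 1}
                 mul_mem' := fun {x y} hx hy => hcon x y hx hy
                 one_mem' := one_pow p
                 inv_mem' := fun {x} hx => by
                   show x⁻¹ ^ p = 1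
                   rw [inv_pow, show x ^ p = 1 from hx, inv_one] }, rfl⟩
  have hGnt : Nontrivial G := ⟨⟨(a * b) ^ p, 1, hab⟩⟩
  -- they generate
  have hgen : Subgroup.closure ({a, b} : Set G) = ⊤ := by
    by_contra hne
    obtain ⟨H, hH⟩ := hsub _ hne
    have hmem : ∀ y (hy : y ∈ Subgroup.closure ({a, b} : Set G)), y ^ p = 1 →
        (⟨y, hy⟩ : Subgroup.closure ({a, b} : Set G)) ∈ H := by
      intro y hy hyp
      have : (⟨y, hy⟩ : Subgroup.closure ({a, b} : Set G)) ∈ (H : Set _) := by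
        rw [hH]
        exact Subtype.ext hyp
      exact this
    have h1 := hmem a (Subgroup.subset_closure (by simp)) ha
    have h2 := hmem b (Subgroup.subset_closure (by simp)) hb
    have h3 := mul_mem h1 h2
    have h4 := SetLike.mem_coe.2 h3
    rw [hH] at h4
    exact hab (congrArg Subtype.val h4)
  -- proper quotients have exponent `p`
  have hquoexp : ∀ (N : Subgroup G) [N.Normal], N ≠ ⊥ → ∀ g : G, g ^ p ∈ N := by
    intro N _ hN g
    obtain ⟨H, hH⟩ := hquo N hN
    have hmem : ∀ y : G, y ^ p = 1 → (y : G ⧸ N) ∈ H := by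
      intro y hy
      have : (y : G ⧸ N) ∈ (H : Set (G ⧸ N)) := by
        rw [hH]
        show (y : G ⧸ N) ^ p = 1
        rw [← QuotientGroup.mk_pow, hy]
        rfl
      exact this
    have hle : Subgroup.closure ({a, b} : Set G) ≤ H.comap (QuotientGroup.mk' N) := by
      rw [Subgroup.closure_le]
      rintro y (rfl | rfl)
      · exact hmem _ ha
      · exact hmem _ hb
    rw [hgen] at hle
    have h1 : (g : G ⧸ N) ∈ H := hle (Subgroup.mem_top g)
    have h2 : (g : G ⧸ N) ∈ (H : Set (G ⧸ N)) := h1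
    rw [hH] at h2
    have h3 : (g : G ⧸ N) ^ p = 1 := h2
    rw [← QuotientGroup.mk_pow, QuotientGroup.eq_one_iff] at h3
    exact h3
  -- proper normal subgroups have no elements of order `p`
  have hnoel : ∀ (B : Subgroup G) [hBn : B.Normal], B ≠ ⊥ → B ≠ ⊤ → ∀ r ∈ B, r ^ p = 1 → r = 1 := by
    intro B hBn hB1 hB2 r hr hrp
    obtain ⟨H, hH⟩ := hsub B hB2
    have hmemH : ∀ y (hy : y ∈ B), (⟨y, hy⟩ : B) ∈ H ↔ y ^ p = 1 := by
      intro y hy
      have : (⟨y, hy⟩ : B) ∈ H ↔ (⟨y, hy⟩ : B) ∈ (H : Set B) := Iff.rfl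
      rw [this, hH]
      exact ⟨fun h => congrArg Subtype.val h, fun h => Subtype.ext h⟩
    have hH'n : (H.map B.subtype).Normal := by
      refine ⟨?_⟩
      rintro _ ⟨⟨y, hy⟩, hyH, rfl⟩ g
      have hy1 := (hmemH y hy).1 hyH
      have hy2 : g * y * g⁻¹ ∈ B := hBn.conj_mem y hy g
      refine ⟨⟨g * y * g⁻¹, hy2⟩, (hmemH _ hy2).2 ?_, rfl⟩
      rw [conj_pow, hy1, mul_one, mul_inv_cancel]
    by_contra hr1
    have hH'ne : H.map B.subtype ≠ ⊥ := by
      intro h
      have h1 : r ∈ H.map B.subtype := ⟨⟨r, hr⟩, (hmemH r hr).2 hrp, rfl⟩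
      rw [h] at h1
      exact hr1 h1
    apply hnp
    intro g
    refine ⟨2, ?_⟩
    haveI := hH'n
    obtain ⟨⟨y, hy⟩, hyH, hyg⟩ := hquoexp _ hH'ne g
    have hy1 := (hmemH y hy).1 hyH
    have hyg' : y = g ^ p := hyg
    rw [pow_two, pow_mul, ← hyg']
    exact hy1
  obtain ⟨R, hRn, hR1, hR2⟩ : ∃ R : Subgroup G, R.Normal ∧ R ≠ ⊥ ∧ R ≠ ⊤ := by
    by_contra hcon
    push_neg at hcon
    apply hns
    exact { eq_bot_or_eq_top_of_normal := fun H hH => by
              by_cases h : H = ⊥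
              · exact Or.inl h
              · exact Or.inr (hcon H hH h) }
  haveI := hRn
  -- coprimality
  have hcopN : ∀ (B : Subgroup G) [hBn : B.Normal], B ≠ ⊥ → B ≠ ⊤ → (Nat.card B).Coprime p := by
    intro B _ hB1 hB2
    refine ((Nat.Prime.coprime_iff_not_dvd hpp).2 fun hd => ?_).symm
    obtain ⟨y, hy⟩ := exists_prime_orderOf_dvd_card' (G := B) p hd
    have h1 : y ^ p = 1 := by rw [← hy]; exact pow_orderOf_eq_one y
    have h2 := hnoel B hB1 hB2 y y.2 (congrArg Subtype.val h1)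
    have h3 : y = 1 := Subtype.ext h2
    rw [h3, orderOf_one] at hy
    exact hpp.one_lt.ne hy
  have hindN : ∀ (B : Subgroup G) [hBn : B.Normal], B ≠ ⊥ → ∃ k, B.index = p ^ k := by
    intro B _ hB1
    have hp : IsPGroup p (G ⧸ B) := by
      intro g
      obtain ⟨g, rfl⟩ := QuotientGroup.mk_surjective g
      refine ⟨1, ?_⟩
      rw [pow_one, ← QuotientGroup.mk_pow, QuotientGroup.eq_one_iff]
      exact hquoexp B hB1 g
    exact IsPGroup.iff_card.1 hp
  have hunique : ∀ (B C : Subgroup G) [B.Normal] [C.Normal], B ≠ ⊥ → C ≠ ⊤ → B ≤ C → B = C := by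
    intro B C _ _ hB1 hC2 hBC
    have hC1 : C ≠ ⊥ := fun h => hB1 (le_bot_iff.1 (h ▸ hBC))
    obtain ⟨k, hk⟩ := hindN B hB1
    have h1 : B.relIndex C ∣ p ^ k := hk ▸ Subgroup.relIndex_dvd_index_of_normal B C
    have h2 : B.relIndex C ∣ Nat.card C := Subgroup.index_dvd_card _
    have h3 : B.relIndex C = 1 := Nat.Coprime.eq_one_of_dvd
      (((hcopN C hC1 hC2).pow_right k).coprime_dvd_left h2) h1
    exact le_antisymm hBC (Subgroup.relIndex_eq_one.1 h3)
  have hmin : ∀ B : Subgroup G, B.Normal → B ≤ R → B = ⊥ ∨ B = R := by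
    intro B hB hBR
    by_cases hB1 : B = ⊥
    · exact Or.inl hB1
    · exact Or.inr (hunique B R hB1 hR2 hBR)
  -- index `p`
  have hidx : R.index = p := by
    obtain ⟨k, hk⟩ := hindN R hR1
    have hpQ : IsPGroup p (G ⧸ R) := IsPGroup.of_card hk
    have hntQ : Nontrivial (G ⧸ R) := by
      refine Finite.one_lt_card_iff_nontrivial.1 ?_
      have : (1 : ℕ) ≠ R.index := by
        intro h
        exact hR2 (Subgroup.index_eq_one.1 h.symm)
      have hpos : 0 < R.index := Nat.card_pos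
      show 1 < R.index
      omega
    rcases eq_top_or_exists_le_coatom (⊥ : Subgroup (G ⧸ R)) with h | ⟨M, hM, -⟩
    · exact absurd h bot_ne_top
    have hMidx := index_eq_prime_of_isCoatom hpQ hM
    haveI hMn : M.Normal := normal_of_index_eq_prime hpQ hMidx
    have hXidx : (M.comap (QuotientGroup.mk' R)).index = p := by
      rw [Subgroup.index_comap_of_surjective _ (QuotientGroup.mk'_surjective R), hMidx]
    have hXne : M.comap (QuotientGroup.mk' R) ≠ ⊤ := by
      intro h
      rw [h, Subgroup.index_top] at hXidx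
      exact hpp.one_lt.ne hXidx
    have hRX : R ≤ M.comap (QuotientGroup.mk' R) := by
      intro r hr
      have : ((r : G) : G ⧸ R) = 1 := (QuotientGroup.eq_one_iff r).2 hr
      show ((r : G) : G ⧸ R) ∈ M
      rw [this]
      exact one_mem _
    rw [hunique R _ hR1 hXne hRX, hXidx]
  have hcopR := hcopN R hR1 hR2
  have hGcardR : Nat.card G = p * Nat.card R := by
    rw [← hidx, mul_comm, Subgroup.card_mul_index]
  obtain ⟨x, hx⟩ := exists_prime_orderOf_dvd_card' (G := G) p (by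
    rw [hGcardR]
    exact dvd_mul_right _ _)
  have hxp : x ^ p = 1 := by rw [← hx]; exact pow_orderOf_eq_one x
  have hinf : zpowers x ⊓ R = ⊥ := by
    rw [eq_bot_iff]
    rintro z ⟨⟨k, rfl⟩, hz2⟩
    refine hnoel R hR1 hR2 _ hz2 ?_
    show (x ^ k) ^ p = 1
    rw [← zpow_natCast, ← zpow_mul, mul_comm, zpow_mul, zpow_natCast, hxp, one_zpow]
  have hsup : zpowers x ⊔ R = ⊤ := by
    have h1 := Cfsg.Agent.Lib.PSolv.card_sup_mul_card_inf (zpowers x) R
    rw [hinf, Subgroup.card_bot, mul_one, Nat.card_zpowers, hx, ← hGcardR] at h1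
    exact Subgroup.eq_top_of_card_eq _ h1
  refine structure_of_min hcopR hR1 hx hGcardR hmin ?_ ?_
  · intro hc
    apply hnc
    refine ⟨zpowers x, ?_⟩
    ext g
    constructor
    · rintro ⟨k, rfl⟩
      show (x ^ k) ^ p = 1
      rw [← zpow_natCast, ← zpow_mul, mul_comm, zpow_mul, zpow_natCast, hxp, one_zpow]
    · intro hg
      have hg' : g ^ p = 1 := hg
      have h1 : g ∈ ((zpowers x ⊔ R : Subgroup G) : Set G) := by
        rw [hsup]
        trivial
      rw [Subgroup.mul_normal] at h1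
      obtain ⟨y, ⟨k, rfl⟩, r, hr, rfl⟩ := Set.mem_mul.1 h1
      have hcomm : Commute (x ^ k) r := (Commute.zpow_left (show Commute x r from hc r hr) k)
      have h2 : ((x ^ k) ^ p) * r ^ p = 1 := by
        rw [← hcomm.mul_pow]
        exact hg'
      have h3 : (x ^ k) ^ p = 1 := by
        rw [← zpow_natCast, ← zpow_mul, mul_comm, zpow_mul, zpow_natCast, hxp, one_zpow]
      rw [h3, one_mul] at h2
      have h4 := hnoel R hR1 hR2 r hr h2
      rw [h4, mul_one]
      exact ⟨k, rfl⟩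
  · intro T hT hxT t ht
    obtain ⟨H, hH⟩ := hsub T hT
    have hmemH : ∀ y (hy : y ∈ T), (⟨y, hy⟩ : T) ∈ H ↔ y ^ p = 1 := by
      intro y hy
      have : (⟨y, hy⟩ : T) ∈ H ↔ (⟨y, hy⟩ : T) ∈ (H : Set T) := Iff.rfl
      rw [this, hH]
      exact ⟨fun h => congrArg Subtype.val h, fun h => Subtype.ext h⟩
    have hinfH : H.map T.subtype ⊓ R = ⊥ := by
      rw [eq_bot_iff]
      rintro z ⟨⟨⟨y, hy⟩, hyH, rfl⟩, hz2⟩
      exact hnoel R hR1 hR2 _ hz2 ((hmemH y hy).1 hyH)
    have hHcard : Nat.card (H.map T.subtype) ∣ p := by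
      have h1 := Cfsg.Agent.Lib.PSolv.card_sup_mul_card_inf (H.map T.subtype) R
      rw [hinfH, Subgroup.card_bot, mul_one] at h1
      have h2 : Nat.card (H.map T.subtype ⊔ R : Subgroup G) ∣ Nat.card G := Subgroup.card_subgroup_dvd_card _
      rw [h1, hGcardR] at h2
      exact Nat.dvd_of_mul_dvd_mul_right Nat.card_pos h2
    have hzH : zpowers x ≤ H.map T.subtype :=
      zpowers_le.2 ⟨⟨x, hxT⟩, (hmemH x hxT).2 hxp, rfl⟩
    have heq : zpowers x = H.map T.subtype := by
      refine Subgroup.eq_of_le_of_card_ge hzH ?_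
      rw [Nat.card_zpowers, hx]
      exact Nat.le_of_dvd hpp.pos hHcard
    rw [heq]
    have htx : t * x * t⁻¹ ∈ T := T.mul_mem (T.mul_mem ht hxT) (T.inv_mem ht)
    refine ⟨⟨_, htx⟩, (hmemH _ htx).2 ?_, rfl⟩
    rw [conj_pow, hxp, mul_one, mul_inv_cancel]

end Cfsg.Agent.S3873
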