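import Cfsg.Statements.S4701
import Mathlib
import Cfsg.Agent.Lib.BR.PerfectSmall

set_option autoImplicit false
open Cfsg

namespace Cfsg.Agent.S4701

open Subgroup
open scoped commutatorElement

/-- In characteristic two the projective special linear group of dimension two is the special linear group. -/
theorem psl_equiv_sl {F : Type} [Field F] [Fintype F] {m : ℕ} (hc : Fintype.card F = 2 ^ m) (hm : m ≠ 0) :
    Nonempty (Matrix.ProjectiveSpecialLinearGroup (Fin 2) F ≃* Matrix.SpecialLinearGroup (Fin 2) F) := by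
  obtain ⟨p', hp'⟩ := CharP.exists F
  obtain ⟨n, hp2, hn⟩ := FiniteField.card F p'
  have hp22 : p' = 2 := by
    have h1 : p' ∣ 2 ^ m := by
      rw [← hc, hn]
      exact dvd_pow_self p' n.ne_zero
    exact (Nat.prime_dvd_prime_iff_eq hp2 Nat.prime_two).mp (hp2.dvd_of_dvd_pow h1)
  subst hp22
  have h20 : (2 : F) = 0 := by
    have := CharP.cast_eq_zero F 2
    exact_mod_cast this
  have hcen : Subgroup.center (Matrix.SpecialLinearGroup (Fin 2) F) = ⊥ := by
    rw [eq_bot_iff]
    intro A hA
    obtain ⟨r, hr, hrA⟩ := Matrix.SpecialLinearGroup.mem_center_iff.mp hA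
    have hr1 : r = 1 := by
      have h1 : (r - 1) ^ 2 = 0 := by
        have hr' : r ^ 2 = 1 := by simpa using hr
        linear_combination hr' - (r - 1) * h20
      have h2 := pow_eq_zero_iff (two_ne_zero) |>.mp h1
      exact sub_eq_zero.mp h2
    rw [Subgroup.mem_bot]
    apply Subtype.ext
    rw [← hrA, hr1]
    simp
  exact ⟨(QuotientGroup.quotientMulEquivOfEq hcen).trans QuotientGroup.quotientBot⟩

/-- Let G be a finite perfect group and p a prime dividing the order of G with p^3 larger than the order of G. Suppose a Sylow p-subgroup of G is not normal and G has no normal subgroup of order 2. Then p > 3 and G is isomorphic to PSL(2, p), or to SL(2, 2^m) with p = 2^m + 1. -/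
theorem result {G : Type*} [Group G] [Finite G] (hperf : commutator G = ⊤) (p : ℕ) [Fact p.Prime] (hdvd : p ∣ Nat.card G) (hbig : Nat.card G < p ^ 3) (P : Sylow p G) (hP : ¬ (P : Subgroup G).Normal) (h2 : ∀ N : Subgroup G, N.Normal → Nat.card N ≠ 2) : (∃ (F : Type) (_ : Field F) (_ : Fintype F), Fintype.card F = p ∧ 3 < p ∧ Nonempty (G ≃* Matrix.ProjectiveSpecialLinearGroup (Fin 2) F)) ∨ (∃ (m : ℕ) (F : Type) (_ : Field F) (_ : Fintype F), Fintype.card F = 2 ^ m ∧ p = 2 ^ m + 1 ∧ 3 < p ∧ Nonempty (G ≃* Matrix.SpecialLinearGroup (Fin 2) F)) := by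
  classical
  have hpr := Fact.out (p := p.Prime)
  have hsyl : Nat.card (Sylow p G) ≠ 1 := by
    intro h
    apply hP
    haveI : Subsingleton (Sylow p G) := (Nat.card_eq_one_iff_unique.mp h).1
    exact Sylow.normal_of_subsingleton P
  have hsq := Lib.BR.sq_not_dvd hbig hsyl
  haveI hnt : Nontrivial G := by
    apply Finite.one_lt_card_iff_nontrivial.mp
    have := Nat.le_of_dvd Nat.card_pos hdvd
    have := hpr.two_le
    omega
  obtain ⟨L, hLn, hLd, hmin⟩ := Lib.BR.exists_minimal_normal hdvd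
  haveI := hLn
  have hLt : L = ⊤ := by
    by_contra hLt
    have hLperf := Lib.BR.perfect_of_minimal hperf hsq L hLd hmin
    have hLlt : Nat.card L < Nat.card G :=
      Nat.lt_of_le_of_ne (Subgroup.card_le_card_group L) (fun h => hLt (Subgroup.eq_top_of_card_eq L h))
    have hLs : Nat.card (Sylow p L) ≠ 1 := fun h => hsyl (Lib.BR.sylow_one_of_sub hsq L hLd h)
    obtain ⟨h3, h4⟩ := Lib.BR.perfect_bound _ L rfl hLperf hLd (lt_trans hLlt hbig) hLs
    have hj := L.card_mul_index
    have hj1 : L.index ≠ 1 := fun h => hLt (Subgroup.index_eq_one.mp h)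
    have hj0 : L.index ≠ 0 := by
      intro h
      rw [h, mul_zero] at hj
      have := Nat.card_pos (α := G)
      omega
    have hj2 : L.index ≠ 2 := by
      intro h
      apply hLt
      have hc2 : Nat.card (G ⧸ L) = 2 := by rw [← Subgroup.index_eq_card, h]
      haveI : Fact (Nat.card (G ⧸ L)).Prime := ⟨by rw [hc2]; exact Nat.prime_two⟩
      haveI hcyc : IsCyclic (G ⧸ L) := isCyclic_of_prime_card rfl
      have hcomm : ∀ a b : G ⧸ L, a * b = b * a := (IsCyclic.commGroup (α := G ⧸ L)).mul_comm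
      rw [eq_top_iff, ← hperf, _root_.commutator_def, Subgroup.commutator_le]
      intro a _ b _
      have h5 : (QuotientGroup.mk' L) ⁅a, b⁆ = 1 := by
        rw [map_commutatorElement, commutatorElement_eq_one_iff_commute]
        exact hcomm _ _
      have h6 := MonoidHom.mem_ker.mpr h5
      rwa [QuotientGroup.ker_mk'] at h6
    have hj3 : 3 ≤ L.index := by omega
    have h5 : 3 * Nat.card L ≤ Nat.card G := by
      rw [← hj, mul_comm]
      exact Nat.mul_le_mul_left _ hj3
    exact Lib.BR.arith_three h3 h4 (lt_of_le_of_lt h5 hbig)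
  obtain ⟨M, hMn, hMt, hmax⟩ := Lib.BR.exists_simple_quot (X := G)
  haveI := hMn
  haveI hsimple : IsSimpleGroup (G ⧸ M) := Lib.BR.simple_quot hMt hmax
  have hMd : ¬ p ∣ Nat.card M := by
    intro h
    apply hMt
    have := hmin M hMn h (by rw [hLt]; exact le_top)
    rw [this, hLt]
  have hcard := Subgroup.card_eq_card_quotient_mul_card_subgroup M
  have hSd : p ∣ Nat.card (G ⧸ M) := by
    rw [hcard] at hdvd
    rcases (Nat.Prime.dvd_mul hpr).mp hdvd with h | h
    · exact h
    · exact absurd h hMd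
  have hMpos : 0 < Nat.card M := Nat.card_pos
  have hSle : Nat.card (G ⧸ M) ≤ Nat.card G := by
    rw [hcard]
    exact Nat.le_mul_of_pos_right _ hMpos
  have hcyc := Lib.BR.not_cyclic_of_perfect (Lib.BR.perfect_quot hperf M)
  have h1 := Cfsg.Agent.S0999.result hcyc p hpr hSd (lt_of_le_of_lt hSle hbig)
  obtain ⟨h3, h4⟩ := Lib.BR.card_bound hpr h1
  have hM1 : Nat.card M = 1 := by
    by_contra hne
    have h2 := h2 M hMn
    have hM3 : 3 ≤ Nat.card M := by omega
    have h5 : 3 * Nat.card (G ⧸ M) ≤ Nat.card G := by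
      rw [hcard, mul_comm]
      exact Nat.mul_le_mul_left _ hM3
    exact Lib.BR.arith_three h3 h4 (lt_of_le_of_lt h5 hbig)
  have hMb : M = ⊥ := Subgroup.eq_bot_of_card_eq M hM1
  subst hMb
  haveI hsG : IsSimpleGroup G := by
    refine ⟨fun N hN => ?_⟩
    exact hmax N hN bot_le
  have hcycG := Lib.BR.not_cyclic_of_perfect hperf
  rcases Cfsg.Agent.S0999.result hcycG p hpr hdvd hbig with h | ⟨m, F, hF, hFf, hc, hpm, hp3, ⟨φ⟩⟩
  · exact Or.inl h
  · right
    have hm0 : m ≠ 0 := by
      rintro rfl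
      simp at hpm
      omega
    obtain ⟨ψ⟩ := psl_equiv_sl hc hm0
    exact ⟨m, F, hF, hFf, hc, hpm, hp3, ⟨φ.trans ψ⟩⟩

end Cfsg.Agent.S4701
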