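import Cfsg.Statements.S3875
import Mathlib
import Cfsg.Agent.S3868
import Cfsg.Agent.S4701
import Cfsg.Agent.Lib.Classical.PSL2Klein
import Cfsg.Agent.Lib.KS2.SL2Unip
import Cfsg.Agent.Lib.SmallSimple.Recognize
import Cfsg.Agent.Lib.Perm.EvenPSL

set_option autoImplicit false
open Cfsg

namespace Cfsg.Agent.S3875

open scoped commutatorElement

theorem isPClosed_of_comm {p : ℕ} (H : Type*) [Group H] (hc : ∀ a b : H, a * b = b * a) :
    IsPClosed p H := by
  intro P
  constructor
  intro n hn g
  have : g * n * g⁻¹ = n := by rw [hc g n, mul_assoc, mul_inv_cancel, mul_one]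
  rw [this]; exact hn

/-- The lower bound in the minimal case of a simple group. -/
theorem simple_case (p : ℕ) [Fact p.Prime] (hp : p ≠ 2) (m : ℕ)
    (H : Type) [Group H] [Finite H] [IsSimpleGroup H] (hnc : ¬ IsPClosed p H) :
    min (p * m) (p * (p ^ 2 - 1) / 2) ≤ Nat.card H := by
  classical
  have hp2 := (Fact.out : p.Prime).two_le
  refine le_trans (min_le_right _ _) ?_
  by_cases hbig : Nat.card H < p ^ 3
  swap
  · refine le_trans ?_ (not_lt.mp hbig)
    refine le_trans (Nat.div_le_self _ _) ?_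
    have : p ^ 3 = p * p ^ 2 := by ring
    rw [this]
    exact Nat.mul_le_mul_left _ (Nat.sub_le _ _)
  -- the group is not commutative
  have hnab : ¬ ∀ a b : H, a * b = b * a := fun hc => hnc (isPClosed_of_comm H hc)
  have hperf : commutator H = ⊤ := by
    have hn : (commutator H).Normal := inferInstance
    rcases hn.eq_bot_or_eq_top with h | h
    · exfalso
      apply hnab
      intro a b
      have : ⁅a, b⁆ ∈ commutator H := by
        rw [commutator_def]
        exact Subgroup.commutator_mem_commutator (Subgroup.mem_top _) (Subgroup.mem_top _)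
      rw [h, Subgroup.mem_bot, commutatorElement_eq_one_iff_mul_comm] at this
      exact this
    · exact h
  obtain ⟨P, hP⟩ : ∃ P : Sylow p H, ¬ (P : Subgroup H).Normal := by
    by_contra h
    push Not at h
    exact hnc h
  have hdvd : p ∣ Nat.card H := by
    by_contra h
    apply hP
    have hb : (P : Subgroup H) = ⊥ := by
      have h1 := P.isPGroup'
      rw [← Subgroup.card_eq_one]
      obtain ⟨k, hk⟩ := (IsPGroup.iff_card.mp h1)
      rcases k with _ | k
      · simpa using hk
      · exfalso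
        apply h
        have := Subgroup.card_subgroup_dvd_card (P : Subgroup H)
        rw [hk] at this
        exact dvd_trans (dvd_pow_self p (Nat.succ_ne_zero k)) this
    rw [hb]; infer_instance
  have h2 : ∀ N : Subgroup H, N.Normal → Nat.card N ≠ 2 := by
    intro N hN hc
    rcases hN.eq_bot_or_eq_top with h | h
    · rw [h] at hc
      simp at hc
    · rw [h, Subgroup.card_top] at hc
      apply hnab
      have hp' : Nat.Prime (Nat.card H) := by rw [hc]; exact Nat.prime_two
      haveI : Fact (Nat.Prime (Nat.card H)) := ⟨hp'⟩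
      haveI := isCyclic_of_prime_card (α := H) rfl
      exact (IsCyclic.commGroup (α := H)).mul_comm
  rcases Cfsg.Agent.S4701.result hperf p hdvd hbig P hP h2 with
    ⟨F, _, _, hF, h3, ⟨e⟩⟩ | ⟨k, F, _, _, hF, hpk, h3, ⟨e⟩⟩
  · -- `PSL(2, p)`
    rw [Nat.card_congr e.toEquiv]
    have h20 : (2 : F) ≠ 0 := by
      haveI : CharP F p := by
        obtain ⟨r, hr⟩ := CharP.exists F
        obtain ⟨n, hrp, hn⟩ := FiniteField.card F r
        have : r = p := by
          have h1 : r ∣ p := by
            rw [← hF, hn]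
            exact dvd_pow_self r n.ne_zero
          exact (Nat.prime_dvd_prime_iff_eq hrp (Fact.out : p.Prime)).mp h1
        rw [← this]; exact hr
      have := CharP.cast_eq_zero_iff F p 2
      intro h
      have h' : ((2 : ℕ) : F) = 0 := by exact_mod_cast h
      have := (this.mp h')
      have := Nat.le_of_dvd (by norm_num) this
      omega
    have := Cfsg.Agent.Lib.Classical.P2.card_PSL2 (F := F) h20
    rw [hF] at this
    have hp21 : p ^ 2 - 1 = (p - 1) * (p + 1) := by
      obtain ⟨r, rfl⟩ : ∃ r, p = r + 1 := ⟨p - 1, by omega⟩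
      simp only [Nat.add_sub_cancel]
      rw [show (r + 1) ^ 2 = r * (r + 1 + 1) + 1 by ring]
      simp
    rw [hp21, ← this]
    simp
  · -- `SL(2, 2 ^ k)`
    rw [Nat.card_congr e.toEquiv, Cfsg.Agent.Lib.KS2.SL2.card_SL2, hF]
    have hk2 : 4 ≤ 2 ^ k := by
      have h5 : 3 ≤ 2 ^ k := by omega
      rcases k with _ | _ | k
      · norm_num at h5
      · norm_num at h5
      · rw [pow_add, pow_add]
        have : 1 ≤ 2 ^ k := Nat.one_le_two_pow
        omega
    obtain ⟨r, hr⟩ : ∃ r, 2 ^ k = r + 4 := ⟨2 ^ k - 4, by omega⟩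
    rw [hr] at hpk ⊢
    subst hpk
    apply Nat.div_le_of_le_mul
    have e1 : (r + 4 + 1) ^ 2 - 1 = r ^ 2 + 10 * r + 24 := by
      rw [show (r + 4 + 1) ^ 2 = r ^ 2 + 10 * r + 24 + 1 by ring]; simp
    have e2 : (r + 4) ^ 2 - 1 = r ^ 2 + 8 * r + 15 := by
      rw [show (r + 4) ^ 2 = r ^ 2 + 8 * r + 15 + 1 by ring]; simp
    rw [e1, e2]
    nlinarith [sq_nonneg r, Nat.zero_le r]

/-- The lower bound. -/
theorem lower (p : ℕ) [Fact p.Prime] (hp : p ≠ 2) (m : ℕ)
    (hleast : ∀ k : ℕ, IsPrimePow k → k % p = 1 → m ≤ k) :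
    ∀ (n : ℕ) (H : Type) [Group H] [Finite H], Nat.card H = n → ¬ IsPClosed p H →
      min (p * m) (p * (p ^ 2 - 1) / 2) ≤ n := by
  intro n
  induction n using Nat.strong_induction_on with
  | _ n ih =>
    intro H _ _ hn hnc
    by_cases h1 : ∃ K : Subgroup H, K ≠ ⊤ ∧ ¬ IsPClosed p K
    · obtain ⟨K, hK, hKc⟩ := h1
      have hlt : Nat.card K < n := by
        rw [← hn]
        have h3 : Nat.card K ≠ Nat.card H := fun h => hK (Subgroup.eq_top_of_card_eq K h)
        have h4 : Nat.card K ≤ Nat.card H :=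
          Nat.le_of_dvd Nat.card_pos (Subgroup.card_subgroup_dvd_card K)
        omega
      exact le_trans (ih _ hlt K rfl hKc) hlt.le
    by_cases h2 : ∃ (N : Subgroup H) (_ : N.Normal), N ≠ ⊥ ∧ ¬ IsPClosed p (H ⧸ N)
    · obtain ⟨N, hN, hNb, hNc⟩ := h2
      have hlt : Nat.card (H ⧸ N) < n := by
        rw [← hn]
        have h3 := N.card_eq_card_quotient_mul_card_subgroup
        have h4 : 1 < Nat.card N := by
          rw [Finite.one_lt_card_iff_nontrivial]
          exact (Subgroup.nontrivial_iff_ne_bot N).mpr hNb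
        have h5 : 0 < Nat.card (H ⧸ N) := Nat.card_pos
        rw [h3]
        nlinarith
      exact le_trans (ih _ hlt (H ⧸ N) rfl hNc) hlt.le
    push Not at h1 h2
    subst hn
    by_cases hs : IsSimpleGroup H
    · exact simple_case p hp m H hnc
    · obtain ⟨q, hq, hqp, hcard, -⟩ := Cfsg.Agent.S3868.result hnc h1
        (fun N hN hNb => h2 N hN hNb) hs
      rw [hcard]
      refine le_trans (min_le_left _ _) (Nat.mul_le_mul_left _ ?_)
      have hne : (q : ZMod p) ≠ 0 := by
        intro h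
        have h1 := (ZMod.natCast_eq_zero_iff q p).mp h
        exact hqp ((Nat.prime_dvd_prime_iff_eq (Fact.out : p.Prime) hq).mp h1).symm
      have hp2 := (Fact.out : p.Prime).two_le
      apply hleast
      · refine (isPrimePow_nat_iff _).mpr ⟨q, orderOf (q : ZMod p), hq, ?_, rfl⟩
        exact orderOf_pos_iff.mpr (isOfFinOrder_iff_pow_eq_one.mpr
          ⟨p - 1, by omega, ZMod.pow_card_sub_one_eq_one hne⟩)
      · have h1 : ((q ^ orderOf (q : ZMod p) : ℕ) : ZMod p) = ((1 : ℕ) : ZMod p) := by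
          push_cast
          exact pow_orderOf_eq_one _
        have h2 := (ZMod.natCast_eq_natCast_iff' _ _ _).mp h1
        rw [h2]
        exact Nat.mod_eq_of_lt (by omega)

/-- The affine example. -/
theorem affine_example (p : ℕ) [Fact p.Prime] (m : ℕ) (hm : IsPrimePow m) (hm1 : m % p = 1) :
    ∃ (H : Type) (_ : Group H) (_ : Finite H), Nat.card H = p * m ∧ ¬ IsPClosed p H := by
  classical
  have hp2 := (Fact.out : p.Prime).two_le
  obtain ⟨q, a, hq, ha, rfl⟩ := (isPrimePow_nat_iff _).mp hm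
  haveI : Fact q.Prime := ⟨hq⟩
  let F := GaloisField q a
  have hcard : Nat.card F = q ^ a := GaloisField.card q a ha.ne'
  haveI : Finite F := Nat.finite_of_card_ne_zero (by rw [hcard]; exact (pow_pos hq.pos _).ne')
  have hqp : q ≠ p := by
    rintro rfl
    rw [Nat.pow_mod, Nat.mod_self, zero_pow ha.ne'] at hm1
    simp at hm1
  have hdv : p ∣ Nat.card Fˣ := by
    rw [Nat.card_units, hcard]
    exact (Nat.modEq_iff_dvd' (by
      have : 1 ≤ q ^ a := Nat.one_le_pow _ _ hq.pos
      exact this)).mp (by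
        change 1 % p = q ^ a % p
        rw [hm1]
        exact Nat.mod_eq_of_lt (by omega))
  haveI : Finite Fˣ := inferInstance
  obtain ⟨u, hu⟩ := exists_prime_orderOf_dvd_card' p hdv
  let U : Subgroup Fˣ := Subgroup.zpowers u
  have hUc : Nat.card U = p := by rw [Nat.card_zpowers, hu]
  let φ : U →* MulAut (Multiplicative F) :=
    { toFun := fun v =>
        { toFun := fun x => Multiplicative.ofAdd (((v : Fˣ) : F) * Multiplicative.toAdd x)
          invFun := fun x => Multiplicative.ofAdd (((v⁻¹ : U) : Fˣ) * Multiplicative.toAdd x)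
          left_inv := fun x => by simp
          right_inv := fun x => by simp
          map_mul' := fun x y => by
            simp [mul_add] }
      map_one' := by ext x; simp
      map_mul' := fun v w => by
        ext x
        simp [mul_assoc] }
  haveI : Finite (Multiplicative F) := Finite.of_equiv F Multiplicative.ofAdd
  refine ⟨Multiplicative F ⋊[φ] U, inferInstance,
    Finite.of_equiv (Multiplicative F × U) SemidirectProduct.equivProd.symm, ?_, ?_⟩
  · rw [SemidirectProduct.card, hUc]
    have : Nat.card (Multiplicative F) = q ^ a := by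
      rw [Nat.card_congr Multiplicative.toAdd, hcard]
    rw [this, mul_comm]
  · haveI : Finite (Multiplicative F ⋊[φ] U) :=
      Finite.of_equiv (Multiplicative F × U) SemidirectProduct.equivProd.symm
    intro hcl
    -- the element of order `p`
    let v : U := ⟨u, Subgroup.mem_zpowers u⟩
    let x : Multiplicative F ⋊[φ] U := SemidirectProduct.inr v
    have hv : v ^ p = 1 := by
      apply Subtype.ext
      change u ^ p = 1
      rw [← hu]; exact pow_orderOf_eq_one u
    have hxp : x ^ p = 1 := by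
      rw [← map_pow, hv, map_one]
    have hxg : IsPGroup p (Subgroup.zpowers x) := by
      intro g
      obtain ⟨z, hz⟩ := Subgroup.mem_zpowers_iff.mp g.2
      refine ⟨1, Subtype.ext ?_⟩
      change (g : Multiplicative F ⋊[φ] U) ^ (p ^ 1) = 1
      rw [← hz, pow_one, ← zpow_natCast, ← zpow_mul, mul_comm, zpow_mul, zpow_natCast, hxp,
        one_zpow]
    obtain ⟨P, hP⟩ := hxg.exists_le_sylow
    have hxP : x ∈ (P : Subgroup _) := hP (Subgroup.mem_zpowers x)
    have hn := hcl P
    -- the commutator with the normal part lies in both parts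
    let n : Multiplicative F ⋊[φ] U := SemidirectProduct.inl (Multiplicative.ofAdd (1 : F))
    have hc : n * x * n⁻¹ * x⁻¹ ∈ (P : Subgroup _) :=
      Subgroup.mul_mem _ (hn.conj_mem x hxP n) (Subgroup.inv_mem _ hxP)
    have hcomp : n * x * n⁻¹ * x⁻¹ =
        SemidirectProduct.inl (Multiplicative.ofAdd (1 - ((u : Fˣ) : F))) := by
      have h1 : (SemidirectProduct.inl (φ v (Multiplicative.ofAdd (-1 : F))) :
          Multiplicative F ⋊[φ] U) = x * SemidirectProduct.inl (Multiplicative.ofAdd (-1 : F)) * x⁻¹ := by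
        rw [SemidirectProduct.inl_aut]
        simp [x]
      have h2 : n⁻¹ = SemidirectProduct.inl (Multiplicative.ofAdd (-1 : F)) := by
        simp only [n, ← map_inv]
        rfl
      rw [mul_assoc n, mul_assoc n, h2, ← h1]
      simp only [n, ← map_mul]
      congr 1
      apply Multiplicative.toAdd.injective
      simp [φ, v, sub_eq_add_neg]
      exact mul_neg_one _
    obtain ⟨k, hk⟩ := P.isPGroup' ⟨_, hc⟩
    have hk' : (n * x * n⁻¹ * x⁻¹) ^ (p ^ k) = 1 := by
      have := congrArg Subtype.val hk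
      simpa using this
    rw [hcomp, ← map_pow] at hk'
    have hinj : Function.Injective (SemidirectProduct.inl :
        Multiplicative F →* Multiplicative F ⋊[φ] U) := SemidirectProduct.inl_injective
    have hk'' := hinj (hk'.trans (map_one _).symm)
    have hk3 : ((p ^ k : ℕ) : F) * (1 - ((u : Fˣ) : F)) = 0 := by
      have := congrArg Multiplicative.toAdd hk''
      simpa [toAdd_pow, nsmul_eq_mul] using this
    haveI : CharP F q := inferInstance
    have h4 : ((p ^ k : ℕ) : F) ≠ 0 := by
      intro h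
      have h5 := (CharP.cast_eq_zero_iff F q (p ^ k)).mp h
      have h6 := hq.dvd_of_dvd_pow h5
      exact hqp ((Nat.prime_dvd_prime_iff_eq hq (Fact.out : p.Prime)).mp h6)
    have h5 : (u : F) = 1 := by
      have := (mul_eq_zero.mp hk3).resolve_left h4
      exact (sub_eq_zero.mp this).symm
    have h6 : u = 1 := Units.ext h5
    rw [h6, orderOf_one] at hu
    omega

/-- The projective special linear group is not `p`-closed. -/
theorem psl_not_closed (p : ℕ) [Fact p.Prime] (hp : p ≠ 2) :
    ¬ IsPClosed p (Matrix.ProjectiveSpecialLinearGroup (Fin 2) (ZMod p)) := by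
  classical
  intro hcl
  have hp2 := (Fact.out : p.Prime).two_le
  obtain ⟨m, hm⟩ : ∃ m, 2 * m = p - 1 := by
    have h1 : p % 2 = 1 := Nat.mod_two_ne_zero.mp (fun h => hp
      ((Nat.prime_dvd_prime_iff_eq Nat.prime_two (Fact.out : p.Prime)).mp (Nat.dvd_of_mod_eq_zero h)).symm)
    exact ⟨p / 2, by omega⟩
  have hcard := Cfsg.Agent.Lib.SmallSimple.card_psl_zmod (p := p) hm
  let π : Matrix.SpecialLinearGroup (Fin 2) (ZMod p) →*
      Matrix.ProjectiveSpecialLinearGroup (Fin 2) (ZMod p) := QuotientGroup.mk' _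
  let u : Matrix.SpecialLinearGroup (Fin 2) (ZMod p) := Lib.Perm.EvenPSL.ut 1
  let v : Matrix.SpecialLinearGroup (Fin 2) (ZMod p) := Lib.Perm.EvenPSL.vt 1
  have hup : ∀ k : ℕ, u ^ k = Lib.Perm.EvenPSL.ut (k : ZMod p) := by
    intro k
    induction k with
    | zero => simp [Lib.Perm.EvenPSL.ut_zero]
    | succ k ih =>
      rw [pow_succ, ih, Lib.Perm.EvenPSL.ut_add]
      push_cast
      rfl
  have hu1 : u ^ p = 1 := by
    rw [hup]
    simp [Lib.Perm.EvenPSL.ut_zero]
  let w : Matrix.SpecialLinearGroup (Fin 2) (ZMod p) := Lib.Perm.EvenPSL.wm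
  have hv0 : v = w * u⁻¹ * w⁻¹ := by
    have h1 : w * Lib.Perm.EvenPSL.ut (-1) = Lib.Perm.EvenPSL.vt (- -1) * w := Lib.Perm.EvenPSL.wm_ut _
    have h2 : (Lib.Perm.EvenPSL.ut (-1 : ZMod p)) = u⁻¹ := by
      apply eq_inv_of_mul_eq_one_left
      change Lib.Perm.EvenPSL.ut (-1 : ZMod p) * Lib.Perm.EvenPSL.ut 1 = 1
      rw [Lib.Perm.EvenPSL.ut_add]
      simp [Lib.Perm.EvenPSL.ut_zero]
    rw [h2, neg_neg] at h1
    rw [h1]
    simp [v]
  have hv1 : v ^ p = 1 := by
    have h1 : v ^ p = w * (u⁻¹) ^ p * w⁻¹ := by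
      rw [hv0]
      exact conj_pow
    rw [h1, inv_pow, hu1]
    simp
  have hpg : ∀ x : Matrix.ProjectiveSpecialLinearGroup (Fin 2) (ZMod p), x ^ p = 1 →
      IsPGroup p (Subgroup.zpowers x) := by
    intro x hx g
    obtain ⟨z, hz⟩ := Subgroup.mem_zpowers_iff.mp g.2
    refine ⟨1, Subtype.ext ?_⟩
    change (g : Matrix.ProjectiveSpecialLinearGroup (Fin 2) (ZMod p)) ^ (p ^ 1) = 1
    rw [← hz, pow_one, ← zpow_natCast, ← zpow_mul, mul_comm, zpow_mul, zpow_natCast, hx, one_zpow]
  obtain ⟨P, hP⟩ := (hpg (π u) (by rw [← map_pow, hu1, map_one])).exists_le_sylow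
  obtain ⟨P', hP'⟩ := (hpg (π v) (by rw [← map_pow, hv1, map_one])).exists_le_sylow
  haveI := Sylow.unique_of_normal P (hcl P)
  have hPP : P' = P := Subsingleton.elim _ _
  subst hPP
  have hxu : π u ∈ P'.toSubgroup := hP (Subgroup.mem_zpowers _)
  have hxv : π v ∈ P'.toSubgroup := hP' (Subgroup.mem_zpowers _)
  -- the Sylow subgroup has order at most `p`
  have hcomm : (π u) * (π v) = (π v) * (π u) := by
    obtain ⟨k, hk⟩ := IsPGroup.iff_card.mp P'.isPGroup'
    have hd := Subgroup.card_subgroup_dvd_card P'.toSubgroup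
    rw [hk, hcard] at hd
    have hcop : ¬ p ∣ (p + 1) * m := by
      intro h
      rcases (Fact.out : p.Prime).dvd_mul.mp h with h1 | h1
      · have : p ∣ 1 := (Nat.dvd_add_right (dvd_refl p)).mp h1
        have := Nat.le_of_dvd (by norm_num) this
        omega
      · have hm0 : 0 < m := by omega
        have := Nat.le_of_dvd hm0 h1
        omega
    have hk1 : k ≤ 1 := by
      by_contra hk2
      push Not at hk2
      apply hcop
      have h3 : p ^ 2 ∣ (p + 1) * p * m := dvd_trans (pow_dvd_pow p hk2) hd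
      rw [show (p + 1) * p * m = p * ((p + 1) * m) by ring, pow_two] at h3
      exact Nat.dvd_of_mul_dvd_mul_left (Fact.out : p.Prime).pos h3
    interval_cases k
    · have hb : P'.toSubgroup = ⊥ := by
        rw [← Subgroup.card_eq_one]
        simpa using hk
      rw [hb, Subgroup.mem_bot] at hxu hxv
      rw [hxu, hxv]
    · rw [pow_one] at hk
      haveI := isCyclic_of_prime_card (α := P'.toSubgroup) hk
      have := (IsCyclic.commGroup (α := P'.toSubgroup)).mul_comm ⟨_, hxu⟩ ⟨_, hxv⟩
      exact congrArg Subtype.val this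
  have hz : (u * v)⁻¹ * (v * u) ∈ Subgroup.center (Matrix.SpecialLinearGroup (Fin 2) (ZMod p)) := by
    have h1 : π (u * v) = π (v * u) := by rw [map_mul, map_mul, hcomm]
    exact QuotientGroup.eq.mp h1
  obtain ⟨r, -, hr⟩ := Matrix.SpecialLinearGroup.mem_center_iff.mp hz
  have h2 : (v * u) = (u * v) * ((u * v)⁻¹ * (v * u)) := by group
  have h3 := congrArg (fun A : Matrix.SpecialLinearGroup (Fin 2) (ZMod p) =>
    (A : Matrix (Fin 2) (Fin 2) (ZMod p))) h2
  simp only [Matrix.SpecialLinearGroup.coe_mul _ ((u * v)⁻¹ * (v * u))] at h3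
  rw [← hr] at h3
  have h4 : ((u * v : Matrix.SpecialLinearGroup (Fin 2) (ZMod p)) : Matrix (Fin 2) (Fin 2) (ZMod p)) =
      !![1 + 1 * 1, 1; 1, 1] := Lib.Perm.EvenPSL.coe_ut_mul_vt 1 1
  have h5 : ((v * u : Matrix.SpecialLinearGroup (Fin 2) (ZMod p)) : Matrix (Fin 2) (Fin 2) (ZMod p)) =
      !![1, 1; 1, 1 + 1 * 1] := by
    change !![1, 0; 1, 1] * !![1, 1; 0, 1] = _
    rw [Matrix.mul_fin_two]
    simp
  simp only [h4, h5] at h3
  have e1 := congrFun (congrFun h3 0) 0
  have e2 := congrFun (congrFun h3 0) 1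
  simp [Matrix.mul_apply, Fin.sum_univ_two] at e1 e2
  have e3 : (1 : ZMod p) = 0 := by
    rw [← e2] at e1
    linear_combination -e1
  exact one_ne_zero e3

/-- The example of the projective special linear group. -/
theorem psl_example (p : ℕ) [Fact p.Prime] (hp : p ≠ 2) :
    ∃ (H : Type) (_ : Group H) (_ : Finite H), Nat.card H = p * (p ^ 2 - 1) / 2 ∧ ¬ IsPClosed p H := by
  have hp2 := (Fact.out : p.Prime).two_le
  obtain ⟨m, hm⟩ : ∃ m, 2 * m = p - 1 := by
    have h1 : p % 2 = 1 := Nat.mod_two_ne_zero.mp (fun h => hp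
      ((Nat.prime_dvd_prime_iff_eq Nat.prime_two (Fact.out : p.Prime)).mp (Nat.dvd_of_mod_eq_zero h)).symm)
    exact ⟨p / 2, by omega⟩
  refine ⟨Matrix.ProjectiveSpecialLinearGroup (Fin 2) (ZMod p), inferInstance, inferInstance, ?_,
    psl_not_closed p hp⟩
  rw [Cfsg.Agent.Lib.SmallSimple.card_psl_zmod (p := p) hm]
  obtain ⟨r, hr⟩ : ∃ r, p = r + 1 := ⟨p - 1, by omega⟩
  have hr2 : r = 2 * m := by omega
  subst hr
  subst hr2
  have : (2 * m + 1) ^ 2 - 1 = 4 * m * (m + 1) := by
    rw [show (2 * m + 1) ^ 2 = 4 * m * (m + 1) + 1 by ring]; simp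
  rw [this]
  symm
  apply Nat.div_eq_of_eq_mul_left (by norm_num)
  ring

theorem result (p : ℕ) [Fact p.Prime] (hp : p ≠ 2) (m : ℕ) (hm : IsPrimePow m) (hm1 : m % p = 1)
    (hleast : ∀ k : ℕ, IsPrimePow k → k % p = 1 → m ≤ k) :
    (∀ (H : Type) [Group H] [Finite H], ¬ Cfsg.IsPClosed p H → min (p * m) (p * (p ^ 2 - 1) / 2) ≤ Nat.card H) ∧
      ∃ (H : Type) (_ : Group H) (_ : Finite H), Nat.card H = min (p * m) (p * (p ^ 2 - 1) / 2) ∧ ¬ Cfsg.IsPClosed p H := by
  refine ⟨fun H _ _ h => lower p hp m hleast _ H rfl h, ?_⟩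
  rcases le_total (p * m) (p * (p ^ 2 - 1) / 2) with h | h
  · rw [min_eq_left h]
    exact affine_example p m hm hm1
  · rw [min_eq_right h]
    exact psl_example p hp

end Cfsg.Agent.S3875
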