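import Cfsg.Statements.S3889
import Mathlib

set_option autoImplicit false
open Cfsg

namespace Cfsg.Agent.S3889

/-- A finite abelian group that is the union of a family of proper subgroups any two of which intersect trivially is elementary abelian: its exponent is a prime. -/
theorem result {G : Type*} [CommGroup G] [Finite G] (𝓑 : Set (Subgroup G)) (hprop : ∀ B ∈ 𝓑, B ≠ ⊤)
    (hcov : ∀ g : G, ∃ B ∈ 𝓑, g ∈ B) (hdisj : ∀ B ∈ 𝓑, ∀ C ∈ 𝓑, B ≠ C → B ⊓ C = ⊥) :
    (Monoid.exponent G).Prime := by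
  classical
  have hmeet : ∀ B ∈ 𝓑, ∀ C ∈ 𝓑, B ≠ C → ∀ z, z ∈ B → z ∈ C → z = 1 := by
    intro B hB C hC hBC z hz1 hz2
    have : z ∈ B ⊓ C := ⟨hz1, hz2⟩
    rw [hdisj B hB C hC hBC] at this
    simpa using this
  -- two elements in different blocks have the same order
  have key : ∀ B ∈ 𝓑, ∀ x ∈ B, x ≠ 1 → ∀ y, y ∉ B → orderOf x = orderOf y := by
    intro B hB x hx hx1 y hy
    obtain ⟨C, hC, hyC⟩ := hcov y
    obtain ⟨D, hD, hxyD⟩ := hcov (x * y)
    have hBC : B ≠ C := fun h => hy (h ▸ hyC)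
    have hBD : B ≠ D := by
      rintro rfl
      apply hy
      have : y = x⁻¹ * (x * y) := by group
      rw [this]; exact mul_mem (inv_mem hx) hxyD
    have hCD : C ≠ D := by
      rintro rfl
      apply hx1
      refine hmeet B hB C hC hBC x hx ?_
      have : x = (x * y) * y⁻¹ := by group
      rw [this]; exact mul_mem hxyD (inv_mem hyC)
    apply Nat.dvd_antisymm
    · apply orderOf_dvd_of_pow_eq_one
      have h1 : (x * y) ^ orderOf y = x ^ orderOf y := by
        rw [mul_pow, pow_orderOf_eq_one, mul_one]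
      refine hmeet B hB D hD hBD _ (pow_mem hx _) ?_
      rw [← h1]; exact pow_mem hxyD _
    · apply orderOf_dvd_of_pow_eq_one
      have h1 : (x * y) ^ orderOf x = y ^ orderOf x := by
        rw [mul_pow, pow_orderOf_eq_one, one_mul]
      refine hmeet C hC D hD hCD _ (pow_mem hyC _) ?_
      rw [← h1]; exact pow_mem hxyD _
  -- a non-identity element
  obtain ⟨B₀, hB₀, -⟩ := hcov 1
  obtain ⟨y₀, hy₀⟩ : ∃ y, y ∉ B₀ := by
    by_contra h
    push Not at h
    exact hprop B₀ hB₀ (eq_top_iff.mpr (fun y _ => h y))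
  have hy₀1 : y₀ ≠ 1 := fun h => hy₀ (h ▸ one_mem _)
  obtain ⟨C₀, hC₀, hy₀C⟩ := hcov y₀
  obtain ⟨y₁, hy₁⟩ : ∃ y, y ∉ C₀ := by
    by_contra h
    push Not at h
    exact hprop C₀ hC₀ (eq_top_iff.mpr (fun y _ => h y))
  have h01 : orderOf y₀ = orderOf y₁ := key C₀ hC₀ y₀ hy₀C hy₀1 y₁ hy₁
  have hall : ∀ g : G, g ≠ 1 → orderOf g = orderOf y₀ := by
    intro g hg
    obtain ⟨E, hE, hgE⟩ := hcov g
    by_cases hEC : E = C₀
    · subst hEC
      rw [h01]
      exact key E hE g hgE hg y₁ hy₁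
    · have hgC : g ∉ C₀ := fun h => hg (hmeet E hE C₀ hC₀ hEC g hgE h)
      exact (key C₀ hC₀ y₀ hy₀C hy₀1 g hgC).symm
  set n := orderOf y₀ with hn
  have hn1 : n ≠ 1 := fun h => hy₀1 (orderOf_eq_one_iff.mp h)
  have hnpos : 0 < n := orderOf_pos y₀
  have hprime : n.Prime := by
    have hq := Nat.minFac_prime hn1
    have hdvd := Nat.minFac_dvd n
    have hord : orderOf (y₀ ^ (n / n.minFac)) = n.minFac := by
      rw [orderOf_pow_orderOf_div hnpos.ne' hdvd]
    have hne : y₀ ^ (n / n.minFac) ≠ 1 := by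
      intro h
      rw [h, orderOf_one] at hord
      exact hq.one_lt.ne hord
    have := hall _ hne
    rw [hord] at this
    rw [← this]; exact hq
  have hexp : Monoid.exponent G = n := by
    apply Nat.dvd_antisymm
    · apply Monoid.exponent_dvd_of_forall_pow_eq_one
      intro g
      by_cases hg : g = 1
      · simp [hg]
      · rw [← hall g hg]; exact pow_orderOf_eq_one g
    · exact Monoid.order_dvd_exponent y₀
  rw [hexp]; exact hprime

end Cfsg.Agent.S3889
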