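import Cfsg.Statements.S3890
import Mathlib
import Cfsg.Agent.Lib.PGroup.NilCover
-- import your own Cfsg.Agent.* helpers here

set_option autoImplicit false
open Cfsg

namespace Cfsg.Agent.S3890

/-- A cover of a group is a finite set of proper subgroups whose union is the whole group; it is minimal when no cover has fewer members, and nilpotent when all its members are nilpotent. Let G be a finite group with trivial center admitting a nilpotent minimal cover 𝓐, and let P be an abelian Sylow p-subgroup of G that is not normal. Then either P is elementary abelian of order greater than p, or P is a Sylow p-subgroup of some member A of 𝓐, the normalizer N of P is a maximal subgroup of G, N meets each of its conjugates by elements outside N in a subgroup of order prime to p, and the centralizer of P equals A. -/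
theorem result {G : Type*} [Group G] [Finite G] (hZ : Subgroup.center G = ⊥) (𝓐 : Finset (Subgroup G))
    (h𝓐 : ((∀ A ∈ 𝓐, A ≠ ⊤) ∧ (∀ g : G, ∃ A ∈ 𝓐, g ∈ A)) ∧ (∀ 𝓑 : Finset (Subgroup G), (∀ A ∈ 𝓑, A ≠ ⊤) ∧ (∀ g : G, ∃ A ∈ 𝓑, g ∈ A) → 𝓐.card ≤ 𝓑.card) ∧ (∀ A ∈ 𝓐, Group.IsNilpotent ↥A)) {p : ℕ} [Fact p.Prime] (P : Sylow p G) (hab : IsMulCommutative ↥(P : Subgroup G))
    (hnn : ¬ (P : Subgroup G).Normal) :
    (Cfsg.IsElementaryAbelian p (P : Subgroup G) ∧ p < Nat.card ↥(P : Subgroup G)) ∨
    (∃ A ∈ 𝓐, (P : Subgroup G) ≤ A ∧ ¬ p ∣ ((P : Subgroup G).subgroupOf A).index ∧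
      IsCoatom (Subgroup.normalizer ((P : Subgroup G) : Set G)) ∧
      (∀ g : G, g ∉ Subgroup.normalizer ((P : Subgroup G) : Set G) →
        ¬ p ∣ Nat.card ↥(Subgroup.normalizer ((P : Subgroup G) : Set G) ⊓
          (Subgroup.normalizer ((P : Subgroup G) : Set G)).map (MulAut.conj g).toMonoidHom)) ∧
      Subgroup.centralizer ((P : Subgroup G) : Set G) = A) := by
  have hN : Cfsg.Agent.Lib.PGroup.NilCover.NC 𝓐 := ⟨h𝓐.1.1, h𝓐.1.2, h𝓐.2.1, h𝓐.2.2⟩
  by_cases hE : Cfsg.IsElementaryAbelian p (P : Subgroup G) ∧ p < Nat.card ↥(P : Subgroup G)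
  · exact Or.inl hE
  right
  have hPne : (P : Subgroup G) ≠ ⊥ := by
    intro h0
    apply hnn
    rw [h0]
    infer_instance
  have hgood : (∃ x ∈ (P : Subgroup G), (P : Subgroup G) ≤ Subgroup.zpowers x) ∨
      (∃ x ∈ (P : Subgroup G), x ^ p ≠ 1) := by
    by_cases hel : Cfsg.IsElementaryAbelian p (P : Subgroup G)
    · left
      have hc : ¬ p < Nat.card ↥(P : Subgroup G) := fun h => hE ⟨hel, h⟩
      obtain ⟨k, hk⟩ := IsPGroup.iff_card.mp P.isPGroup'
      have hk0 : k ≠ 0 := by
        rintro rfl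
        apply hPne
        exact Subgroup.eq_bot_of_card_eq _ (by simpa using hk)
      have h1 : k = 1 := by
        by_contra hk1
        apply hc
        rw [hk]
        have hp1 := (Fact.out : p.Prime).one_lt
        calc p = p ^ 1 := (pow_one p).symm
          _ < p ^ k := Nat.pow_lt_pow_right hp1 (by omega)
      subst h1
      rw [pow_one] at hk
      haveI : Fact (Nat.card ↥(P : Subgroup G)).Prime := by
        rw [hk]
        infer_instance
      haveI : IsCyclic ↥(P : Subgroup G) := isCyclic_of_prime_card rfl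
      obtain ⟨x, hx⟩ := IsCyclic.exists_generator (α := ↥(P : Subgroup G))
      refine ⟨x, x.2, ?_⟩
      intro y hy
      obtain ⟨j, hj⟩ := Subgroup.mem_zpowers_iff.mp (hx ⟨y, hy⟩)
      refine Subgroup.mem_zpowers_iff.mpr ⟨j, ?_⟩
      exact congrArg Subtype.val hj
    · right
      by_contra hcon
      push Not at hcon
      exact hel ⟨hab, hcon⟩
  obtain ⟨⟨A, hA, hPA, hCA⟩, hM, hS⟩ := hN.main hZ P hab hnn hgood
  refine ⟨A, hA, hPA, ?_, ?_, hS, hCA⟩
  · intro hd
    apply P.not_dvd_index
    rw [← Subgroup.relIndex_mul_index hPA]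
    exact Dvd.dvd.mul_right hd _
  · refine ⟨?_, ?_⟩
    · intro h0
      exact hnn (Subgroup.normalizer_eq_top_iff.mp h0)
    · intro b hb
      by_contra hbt
      have h1 : Subgroup.centralizer ((P : Subgroup G) : Set G) ≤ b :=
        (Cfsg.Agent.Lib.PGroup.NilCover.centralizer_le_normalizer' _).trans hb.le
      exact absurd (hM b hbt h1) (not_le_of_gt hb)

end Cfsg.Agent.S3890
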