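import Cfsg.Statements.S3891
import Mathlib
import Cfsg.Agent.Lib.PGroup.NilCover
-- import your own Cfsg.Agent.* helpers here

set_option autoImplicit false
open Cfsg

namespace Cfsg.Agent.S3891

/-- A cover of a group is a finite set of proper subgroups whose union is the whole group; it is minimal when no cover has fewer members, and nilpotent when all its members are nilpotent. Let G be a finite group with trivial center admitting a nilpotent minimal cover, and let P be a non-normal Sylow p-subgroup of G that is cyclic, or abelian but not elementary abelian. Then the centralizer of P is nilpotent and the normalizer of P is the unique maximal subgroup of G containing the centralizer of P. -/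
theorem result {G : Type*} [Group G] [Finite G] (hZ : Subgroup.center G = ⊥) (𝓐 : Finset (Subgroup G))
    (h𝓐 : ((∀ A ∈ 𝓐, A ≠ ⊤) ∧ (∀ g : G, ∃ A ∈ 𝓐, g ∈ A)) ∧ (∀ 𝓑 : Finset (Subgroup G), (∀ A ∈ 𝓑, A ≠ ⊤) ∧ (∀ g : G, ∃ A ∈ 𝓑, g ∈ A) → 𝓐.card ≤ 𝓑.card) ∧ (∀ A ∈ 𝓐, Group.IsNilpotent ↥A)) {p : ℕ} [Fact p.Prime] (P : Sylow p G)
    (hP : IsCyclic ↥(P : Subgroup G) ∨ (IsMulCommutative ↥(P : Subgroup G) ∧ ¬ Cfsg.IsElementaryAbelian p (P : Subgroup G)))
    (hnn : ¬ (P : Subgroup G).Normal) :
    Group.IsNilpotent ↥(Subgroup.centralizer ((P : Subgroup G) : Set G)) ∧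
      IsCoatom (Subgroup.normalizer ((P : Subgroup G) : Set G)) ∧
      ∀ M : Subgroup G, IsCoatom M → Subgroup.centralizer ((P : Subgroup G) : Set G) ≤ M →
        M = Subgroup.normalizer ((P : Subgroup G) : Set G) := by
  have hN : Cfsg.Agent.Lib.PGroup.NilCover.NC 𝓐 := ⟨h𝓐.1.1, h𝓐.1.2, h𝓐.2.1, h𝓐.2.2⟩
  have hab : IsMulCommutative ↥(P : Subgroup G) := by
    rcases hP with hc | hc
    · letI := IsCyclic.commGroup (α := ↥(P : Subgroup G))
      exact ⟨⟨fun x y => mul_comm x y⟩⟩
    · exact hc.1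
  have hPne : (P : Subgroup G) ≠ ⊥ := by
    intro h0
    apply hnn
    rw [h0]
    infer_instance
  have hgood : (∃ x ∈ (P : Subgroup G), (P : Subgroup G) ≤ Subgroup.zpowers x) ∨
      (∃ x ∈ (P : Subgroup G), x ^ p ≠ 1) := by
    rcases hP with hc | hc
    · left
      obtain ⟨x, hx⟩ := IsCyclic.exists_generator (α := ↥(P : Subgroup G))
      refine ⟨x, x.2, ?_⟩
      intro y hy
      obtain ⟨j, hj⟩ := Subgroup.mem_zpowers_iff.mp (hx ⟨y, hy⟩)
      refine Subgroup.mem_zpowers_iff.mpr ⟨j, ?_⟩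
      exact congrArg Subtype.val hj
    · right
      by_contra hcon
      push Not at hcon
      exact hc.2 ⟨hab, hcon⟩
  obtain ⟨⟨A, hA, hPA, hCA⟩, hM, hS⟩ := hN.main hZ P hab hnn hgood
  refine ⟨?_, ?_, ?_⟩
  · rw [hCA]
    exact hN.nil A hA
  · refine ⟨?_, ?_⟩
    · intro h0
      exact hnn (Subgroup.normalizer_eq_top_iff.mp h0)
    · intro b hb
      by_contra hbt
      have h1 : Subgroup.centralizer ((P : Subgroup G) : Set G) ≤ b :=
        (Cfsg.Agent.Lib.PGroup.NilCover.centralizer_le_normalizer' _).trans hb.le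
      exact absurd (hM b hbt h1) (not_le_of_gt hb)
  · intro M hMc hCM
    have h1 := hM M hMc.1 hCM
    have h2 : Subgroup.normalizer ((P : Subgroup G) : Set G) ≠ ⊤ := by
      intro h0
      exact hnn (Subgroup.normalizer_eq_top_iff.mp h0)
    rcases lt_or_eq_of_le h1 with h3 | h3
    · exact absurd (hMc.2 _ h3) h2
    · exact h3

end Cfsg.Agent.S3891
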