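import Mathlib
import Cfsg.Agent.Lib.PGroup.NilCoverAlt
import Cfsg.Statements.S3892
-- import your own Cfsg.Agent.* helpers here

set_option autoImplicit false
open Cfsg

namespace Cfsg.Agent.S3892


open Equiv Equiv.Perm Cfsg.Agent.Lib.PGroup.NilCover in
theorem not_mem_zpowers_of {n : ℕ} {c x : Perm (Fin n)} {p : ℕ} (hc : orderOf c = p) (hp : 0 < p)
    (h : ∀ k : ℕ, k < p → x ≠ c ^ k) : x ∉ Subgroup.zpowers c := by
  intro hk
  obtain ⟨k, hk⟩ := mem_powers_iff_mem_zpowers.mpr hk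
  have hk' : c ^ k = x := hk
  apply h (k % p) (Nat.mod_lt _ hp)
  rw [← hk', ← hc, pow_mod_orderOf]

open Equiv Equiv.Perm Cfsg.Agent.Lib.PGroup.NilCover in
/-- The prime for large degree. -/
theorem exists_prime_large {n : ℕ} (hn : 6 ≤ n) : ∃ p : ℕ, p.Prime ∧ 5 ≤ p ∧ p < n ∧ n < 2 * p := by
  obtain ⟨p, hp, h1, h2⟩ := Nat.exists_prime_lt_and_le_two_mul (n / 2) (by omega)
  refine ⟨p, hp, ?_, ?_, by omega⟩
  · have h3 : 4 ≤ p := by omega
    rcases Nat.eq_or_lt_of_le h3 with h4 | h4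
    · rw [← h4] at hp
      exact absurd hp (by decide)
    · omega
  · have h3 : p ≤ n := by omega
    rcases Nat.eq_or_lt_of_le h3 with h4 | h4
    · exfalso
      have h5 : n % 2 = 0 := by omega
      have h6 : 2 ∣ p := by
        rw [h4]
        exact Nat.dvd_of_mod_eq_zero h5
      have h7 := (Nat.prime_dvd_prime_iff_eq Nat.prime_two hp).mp h6
      omega
    · exact h4

open Equiv Equiv.Perm Cfsg.Agent.Lib.PGroup.NilCover in
theorem no_A5 (𝓐 : Finset (Subgroup ↥(alternatingGroup (Fin 5))))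
    (h : NC 𝓐) : False := by
  haveI : Fact (Nat.Prime 3) := ⟨Nat.prime_three⟩
  have hc : orderOf (swap 0 1 * swap 1 2 : Perm (Fin 5)) = 3 :=
    orderOf_eq_prime (by decide) (by decide)
  refine no_cover_perm (alternatingGroup (Fin 5)).subtype (Subgroup.subtype_injective _)
    (alternatingGroup.center_eq_bot (by simp)) (p := 3) (by decide)
    (swap 0 1 * swap 1 2) hc ⟨⟨_, mem_alternatingGroup.mpr (by decide)⟩, rfl⟩ (MulAction.stabilizer (Perm (Fin 5)) (3 : Fin 5))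
    (swap 3 4 * swap 4 0) ⟨⟨_, mem_alternatingGroup.mpr (by decide)⟩, rfl⟩ (by
      rw [MulAction.mem_stabilizer_iff]
      decide) ?_ (swap 0 1 * swap 1 4) ⟨⟨_, mem_alternatingGroup.mpr (by decide)⟩, rfl⟩ (by
      rw [MulAction.mem_stabilizer_iff]
      decide) (not_mem_zpowers_of hc (by norm_num) (by decide +kernel)) 𝓐 h
  rintro g ⟨g', rfl⟩ hg
  have hg2 := g'.2
  have key : ∀ g : Perm (Fin 5), sign g = 1 → g * (swap 0 1 * swap 1 2) = (swap 0 1 * swap 1 2) * g →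
      g 3 = 3 := by decide +kernel
  rw [MulAction.mem_stabilizer_iff]
  exact key _ (mem_alternatingGroup.mp hg2) hg

open Equiv Equiv.Perm Cfsg.Agent.Lib.PGroup.NilCover in
theorem no_S5 (𝓐 : Finset (Subgroup (Perm (Fin 5))))
    (h : NC 𝓐) : False := by
  haveI : Fact (Nat.Prime 5) := ⟨by norm_num⟩
  have hc : orderOf (swap 0 1 * swap 1 2 * swap 2 3 * swap 3 4 : Perm (Fin 5)) = 5 :=
    orderOf_eq_prime (by decide +kernel) (by decide)
  refine no_cover_perm (MonoidHom.id _) Function.injective_id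
    (perm_center_eq_bot (by norm_num)) (p := 5) (by decide)
    (swap 0 1 * swap 1 2 * swap 2 3 * swap 3 4) hc ⟨_, rfl⟩ (alternatingGroup (Fin 5))
    (swap 0 1) ⟨_, rfl⟩ (fun h => absurd (mem_alternatingGroup.mp h) (by decide)) ?_ (swap 0 1 * swap 1 2) ⟨_, rfl⟩ (mem_alternatingGroup.mpr (by decide))
    (not_mem_zpowers_of hc (by norm_num) (by decide +kernel)) 𝓐 h
  rintro g _ hg
  have key : ∀ g : Perm (Fin 5), g * (swap 0 1 * swap 1 2 * swap 2 3 * swap 3 4) =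
      (swap 0 1 * swap 1 2 * swap 2 3 * swap 3 4) * g → sign g = 1 := by decide +kernel
  exact mem_alternatingGroup.mpr (key g hg)

open Equiv Equiv.Perm Cfsg.Agent.Lib.PGroup.NilCover in
theorem no_S4 (𝓐 : Finset (Subgroup (Perm (Fin 4))))
    (h : NC 𝓐) : False := by
  haveI : Fact (Nat.Prime 3) := ⟨Nat.prime_three⟩
  have hc : orderOf (swap 0 1 * swap 1 2 : Perm (Fin 4)) = 3 :=
    orderOf_eq_prime (by decide) (by decide)
  refine no_cover_perm (MonoidHom.id _) Function.injective_id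
    (perm_center_eq_bot (by norm_num)) (p := 3) (by decide)
    (swap 0 1 * swap 1 2) hc ⟨_, rfl⟩ (alternatingGroup (Fin 4))
    (swap 0 1) ⟨_, rfl⟩ (fun h => absurd (mem_alternatingGroup.mp h) (by decide)) ?_ (swap 0 1 * swap 2 3) ⟨_, rfl⟩ (mem_alternatingGroup.mpr (by decide))
    (not_mem_zpowers_of hc (by norm_num) (by decide +kernel)) 𝓐 h
  rintro g _ hg
  have key : ∀ g : Perm (Fin 4), g * (swap 0 1 * swap 1 2) =
      (swap 0 1 * swap 1 2) * g → sign g = 1 := by decide +kernel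
  exact mem_alternatingGroup.mpr (key g hg)

/-- A cover of a group is a finite set of proper subgroups whose union is the whole group; it is minimal when no cover has fewer members, and nilpotent when all its members are nilpotent. The alternating groups of degree at least 5 and the symmetric groups of degree at least 4 have no nilpotent minimal cover. -/
theorem result (n : ℕ) :
    (5 ≤ n → ¬ ∃ 𝓐 : Finset (Subgroup ↥(alternatingGroup (Fin n))), ((∀ A ∈ 𝓐, A ≠ ⊤) ∧ (∀ g : ↥(alternatingGroup (Fin n)), ∃ A ∈ 𝓐, g ∈ A)) ∧ (∀ 𝓑 : Finset (Subgroup ↥(alternatingGroup (Fin n))), (∀ A ∈ 𝓑, A ≠ ⊤) ∧ (∀ g : ↥(alternatingGroup (Fin n)), ∃ A ∈ 𝓑, g ∈ A) → 𝓐.card ≤ 𝓑.card) ∧ (∀ A ∈ 𝓐, Group.IsNilpotent ↥A)) ∧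
    (4 ≤ n → ¬ ∃ 𝓐 : Finset (Subgroup (Equiv.Perm (Fin n))), ((∀ A ∈ 𝓐, A ≠ ⊤) ∧ (∀ g : (Equiv.Perm (Fin n)), ∃ A ∈ 𝓐, g ∈ A)) ∧ (∀ 𝓑 : Finset (Subgroup (Equiv.Perm (Fin n))), (∀ A ∈ 𝓑, A ≠ ⊤) ∧ (∀ g : (Equiv.Perm (Fin n)), ∃ A ∈ 𝓑, g ∈ A) → 𝓐.card ≤ 𝓑.card) ∧ (∀ A ∈ 𝓐, Group.IsNilpotent ↥A)) := by
  open Equiv Equiv.Perm Cfsg.Agent.Lib.PGroup.NilCover in
  constructor
  · rintro hn ⟨𝓐, h, hm, hnil⟩
    have hN : NC 𝓐 := ⟨h.1, h.2, hm, hnil⟩
    rcases Nat.eq_or_lt_of_le hn with rfl | hn6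
    · exact no_A5 𝓐 hN
    · obtain ⟨p, hp, hp5, hpn, hn2⟩ := exists_prime_large (n := n) hn6
      haveI : Fact p.Prime := ⟨hp⟩
      refine no_cover_large (alternatingGroup (Fin n)).subtype (Subgroup.subtype_injective _) ?_
        (alternatingGroup.center_eq_bot (by simp; omega)) hp5 hpn hn2 𝓐 hN
      intro x hx
      exact ⟨⟨x, mem_alternatingGroup.mpr hx⟩, rfl⟩
  · rintro hn ⟨𝓐, h, hm, hnil⟩
    have hN : NC 𝓐 := ⟨h.1, h.2, hm, hnil⟩
    rcases Nat.eq_or_lt_of_le hn with rfl | hn5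
    · exact no_S4 𝓐 hN
    rcases Nat.eq_or_lt_of_le hn5 with rfl | hn6
    · exact no_S5 𝓐 hN
    · obtain ⟨p, hp, hp5, hpn, hn2⟩ := exists_prime_large (n := n) hn6
      haveI : Fact p.Prime := ⟨hp⟩
      exact no_cover_large (MonoidHom.id _) Function.injective_id (fun x _ => ⟨x, rfl⟩)
        (perm_center_eq_bot (by omega)) hp5 hpn hn2 𝓐 hN

end Cfsg.Agent.S3892
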