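import Cfsg.Statements.S3893
import Mathlib
import Cfsg.Agent.Lib.Sz.Aut
import Cfsg.Agent.Lib.Sz.Bridge
import Cfsg.Agent.Lib.Cover.Merge

set_option autoImplicit false
open Cfsg

namespace Cfsg.Agent.S3893


open Cfsg.Agent.SzT

lemma exists_central {X : Type*} [Group X] (A : Subgroup X) (hA : Group.IsNilpotent A) {x : X} (hx : x ∈ A)
    (hx1 : x ≠ 1) : ∃ z ∈ A, z ≠ 1 ∧ ∀ y ∈ A, y * z = z * y := by
  haveI : Nontrivial A := ⟨⟨⟨x, hx⟩, 1, fun he => hx1 (congrArg Subtype.val he)⟩⟩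
  obtain ⟨z, hz, hz1⟩ := (Subgroup.bot_or_exists_ne_one (Subgroup.center A)).resolve_left
    (Group.IsNilpotent.center_ne_bot A)
  refine ⟨z.1, z.2, fun h => hz1 (Subtype.ext h), fun y hy => ?_⟩
  have := Subgroup.mem_center_iff.mp hz ⟨y, hy⟩
  exact congrArg Subtype.val this

section
variable {F : Type*} [Field F] [Fintype F] {s : ℕ} [h : SzF F s]

lemma le_Uni (A : Subgroup (GG s F)) (hA : Group.IsNilpotent A) {a b : F} (hab : ¬ (a = 0 ∧ b = 0))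
    (hu : uG s a b ∈ A) : A ≤ Uni s F := by
  have hu1 : uG s a b ≠ 1 := by
    intro he
    exact hab (uG_inj (he.trans uG_zero.symm))
  obtain ⟨z, hz, hz1, hc⟩ := exists_central A hA hu hu1
  obtain ⟨e, f, rfl⟩ := cent_uni hab (hc _ hu).symm
  have hef : ¬ (e = 0 ∧ f = 0) := by
    rintro ⟨rfl, rfl⟩
    exact hz1 uG_zero
  intro y hy
  obtain ⟨e', f', rfl⟩ := cent_uni hef (hc y hy)
  exact uG_mem_Uni _ _

lemma le_Tor (A : Subgroup (GG s F)) (hA : Group.IsNilpotent A) {l : Fˣ} (hl : l ≠ 1)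
    (hu : dG s l ∈ A) : A ≤ TorA s F := by
  have hu1 : dG s l ≠ 1 := fun he => hl (dG_inj (he.trans dG_one.symm))
  obtain ⟨z, hz, hz1, hc⟩ := exists_central A hA hu hu1
  obtain ⟨t, rfl⟩ := cent_d hl (hc _ hu).symm
  have ht : t ≠ 1 := by
    rintro rfl
    exact hz1 dG_one
  intro y hy
  obtain ⟨t', rfl⟩ := cent_d ht (hc y hy)
  exact dG_mem_TorA _

end


/-- A cover of a group is a finite set of proper subgroups whose union is the whole group; it is minimal when no cover has fewer members, and nilpotent when all its members are nilpotent. The Suzuki groups Sz(q), q = 2^(2m+1) with m ≥ 1, have no nilpotent minimal cover. -/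
theorem result {F : Type*} [Field F] [Fintype F] (m : ℕ) (hm : 1 ≤ m) (hF : Fintype.card F = 2 ^ (2 * m + 1)) :
    ¬ ∃ 𝓐 : Finset (Subgroup ↥(Cfsg.Lie.Sz F (2 ^ (m + 1)))), ((∀ A ∈ 𝓐, A ≠ ⊤) ∧ (∀ g : ↥(Cfsg.Lie.Sz F (2 ^ (m + 1))), ∃ A ∈ 𝓐, g ∈ A)) ∧ (∀ 𝓑 : Finset (Subgroup ↥(Cfsg.Lie.Sz F (2 ^ (m + 1)))), (∀ A ∈ 𝓑, A ≠ ⊤) ∧ (∀ g : ↥(Cfsg.Lie.Sz F (2 ^ (m + 1))), ∃ A ∈ 𝓑, g ∈ A) → 𝓐.card ≤ 𝓑.card) ∧ (∀ A ∈ 𝓐, Group.IsNilpotent ↥A) := by

  rintro ⟨𝓐, ⟨hprop, hcov⟩, hmin, hnil⟩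
  haveI hS : SzF F (2 ^ (m + 1)) := szF_of_card hm hF
  let e := szEquiv (2 ^ (m + 1)) F
  have hcomap : ∀ A ∈ 𝓐, Group.IsNilpotent (A.comap e.toMonoidHom) := by
    intro A hA
    haveI := hnil A hA
    let f : A.comap e.toMonoidHom →* A :=
      { toFun := fun x => ⟨e x.1, x.2⟩
        map_one' := by
          apply Subtype.ext
          simp
        map_mul' := by
          intro x y
          apply Subtype.ext
          exact map_mul e x.1 y.1 }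
    have hf : Function.Injective f := by
      intro x y hxy
      have := congrArg Subtype.val hxy
      exact Subtype.ext (e.injective this)
    refine isNilpotent_of_ker_le_center f ?_
    rw [(MonoidHom.ker_eq_bot_iff f).mpr hf]
    exact bot_le
  let B : Subgroup ↥(Cfsg.Lie.Sz F (2 ^ (m + 1))) := (Bor (2 ^ (m + 1)) F).map e.toMonoidHom
  have hB : B ≠ ⊤ := by
    intro hB
    have h1 : e (wG (2 ^ (m + 1)) F) ∈ B := by
      rw [hB]
      trivial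
    obtain ⟨x, hx, hxe⟩ := h1
    have hx' : x = wG (2 ^ (m + 1)) F := e.injective hxe
    rw [hx'] at hx
    have := mem_Bor.mp hx
    rw [wG_smul_pI] at this
    exact pP_ne_pI _ _ this
  have hleB : ∀ A : Subgroup ↥(Cfsg.Lie.Sz F (2 ^ (m + 1))),
      A.comap e.toMonoidHom ≤ Bor (2 ^ (m + 1)) F → A ≤ B := by
    intro A hA g hg
    refine ⟨e.symm g, hA ?_, by simp⟩
    show e (e.symm g) ∈ A
    simpa using hg
  obtain ⟨l, hl⟩ := exists_unit_ne_one (s := 2 ^ (m + 1)) (F := F)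
  obtain ⟨A₁, hA₁, hu⟩ := hcov (e (uG (2 ^ (m + 1)) (1 : F) 0))
  obtain ⟨A₂, hA₂, hd⟩ := hcov (e (dG (2 ^ (m + 1)) l))
  have h1 : A₁.comap e.toMonoidHom ≤ Uni (2 ^ (m + 1)) F :=
    le_Uni _ (hcomap A₁ hA₁) (a := (1 : F)) (b := 0) (by simp) hu
  have h2 : A₂.comap e.toMonoidHom ≤ TorA (2 ^ (m + 1)) F :=
    le_Tor _ (hcomap A₂ hA₂) hl hd
  have hne : A₁ ≠ A₂ := by
    rintro rfl
    obtain ⟨a, b, hab⟩ := h1 hd
    have e1 : uG (2 ^ (m + 1)) a b * dG (2 ^ (m + 1)) 1 = uG (2 ^ (m + 1)) (0 : F) 0 * dG (2 ^ (m + 1)) l := by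
      rw [dG_one, mul_one, uG_zero, one_mul]
      exact hab.symm
    have := uG_dG_inj e1
    exact hl this.2.2.symm
  exact Cfsg.Agent.Lib.Cover.no_merge 𝓐 hcov hprop hmin hB hA₁ hA₂ hne
    (hleB _ (h1.trans Uni_le_Bor)) (hleB _ (h2.trans TorA_le_Bor))


end Cfsg.Agent.S3893
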