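import Cfsg.Statements.S3894
import Mathlib
import Cfsg.Agent.Lib.Cover.Merge
import Cfsg.Agent.Lib.Cover.StabLine

set_option autoImplicit false
open Cfsg

namespace Cfsg.Agent.S3894


open Matrix Cfsg.Agent.Lib.Cover

section general

variable {F : Type*} [Field F] {n : ℕ}

/-- preimage in `GL` of a subgroup of a subgroup of `PGL` -/
def preim (G : Subgroup (GL (Fin n) F ⧸ Subgroup.center (GL (Fin n) F))) (A : Subgroup ↥G) :
    Subgroup (GL (Fin n) F) :=
  (A.map G.subtype).comap (QuotientGroup.mk' (Subgroup.center (GL (Fin n) F)))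

lemma mem_preim {G : Subgroup (GL (Fin n) F ⧸ Subgroup.center (GL (Fin n) F))} {A : Subgroup ↥G}
    {g : GL (Fin n) F} : g ∈ preim G A ↔ ∃ x ∈ A, (x : GL (Fin n) F ⧸ Subgroup.center (GL (Fin n) F)) = g := by
  simp [preim, Subgroup.mem_comap, Subgroup.mem_map]

/-- the map to `A` -/
noncomputable def toA (G : Subgroup (GL (Fin n) F ⧸ Subgroup.center (GL (Fin n) F))) (A : Subgroup ↥G) :
    preim G A →* A where
  toFun g := ⟨(mem_preim.mp g.2).choose, (mem_preim.mp g.2).choose_spec.1⟩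
  map_one' := by
    apply Subtype.ext
    apply Subtype.ext
    have := (mem_preim.mp (1 : preim G A).2).choose_spec.2
    simpa using this
  map_mul' := by
    intro a b
    apply Subtype.ext
    apply Subtype.ext
    have h1 := (mem_preim.mp (a * b).2).choose_spec.2
    have h2 := (mem_preim.mp a.2).choose_spec.2
    have h3 := (mem_preim.mp b.2).choose_spec.2
    show ((mem_preim.mp (a * b).2).choose : GL (Fin n) F ⧸ Subgroup.center (GL (Fin n) F)) =
      ((mem_preim.mp a.2).choose : GL (Fin n) F ⧸ Subgroup.center (GL (Fin n) F)) *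
        ((mem_preim.mp b.2).choose : GL (Fin n) F ⧸ Subgroup.center (GL (Fin n) F))
    rw [h1, h2, h3]
    rfl

lemma toA_coe {G : Subgroup (GL (Fin n) F ⧸ Subgroup.center (GL (Fin n) F))} {A : Subgroup ↥G}
    (g : preim G A) : (((toA G A g : A) : G) : GL (Fin n) F ⧸ Subgroup.center (GL (Fin n) F)) = (g.1 : GL (Fin n) F) :=
  (mem_preim.mp g.2).choose_spec.2

lemma toA_surj (G : Subgroup (GL (Fin n) F ⧸ Subgroup.center (GL (Fin n) F))) (A : Subgroup ↥G) :
    Function.Surjective (toA G A) := by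
  intro x
  obtain ⟨g, hg⟩ := QuotientGroup.mk_surjective (x.1.1)
  have hgm : g ∈ preim G A := mem_preim.mpr ⟨x.1, x.2, hg.symm⟩
  refine ⟨⟨g, hgm⟩, ?_⟩
  apply Subtype.ext
  apply Subtype.ext
  rw [toA_coe]
  exact hg

lemma toA_ker {G : Subgroup (GL (Fin n) F ⧸ Subgroup.center (GL (Fin n) F))} {A : Subgroup ↥G}
    (g : preim G A) (hg : g ∈ (toA G A).ker) : g.1 ∈ Subgroup.center (GL (Fin n) F) := by
  have h1 := toA_coe g
  rw [MonoidHom.mem_ker.mp hg] at h1
  exact (QuotientGroup.eq_one_iff _).mp h1.symm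

lemma center_scalar {g : GL (Fin n) F} (hg : g ∈ Subgroup.center (GL (Fin n) F)) :
    ∃ c : F, (g : Matrix (Fin n) (Fin n) F) = c • 1 := by
  obtain ⟨c, hc⟩ := Matrix.GeneralLinearGroup.mem_center_iff_val_mem_range_scalar.mp hg
  refine ⟨c, ?_⟩
  rw [← hc]
  ext i j
  simp [Matrix.scalar_apply, Matrix.one_apply, Matrix.diagonal_apply]

/-- action on column vectors -/
def rho (P : Subgroup (GL (Fin n) F)) : P →* Module.End F (Fin n → F) where
  toFun g := Matrix.mulVecLin (g.1 : Matrix (Fin n) (Fin n) F)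
  map_one' := by
    ext x
    simp
  map_mul' := by
    intro a b
    ext x
    simp [Matrix.mulVec_mulVec]

/-- action on row vectors -/
noncomputable def rhoD (P : Subgroup (GL (Fin n) F)) : P →* Module.End F (Fin n → F) where
  toFun g := Matrix.mulVecLin ((g.1⁻¹ : GL (Fin n) F) : Matrix (Fin n) (Fin n) F)ᵀ
  map_one' := by
    ext x
    simp
  map_mul' := by
    intro a b
    ext x
    simp [Matrix.mulVec_mulVec, Matrix.transpose_mul]

lemma pow_mulVecLin (M : Matrix (Fin n) (Fin n) F) (k : ℕ) :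
    (Matrix.mulVecLin M) ^ k = Matrix.mulVecLin (M ^ k) := by
  induction k with
  | zero =>
    ext x
    simp
  | succ k ih =>
    rw [pow_succ, ih, pow_succ]
    ext x
    simp [Matrix.mulVec_mulVec]

/-- regular data -/
structure Reg (M : Matrix (Fin n) (Fin n) F) (l : Fin n → F) : Prop where
  nil : ∃ k : ℕ, (M - 1) ^ k = 0
  ne : l ≠ 0
  fix : M *ᵥ l = l
  uniq : ∀ v, M *ᵥ v = v → ∃ c : F, v = c • l

lemma stab_vec {G : Subgroup (GL (Fin n) F ⧸ Subgroup.center (GL (Fin n) F))} {A : Subgroup ↥G}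
    (hA : Group.IsNilpotent A) {u : GL (Fin n) F} (hu : u ∈ preim G A) {l : Fin n → F}
    (hr : Reg (u : Matrix (Fin n) (Fin n) F) l) {g : GL (Fin n) F} (hg : g ∈ preim G A) :
    ∃ c : F, (g : Matrix (Fin n) (Fin n) F) *ᵥ l = c • l := by
  have hsub : ∀ a : preim G A, rho (preim G A) a - 1 =
      Matrix.mulVecLin ((a.1 : Matrix (Fin n) (Fin n) F) - 1) := by
    intro a
    ext x
    simp [rho, Matrix.sub_mulVec]
  exact stab_line (toA G A) (toA_surj G A) _ (Fin n → F) (rho (preim G A)) ⟨u, hu⟩ l rfl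
    (fun x hx => by
      obtain ⟨c, hc⟩ := center_scalar (toA_ker x hx)
      refine ⟨c, fun v => ?_⟩
      show (x.1 : Matrix (Fin n) (Fin n) F) *ᵥ v = c • v
      rw [hc, Matrix.smul_mulVec, Matrix.one_mulVec])
    (by
      obtain ⟨k, hk⟩ := hr.nil
      refine ⟨k, fun v => ?_⟩
      rw [hsub, pow_mulVecLin, hk]
      simp)
    hr.ne hr.fix hr.uniq ⟨g, hg⟩

lemma stab_row {G : Subgroup (GL (Fin n) F ⧸ Subgroup.center (GL (Fin n) F))} {A : Subgroup ↥G}
    (hA : Group.IsNilpotent A) {u : GL (Fin n) F} (hu : u ∈ preim G A) {l : Fin n → F}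
    (hr : Reg (u : Matrix (Fin n) (Fin n) F)ᵀ l) {g : GL (Fin n) F} (hg : g ∈ preim G A) :
    ∃ c : F, (g : Matrix (Fin n) (Fin n) F)ᵀ *ᵥ l = c • l := by
  have hu' : u⁻¹ ∈ preim G A := (preim G A).inv_mem hu
  have hg' : g⁻¹ ∈ preim G A := (preim G A).inv_mem hg
  have hval : ∀ a : preim G A, rhoD (preim G A) a⁻¹ = Matrix.mulVecLin (a.1 : Matrix (Fin n) (Fin n) F)ᵀ := by
    intro a
    ext x
    simp [rhoD]
  have hsub : rhoD (preim G A) (⟨u, hu⟩ : preim G A)⁻¹ - 1 =
      Matrix.mulVecLin ((u : Matrix (Fin n) (Fin n) F)ᵀ - 1) := by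
    rw [hval]
    ext x
    simp [Matrix.sub_mulVec]
  have := stab_line (toA G A) (toA_surj G A) _ (Fin n → F) (rhoD (preim G A)) (⟨u, hu⟩ : preim G A)⁻¹ l rfl
    (fun x hx => by
      obtain ⟨c, hc⟩ := center_scalar (toA_ker x hx)
      have hc0 : c ≠ 0 ∨ IsEmpty (Fin n) := by
        by_cases hne : IsEmpty (Fin n)
        · exact Or.inr hne
        · left
          rintro rfl
          haveI : Nonempty (Fin n) := not_isEmpty_iff.mp hne
          have hd := Matrix.GeneralLinearGroup.det x.1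
          have hd2 : IsUnit (x.1 : Matrix (Fin n) (Fin n) F).det := (Matrix.isUnit_iff_isUnit_det _).mp x.1.isUnit
          rw [hc, zero_smul, Matrix.det_zero] at hd2
          exact not_isUnit_zero hd2
      refine ⟨c⁻¹, fun v => ?_⟩
      show (((x.1⁻¹ : GL (Fin n) F) : Matrix (Fin n) (Fin n) F)ᵀ) *ᵥ v = c⁻¹ • v
      rcases hc0 with hc0 | hE
      · have : ((x.1⁻¹ : GL (Fin n) F) : Matrix (Fin n) (Fin n) F) = c⁻¹ • 1 := by
          have h1 : (x.1 : Matrix (Fin n) (Fin n) F) * ((x.1⁻¹ : GL (Fin n) F) : Matrix (Fin n) (Fin n) F) = 1 := by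
            rw [← Matrix.GeneralLinearGroup.coe_mul]
            simp
          rw [hc, Matrix.smul_mul, Matrix.one_mul] at h1
          rw [← h1, smul_smul, inv_mul_cancel₀ hc0, one_smul]
        rw [this]
        simp [Matrix.smul_mulVec]
      · ext i
        exact (hE.false i).elim)
    (by
      obtain ⟨k, hk⟩ := hr.nil
      refine ⟨k, fun v => ?_⟩
      rw [hsub, pow_mulVecLin, hk]
      simp)
    hr.ne (by
      rw [hval]
      exact hr.fix) (fun v hv => hr.uniq v (by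
      rw [hval] at hv
      exact hv)) (⟨g, hg⟩ : preim G A)⁻¹
  rw [hval] at this
  exact this


/-- stabiliser of a vector's line -/
def stabS (l : Fin n → F) : Subgroup (GL (Fin n) F) where
  carrier := {g | ∃ c : F, (g : Matrix (Fin n) (Fin n) F) *ᵥ l = c • l}
  mul_mem' := by
    rintro a b ⟨c, hc⟩ ⟨d, hd⟩
    refine ⟨c * d, ?_⟩
    rw [Matrix.GeneralLinearGroup.coe_mul, ← Matrix.mulVec_mulVec, hd, Matrix.mulVec_smul, hc, smul_smul, mul_comm]
  one_mem' := ⟨1, by simp⟩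
  inv_mem' := by
    rintro a ⟨c, hc⟩
    refine ⟨c⁻¹, ?_⟩
    have h1 : c • ((a⁻¹ : GL (Fin n) F) : Matrix (Fin n) (Fin n) F) *ᵥ l = l := by
      have : ((a⁻¹ : GL (Fin n) F) : Matrix (Fin n) (Fin n) F) *ᵥ ((a : Matrix (Fin n) (Fin n) F) *ᵥ l) = l := by
        rw [Matrix.mulVec_mulVec, ← Matrix.GeneralLinearGroup.coe_mul]
        simp
      rw [hc, Matrix.mulVec_smul] at this
      exact this
    by_cases h0 : c = 0
    · subst h0
      have hv : l = 0 := by rw [← h1, zero_smul]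
      simp [hv]
    · rw [← h1, smul_smul, inv_mul_cancel₀ h0, one_smul, h1]

/-- the subgroup of `G` stabilising a line -/
def stabB (G : Subgroup (GL (Fin n) F ⧸ Subgroup.center (GL (Fin n) F))) (l : Fin n → F) : Subgroup ↥G :=
  ((stabS l).map (QuotientGroup.mk' (Subgroup.center (GL (Fin n) F)))).comap G.subtype

lemma le_stabB {G : Subgroup (GL (Fin n) F ⧸ Subgroup.center (GL (Fin n) F))} {A : Subgroup ↥G}
    {l : Fin n → F} (h : ∀ g ∈ preim G A, g ∈ stabS l) : A ≤ stabB G l := by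
  intro x hx
  obtain ⟨g, hg⟩ := QuotientGroup.mk_surjective (x.1)
  exact ⟨g, h g (mem_preim.mpr ⟨x, hx, hg.symm⟩), hg⟩

lemma mem_stabS_of_mem_stabB {G : Subgroup (GL (Fin n) F ⧸ Subgroup.center (GL (Fin n) F))}
    {l : Fin n → F} {t : GL (Fin n) F} (ht : (t : GL (Fin n) F ⧸ Subgroup.center (GL (Fin n) F)) ∈ G)
    (h : (⟨t, ht⟩ : ↥G) ∈ stabB G l) : t ∈ stabS l := by
  obtain ⟨g, hg, hgt⟩ := h
  have h1 : g⁻¹ * t ∈ Subgroup.center (GL (Fin n) F) := QuotientGroup.eq.mp hgt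
  obtain ⟨c, hc⟩ := center_scalar h1
  have h2 : t = g * (g⁻¹ * t) := by group
  obtain ⟨d, hd⟩ := hg
  refine ⟨d * c, ?_⟩
  rw [h2, Matrix.GeneralLinearGroup.coe_mul, hc, Matrix.mul_smul, Matrix.mul_one, Matrix.smul_mulVec, hd, smul_smul,
    mul_comm]

/-- elements of SL lie in `G` -/
lemma sl_mem {G : Subgroup (GL (Fin n) F ⧸ Subgroup.center (GL (Fin n) F))}
    (hG : ((Matrix.SpecialLinearGroup.toGL : Matrix.SpecialLinearGroup (Fin n) F →* GL (Fin n) F).range).map
      (QuotientGroup.mk' (Subgroup.center (GL (Fin n) F))) ≤ G) (s : Matrix.SpecialLinearGroup (Fin n) F) :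
    ((Matrix.SpecialLinearGroup.toGL s : GL (Fin n) F) : GL (Fin n) F ⧸ Subgroup.center (GL (Fin n) F)) ∈ G :=
  hG ⟨_, ⟨s, rfl⟩, rfl⟩


lemma exists_T {G : Subgroup (GL (Fin n) F ⧸ Subgroup.center (GL (Fin n) F))} {A : Subgroup ↥G}
    (hA : Group.IsNilpotent A) {x : GL (Fin n) F} (hx : x ∈ preim G A)
    (hxz : x ∉ Subgroup.center (GL (Fin n) F)) :
    ∃ T ∈ preim G A, T ∉ Subgroup.center (GL (Fin n) F) ∧ ∀ g ∈ preim G A, ∃ ν : F,
      (g : Matrix (Fin n) (Fin n) F) * (T : Matrix (Fin n) (Fin n) F) =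
        ν • ((T : Matrix (Fin n) (Fin n) F) * (g : Matrix (Fin n) (Fin n) F)) := by
  have hx1 : toA G A ⟨x, hx⟩ ≠ 1 := fun h => hxz (toA_ker ⟨x, hx⟩ (MonoidHom.mem_ker.mpr h))
  haveI : Nontrivial A := ⟨⟨_, _, hx1⟩⟩
  obtain ⟨z, hz, hz1⟩ := (Subgroup.bot_or_exists_ne_one (Subgroup.center A)).resolve_left
    (Group.IsNilpotent.center_ne_bot A)
  obtain ⟨⟨T, hT⟩, rfl⟩ := toA_surj G A z
  refine ⟨T, hT, ?_, ?_⟩
  · intro hc
    apply hz1
    apply Subtype.ext
    apply Subtype.ext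
    rw [toA_coe]
    exact (QuotientGroup.eq_one_iff _).mpr hc
  · intro g hg
    have h1 := Subgroup.mem_center_iff.mp hz (toA G A ⟨g, hg⟩)
    have h2 := congrArg (fun y : A => ((y : G) : GL (Fin n) F ⧸ Subgroup.center (GL (Fin n) F))) h1
    simp only [← map_mul] at h2
    rw [toA_coe, toA_coe] at h2
    have h3 : ((g * T : GL (Fin n) F) : GL (Fin n) F ⧸ Subgroup.center (GL (Fin n) F)) =
      ((T * g : GL (Fin n) F) : GL (Fin n) F ⧸ Subgroup.center (GL (Fin n) F)) := h2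
    have h4 : (T * g)⁻¹ * (g * T) ∈ Subgroup.center (GL (Fin n) F) := QuotientGroup.eq.mp h3.symm
    obtain ⟨ν, hν⟩ := center_scalar h4
    refine ⟨ν, ?_⟩
    have h5 : g * T = (T * g) * ((T * g)⁻¹ * (g * T)) := by group
    have h6 := congrArg (fun y : GL (Fin n) F => (y : Matrix (Fin n) (Fin n) F)) h5
    simp only [Matrix.GeneralLinearGroup.coe_mul (T * g)] at h6
    rw [hν] at h6
    simp only [Matrix.GeneralLinearGroup.coe_mul, Matrix.mul_smul, Matrix.mul_one] at h6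
    exact h6

end general

section large

variable {F : Type*} [Field F] {n : ℕ}

/-- the shift -/
def Nm (n : ℕ) (F : Type*) [Field F] : Matrix (Fin n) (Fin n) F :=
  Matrix.of fun i j => if (i : ℕ) + 1 = j then 1 else 0

lemma Nm_mulVec (x : Fin n → F) (i : Fin n) :
    (Nm n F *ᵥ x) i = if h : (i : ℕ) + 1 < n then x ⟨i + 1, h⟩ else 0 := by
  simp only [Matrix.mulVec, dotProduct, Nm, Matrix.of_apply]
  split_ifs with h
  · rw [Finset.sum_eq_single (⟨i + 1, h⟩ : Fin n)]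
    · simp
    · intro b _ hb
      rw [if_neg, zero_mul]
      intro he
      exact hb (Fin.ext he.symm)
    · simp
  · apply Finset.sum_eq_zero
    intro j _
    rw [if_neg, zero_mul]
    intro he
    exact h (he ▸ j.2)

lemma Nm_tr_mulVec (x : Fin n → F) (j : Fin n) :
    ((Nm n F)ᵀ *ᵥ x) j = if h : 1 ≤ (j : ℕ) then x ⟨j - 1, by omega⟩ else 0 := by
  simp only [Matrix.mulVec, dotProduct, Nm, Matrix.of_apply, Matrix.transpose_apply]
  split_ifs with h
  · rw [Finset.sum_eq_single (⟨j - 1, by omega⟩ : Fin n)]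
    · simp only [ite_mul, one_mul, zero_mul]
      rw [if_pos]
      show (j : ℕ) - 1 + 1 = j
      omega
    · intro b _ hb
      rw [if_neg, zero_mul]
      intro he
      apply hb
      apply Fin.ext
      simp
      omega
    · simp
  · apply Finset.sum_eq_zero
    intro b _
    rw [if_neg, zero_mul]
    intro he
    omega

lemma Nm_pow_mulVec (k : ℕ) (x : Fin n → F) (i : Fin n) :
    ((Nm n F ^ k) *ᵥ x) i = if h : (i : ℕ) + k < n then x ⟨i + k, h⟩ else 0 := by
  induction k generalizing x with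
  | zero => simp
  | succ k ih =>
    rw [pow_succ, ← Matrix.mulVec_mulVec, ih]
    by_cases h1 : (i : ℕ) + k < n
    · rw [dif_pos h1, Nm_mulVec]
      simp only [Nat.add_assoc]
    · rw [dif_neg h1, dif_neg (by omega)]

lemma Nm_pow_n : Nm n F ^ n = 0 := by
  ext i j
  have h1 := Nm_pow_mulVec (n := n) (F := F) n (Pi.single j 1) i
  rw [Matrix.mulVec_single_one, dif_neg (by omega)] at h1
  simpa using h1

/-- the regular unipotent -/
def uu (n : ℕ) (F : Type*) [Field F] : Matrix (Fin n) (Fin n) F := 1 + Nm n F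

lemma uu_det : (uu n F).det = 1 := by
  rw [Matrix.det_of_upperTriangular]
  · apply Finset.prod_eq_one
    intro i _
    simp [uu, Nm]
  · intro i j hij
    have h1 : i ≠ j := fun h => (ne_of_lt hij) h.symm
    have h2 : ¬ ((i : ℕ) + 1 = j) := by
      have : (j : ℕ) < i := hij
      omega
    simp [uu, Nm, Matrix.one_apply_ne h1, h2]

lemma Reg_uu (i0 : Fin n) (hi0 : (i0 : ℕ) = 0) : Reg (uu n F) (Pi.single i0 1) where
  nil := ⟨n, by
    have : uu n F - 1 = Nm n F := by simp [uu]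
    rw [this, Nm_pow_n]⟩
  ne := by
    intro h
    have := congrFun h i0
    simp at this
  fix := by
    have : Nm n F *ᵥ (Pi.single i0 (1 : F)) = 0 := by
      ext i
      rw [Nm_mulVec]
      split_ifs with h
      · rw [Pi.single_eq_of_ne]
        · rfl
        · intro he
          have := congrArg Fin.val he
          simp at this
          omega
      · rfl
    rw [uu, Matrix.add_mulVec, Matrix.one_mulVec, this, add_zero]
  uniq := by
    intro v hv
    have h0 : Nm n F *ᵥ v = 0 := by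
      rw [uu, Matrix.add_mulVec, Matrix.one_mulVec] at hv
      simpa using hv
    refine ⟨v i0, ?_⟩
    ext j
    by_cases hj : j = i0
    · subst hj
      simp
    · have hj1 : 1 ≤ (j : ℕ) := by
        by_contra h
        exact hj (Fin.ext (by omega))
      have h1 := congrFun h0 ⟨j - 1, by omega⟩
      rw [Nm_mulVec, dif_pos (by
        show (j : ℕ) - 1 + 1 < n
        omega)] at h1
      have h2 : (⟨(j : ℕ) - 1 + 1, by omega⟩ : Fin n) = j := Fin.ext (by
        show (j : ℕ) - 1 + 1 = j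
        omega)
      simp only [h2] at h1
      simp [h1, Pi.single_eq_of_ne hj]

lemma Reg_uut (il : Fin n) (hil : (il : ℕ) + 1 = n) : Reg (uu n F)ᵀ (Pi.single il 1) where
  nil := ⟨n, by
    have : (uu n F)ᵀ - 1 = (Nm n F)ᵀ := by simp [uu]
    rw [this, ← Matrix.transpose_pow, Nm_pow_n, Matrix.transpose_zero]⟩
  ne := by
    intro h
    have := congrFun h il
    simp at this
  fix := by
    have : (Nm n F)ᵀ *ᵥ (Pi.single il (1 : F)) = 0 := by
      ext i
      rw [Nm_tr_mulVec]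
      split_ifs with h
      · rw [Pi.single_eq_of_ne]
        · rfl
        · intro he
          have := congrArg Fin.val he
          simp at this
          omega
      · rfl
    rw [uu, Matrix.transpose_add, Matrix.add_mulVec, Matrix.transpose_one, Matrix.one_mulVec, this, add_zero]
  uniq := by
    intro v hv
    have h0 : (Nm n F)ᵀ *ᵥ v = 0 := by
      rw [uu, Matrix.transpose_add, Matrix.add_mulVec, Matrix.transpose_one, Matrix.one_mulVec] at hv
      simpa using hv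
    refine ⟨v il, ?_⟩
    ext j
    by_cases hj : j = il
    · subst hj
      simp
    · have hj1 : (j : ℕ) + 1 < n := by
        have : (j : ℕ) ≠ il := fun h => hj (Fin.ext h)
        have := j.2
        omega
      have h1 := congrFun h0 ⟨j + 1, hj1⟩
      rw [Nm_tr_mulVec, dif_pos (by
        show 1 ≤ (j : ℕ) + 1
        omega)] at h1
      have h2 : (⟨(j : ℕ) + 1 - 1, by omega⟩ : Fin n) = j := Fin.ext (by
        show (j : ℕ) + 1 - 1 = j
        omega)
      simp only [h2] at h1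
      simp [h1, Pi.single_eq_of_ne hj]

lemma Reg_perm {M : Matrix (Fin n) (Fin n) F} {l : Fin n → F} (hr : Reg M l) (σ : Equiv.Perm (Fin n)) :
    Reg (M.submatrix σ σ) (l ∘ σ) where
  nil := by
    obtain ⟨k, hk⟩ := hr.nil
    refine ⟨k, ?_⟩
    have h1 : M.submatrix σ σ - 1 = Matrix.reindexAlgEquiv F F σ.symm (M - 1) := by
      rw [map_sub, map_one]
      rfl
    rw [h1, ← map_pow, hk, map_zero]
  ne := by
    intro h
    apply hr.ne
    ext i
    have := congrFun h (σ.symm i)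
    simpa using this
  fix := by
    rw [Matrix.submatrix_mulVec_equiv]
    have : l ∘ σ ∘ σ.symm = l := by
      ext i
      simp
    rw [show (l ∘ σ) ∘ ⇑σ.symm = l from this, hr.fix]
  uniq := by
    intro v hv
    rw [Matrix.submatrix_mulVec_equiv] at hv
    have h1 : M *ᵥ (v ∘ σ.symm) = v ∘ σ.symm := by
      rw [← hv]
      ext i
      have h2 := congrFun hv (σ.symm i)
      simp only [Function.comp_apply, Equiv.apply_symm_apply] at h2 ⊢
      rw [hv]
    obtain ⟨c, hc⟩ := hr.uniq _ h1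
    refine ⟨c, ?_⟩
    ext i
    have := congrFun hc (σ i)
    simpa using this

/-- The case `n ≥ 3`. -/
theorem case_ge3 (hn : 3 ≤ n)
    (G : Subgroup (GL (Fin n) F ⧸ Subgroup.center (GL (Fin n) F)))
    (hG : ((Matrix.SpecialLinearGroup.toGL : Matrix.SpecialLinearGroup (Fin n) F →* GL (Fin n) F).range).map
      (QuotientGroup.mk' (Subgroup.center (GL (Fin n) F))) ≤ G) :
    ¬ ∃ 𝓐 : Finset (Subgroup ↥G), ((∀ A ∈ 𝓐, A ≠ ⊤) ∧ (∀ g : ↥G, ∃ A ∈ 𝓐, g ∈ A)) ∧ (∀ 𝓑 : Finset (Subgroup ↥G), (∀ A ∈ 𝓑, A ≠ ⊤) ∧ (∀ g : ↥G, ∃ A ∈ 𝓑, g ∈ A) → 𝓐.card ≤ 𝓑.card) ∧ (∀ A ∈ 𝓐, Group.IsNilpotent ↥A) := by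
  rintro ⟨𝓐, ⟨hprop, hcov⟩, hmin, hnil⟩
  let i0 : Fin n := ⟨0, by omega⟩
  let i1 : Fin n := ⟨1, by omega⟩
  let i2 : Fin n := ⟨2, by omega⟩
  let il : Fin n := ⟨n - 1, by omega⟩
  have h01 : i0 ≠ i1 := by simp [i0, i1, Fin.ext_iff]
  have h0l : i0 ≠ il := by
    simp only [i0, il, ne_eq, Fin.ext_iff]
    omega
  have h1l : i1 ≠ il := by
    simp only [i1, il, ne_eq, Fin.ext_iff]
    omega
  have h12 : i1 ≠ i2 := by simp [i1, i2, Fin.ext_iff]
  let σ : Equiv.Perm (Fin n) := Equiv.swap i1 il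
  have hσ0 : σ i0 = i0 := Equiv.swap_apply_of_ne_of_ne h01 h0l
  have hσl : σ il = i1 := Equiv.swap_apply_right _ _
  have hσσ : ∀ x, σ (σ x) = x := Equiv.swap_apply_self _ _
  -- the two elements
  let s₁ : Matrix.SpecialLinearGroup (Fin n) F := ⟨uu n F, uu_det⟩
  let s₂ : Matrix.SpecialLinearGroup (Fin n) F := ⟨(uu n F).submatrix σ σ, by
    rw [Matrix.det_submatrix_equiv_self, uu_det]⟩
  let t₁ : GL (Fin n) F := Matrix.SpecialLinearGroup.toGL s₁
  let t₂ : GL (Fin n) F := Matrix.SpecialLinearGroup.toGL s₂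
  have hv1 : (t₁ : Matrix (Fin n) (Fin n) F) = uu n F := rfl
  have hv2 : (t₂ : Matrix (Fin n) (Fin n) F) = (uu n F).submatrix σ σ := rfl
  obtain ⟨A₁, hA₁, h1⟩ := hcov ⟨t₁, sl_mem hG s₁⟩
  obtain ⟨A₂, hA₂, h2⟩ := hcov ⟨t₂, sl_mem hG s₂⟩
  have m1 : t₁ ∈ preim G A₁ := mem_preim.mpr ⟨_, h1, rfl⟩
  have m2 : t₂ ∈ preim G A₂ := mem_preim.mpr ⟨_, h2, rfl⟩
  have r1 : Reg (t₁ : Matrix (Fin n) (Fin n) F) (Pi.single i0 1) := by
    rw [hv1]
    exact Reg_uu i0 rfl
  have r2 : Reg (t₂ : Matrix (Fin n) (Fin n) F) (Pi.single i0 1) := by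
    rw [hv2]
    have := Reg_perm (Reg_uu (F := F) i0 rfl) σ
    convert this using 1
    ext j
    by_cases hj : j = i0
    · subst hj
      simp [hσ0]
    · have : σ j ≠ i0 := fun h => hj (by rw [← hσσ j, h, hσ0])
      simp [Pi.single_eq_of_ne hj, Pi.single_eq_of_ne this]
  have le1 : A₁ ≤ stabB G (Pi.single i0 1) := le_stabB fun g hg => stab_vec (hnil A₁ hA₁) m1 r1 hg
  have le2 : A₂ ≤ stabB G (Pi.single i0 1) := le_stabB fun g hg => stab_vec (hnil A₂ hA₂) m2 r2 hg
  have hne : A₁ ≠ A₂ := by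
    rintro rfl
    have hr : Reg (t₁ : Matrix (Fin n) (Fin n) F)ᵀ (Pi.single il 1) := by
      rw [hv1]
      exact Reg_uut il (by
        show n - 1 + 1 = n
        omega)
    obtain ⟨c, hc⟩ := stab_row (hnil A₁ hA₁) m1 hr m2
    have h3 := congrFun hc (σ i2)
    rw [Matrix.mulVec_single_one, hv2] at h3
    have h4 : σ i2 ≠ il := fun h => h12 (by rw [← hσσ i2, h, hσl])
    simp [Pi.single_eq_of_ne h4, hσl, hσσ, uu, Nm, Matrix.one_apply_ne h12, i1, i2] at h3
  have hB : stabB G (Pi.single i0 1) ≠ ⊤ := by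
    intro htop
    let s₃ : Matrix.SpecialLinearGroup (Fin n) F := ⟨Matrix.transvection i1 i0 1,
      Matrix.det_transvection_of_ne _ _ h01.symm _⟩
    have h3 : (⟨Matrix.SpecialLinearGroup.toGL s₃, sl_mem hG s₃⟩ : ↥G) ∈ stabB G (Pi.single i0 (1 : F)) := by
      rw [htop]
      trivial
    obtain ⟨c, hc⟩ := mem_stabS_of_mem_stabB _ h3
    have h4 := congrFun hc i1
    rw [Matrix.mulVec_single_one] at h4
    have h5 : ((Matrix.SpecialLinearGroup.toGL s₃ : GL (Fin n) F) : Matrix (Fin n) (Fin n) F) =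
      Matrix.transvection i1 i0 1 := rfl
    rw [h5] at h4
    simp [Matrix.transvection, Pi.single_eq_of_ne h01.symm, Matrix.one_apply_ne h01.symm] at h4
  exact no_merge 𝓐 hcov hprop hmin hB hA₁ hA₂ hne le1 le2

end large

section two

variable {F : Type*} [Field F]

/-- having an eigenvector -/
def HasEV (g : Matrix (Fin 2) (Fin 2) F) : Prop := ∃ v : Fin 2 → F, v ≠ 0 ∧ ∃ c : F, g *ᵥ v = c • v

lemma mv0 (g : Matrix (Fin 2) (Fin 2) F) (v : Fin 2 → F) : (g *ᵥ v) 0 = g 0 0 * v 0 + g 0 1 * v 1 := by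
  simp [Matrix.mulVec, dotProduct, Fin.sum_univ_two]

lemma mv1 (g : Matrix (Fin 2) (Fin 2) F) (v : Fin 2 → F) : (g *ᵥ v) 1 = g 1 0 * v 0 + g 1 1 * v 1 := by
  simp [Matrix.mulVec, dotProduct, Fin.sum_univ_two]

lemma mul2 (g T : Matrix (Fin 2) (Fin 2) F) (i j : Fin 2) : (g * T) i j = g i 0 * T 0 j + g i 1 * T 1 j := by
  simp [Matrix.mul_apply, Fin.sum_univ_two]

lemma det2 (g : Matrix (Fin 2) (Fin 2) F) : g.det = g 0 0 * g 1 1 - g 0 1 * g 1 0 := Matrix.det_fin_two g

lemma hasEV_mk (g : Matrix (Fin 2) (Fin 2) F) (x y c : F) (hne : x ≠ 0 ∨ y ≠ 0)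
    (h0 : g 0 0 * x + g 0 1 * y = c * x) (h1 : g 1 0 * x + g 1 1 * y = c * y) : HasEV g := by
  refine ⟨![x, y], ?_, c, ?_⟩
  · intro h
    rcases hne with hne | hne
    · exact hne (by simpa using congrFun h 0)
    · exact hne (by simpa using congrFun h 1)
  · ext i
    fin_cases i
    · simp [mv0, h0]
    · simp [mv1, h1]

/-- Lemma E -/
lemma ev_of_conj (z g : Matrix (Fin 2) (Fin 2) F) (hz : z.det = 1) (hg : g.det = 1) (ν : F)
    (hc : g * z = ν • (z * g)) (hns : ¬ (z 0 1 = 0 ∧ z 1 0 = 0 ∧ z 0 0 = z 1 1)) (hev : HasEV z) : HasEV g := by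
  obtain ⟨v, hv, l, hl⟩ := hev
  have hl0 : z 0 0 * v 0 + z 0 1 * v 1 = l * v 0 := by
    have := congrFun hl 0
    simpa [mv0] using this
  have hl1 : z 1 0 * v 0 + z 1 1 * v 1 = l * v 1 := by
    have := congrFun hl 1
    simpa [mv1] using this
  have hv' : v 0 ≠ 0 ∨ v 1 ≠ 0 := by
    by_contra h
    push Not at h
    apply hv
    ext i
    fin_cases i
    · exact h.1
    · exact h.2
  have e00 := congrFun (congrFun hc 0) 0
  have e01 := congrFun (congrFun hc 0) 1
  have e10 := congrFun (congrFun hc 1) 0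
  have e11 := congrFun (congrFun hc 1) 1
  simp only [Matrix.smul_apply, smul_eq_mul, mul2] at e00 e01 e10 e11
  rw [det2] at hz hg
  -- `ν² = 1`
  have hν : ν ^ 2 = 1 := by
    have h1 := congrArg Matrix.det hc
    rw [Matrix.det_smul, Matrix.det_mul, Matrix.det_mul, det2 g, det2 z, hz, hg] at h1
    simpa using h1.symm
  have key1 : ν = 1 → HasEV g := by
    rintro rfl
    simp only [one_mul] at e00 e01 e10 e11
    -- `w = g v`
    set w0 := g 0 0 * v 0 + g 0 1 * v 1 with hw0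
    set w1 := g 1 0 * v 0 + g 1 1 * v 1 with hw1
    have hz0 : z 0 0 * w0 + z 0 1 * w1 = l * w0 := by
      rw [hw0, hw1]
      linear_combination (-(v 0)) * e00 - (v 1) * e01 + g 0 0 * hl0 + g 0 1 * hl1
    have hz1 : z 1 0 * w0 + z 1 1 * w1 = l * w1 := by
      rw [hw0, hw1]
      linear_combination (-(v 0)) * e10 - (v 1) * e11 + g 1 0 * hl0 + g 1 1 * hl1
    have hD : v 0 * w1 - v 1 * w0 = 0 := by
      by_contra hD
      apply hns
      have b0 : z 0 1 * (v 0 * w1 - v 1 * w0) = 0 := by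
        linear_combination v 0 * hz0 - w0 * hl0
      have c0 : z 1 0 * (v 0 * w1 - v 1 * w0) = 0 := by
        linear_combination (-v 1) * hz1 + w1 * hl1
      have a0 : (z 0 0 - l) * (v 0 * w1 - v 1 * w0) = 0 := by
        linear_combination w1 * hl0 - v 1 * hz0
      have d0 : (z 1 1 - l) * (v 0 * w1 - v 1 * w0) = 0 := by
        linear_combination v 0 * hz1 - w0 * hl1
      refine ⟨(mul_eq_zero.mp b0).resolve_right hD, (mul_eq_zero.mp c0).resolve_right hD, ?_⟩
      have a1 := sub_eq_zero.mp ((mul_eq_zero.mp a0).resolve_right hD)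
      have d1 := sub_eq_zero.mp ((mul_eq_zero.mp d0).resolve_right hD)
      rw [a1, d1]
    rcases hv' with hv0 | hv1
    · refine hasEV_mk g (v 0) (v 1) (w0 / v 0) (Or.inl hv0) ?_ ?_
      · rw [← hw0]
        field_simp
      · rw [← hw1]
        field_simp
        linear_combination hD
    · refine hasEV_mk g (v 0) (v 1) (w1 / v 1) (Or.inr hv1) ?_ ?_
      · rw [← hw0]
        field_simp
        linear_combination -hD
      · rw [← hw1]
        field_simp
  have hcases : ν = 1 ∨ ν = -1 := by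
    have : (ν - 1) * (ν + 1) = 0 := by linear_combination hν
    rcases mul_eq_zero.mp this with h | h
    · exact Or.inl (sub_eq_zero.mp h)
    · exact Or.inr (eq_neg_of_add_eq_zero_left h)
  rcases hcases with h1 | hm1
  · exact key1 h1
  by_cases h2 : (2 : F) = 0
  · apply key1
    rw [hm1]
    linear_combination -h2 + (0 : F)
  subst hm1
  -- traces vanish
  have ht : g 0 0 + g 1 1 = 0 := by
    have : 2 * (g 0 0 + g 1 1) = 0 := by
      linear_combination (-(g 0 0 + g 1 1) * 2 * hz) + z 1 1 * e00 - z 1 0 * e01 - z 0 1 * e10 + z 0 0 * e11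
    exact (mul_eq_zero.mp this).resolve_left h2
  have hs : z 0 0 + z 1 1 = 0 := by
    have : 2 * (z 0 0 + z 1 1) = 0 := by
      linear_combination (-(z 0 0 + z 1 1) * 2 * hg) + g 1 1 * e00 - g 1 0 * e01 - g 0 1 * e10 + g 0 0 * e11
    exact (mul_eq_zero.mp this).resolve_left h2
  have hk : g 1 1 = - g 0 0 := by linear_combination ht
  have hd : z 1 1 = - z 0 0 := by linear_combination hs
  -- `l² = -1`
  have hl2 : l ^ 2 = -1 := by
    rw [hd] at hz hl1
    have h0 : (l ^ 2 + 1) * v 0 = 0 := by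
      linear_combination (-(l + z 0 0)) * hl0 - z 0 1 * hl1 - v 0 * hz
    have h1 : (l ^ 2 + 1) * v 1 = 0 := by
      linear_combination (-(l - z 0 0)) * hl1 - z 1 0 * hl0 - v 1 * hz
    rcases hv' with hv0 | hv1
    · linear_combination (mul_eq_zero.mp h0).resolve_right hv0
    · linear_combination (mul_eq_zero.mp h1).resolve_right hv1
  rw [hk] at hg
  by_cases hw : g 0 0 + l = 0 ∧ g 1 0 = 0
  · refine hasEV_mk g 1 0 (-l) (Or.inl one_ne_zero) ?_ ?_
    · linear_combination hw.1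
    · linear_combination hw.2
  · refine hasEV_mk g (g 0 0 + l) (g 1 0) l ?_ ?_ ?_
    · by_contra h
      push Not at h
      exact hw h
    · linear_combination -hg - hl2
    · rw [hk]
      ring

lemma hasEV_smul {g : Matrix (Fin 2) (Fin 2) F} (c : F) (h : HasEV g) : HasEV (c • g) := by
  obtain ⟨v, hv, l, hl⟩ := h
  refine ⟨v, hv, c * l, ?_⟩
  rw [Matrix.smul_mulVec, hl, smul_smul]

/-- matrices of `GL₂` -/
lemma gl_det (g : GL (Fin 2) F) : (g : Matrix (Fin 2) (Fin 2) F).det ≠ 0 :=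
  ((Matrix.isUnit_iff_isUnit_det _).mp g.isUnit).ne_zero

lemma not_center_iff {g : GL (Fin 2) F} (h : g ∉ Subgroup.center (GL (Fin 2) F)) :
    ¬ ((g : Matrix (Fin 2) (Fin 2) F) 0 1 = 0 ∧ (g : Matrix (Fin 2) (Fin 2) F) 1 0 = 0 ∧
      (g : Matrix (Fin 2) (Fin 2) F) 0 0 = (g : Matrix (Fin 2) (Fin 2) F) 1 1) := by
  rintro ⟨h1, h2, h3⟩
  apply h
  refine Matrix.GeneralLinearGroup.mem_center_iff_val_mem_range_scalar.mpr ⟨(g : Matrix (Fin 2) (Fin 2) F) 0 0, ?_⟩
  ext i j
  fin_cases i <;> fin_cases j <;> simp [Matrix.scalar_apply, h1, h2, h3]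

/-- entrywise computation behind "upper" and "lower" -/
lemma entry_lemma (a b c d e f h k ν μ : F) (hT : a * d - b * c ≠ 0) (hg : e * k - f * h ≠ 0)
    (hns : ¬ (b = 0 ∧ c = 0 ∧ a = d))
    (u1 : a + c = μ * a) (u2 : b + d = μ * (a + b)) (u3 : c = μ * c) (u4 : d = μ * (c + d))
    (g1 : e * a + f * c = ν * (a * e + b * h)) (g2 : e * b + f * d = ν * (a * f + b * k))
    (g3 : h * a + k * c = ν * (c * e + d * h)) (g4 : h * b + k * d = ν * (c * f + d * k)) :
    h = 0 ∧ e = k := by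
  have hc : c = 0 := by
    by_contra hc
    have hμ : μ = 1 := by
      have : (μ - 1) * c = 0 := by linear_combination -u3
      exact sub_eq_zero.mp ((mul_eq_zero.mp this).resolve_right hc)
    subst hμ
    apply hc
    linear_combination u1
  subst hc
  simp only [mul_zero, add_zero, zero_add, zero_mul, sub_zero] at *
  have ha : a ≠ 0 := left_ne_zero_of_mul hT
  have hμ : μ = 1 := by
    have : (μ - 1) * a = 0 := by linear_combination -u1
    exact sub_eq_zero.mp ((mul_eq_zero.mp this).resolve_right ha)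
  subst hμ
  have hd : d = a := by linear_combination u2
  subst hd
  have hb : b ≠ 0 := fun hb => hns ⟨hb, trivial, rfl⟩
  have hh : h = 0 := by
    by_contra hh
    have hν : ν = 1 := by
      have : (ν - 1) * (d * h) = 0 := by linear_combination -g3
      exact sub_eq_zero.mp ((mul_eq_zero.mp this).resolve_right (mul_ne_zero ha hh))
    subst hν
    apply hh
    have : h * b = 0 := by linear_combination g4
    exact (mul_eq_zero.mp this).resolve_right hb
  subst hh
  simp only [mul_zero, sub_zero, zero_mul, add_zero, zero_add] at *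
  have he : e ≠ 0 := left_ne_zero_of_mul hg
  have hν : ν = 1 := by
    have : (ν - 1) * (d * e) = 0 := by linear_combination -g1
    exact sub_eq_zero.mp ((mul_eq_zero.mp this).resolve_right (mul_ne_zero ha he))
  subst hν
  refine ⟨trivial, ?_⟩
  have : (e - k) * b = 0 := by linear_combination g2
  exact sub_eq_zero.mp ((mul_eq_zero.mp this).resolve_right hb)

variable {G : Subgroup (GL (Fin 2) F ⧸ Subgroup.center (GL (Fin 2) F))} {A : Subgroup ↥G}

lemma upper (hA : Group.IsNilpotent A) {u : GL (Fin 2) F} (hu : u ∈ preim G A)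
    (hu1 : (u : Matrix (Fin 2) (Fin 2) F) = !![1, 1; 0, 1]) {g : GL (Fin 2) F} (hg : g ∈ preim G A) :
    (g : Matrix (Fin 2) (Fin 2) F) 1 0 = 0 ∧ (g : Matrix (Fin 2) (Fin 2) F) 0 0 = (g : Matrix (Fin 2) (Fin 2) F) 1 1 := by
  have hz : u ∉ Subgroup.center (GL (Fin 2) F) := by
    intro hc
    obtain ⟨c, hc⟩ := center_scalar hc
    have := congrFun (congrFun (hu1.symm.trans hc) 0) 1
    simp at this
  obtain ⟨T, hT, hTz, hTc⟩ := exists_T hA hu hz
  obtain ⟨μ, hμ⟩ := hTc u hu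
  obtain ⟨ν, hν⟩ := hTc g hg
  rw [hu1] at hμ
  have u1 := congrFun (congrFun hμ 0) 0
  have u2 := congrFun (congrFun hμ 0) 1
  have u3 := congrFun (congrFun hμ 1) 0
  have u4 := congrFun (congrFun hμ 1) 1
  have g1 := congrFun (congrFun hν 0) 0
  have g2 := congrFun (congrFun hν 0) 1
  have g3 := congrFun (congrFun hν 1) 0
  have g4 := congrFun (congrFun hν 1) 1
  simp only [Matrix.smul_apply, smul_eq_mul, mul2] at u1 u2 u3 u4 g1 g2 g3 g4
  simp at u1 u2 u3 u4
  have hdT := gl_det T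
  have hdg := gl_det g
  rw [det2] at hdT hdg
  exact entry_lemma _ _ _ _ _ _ _ _ ν μ hdT hdg (not_center_iff hTz) (by linear_combination u1) (by linear_combination u2)
    (by linear_combination u3) (by linear_combination u4) (by linear_combination g1)
    (by linear_combination g2) (by linear_combination g3) (by linear_combination g4)

lemma lower (hA : Group.IsNilpotent A) {u : GL (Fin 2) F} (hu : u ∈ preim G A)
    (hu1 : (u : Matrix (Fin 2) (Fin 2) F) = !![1, 0; 1, 1]) {g : GL (Fin 2) F} (hg : g ∈ preim G A) :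
    (g : Matrix (Fin 2) (Fin 2) F) 0 1 = 0 ∧ (g : Matrix (Fin 2) (Fin 2) F) 0 0 = (g : Matrix (Fin 2) (Fin 2) F) 1 1 := by
  have hz : u ∉ Subgroup.center (GL (Fin 2) F) := by
    intro hc
    obtain ⟨c, hc⟩ := center_scalar hc
    have := congrFun (congrFun (hu1.symm.trans hc) 1) 0
    simp at this
  obtain ⟨T, hT, hTz, hTc⟩ := exists_T hA hu hz
  obtain ⟨μ, hμ⟩ := hTc u hu
  obtain ⟨ν, hν⟩ := hTc g hg
  rw [hu1] at hμ
  have u1 := congrFun (congrFun hμ 0) 0
  have u2 := congrFun (congrFun hμ 0) 1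
  have u3 := congrFun (congrFun hμ 1) 0
  have u4 := congrFun (congrFun hμ 1) 1
  have g1 := congrFun (congrFun hν 0) 0
  have g2 := congrFun (congrFun hν 0) 1
  have g3 := congrFun (congrFun hν 1) 0
  have g4 := congrFun (congrFun hν 1) 1
  simp only [Matrix.smul_apply, smul_eq_mul, mul2] at u1 u2 u3 u4 g1 g2 g3 g4
  simp at u1 u2 u3 u4
  have hdT := gl_det T
  have hdg := gl_det g
  rw [det2] at hdT hdg
  have hns := not_center_iff hTz
  have := entry_lemma ((T : Matrix (Fin 2) (Fin 2) F) 1 1) ((T : Matrix (Fin 2) (Fin 2) F) 1 0)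
    ((T : Matrix (Fin 2) (Fin 2) F) 0 1) ((T : Matrix (Fin 2) (Fin 2) F) 0 0)
    ((g : Matrix (Fin 2) (Fin 2) F) 1 1) ((g : Matrix (Fin 2) (Fin 2) F) 1 0)
    ((g : Matrix (Fin 2) (Fin 2) F) 0 1) ((g : Matrix (Fin 2) (Fin 2) F) 0 0) ν μ
    (fun h => hdT (by linear_combination h)) (fun h => hdg (by linear_combination h))
    (fun h => hns ⟨h.2.1, h.1, h.2.2.symm⟩)
    (by linear_combination u4) (by linear_combination u3) (by linear_combination u2) (by linear_combination u1)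
    (by linear_combination g4) (by linear_combination g3) (by linear_combination g2) (by linear_combination g1)
  exact ⟨this.1, this.2.symm⟩

lemma mk_eq_of_smul {g : GL (Fin 2) F} {s : Matrix.SpecialLinearGroup (Fin 2) F} {c : F}
    (h : (g : Matrix (Fin 2) (Fin 2) F) = c • (s : Matrix (Fin 2) (Fin 2) F)) :
    ((g : GL (Fin 2) F) : GL (Fin 2) F ⧸ Subgroup.center (GL (Fin 2) F)) =
      ((Matrix.SpecialLinearGroup.toGL s : GL (Fin 2) F) : GL (Fin 2) F ⧸ Subgroup.center (GL (Fin 2) F)) := by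
  apply QuotientGroup.eq.mpr
  refine Matrix.GeneralLinearGroup.mem_center_iff_val_mem_range_scalar.mpr ⟨c⁻¹, ?_⟩
  have hc : c ≠ 0 := by
    rintro rfl
    have := gl_det g
    rw [h, zero_smul, Matrix.det_zero] at this
    · exact this rfl
  have h1 : ((g⁻¹ : GL (Fin 2) F) : Matrix (Fin 2) (Fin 2) F) * (g : Matrix (Fin 2) (Fin 2) F) = 1 := by
    rw [← Matrix.GeneralLinearGroup.coe_mul]
    simp
  rw [h, Matrix.mul_smul] at h1
  have h2 : ((g⁻¹ : GL (Fin 2) F) : Matrix (Fin 2) (Fin 2) F) * (s : Matrix (Fin 2) (Fin 2) F) = c⁻¹ • 1 := by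
    rw [← h1, smul_smul, inv_mul_cancel₀ hc, one_smul]
  rw [Matrix.GeneralLinearGroup.coe_mul]
  show _ = ((g⁻¹ : GL (Fin 2) F) : Matrix (Fin 2) (Fin 2) F) * (s : Matrix (Fin 2) (Fin 2) F)
  rw [h2]
  ext i j
  simp [Matrix.scalar_apply, Matrix.one_apply, Matrix.diagonal_apply]

/-- the image of SL₂ -/
abbrev YY (F : Type*) [Field F] : Subgroup (GL (Fin 2) F ⧸ Subgroup.center (GL (Fin 2) F)) :=
  ((Matrix.SpecialLinearGroup.toGL : Matrix.SpecialLinearGroup (Fin 2) F →* GL (Fin 2) F).range).map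
      (QuotientGroup.mk' (Subgroup.center (GL (Fin 2) F)))

lemma exists_lift {g : GL (Fin 2) F}
    (h : ((g : GL (Fin 2) F) : GL (Fin 2) F ⧸ Subgroup.center (GL (Fin 2) F)) ∈ YY F) :
    ∃ (c : F) (s : Matrix.SpecialLinearGroup (Fin 2) F), c ≠ 0 ∧
      (g : Matrix (Fin 2) (Fin 2) F) = c • (s : Matrix (Fin 2) (Fin 2) F) := by
  obtain ⟨_, ⟨s, rfl⟩, hs⟩ := h
  have h1 : (Matrix.SpecialLinearGroup.toGL s)⁻¹ * g ∈ Subgroup.center (GL (Fin 2) F) := QuotientGroup.eq.mp hs
  obtain ⟨c, hc⟩ := center_scalar h1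
  have h2 : g = (Matrix.SpecialLinearGroup.toGL s) * ((Matrix.SpecialLinearGroup.toGL s)⁻¹ * g) := by group
  have h3 := congrArg (fun y : GL (Fin 2) F => (y : Matrix (Fin 2) (Fin 2) F)) h2
  simp only [Matrix.GeneralLinearGroup.coe_mul (Matrix.SpecialLinearGroup.toGL s)] at h3
  rw [hc, Matrix.mul_smul, Matrix.mul_one] at h3
  refine ⟨c, s, ?_, h3⟩
  rintro rfl
  have := gl_det g
  rw [h3, zero_smul, Matrix.det_zero] at this
  exact this rfl

lemma smul_sl_mul {g T : GL (Fin 2) F} {c d ν : F} {s t : Matrix (Fin 2) (Fin 2) F} (hc : c ≠ 0) (hd : d ≠ 0)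
    (hg : (g : Matrix (Fin 2) (Fin 2) F) = c • s) (hT : (T : Matrix (Fin 2) (Fin 2) F) = d • t)
    (h : (g : Matrix (Fin 2) (Fin 2) F) * (T : Matrix (Fin 2) (Fin 2) F) =
      ν • ((T : Matrix (Fin 2) (Fin 2) F) * (g : Matrix (Fin 2) (Fin 2) F))) : s * t = ν • (t * s) := by
  rw [hg, hT] at h
  simp only [Matrix.smul_mul, Matrix.mul_smul, smul_smul] at h
  have hcd : c * d ≠ 0 := mul_ne_zero hc hd
  have h2 := congrArg (fun m => (c * d)⁻¹ • m) h
  simp only [smul_smul] at h2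
  have e1 : (c * d)⁻¹ * (d * c) = 1 := by field_simp
  have e2 : (c * d)⁻¹ * (ν * (c * d)) = ν := by field_simp
  rw [e1, e2, one_smul] at h2
  exact h2

lemma ev_all {G : Subgroup (GL (Fin 2) F ⧸ Subgroup.center (GL (Fin 2) F))} {A : Subgroup ↥G}
    (hGY : G ≤ YY F) (hA : Group.IsNilpotent A) {x : GL (Fin 2) F} (hx : x ∈ preim G A)
    (hxz : x ∉ Subgroup.center (GL (Fin 2) F)) (hev : HasEV (x : Matrix (Fin 2) (Fin 2) F))
    {g : GL (Fin 2) F} (hg : g ∈ preim G A) : HasEV (g : Matrix (Fin 2) (Fin 2) F) := by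
  have hlift : ∀ y ∈ preim G A, ∃ (c : F) (s : Matrix.SpecialLinearGroup (Fin 2) F), c ≠ 0 ∧
      (y : Matrix (Fin 2) (Fin 2) F) = c • (s : Matrix (Fin 2) (Fin 2) F) := by
    intro y hy
    obtain ⟨z, hzA, hz⟩ := mem_preim.mp hy
    apply exists_lift
    rw [← hz]
    exact hGY z.2
  obtain ⟨T, hT, hTz, hTc⟩ := exists_T hA hx hxz
  obtain ⟨c₁, s₁, hc₁, he₁⟩ := hlift x hx
  obtain ⟨c₂, s₂, hc₂, he₂⟩ := hlift T hT
  obtain ⟨c₃, s₃, hc₃, he₃⟩ := hlift g hg
  obtain ⟨ν₁, h₁⟩ := hTc x hx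
  obtain ⟨ν₃, h₃⟩ := hTc g hg
  have h₁' := smul_sl_mul hc₁ hc₂ he₁ he₂ h₁
  have h₃' := smul_sl_mul hc₃ hc₂ he₃ he₂ h₃
  have hν₁ : ν₁ ≠ 0 := by
    rintro rfl
    rw [zero_smul] at h₁'
    have := congrArg Matrix.det h₁'
    rw [Matrix.det_mul, s₁.2, s₂.2] at this
    simp at this
  have hs1 : HasEV (s₁ : Matrix (Fin 2) (Fin 2) F) := by
    have : (s₁ : Matrix (Fin 2) (Fin 2) F) = c₁⁻¹ • (x : Matrix (Fin 2) (Fin 2) F) := by
      rw [he₁, smul_smul, inv_mul_cancel₀ hc₁, one_smul]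
    rw [this]
    exact hasEV_smul _ hev
  have hn1 : ¬ ((s₁ : Matrix (Fin 2) (Fin 2) F) 0 1 = 0 ∧ (s₁ : Matrix (Fin 2) (Fin 2) F) 1 0 = 0 ∧
      (s₁ : Matrix (Fin 2) (Fin 2) F) 0 0 = (s₁ : Matrix (Fin 2) (Fin 2) F) 1 1) := by
    intro h
    apply not_center_iff hxz
    rw [he₁]
    simp [h.1, h.2.1, h.2.2]
  have hn2 : ¬ ((s₂ : Matrix (Fin 2) (Fin 2) F) 0 1 = 0 ∧ (s₂ : Matrix (Fin 2) (Fin 2) F) 1 0 = 0 ∧
      (s₂ : Matrix (Fin 2) (Fin 2) F) 0 0 = (s₂ : Matrix (Fin 2) (Fin 2) F) 1 1) := by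
    intro h
    apply not_center_iff hTz
    rw [he₂]
    simp [h.1, h.2.1, h.2.2]
  have hs2 : HasEV (s₂ : Matrix (Fin 2) (Fin 2) F) := by
    refine ev_of_conj (s₁ : Matrix (Fin 2) (Fin 2) F) _ s₁.2 s₂.2 ν₁⁻¹ ?_ hn1 hs1
    rw [h₁', smul_smul, inv_mul_cancel₀ hν₁, one_smul]
  have hs3 : HasEV (s₃ : Matrix (Fin 2) (Fin 2) F) :=
    ev_of_conj (s₂ : Matrix (Fin 2) (Fin 2) F) _ s₂.2 s₃.2 ν₃ h₃' hn2 hs2
  rw [he₃]
  exact hasEV_smul _ hs3

/-- The case where `G` is not contained in the image of `SL₂`. -/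
theorem case_not_le (G : Subgroup (GL (Fin 2) F ⧸ Subgroup.center (GL (Fin 2) F)))
    (hG : YY F ≤ G) (hGY : ¬ G ≤ YY F) :
    ¬ ∃ 𝓐 : Finset (Subgroup ↥G), ((∀ A ∈ 𝓐, A ≠ ⊤) ∧ (∀ g : ↥G, ∃ A ∈ 𝓐, g ∈ A)) ∧ (∀ 𝓑 : Finset (Subgroup ↥G), (∀ A ∈ 𝓑, A ≠ ⊤) ∧ (∀ g : ↥G, ∃ A ∈ 𝓑, g ∈ A) → 𝓐.card ≤ 𝓑.card) ∧ (∀ A ∈ 𝓐, Group.IsNilpotent ↥A) := by
  rintro ⟨𝓐, ⟨hprop, hcov⟩, hmin, hnil⟩
  let s₁ : Matrix.SpecialLinearGroup (Fin 2) F := ⟨!![1, 1; 0, 1], by simp [Matrix.det_fin_two_of]⟩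
  let s₂ : Matrix.SpecialLinearGroup (Fin 2) F := ⟨!![1, 0; 1, 1], by simp [Matrix.det_fin_two_of]⟩
  let t₁ : GL (Fin 2) F := Matrix.SpecialLinearGroup.toGL s₁
  let t₂ : GL (Fin 2) F := Matrix.SpecialLinearGroup.toGL s₂
  have hv1 : (t₁ : Matrix (Fin 2) (Fin 2) F) = !![1, 1; 0, 1] := rfl
  have hv2 : (t₂ : Matrix (Fin 2) (Fin 2) F) = !![1, 0; 1, 1] := rfl
  obtain ⟨A₁, hA₁, h1⟩ := hcov ⟨t₁, sl_mem hG s₁⟩
  obtain ⟨A₂, hA₂, h2⟩ := hcov ⟨t₂, sl_mem hG s₂⟩
  have m1 : t₁ ∈ preim G A₁ := mem_preim.mpr ⟨_, h1, rfl⟩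
  have m2 : t₂ ∈ preim G A₂ := mem_preim.mpr ⟨_, h2, rfl⟩
  let B : Subgroup ↥G := (YY F).comap G.subtype
  have hB : B ≠ ⊤ := by
    intro h
    apply hGY
    intro x hx
    have : (⟨x, hx⟩ : ↥G) ∈ B := by
      rw [h]
      trivial
    exact this
  have le1 : A₁ ≤ B := by
    intro x hx
    obtain ⟨g, hg⟩ := QuotientGroup.mk_surjective x.1
    have hgp : g ∈ preim G A₁ := mem_preim.mpr ⟨x, hx, hg.symm⟩
    obtain ⟨h10, h00⟩ := upper (hnil A₁ hA₁) m1 hv1 hgp
    have hd := gl_det g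
    rw [det2, h10, ← h00] at hd
    have he : (g : Matrix (Fin 2) (Fin 2) F) 0 0 ≠ 0 := by
      intro h0
      apply hd
      rw [h0]
      ring
    let s : Matrix.SpecialLinearGroup (Fin 2) F :=
      ⟨!![1, (g : Matrix (Fin 2) (Fin 2) F) 0 1 / (g : Matrix (Fin 2) (Fin 2) F) 0 0; 0, 1], by simp [Matrix.det_fin_two_of]⟩
    have hs : (g : Matrix (Fin 2) (Fin 2) F) = (g : Matrix (Fin 2) (Fin 2) F) 0 0 • (s : Matrix (Fin 2) (Fin 2) F) := by
      ext i j
      fin_cases i <;> fin_cases j <;> simp [s, h10, ← h00, mul_div_cancel₀ _ he]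
    show x.1 ∈ YY F
    rw [← hg, mk_eq_of_smul hs]
    exact ⟨_, ⟨s, rfl⟩, rfl⟩
  have le2 : A₂ ≤ B := by
    intro x hx
    obtain ⟨g, hg⟩ := QuotientGroup.mk_surjective x.1
    have hgp : g ∈ preim G A₂ := mem_preim.mpr ⟨x, hx, hg.symm⟩
    obtain ⟨h10, h00⟩ := lower (hnil A₂ hA₂) m2 hv2 hgp
    have hd := gl_det g
    rw [det2, h10, ← h00] at hd
    have he : (g : Matrix (Fin 2) (Fin 2) F) 0 0 ≠ 0 := by
      intro h0
      apply hd
      rw [h0]
      ring
    let s : Matrix.SpecialLinearGroup (Fin 2) F :=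
      ⟨!![1, 0; (g : Matrix (Fin 2) (Fin 2) F) 1 0 / (g : Matrix (Fin 2) (Fin 2) F) 0 0, 1], by simp [Matrix.det_fin_two_of]⟩
    have hs : (g : Matrix (Fin 2) (Fin 2) F) = (g : Matrix (Fin 2) (Fin 2) F) 0 0 • (s : Matrix (Fin 2) (Fin 2) F) := by
      ext i j
      fin_cases i <;> fin_cases j <;> simp [s, h10, ← h00, mul_div_cancel₀ _ he]
    show x.1 ∈ YY F
    rw [← hg, mk_eq_of_smul hs]
    exact ⟨_, ⟨s, rfl⟩, rfl⟩
  have hne : A₁ ≠ A₂ := by
    rintro rfl
    have := (upper (hnil A₁ hA₁) m1 hv1 m2).1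
    rw [hv2] at this
    simp at this
  exact no_merge 𝓐 hcov hprop hmin hB hA₁ hA₂ hne le1 le2

/-- vectors representing the points of the projective line -/
def vec : Option F → Fin 2 → F
  | none => ![1, 0]
  | some t => ![t, 1]

/-- transvection with centre `vec p` -/
def uP : Option F → Matrix (Fin 2) (Fin 2) F
  | none => !![1, 1; 0, 1]
  | some t => !![1 + t, -t ^ 2; 1, 1 - t]

lemma uP_det (p : Option F) : (uP p).det = 1 := by
  cases p with
  | none => simp [uP, Matrix.det_fin_two_of]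
  | some t =>
    simp only [uP, Matrix.det_fin_two_of]
    ring

/-- the element of `SL₂` -/
def uS (p : Option F) : Matrix.SpecialLinearGroup (Fin 2) F := ⟨uP p, uP_det p⟩

lemma vec_ne (p : Option F) : vec p ≠ 0 := by
  cases p with
  | none =>
    intro h
    simpa [vec] using congrFun h 0
  | some t =>
    intro h
    simpa [vec] using congrFun h 1

lemma exists_vec {v : Fin 2 → F} (hv : v ≠ 0) : ∃ (p : Option F) (c : F), c ≠ 0 ∧ v = c • vec p := by
  by_cases h1 : v 1 = 0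
  · have h0 : v 0 ≠ 0 := by
      intro h0
      apply hv
      ext i
      fin_cases i
      · exact h0
      · exact h1
    refine ⟨none, v 0, h0, ?_⟩
    ext i
    fin_cases i
    · simp [vec]
    · simp [vec, h1]
  · refine ⟨some (v 0 / v 1), v 1, h1, ?_⟩
    ext i
    fin_cases i
    · simp [vec]
      field_simp
    · simp [vec]

lemma Reg_uP (p : Option F) : Reg (uP p) (vec p) := by
  cases p with
  | none =>
    refine ⟨⟨2, ?_⟩, vec_ne _, ?_, ?_⟩
    · ext i j
      fin_cases i <;> fin_cases j <;> simp [uP, pow_two, mul2]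
    · ext i
      fin_cases i <;> simp [uP, vec, mv0, mv1]
    · intro v hv
      have h1 := congrFun hv 0
      simp only [uP, mv0] at h1
      simp at h1
      refine ⟨v 0, ?_⟩
      ext i
      fin_cases i
      · simp [vec]
      · simp [vec, h1]
  | some t =>
    refine ⟨⟨2, ?_⟩, vec_ne _, ?_, ?_⟩
    · ext i j
      fin_cases i <;> fin_cases j <;> simp [uP, pow_two, mul2] <;> ring
    · ext i
      fin_cases i
      · simp [uP, vec, mv0]
        ring
      · simp [uP, vec, mv1]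
    · intro v hv
      have h1 := congrFun hv 1
      simp only [uP, mv1] at h1
      simp at h1
      refine ⟨v 1, ?_⟩
      ext i
      fin_cases i
      · simp [vec]
        linear_combination h1
      · simp [vec]

lemma stabB_ne_top {G : Subgroup (GL (Fin 2) F ⧸ Subgroup.center (GL (Fin 2) F))} (hG : YY F ≤ G)
    (p : Option F) : stabB G (vec p) ≠ ⊤ := by
  intro htop
  have key : ∀ s : Matrix.SpecialLinearGroup (Fin 2) F, ∃ c : F,
      (s : Matrix (Fin 2) (Fin 2) F) *ᵥ vec p = c • vec p := by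
    intro s
    have h3 : (⟨Matrix.SpecialLinearGroup.toGL s, sl_mem hG s⟩ : ↥G) ∈ stabB G (vec p) := by
      rw [htop]
      trivial
    exact mem_stabS_of_mem_stabB _ h3
  obtain ⟨c₁, h₁⟩ := key ⟨!![1, 1; 0, 1], by simp [Matrix.det_fin_two_of]⟩
  obtain ⟨c₂, h₂⟩ := key ⟨!![1, 0; 1, 1], by simp [Matrix.det_fin_two_of]⟩
  have a0 := congrFun h₁ 0
  have a1 := congrFun h₁ 1
  have b0 := congrFun h₂ 0
  have b1 := congrFun h₂ 1
  simp only [mv0, mv1] at a0 a1 b0 b1
  cases p with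
  | none =>
    simp [vec] at b0 b1
  | some t =>
    simp [vec] at a0 a1
    subst a1
    simp at a0

lemma exists_a (hq : 4 ≤ Nat.card F) : ∃ a : F, a ≠ 0 ∧ a ^ 2 ≠ 1 := by
  classical
  haveI : Finite F := Nat.finite_of_card_ne_zero (by omega)
  haveI := Fintype.ofFinite F
  rw [Nat.card_eq_fintype_card] at hq
  have h1 : (({0, 1, -1} : Finset F)).card < (Finset.univ : Finset F).card := by
    have := Finset.card_le_three (a := (0 : F)) (b := 1) (c := -1)
    rw [Finset.card_univ]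
    omega
  obtain ⟨a, _, ha⟩ := Finset.exists_mem_notMem_of_card_lt_card h1
  simp only [Finset.mem_insert, Finset.mem_singleton, not_or] at ha
  refine ⟨a, ha.1, fun h => ?_⟩
  have : (a - 1) * (a + 1) = 0 := by linear_combination h
  rcases mul_eq_zero.mp this with h | h
  · exact ha.2.1 (sub_eq_zero.mp h)
  · exact ha.2.2 (eq_neg_of_add_eq_zero_left h)

/-- Distinct transvections do not share a nilpotent member. -/
lemma uP_stab {p p' : Option F} {c : F} (h : uP p' *ᵥ vec p = c • vec p) : p = p' := by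
  have a0 := congrFun h 0
  have a1 := congrFun h 1
  simp only [mv0, mv1] at a0 a1
  cases p with
  | none =>
    cases p' with
    | none => rfl
    | some t =>
      simp [uP, vec] at a1
  | some t =>
    cases p' with
    | none =>
      simp [uP, vec] at a0 a1
      subst a1
      simp at a0
    | some t' =>
      simp [uP, vec] at a0 a1
      have h1 : (t - t') ^ 2 = 0 := by
        subst a1
        linear_combination -a0
      have h2 : t - t' = 0 := by simpa using h1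
      rw [sub_eq_zero.mp h2]

/-- The case of `G` equal to the image of `SL₂`. -/
theorem case_le [Fintype F] (hq : 4 ≤ Fintype.card F) (G : Subgroup (GL (Fin 2) F ⧸ Subgroup.center (GL (Fin 2) F)))
    (hG : YY F ≤ G) (hGY : G ≤ YY F) :
    ¬ ∃ 𝓐 : Finset (Subgroup ↥G), ((∀ A ∈ 𝓐, A ≠ ⊤) ∧ (∀ g : ↥G, ∃ A ∈ 𝓐, g ∈ A)) ∧ (∀ 𝓑 : Finset (Subgroup ↥G), (∀ A ∈ 𝓑, A ≠ ⊤) ∧ (∀ g : ↥G, ∃ A ∈ 𝓑, g ∈ A) → 𝓐.card ≤ 𝓑.card) ∧ (∀ A ∈ 𝓐, Group.IsNilpotent ↥A) := by
  classical
  rintro ⟨𝓐, ⟨hprop, hcov⟩, hmin, hnil⟩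
  obtain ⟨a, ha0, ha2⟩ := exists_a (F := F) (by rwa [Nat.card_eq_fintype_card])
  -- the members
  let tP : Option F → GL (Fin 2) F := fun p => Matrix.SpecialLinearGroup.toGL (uS p)
  have htP : ∀ p, (tP p : Matrix (Fin 2) (Fin 2) F) = uP p := fun p => rfl
  choose Ap hAp hmem using fun p : Option F => hcov ⟨tP p, sl_mem hG (uS p)⟩
  let sd : Matrix.SpecialLinearGroup (Fin 2) F := ⟨!![a, 0; 0, a⁻¹], by
    simp [Matrix.det_fin_two_of, ha0]⟩
  let td : GL (Fin 2) F := Matrix.SpecialLinearGroup.toGL sd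
  have htd : (td : Matrix (Fin 2) (Fin 2) F) = !![a, 0; 0, a⁻¹] := rfl
  obtain ⟨Ad, hAd, hd⟩ := hcov ⟨td, sl_mem hG sd⟩
  have mP : ∀ p, tP p ∈ preim G (Ap p) := fun p => mem_preim.mpr ⟨_, hmem p, rfl⟩
  have md : td ∈ preim G Ad := mem_preim.mpr ⟨_, hd, rfl⟩
  -- `d` is not central
  have haa : a ≠ a⁻¹ := by
    intro h
    apply ha2
    have : a * a = a * a⁻¹ := by rw [← h]
    rw [mul_inv_cancel₀ ha0] at this
    rw [pow_two, this]
  have hdz : td ∉ Subgroup.center (GL (Fin 2) F) := by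
    intro hc
    obtain ⟨c, hc⟩ := center_scalar hc
    rw [htd] at hc
    have h0 := congrFun (congrFun hc 0) 0
    have h1 := congrFun (congrFun hc 1) 1
    simp at h0 h1
    exact haa (h0.trans h1.symm)
  have hPz : ∀ p, tP p ∉ Subgroup.center (GL (Fin 2) F) := by
    intro p hc
    obtain ⟨c, hc⟩ := center_scalar hc
    rw [htP] at hc
    cases p with
    | none =>
      have := congrFun (congrFun hc 0) 1
      simp [uP] at this
    | some t =>
      have := congrFun (congrFun hc 1) 0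
      simp [uP] at this
  -- the set of members all of whose elements have eigenvectors
  let 𝓐₀ : Finset (Subgroup ↥G) := 𝓐.filter fun A => ∀ g ∈ preim G A, HasEV (g : Matrix (Fin 2) (Fin 2) F)
  let 𝓐₁ : Finset (Subgroup ↥G) := 𝓐.filter fun A => ¬ ∀ g ∈ preim G A, HasEV (g : Matrix (Fin 2) (Fin 2) F)
  have hsum : 𝓐₀.card + 𝓐₁.card = 𝓐.card := Finset.card_filter_add_card_filter_not _
  let 𝓑 : Finset (Subgroup ↥G) := (Finset.univ.image fun p : Option F => stabB G (vec p)) ∪ 𝓐₁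
  have hB : 𝓐.card ≤ 𝓑.card := by
    apply hmin
    constructor
    · intro A hA
      rcases Finset.mem_union.mp hA with hA | hA
      · obtain ⟨p, _, rfl⟩ := Finset.mem_image.mp hA
        exact stabB_ne_top hG p
      · exact hprop A (Finset.mem_filter.mp hA).1
    · intro x
      obtain ⟨A, hA, hx⟩ := hcov x
      by_cases hall : ∀ g ∈ preim G A, HasEV (g : Matrix (Fin 2) (Fin 2) F)
      · obtain ⟨g, hg⟩ := QuotientGroup.mk_surjective x.1
        obtain ⟨v, hv, c, hc⟩ := hall g (mem_preim.mpr ⟨x, hx, hg.symm⟩)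
        obtain ⟨p, d, hd0, rfl⟩ := exists_vec hv
        refine ⟨stabB G (vec p), Finset.mem_union_left _ (Finset.mem_image_of_mem _ (Finset.mem_univ p)), ?_⟩
        refine ⟨g, ⟨c, ?_⟩, hg⟩
        rw [Matrix.mulVec_smul, smul_smul, mul_comm, ← smul_smul] at hc
        exact smul_right_injective _ hd0 hc
      · exact ⟨A, Finset.mem_union_right _ (Finset.mem_filter.mpr ⟨hA, hall⟩), hx⟩
  have hB2 : 𝓑.card ≤ (Fintype.card F + 1) + 𝓐₁.card := by
    refine (Finset.card_union_le _ _).trans (Nat.add_le_add_right ?_ _)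
    refine Finset.card_image_le.trans ?_
    simp
  -- the lower bound
  let ψ : Option (Option F) → Subgroup ↥G
    | none => Ad
    | some p => Ap p
  have hψmem : ∀ o, ψ o ∈ 𝓐₀ := by
    intro o
    cases o with
    | none =>
      refine Finset.mem_filter.mpr ⟨hAd, fun g hg => ev_all hGY (hnil Ad hAd) md hdz ?_ hg⟩
      rw [htd]
      refine hasEV_mk _ 1 0 a (Or.inl one_ne_zero) ?_ ?_ <;> simp
    | some p =>
      refine Finset.mem_filter.mpr ⟨hAp p, fun g hg => ev_all hGY (hnil _ (hAp p)) (mP p) (hPz p) ?_ hg⟩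
      rw [htP]
      exact ⟨vec p, vec_ne p, 1, by rw [(Reg_uP p).fix, one_smul]⟩
  have hψinj : Function.Injective ψ := by
    have hstab : ∀ p {g : GL (Fin 2) F}, g ∈ preim G (Ap p) →
        ∃ c : F, (g : Matrix (Fin 2) (Fin 2) F) *ᵥ vec p = c • vec p := fun p g hg =>
      stab_vec (hnil _ (hAp p)) (mP p) (by rw [htP]; exact Reg_uP p) hg
    have hdne : ∀ p, Ad ≠ Ap p := by
      intro p he
      have md' : td ∈ preim G (Ap p) := he ▸ md
      obtain ⟨c, hc⟩ := hstab p md'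
      rw [htd] at hc
      have a0 := congrFun hc 0
      have a1 := congrFun hc 1
      simp only [mv0, mv1] at a0 a1
      have hdiff : (!![a, 0; 0, a⁻¹] : Matrix (Fin 2) (Fin 2) F) 0 0 = (!![a, 0; 0, a⁻¹] : Matrix (Fin 2) (Fin 2) F) 1 1 → False := by
        intro h
        exact haa (by simpa using h)
      cases p with
      | none =>
        apply hdiff
        have := (upper (hnil _ (hAp none)) (mP none) (by rw [htP]; rfl) md').2
        rwa [htd] at this
      | some t =>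
        simp [vec] at a0 a1
        subst a1
        have ht : t = 0 := by
          exact a0.resolve_left haa
        subst ht
        apply hdiff
        have hu0 : (tP (some 0) : Matrix (Fin 2) (Fin 2) F) = !![1, 0; 1, 1] := by
          rw [htP]
          ext i j
          fin_cases i <;> fin_cases j <;> simp [uP]
        have := (lower (hnil _ (hAp (some 0))) (mP (some 0)) hu0 md').2
        rwa [htd] at this
    intro o o' he
    cases o with
    | none =>
      cases o' with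
      | none => rfl
      | some p => exact (hdne p he).elim
    | some p =>
      cases o' with
      | none => exact (hdne p he.symm).elim
      | some p' =>
        have he' : Ap p = Ap p' := he
        have m' : tP p' ∈ preim G (Ap p) := he' ▸ mP p'
        obtain ⟨c, hc⟩ := hstab p m'
        rw [htP] at hc
        rw [uP_stab hc]
  have hcardO : Fintype.card F + 2 ≤ 𝓐₀.card := by
    have h1 : (Finset.univ.image ψ).card = Fintype.card (Option (Option F)) := by
      rw [Finset.card_image_of_injective _ hψinj, Finset.card_univ]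
    have h2 : Finset.univ.image ψ ⊆ 𝓐₀ := by
      intro A hA
      obtain ⟨o, _, rfl⟩ := Finset.mem_image.mp hA
      exact hψmem o
    have h3 := Finset.card_le_card h2
    rw [h1] at h3
    simp only [Fintype.card_option] at h3
    omega
  omega

end two


/-- A cover of a group is a finite set of proper subgroups whose union is the whole group; it is minimal when no cover has fewer members, and nilpotent when all its members are nilpotent. Let F be a finite field with q elements and n ≥ 3, or n = 2 and q ≥ 4. Then no subgroup of PGL_n(F) = GL_n(F)/Z(GL_n(F)) containing the image of SL_n(F) has a nilpotent minimal cover. -/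
theorem result {F : Type*} [Field F] [Fintype F] (n : ℕ) (hn : 3 ≤ n ∨ (n = 2 ∧ 4 ≤ Fintype.card F))
    (G : Subgroup (GL (Fin n) F ⧸ Subgroup.center (GL (Fin n) F)))
    (hG : ((Matrix.SpecialLinearGroup.toGL : Matrix.SpecialLinearGroup (Fin n) F →* GL (Fin n) F).range).map
      (QuotientGroup.mk' (Subgroup.center (GL (Fin n) F))) ≤ G) :
    ¬ ∃ 𝓐 : Finset (Subgroup ↥G), ((∀ A ∈ 𝓐, A ≠ ⊤) ∧ (∀ g : ↥G, ∃ A ∈ 𝓐, g ∈ A)) ∧ (∀ 𝓑 : Finset (Subgroup ↥G), (∀ A ∈ 𝓑, A ≠ ⊤) ∧ (∀ g : ↥G, ∃ A ∈ 𝓑, g ∈ A) → 𝓐.card ≤ 𝓑.card) ∧ (∀ A ∈ 𝓐, Group.IsNilpotent ↥A) := by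
  rcases hn with h | ⟨rfl, hq⟩
  · exact case_ge3 h G hG
  · by_cases hGY : G ≤ YY F
    · exact case_le hq G hG hGY
    · exact case_not_le G hG hGY


end Cfsg.Agent.S3894
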