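import Cfsg.Statements.S4035
import Mathlib
import Cfsg.Agent.Lib.Coprime.FrobCount
import Cfsg.Agent.Lib.Techniques.Complement
import Cfsg.Agent.Lib.ClassSizes.Basic

set_option autoImplicit false
open Cfsg

namespace Cfsg.Agent.S4035

open Subgroup Finset Cfsg.Agent.Lib.Coprime

section Helpers

variable {G : Type*} [Group G] [Finite G] {p : ℕ} [hp : Fact p.Prime]

/-- The `p'`-elements of the centralizer of a Sylow `p`-subgroup form a subgroup. -/
theorem exists_pPrime_centralizer (P : Sylow p G) :
    ∃ D : Subgroup G, ∀ x, x ∈ D ↔ x ∈ centralizer (P : Set G) ∧ (orderOf x).Coprime p := by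
  classical
  set C := centralizer (P : Set G) with hC
  obtain ⟨Q⟩ : Nonempty (Sylow p C) := inferInstance
  have hQP : (Q : Subgroup C).map C.subtype ≤ P := by
    set Q' := (Q : Subgroup C).map C.subtype with hQ'
    have hQ'p : IsPGroup p Q' := Q.isPGroup'.map _
    have hle : Q' ≤ C := by
      rintro _ ⟨y, -, rfl⟩
      exact y.2
    have key : ∀ a ∈ (P : Subgroup G), ∀ y ∈ Q', a * y * a⁻¹ = y := by
      intro a ha y hy
      have := (mem_centralizer_iff.mp (hle hy)) a ha
      rw [this]; group
    have hcomm : (P : Subgroup G) ≤ normalizer (Q' : Set G) := by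
      intro a ha
      rw [mem_normalizer_iff]
      intro b
      constructor
      · intro hb
        rw [key a ha b hb]; exact hb
      · intro hb
        have h1 := key a⁻¹ (inv_mem ha) _ hb
        have h2 : a⁻¹ * (a * b * a⁻¹) * a⁻¹⁻¹ = b := by group
        rw [h2] at h1
        rw [h1]; exact hb
    have hsup : IsPGroup p ((Q' ⊔ (P : Subgroup G) : Subgroup G)) :=
      IsPGroup.to_sup_of_normal_left' hQ'p P.isPGroup' hcomm
    have := P.3 hsup le_sup_right
    exact (le_sup_left : Q' ≤ Q' ⊔ (P : Subgroup G)).trans this.le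
  have hQcen : (Q : Subgroup C) ≤ center C := by
    intro y hy
    rw [mem_center_iff]
    intro z
    apply Subtype.ext
    have hy' : (y : G) ∈ (P : Subgroup G) := hQP ⟨y, hy, rfl⟩
    exact ((mem_centralizer_iff.mp z.2) y hy').symm
  have hNC : normalizer ((Q : Subgroup C) : Set C) ≤ centralizer ((Q : Subgroup C) : Set C) := by
    intro z _
    rw [mem_centralizer_iff]
    intro y hy
    exact ((mem_center_iff.mp (hQcen hy)) z).symm ▸ rfl
  obtain ⟨K, hKn, hKp, hK⟩ := Cfsg.Agent.Lib.Techniques.exists_ker_of_normalizer_le_centralizer Q hNC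
  refine ⟨K.map C.subtype, ?_⟩
  intro x
  constructor
  · rintro ⟨y, hy, rfl⟩
    refine ⟨y.2, ?_⟩
    have := (hK y).mp hy
    show (orderOf (y : G)).Coprime p
    rwa [Subgroup.orderOf_coe]
  · rintro ⟨h1, h2⟩
    refine ⟨⟨x, h1⟩, (hK _).mpr ?_, rfl⟩
    rw [Subgroup.orderOf_mk]
    exact h2

/-- An element with class size prime to `p` is conjugate into the centralizer of `P`. -/
theorem exists_conj_mem_centralizer (P : Sylow p G) {x : G}
    (hx : ¬ p ∣ (centralizer ({x} : Set G)).index) :
    ∃ g : G, g * x * g⁻¹ ∈ centralizer (P : Set G) := by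
  classical
  set C := centralizer ({x} : Set G) with hC
  obtain ⟨S⟩ : Nonempty (Sylow p C) := inferInstance
  let Q₀ : Subgroup G := (S : Subgroup C).map C.subtype
  have hpg : IsPGroup p Q₀ := S.isPGroup'.map _
  have hidx : ¬ p ∣ Q₀.index := by
    have h1 : Q₀.index = (S : Subgroup C).index * C.index := by
      simp only [Q₀]
      rw [Subgroup.index_map_subtype]
    rw [h1]
    intro hd
    rcases (Nat.Prime.dvd_mul hp.out).mp hd with h2 | h2
    · exact S.not_dvd_index h2
    · exact hx h2
  let Q : Sylow p G := hpg.toSylow hidx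
  obtain ⟨g, hg⟩ := MulAction.exists_smul_eq G Q P
  refine ⟨g, ?_⟩
  rw [mem_centralizer_iff]
  intro a ha
  have ha' : a ∈ (g • Q : Sylow p G) := by rw [hg]; exact ha
  have h3 : g⁻¹ * a * g ∈ Q₀ := by
    have := Cfsg.Agent.Lib.ClassSizes.mem_sylow_smul_iff.mp ha'
    exact this
  obtain ⟨y, -, hy⟩ := h3
  have h4 : (y : G) * x = x * y := by
    have := mem_centralizer_singleton_iff.mp y.2
    exact this
  have hy' : (y : G) = g⁻¹ * a * g := hy
  rw [hy'] at h4
  calc a * (g * x * g⁻¹) = g * (g⁻¹ * a * g * x) * g⁻¹ := by group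
    _ = g * (x * (g⁻¹ * a * g)) * g⁻¹ := by rw [h4]
    _ = g * x * g⁻¹ * a := by group

/-- Counting conjugates. -/
theorem card_le_of_conj_mem [Fintype G] [DecidableEq G] (D N : Subgroup G) [Fintype D]
    (hN : ∀ n ∈ N, ∀ d ∈ D, n * d * n⁻¹ ∈ D)
    (X : Finset G) (hX : ∀ x ∈ X, ∃ g : G, g * x * g⁻¹ ∈ D) :
    X.card ≤ 1 + N.index * (Nat.card D - 1) := by
  classical
  let f : (G ⧸ N) × D → G := fun t => t.1.out * (t.2 : G) * t.1.out⁻¹
  have hsub : X.erase 1 ⊆ ((univ : Finset (G ⧸ N)) ×ˢ ((univ : Finset D).erase 1)).image f := by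
    intro x hx
    obtain ⟨hx1, hx2⟩ := mem_erase.mp hx
    obtain ⟨g, hg⟩ := hX x hx2
    rw [mem_image]
    let q : G ⧸ N := QuotientGroup.mk g⁻¹
    have hq : (q.out)⁻¹ * g⁻¹ ∈ N := by
      apply QuotientGroup.eq.mp
      simp [q]
    set n := (q.out)⁻¹ * g⁻¹ with hn
    have hg' : g⁻¹ = q.out * n := by rw [hn]; group
    have hd : n * (g * x * g⁻¹) * n⁻¹ ∈ D := hN n hq _ hg
    refine ⟨(q, ⟨_, hd⟩), ?_, ?_⟩
    · simp only [mem_product, mem_univ, true_and, mem_erase, and_true]
      intro h1
      have h2 : n * (g * x * g⁻¹) * n⁻¹ = 1 := congrArg Subtype.val h1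
      apply hx1
      have h3 : g * x * g⁻¹ = 1 := by
        have := (conj_eq_one_iff (a := n)).mp h2
        exact this
      exact (conj_eq_one_iff (a := g)).mp h3
    · simp only [f]
      rw [hn]
      group
  have h1 : (X.erase 1).card ≤ N.index * (Nat.card D - 1) := by
    refine (card_le_card hsub).trans (card_image_le.trans ?_)
    rw [card_product, card_univ, ← Nat.card_eq_fintype_card, ← Subgroup.index_eq_card,
      card_erase_of_mem (mem_univ _), card_univ, ← Nat.card_eq_fintype_card]
  have h2 : X.card ≤ (X.erase 1).card + 1 := by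
    have := Finset.card_le_card (Finset.subset_insert 1 (X.erase 1) |>.trans (le_refl _))
    by_cases h : (1 : G) ∈ X
    · rw [card_erase_of_mem h]
      have : 0 < X.card := Finset.card_pos.mpr ⟨1, h⟩
      omega
    · rw [erase_eq_of_notMem h]; omega
  omega

end Helpers


/-- Let G be a finite group and p a prime such that p divides the size of no conjugacy class of p-regular elements (elements of order prime to p). Then G is the internal direct product of a Sylow p-subgroup P and a normal subgroup H of order prime to p: P is normal, P ⊓ H = 1 and PH = G. -/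
theorem result {G : Type*} [Group G] [Finite G] {p : ℕ} [Fact p.Prime]
    (h : ∀ x : G, (orderOf x).Coprime p → ¬ p ∣ (ConjClasses.mk x).carrier.ncard) (P : Sylow p G) :
    (P : Subgroup G).Normal ∧ ∃ H : Subgroup G, H.Normal ∧ ¬ p ∣ Nat.card H ∧
      (P : Subgroup G) ⊓ H = ⊥ ∧ (P : Subgroup G) ⊔ H = ⊤ := by
  classical
  haveI := Fintype.ofFinite G
  have hpp : p.Prime := Fact.out
  obtain ⟨D, hD⟩ := exists_pPrime_centralizer P
  haveI : Fintype D := Fintype.ofFinite D
  -- notation
  set m := (P : Subgroup G).index with hm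
  have hPm : Nat.card (P : Subgroup G) * m = Nat.card G := (P : Subgroup G).card_mul_index
  have hmG : m ∣ Nat.card G := hPm ▸ dvd_mul_left _ _
  have hmp : ¬ p ∣ m := P.not_dvd_index
  -- `p'`-elements are conjugate into `D`
  set X : Finset G := univ.filter fun x : G => x ^ m = 1 with hX
  have hXD : ∀ x ∈ X, ∃ g : G, g * x * g⁻¹ ∈ D := by
    intro x hx
    have hx1 : x ^ m = 1 := (mem_filter.mp hx).2
    have hco : (orderOf x).Coprime p := by
      have h1 : orderOf x ∣ m := orderOf_dvd_of_pow_eq_one hx1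
      exact Nat.Coprime.coprime_dvd_left h1 ((Nat.Prime.coprime_iff_not_dvd hpp).mpr hmp).symm
    have h2 : ¬ p ∣ (centralizer ({x} : Set G)).index := by
      have h3 := h x hco
      have h4 : (ConjClasses.mk x).carrier.ncard = (centralizer ({x} : Set G)).index := by
        rw [← Cfsg.Agent.Lib.ClassSizes.card_isConj_eq_index, ← Nat.card_coe_set_eq]
        refine Nat.card_congr (Equiv.subtypeEquivRight fun y => ?_)
        rw [ConjClasses.mem_carrier_iff_mk_eq, ConjClasses.mk_eq_mk_iff_isConj]
        exact isConj_comm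
      rwa [h4] at h3
    obtain ⟨g, hg⟩ := exists_conj_mem_centralizer P h2
    refine ⟨g, (hD _).mpr ⟨hg, ?_⟩⟩
    have : orderOf (g * x * g⁻¹) = orderOf x := orderOf_eq_orderOf_iff.mpr fun k => by
      rw [conj_pow, conj_eq_one_iff]
    rw [this]; exact hco
  -- normalizer of `P` normalizes `D`
  have hND : ∀ n ∈ normalizer ((P : Subgroup G) : Set G), ∀ d ∈ D, n * d * n⁻¹ ∈ D := by
    intro n hn d hd
    obtain ⟨hd1, hd2⟩ := (hD d).mp hd
    refine (hD _).mpr ⟨?_, ?_⟩
    · rw [mem_centralizer_iff]
      intro a ha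
      have h1 : n⁻¹ * a * n ∈ (P : Subgroup G) := by
        have e : n * (n⁻¹ * a * n) * n⁻¹ = a := by group
        exact (mem_normalizer_iff.mp hn (n⁻¹ * a * n)).mpr (by rw [e]; exact ha)
      have h2 := (mem_centralizer_iff.mp hd1) _ h1
      calc a * (n * d * n⁻¹) = n * ((n⁻¹ * a * n) * d) * n⁻¹ := by group
        _ = n * (d * (n⁻¹ * a * n)) * n⁻¹ := by rw [h2]
        _ = n * d * n⁻¹ * a := by group
    · have : orderOf (n * d * n⁻¹) = orderOf d := orderOf_eq_orderOf_iff.mpr fun k => by
        rw [conj_pow, conj_eq_one_iff]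
      rw [this]; exact hd2
  have hcount := card_le_of_conj_mem D (normalizer ((P : Subgroup G) : Set G)) hND X hXD
  set i := (normalizer ((P : Subgroup G) : Set G)).index with hi
  set d := Nat.card D with hd
  have hdpos : 0 < d := Nat.card_pos
  have hipos : 0 < i := Nat.pos_of_ne_zero Subgroup.index_ne_zero_of_finite
  have hmpos : 0 < m := Nat.pos_of_ne_zero Subgroup.index_ne_zero_of_finite
  -- Frobenius
  have hF : m ∣ X.card := by
    have := frobenius_count (G := G) m hmG
    rwa [card_sol_eq_filter] at this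
  have hXpos : 0 < X.card := Finset.card_pos.mpr ⟨1, by simp [hX]⟩
  have hmX : m ≤ X.card := Nat.le_of_dvd hXpos hF
  -- `d` is prime to `p`
  have hdco : d.Coprime p := by
    rw [Nat.coprime_comm, Nat.Prime.coprime_iff_not_dvd hpp]
    intro hdvd
    obtain ⟨x, hx⟩ := exists_prime_orderOf_dvd_card' p hdvd
    have h1 := ((hD x.1).mp x.2).2
    rw [Subgroup.orderOf_coe, hx] at h1
    exact hpp.one_lt.ne' (by simpa using h1)
  have hPcard : (Nat.card (P : Subgroup G)).Coprime d := by
    obtain ⟨k, hk⟩ := IsPGroup.iff_card.mp P.isPGroup'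
    rw [hk]
    exact Nat.Coprime.pow_left _ hdco.symm
  -- order of the normalizer
  set NP := normalizer ((P : Subgroup G) : Set G) with hNP
  have hPN : Nat.card (P : Subgroup G) ∣ Nat.card NP :=
    Subgroup.card_dvd_of_le (Subgroup.le_normalizer)
  have hDN : d ∣ Nat.card NP := by
    refine Subgroup.card_dvd_of_le ?_
    intro x hx
    have h1 := ((hD x).mp hx).1
    rw [hNP, mem_normalizer_iff]
    intro a
    constructor
    · intro ha
      have := (mem_centralizer_iff.mp h1) a ha
      rw [show x * a * x⁻¹ = a from by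
        rw [← this]; group]
      exact ha
    · intro ha
      have h2 : x⁻¹ ∈ centralizer ((P : Subgroup G) : Set G) := inv_mem h1
      have := (mem_centralizer_iff.mp h2) _ ha
      have h3 : a = x⁻¹ * (x * a * x⁻¹) * x := by group
      rw [h3, ← this]
      simpa using ha
  have hNcard : Nat.card NP * i = Nat.card G := NP.card_mul_index
  have hdi : d * i ∣ m := by
    obtain ⟨e, he⟩ := Nat.Coprime.mul_dvd_of_dvd_of_dvd hPcard hPN hDN
    have hPpos : 0 < Nat.card (P : Subgroup G) := Nat.card_pos
    refine ⟨e, ?_⟩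
    have : Nat.card (P : Subgroup G) * m = Nat.card (P : Subgroup G) * (d * i * e) := by
      rw [hPm, ← hNcard, he]; ring
    exact Nat.eq_of_mul_eq_mul_left hPpos this
  have hdim : d * i ≤ m := Nat.le_of_dvd hmpos hdi
  -- numerics
  have hi1 : i = 1 := by
    have h1 : m ≤ 1 + i * (d - 1) := hmX.trans hcount
    have h2 : i * (d - 1) = i * d - i := by
      rw [Nat.mul_sub, mul_one]
    have h3 : i ≤ i * d := Nat.le_mul_of_pos_right _ hdpos
    have h4 : i * d = d * i := mul_comm _ _
    omega
  have hdm : d = m := by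
    have h1 : m ≤ 1 + i * (d - 1) := hmX.trans hcount
    rw [hi1] at h1 hdim
    omega
  have hPn : (P : Subgroup G).Normal := by
    have : NP = ⊤ := Subgroup.index_eq_one.mp hi1
    exact Subgroup.normalizer_eq_top_iff.mp this
  refine ⟨hPn, D, ?_, ?_, ?_, ?_⟩
  · constructor
    intro x hx g
    exact hND g (by rw [hNP, Subgroup.normalizer_eq_top_iff.mpr hPn]; trivial) x hx
  · rw [Nat.coprime_comm, Nat.Prime.coprime_iff_not_dvd hpp] at hdco
    exact hdco
  · exact Subgroup.inf_eq_bot_of_coprime hPcard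
  · have hc : ((P : Subgroup G)).IsComplement' D := by
      apply Subgroup.isComplement'_of_coprime
      · rw [← hd, hdm]; exact hPm
      · exact hPcard
    exact hc.sup_eq_top

end Cfsg.Agent.S4035
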