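import Cfsg.Statements.S4127
import Mathlib
import Cfsg.Agent.S4035
import Cfsg.Agent.Lib.Coprime.Kaz
import Cfsg.Agent.Lib.Transfer.Comp
import Cfsg.Agent.Lib.CharExtra.ChainCent
import Cfsg.Agent.Lib.Core.Basic

set_option autoImplicit false
open Cfsg

namespace Cfsg.Agent.S4127

open Subgroup Cfsg.Agent.Lib.Coprime

section Helpers

variable {G : Type*} [Group G] [Finite G]

/-- Centralizer of a product of commuting elements of coprime orders. -/
theorem centralizer_mul_of_coprime {x y : G} (hc : Commute x y)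
    (hco : (orderOf x).Coprime (orderOf y)) :
    centralizer ({x * y} : Set G) = centralizer ({x} : Set G) ⊓ centralizer ({y} : Set G) := by
  obtain ⟨u, hu1, hu2⟩ := Nat.chineseRemainder hco 1 0
  obtain ⟨v, hv1, hv2⟩ := Nat.chineseRemainder hco 0 1
  have hxu : (x * y) ^ u = x := by
    rw [hc.mul_pow]
    have h1 : x ^ u = x := by
      rw [← pow_mod_orderOf, show u % orderOf x = 1 % orderOf x from hu1, pow_mod_orderOf, pow_one]
    have h2 : y ^ u = 1 := by
      obtain ⟨w, rfl⟩ := (Nat.modEq_zero_iff_dvd).mp hu2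
      rw [pow_mul, pow_orderOf_eq_one, one_pow]
    rw [h1, h2, mul_one]
  have hyv : (x * y) ^ v = y := by
    rw [hc.mul_pow]
    have h1 : y ^ v = y := by
      rw [← pow_mod_orderOf, show v % orderOf y = 1 % orderOf y from hv2, pow_mod_orderOf, pow_one]
    have h2 : x ^ v = 1 := by
      obtain ⟨w, rfl⟩ := (Nat.modEq_zero_iff_dvd).mp hv1
      rw [pow_mul, pow_orderOf_eq_one, one_pow]
    rw [h1, h2, one_mul]
  ext c
  simp only [mem_inf, mem_centralizer_singleton_iff]
  constructor
  · intro h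
    have hcomm : Commute c (x * y) := h
    refine ⟨?_, ?_⟩
    · have := hcomm.pow_right u
      rw [hxu] at this
      exact this
    · have := hcomm.pow_right v
      rw [hyv] at this
      exact this
  · rintro ⟨h1, h2⟩
    have h1' : Commute c x := h1
    have h2' : Commute c y := h2
    exact h1'.mul_right h2'

/-- A `p`-element with a class of `p`-power size lies in `O_p(G)`. -/
theorem mem_pCore_of_index {p : ℕ} [hp : Fact p.Prime] {t : G} {j e : ℕ} (ht : orderOf t = p ^ j)
    (hidx : (centralizer ({t} : Set G)).index = p ^ e) : t ∈ pCore p G := by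
  rw [Cfsg.Agent.Lib.Core.mem_pCore_iff_forall_sylow]
  intro Q
  obtain ⟨S, hS⟩ := Cfsg.Agent.Lib.ClassSizes.exists_sylow_mem_of_orderOf (p := p) (x := t) ⟨j, ht⟩
  obtain ⟨g, rfl⟩ := MulAction.exists_smul_eq G S Q
  obtain ⟨c, hc, u, hu, rfl⟩ := Cfsg.Agent.Lib.ClassSizes.exists_centralizer_mul_sylow hidx S g
  apply Cfsg.Agent.Lib.ClassSizes.mem_sylow_smul_iff.mpr
  have hct : c * t = t * c := mem_centralizer_singleton_iff.mp hc
  have : (c * u)⁻¹ * t * (c * u) = u⁻¹ * t * u := by
    calc (c * u)⁻¹ * t * (c * u) = u⁻¹ * (c⁻¹ * (t * c)) * u := by group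
      _ = u⁻¹ * (c⁻¹ * (c * t)) * u := by rw [hct]
      _ = u⁻¹ * t * u := by group
  rw [this]
  exact (S : Subgroup G).mul_mem ((S : Subgroup G).mul_mem ((S : Subgroup G).inv_mem hu) hS) hu

/-- A `p'`-element centralizing `T ≤ O` (with `C_O(T) ≤ T`, `O` a normal `p`-group) centralizes `O`. -/
theorem centralizes_of_selfCentralizing {p : ℕ} [hp : Fact p.Prime] (O T : Subgroup G) (hTO : T ≤ O)
    [hOn : O.Normal] (hOp : IsPGroup p O)
    (hCT : ∀ v ∈ O, (∀ t ∈ T, Commute v t) → v ∈ T) {y : G} (hy : ¬ p ∣ orderOf y)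
    (hyT : ∀ t ∈ T, Commute y t) : ∀ v ∈ O, y * v * y⁻¹ = v := by
  refine Cfsg.Agent.Lib.CharExtra.centralizes_of_centralizes_normalizer hy O hOp
    (fun v hv => hOn.conj_mem v hv y) T hTO ?_
  intro v hvO hvN
  -- `z = v⁻¹ (y v y⁻¹)` centralizes `T`
  set z := v⁻¹ * (y * v * y⁻¹) with hz
  have hzO : z ∈ O := O.mul_mem (O.inv_mem hvO) (hOn.conj_mem v hvO y)
  have hzT : z ∈ T := by
    apply hCT z hzO
    intro t ht
    have h1 : v * t * v⁻¹ ∈ T := (mem_normalizer_iff.mp hvN t).mp ht
    have h2 := hyT _ h1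
    have h3 := hyT t ht
    have h2' : y * (v * t * v⁻¹) = (v * t * v⁻¹) * y := h2
    have h3' : y * t = t * y := h3
    show z * t = t * z
    have h4 : (y * v * y⁻¹) * t * (y * v * y⁻¹)⁻¹ = v * t * v⁻¹ := by
      calc (y * v * y⁻¹) * t * (y * v * y⁻¹)⁻¹ = y * v * (y⁻¹ * t * y) * v⁻¹ * y⁻¹ := by group
        _ = y * v * t * v⁻¹ * y⁻¹ := by
            have : y⁻¹ * t * y = t := by
              rw [mul_assoc, ← h3']; group
            rw [this]
        _ = y * (v * t * v⁻¹) * y⁻¹ := by group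
        _ = (v * t * v⁻¹) * y * y⁻¹ := by rw [h2']
        _ = v * t * v⁻¹ := by group
    have h5 : (y * v * y⁻¹) * t = (v * t * v⁻¹) * (y * v * y⁻¹) := by
      rw [← h4]; group
    calc z * t = v⁻¹ * ((y * v * y⁻¹) * t) := by rw [hz]; group
      _ = v⁻¹ * ((v * t * v⁻¹) * (y * v * y⁻¹)) := by rw [h5]
      _ = t * z := by rw [hz]; group
  have hyz : Commute y z := hyT z hzT
  -- iterate
  have hiter : ∀ n : ℕ, y ^ n * v * (y ^ n)⁻¹ = v * z ^ n := by
    intro n
    induction n with
    | zero => simp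
    | succ n ih =>
      have h1 : y ^ (n + 1) * v * (y ^ (n + 1))⁻¹ = y * (y ^ n * v * (y ^ n)⁻¹) * y⁻¹ := by
        rw [pow_succ']; group
      rw [h1, ih]
      have h2 : y * (v * z ^ n) * y⁻¹ = (y * v * y⁻¹) * (y * z ^ n * y⁻¹) := by group
      rw [h2]
      have h3 : y * z ^ n * y⁻¹ = z ^ n := by
        have : Commute y (z ^ n) := hyz.pow_right n
        rw [this.eq]; group
      rw [h3]
      have h4 : y * v * y⁻¹ = v * z := by rw [hz]; group
      rw [h4, pow_succ']
      group
  have hzn : z ^ orderOf y = 1 := by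
    have := hiter (orderOf y)
    rw [pow_orderOf_eq_one] at this
    simpa using this
  have hzord : orderOf z ∣ orderOf y := orderOf_dvd_of_pow_eq_one hzn
  obtain ⟨j, hj⟩ := (IsPGroup.iff_orderOf.mp hOp) ⟨z, hzO⟩
  have hj' : orderOf z = p ^ j := by rwa [Subgroup.orderOf_mk] at hj
  have hz1 : z = 1 := by
    rw [← orderOf_eq_one_iff, hj']
    rw [hj'] at hzord
    cases j with
    | zero => simp
    | succ j =>
      exact absurd ((dvd_pow_self p (Nat.succ_ne_zero j)).trans hzord) hy
  have : y * v * y⁻¹ = v * z := by rw [hz]; group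
  rw [this, hz1, mul_one]

end Helpers


/-- Let G be a finite group, p a prime and p^a the largest power of p dividing the size of any conjugacy class of G. If some element of p-power order has a conjugacy class of size exactly p^a, then G has a normal p-complement. -/
theorem result {G : Type*} [Group G] [Finite G] (p : ℕ) [Fact p.Prime]
    (a : ℕ) (hmax : ∀ y : G, ¬ p ^ (a + 1) ∣ (Subgroup.centralizer ({y} : Set G)).index)
    (hx : ∃ x : G, (∃ k : ℕ, orderOf x = p ^ k) ∧ (Subgroup.centralizer ({x} : Set G)).index = p ^ a) :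
    Cfsg.HasNormalPComplement p G := by
  classical
  have hpp : p.Prime := Fact.out
  obtain ⟨x, ⟨k, hk⟩, hxa⟩ := hx
  set C := centralizer ({x} : Set G) with hC
  obtain ⟨T⟩ : Nonempty (Sylow p C) := inferInstance
  have hcls : ∀ y : C, (orderOf y).Coprime p → ¬ p ∣ (ConjClasses.mk y).carrier.ncard := by
    intro y hy hd
    rw [← index_centralizer_eq_ncard] at hd
    set E := centralizer ({y} : Set C) with hE
    have hco : (orderOf x).Coprime (orderOf (y : G)) := by
      rw [hk, Subgroup.orderOf_coe]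
      exact Nat.Coprime.pow_left _ hy.symm
    have hcomm : Commute x (y : G) :=
      (mem_centralizer_singleton_iff.mp y.2).symm
    have hmap : E.map C.subtype = centralizer ({x * (y : G)} : Set G) := by
      rw [centralizer_mul_of_coprime hcomm hco]
      ext c
      constructor
      · rintro ⟨w, hw, rfl⟩
        refine ⟨w.2, ?_⟩
        have hwE : w ∈ centralizer ({y} : Set C) := hw
        have : w * y = y * w := mem_centralizer_singleton_iff.mp hwE
        exact mem_centralizer_singleton_iff.mpr (congrArg Subtype.val this)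
      · rintro ⟨h1, h2⟩
        refine ⟨⟨c, h1⟩, ?_, rfl⟩
        show (⟨c, h1⟩ : C) ∈ centralizer ({y} : Set C)
        rw [mem_centralizer_singleton_iff]
        apply Subtype.ext
        exact mem_centralizer_singleton_iff.mp h2
    have hidx : (centralizer ({x * (y : G)} : Set G)).index = E.index * p ^ a := by
      rw [← hmap, Subgroup.index_map_subtype, hxa]
    apply hmax (x * (y : G))
    rw [hidx, pow_succ, mul_comm]
    exact Nat.mul_dvd_mul_right hd _
  obtain ⟨hTn, H, hHn, hHp, hinf, hsup⟩ := Cfsg.Agent.S4035.result (G := C) hcls T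
  have hdisj : Disjoint (T : Subgroup C) H := disjoint_iff.mpr hinf
  -- decomposition of elements of `C`
  have hdec : ∀ y : C, ∃ t ∈ (T : Subgroup C), ∃ h ∈ H, y = t * h ∧ Commute t h := by
    intro y
    have hy : y ∈ (T : Subgroup C) ⊔ H := by rw [hsup]; trivial
    obtain ⟨t, ht, h, hh, rfl⟩ := Subgroup.mem_sup_of_normal_right.mp hy
    exact ⟨t, ht, h, hh, rfl, Subgroup.commute_of_normal_of_disjoint _ _ hTn hHn hdisj t h ht hh⟩
  have htp : ∀ t ∈ (T : Subgroup C), ∃ j, orderOf t = p ^ j := by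
    intro t ht
    obtain ⟨j, hj⟩ := (IsPGroup.iff_orderOf.mp T.isPGroup') ⟨t, ht⟩
    exact ⟨j, by rwa [Subgroup.orderOf_mk] at hj⟩
  have hHco : (Nat.card H).Coprime p := by
    rw [Nat.coprime_comm, Nat.Prime.coprime_iff_not_dvd hpp]
    exact hHp
  have hF1 : ∀ y : C, (orderOf y).Coprime p → y ∈ H := by
    intro y hy
    obtain ⟨t, ht, h, hh, rfl, hc⟩ := hdec y
    set n := orderOf (t * h) with hn
    have h1 : t ^ n * h ^ n = 1 := by
      rw [← hc.mul_pow]; exact pow_orderOf_eq_one _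
    have h2 : t ^ n ∈ H := by
      have : t ^ n = (h ^ n)⁻¹ := eq_inv_of_mul_eq_one_left h1
      rw [this]; exact H.inv_mem (H.pow_mem hh n)
    have h3 : t ^ n ∈ (T : Subgroup C) := (T : Subgroup C).pow_mem ht n
    have h4 : t ^ n = 1 := by
      have : t ^ n ∈ (T : Subgroup C) ⊓ H := ⟨h3, h2⟩
      rw [hinf] at this
      exact this
    have h5 : orderOf t ∣ n := orderOf_dvd_of_pow_eq_one h4
    obtain ⟨j, hj⟩ := htp t ht
    have h6 : t = 1 := by
      rw [← orderOf_eq_one_iff]
      have h7 : (orderOf t).Coprime p := Nat.Coprime.coprime_dvd_left h5 hy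
      rw [hj] at h7 ⊢
      cases j with
      | zero => simp
      | succ j =>
        have := Nat.Coprime.eq_one_of_dvd h7.symm (dvd_pow_self p (Nat.succ_ne_zero j))
        exact absurd this hpp.ne_one
    rw [h6, one_mul]; exact hh
  have hF2 : ∀ y : C, (∃ j, orderOf y = p ^ j) → y ∈ (T : Subgroup C) := by
    intro y ⟨j, hy⟩
    obtain ⟨t, ht, h, hh, rfl, hc⟩ := hdec y
    have h1 : t ^ (p ^ j) * h ^ (p ^ j) = 1 := by
      rw [← hc.mul_pow, ← hy]; exact pow_orderOf_eq_one _
    have h2 : h ^ (p ^ j) ∈ (T : Subgroup C) := by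
      have : h ^ (p ^ j) = (t ^ (p ^ j))⁻¹ := eq_inv_of_mul_eq_one_right h1
      rw [this]; exact (T : Subgroup C).inv_mem ((T : Subgroup C).pow_mem ht _)
    have h4 : h ^ (p ^ j) = 1 := by
      have : h ^ (p ^ j) ∈ (T : Subgroup C) ⊓ H := ⟨h2, H.pow_mem hh _⟩
      rw [hinf] at this
      exact this
    have h5 : orderOf h ∣ p ^ j := orderOf_dvd_of_pow_eq_one h4
    have h6 : orderOf h ∣ Nat.card H := by
      have := orderOf_dvd_natCard (⟨h, hh⟩ : H)
      rwa [Subgroup.orderOf_mk] at this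
    have h7 : orderOf h = 1 :=
      Nat.Coprime.eq_one_of_dvd (Nat.Coprime.coprime_dvd_right h5
        (Nat.Coprime.coprime_dvd_left h6 (Nat.Coprime.pow_right j hHco))) dvd_rfl
    rw [orderOf_eq_one_iff.mp h7, mul_one]; exact ht
  -- complement
  have hHT : H.IsComplement' (T : Subgroup C) := by
    apply Subgroup.isComplement'_of_disjoint_and_mul_eq_univ hdisj.symm
    have h1 := Subgroup.mul_normal (H := H) (N := (T : Subgroup C))
    rw [← h1, sup_comm, hsup]
    rfl
  have hHindex : H.index = Nat.card (T : Subgroup C) := hHT.symm.index_eq_card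
  set H' := H.map C.subtype with hH'
  set T' := (T : Subgroup C).map C.subtype with hT'
  have hH'index : H'.index = Nat.card (T : Subgroup C) * p ^ a := by
    rw [hH', Subgroup.index_map_subtype, hHindex, hxa]
  obtain ⟨b, hb⟩ := IsPGroup.iff_card.mp T.isPGroup'
  have hH'pow : H'.index = p ^ (b + a) := by rw [hH'index, hb, pow_add]
  -- `H'` centralizes `T'`
  have hcomm : ∀ t ∈ T', ∀ h ∈ H', Commute h t := by
    rintro _ ⟨t, ht, rfl⟩ _ ⟨h, hh, rfl⟩
    have := Subgroup.commute_of_normal_of_disjoint _ _ hTn hHn hdisj t h ht hh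
    exact (congrArg Subtype.val this).symm
  -- `T' ≤ O_p(G)`
  set O := pCore p G with hO
  have hT'O : T' ≤ O := by
    rintro _ ⟨t, ht, rfl⟩
    obtain ⟨j, hj⟩ := htp t ht
    have hle : H' ≤ centralizer ({(t : G)} : Set G) := by
      intro h hh
      rw [mem_centralizer_singleton_iff]
      exact hcomm t ⟨t, ht, rfl⟩ h hh
    have hdvd : (centralizer ({(t : G)} : Set G)).index ∣ p ^ (b + a) :=
      hH'pow ▸ Subgroup.index_dvd_of_le hle
    obtain ⟨e, -, he⟩ := (Nat.dvd_prime_pow hpp).mp hdvd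
    exact mem_pCore_of_index (j := j) (e := e) (by
      show orderOf (t : G) = p ^ j
      rwa [Subgroup.orderOf_coe]) he
  have hxC : x ∈ C := by
    rw [hC, mem_centralizer_singleton_iff]
  have hxT' : x ∈ T' := by
    refine ⟨⟨x, hxC⟩, hF2 _ ⟨k, ?_⟩, rfl⟩
    rw [Subgroup.orderOf_mk]; exact hk
  have hOp : IsPGroup p O := Cfsg.Agent.Lib.Core.pCore_isPGroup p G
  haveI hOn : O.Normal := inferInstance
  have hCT : ∀ v ∈ O, (∀ t ∈ T', Commute v t) → v ∈ T' := by
    intro v hv h
    have hvC : v ∈ C := by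
      rw [hC, mem_centralizer_singleton_iff]
      exact h x hxT'
    refine ⟨⟨v, hvC⟩, hF2 _ ?_, rfl⟩
    obtain ⟨j, hj⟩ := (IsPGroup.iff_orderOf.mp hOp) ⟨v, hv⟩
    refine ⟨j, ?_⟩
    rw [Subgroup.orderOf_mk]
    rwa [Subgroup.orderOf_mk] at hj
  have hH'co : (Nat.card H').Coprime p := by
    have : Nat.card H' = Nat.card H := Nat.card_congr (Subgroup.equivMapOfInjective H C.subtype
      C.subtype_injective).symm.toEquiv
    rw [this]; exact hHco
  have hord : ∀ y ∈ H', ¬ p ∣ orderOf y := by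
    intro y hy hd
    have h1 : orderOf y ∣ Nat.card H' := by
      have := orderOf_dvd_natCard (⟨y, hy⟩ : H')
      rwa [Subgroup.orderOf_mk] at this
    have h2 := Nat.Coprime.eq_one_of_dvd (hH'co.symm) (hd.trans h1)
    exact hpp.ne_one h2
  have hcen : ∀ y ∈ H', ∀ v ∈ O, y * v * y⁻¹ = v := fun y hy =>
    centralizes_of_selfCentralizing O T' hT'O hOp hCT (hord y hy) (hcomm · · y hy)
  -- normality
  have hH'n : H'.Normal := by
    constructor
    intro y hy g
    have hconj : ∀ v ∈ O, (g * y * g⁻¹) * v * (g * y * g⁻¹)⁻¹ = v := by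
      intro v hv
      have h1 : g⁻¹ * v * g ∈ O := by
        have := hOn.conj_mem v hv g⁻¹
        simpa using this
      have h2 := hcen y hy _ h1
      calc (g * y * g⁻¹) * v * (g * y * g⁻¹)⁻¹ = g * (y * (g⁻¹ * v * g) * y⁻¹) * g⁻¹ := by group
        _ = g * (g⁻¹ * v * g) * g⁻¹ := by rw [h2]
        _ = v := by group
    have hxO : x ∈ O := hT'O hxT'
    have hmemC : g * y * g⁻¹ ∈ C := by
      rw [hC, mem_centralizer_singleton_iff]
      have := hconj x hxO
      exact (eq_mul_of_mul_inv_eq this).symm ▸ rfl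
    refine ⟨⟨g * y * g⁻¹, hmemC⟩, hF1 _ ?_, rfl⟩
    rw [Subgroup.orderOf_mk]
    have h1 : orderOf (g * y * g⁻¹) = orderOf y := orderOf_eq_orderOf_iff.mpr fun k => by
      rw [conj_pow, conj_eq_one_iff]
    rw [h1, Nat.coprime_comm, Nat.Prime.coprime_iff_not_dvd hpp]
    exact hord y hy
  apply Cfsg.Agent.Lib.Transfer.hasNormalPComplement_of_normal H' hH'co
  rw [IsPGroup.iff_card]
  exact ⟨b + a, by rw [← hH'pow]; rfl⟩

end Cfsg.Agent.S4127
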