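import Cfsg.Statements.S3987
import Mathlib
import Cfsg.Agent.S3986
import Cfsg.Agent.S4127
import Cfsg.Agent.Lib.Core.Factor

set_option autoImplicit false
open Cfsg

namespace Cfsg.Agent.S3987

/-- Let p be a prime and G a finite group. Then some Sylow p-subgroup of G is a direct factor of G (normal with a normal complement) if and only if for every element x of p-power order and every element y whose order is a power of a prime other than p, the conjugacy class of x y has as many elements as the product of the sizes of the classes of x and of y. -/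
theorem result {G : Type*} [Group G] [Finite G] (p : ℕ) [Fact p.Prime] : (∃ (P : Sylow p G) (K : Subgroup G), (P : Subgroup G).Normal ∧ K.Normal ∧ (P : Subgroup G) ⊓ K = ⊥ ∧ (P : Subgroup G) ⊔ K = ⊤) ↔ ∀ x y : G, (∃ a : ℕ, orderOf x = p ^ a) → (∃ q b : ℕ, q.Prime ∧ q ≠ p ∧ orderOf y = q ^ b) → (Subgroup.centralizer ({x * y} : Set G)).index = (Subgroup.centralizer ({x} : Set G)).index * (Subgroup.centralizer ({y} : Set G)).index := by
  have hp : p.Prime := Fact.out
  constructor
  · rintro ⟨P, K, hPn, hKn, hinf, hsup⟩ x y hx ⟨q, b, hq, hqp, hy⟩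
    obtain ⟨h1, h2, h3⟩ := Cfsg.Agent.S3986.mem_factors hPn hKn hinf hsup
    have hyco : (orderOf y).Coprime p := by
      rw [hy]
      exact Nat.Coprime.pow_left _ ((Nat.coprime_primes hq hp).mpr hqp)
    have hxP := h1 x hx
    have hyK := h2 y hyco
    have hc : Commute x y := h3 x hxP y hyK
    obtain ⟨a, ha⟩ := hx
    have hco : (orderOf x).Coprime (orderOf y) := by
      rw [ha]; exact Nat.Coprime.pow_left _ hyco.symm
    rw [Cfsg.Agent.S4127.centralizer_mul_of_coprime hc hco]
    apply Cfsg.Agent.Lib.Core.index_inf_of_coprime
    -- the two indices are coprime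
    have hKle : K ≤ Subgroup.centralizer ({x} : Set G) := by
      intro w hw
      rw [Subgroup.mem_centralizer_singleton_iff]
      exact (h3 x hxP w hw).symm
    have hPle : (P : Subgroup G) ≤ Subgroup.centralizer ({y} : Set G) := by
      intro w hw
      rw [Subgroup.mem_centralizer_singleton_iff]
      exact h3 w hw y hyK
    have hd1 : (Subgroup.centralizer ({x} : Set G)).index ∣ K.index := Subgroup.index_dvd_of_le hKle
    have hd2 : (Subgroup.centralizer ({y} : Set G)).index ∣ (P : Subgroup G).index :=
      Subgroup.index_dvd_of_le hPle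
    have hK1 : K.IsComplement' (P : Subgroup G) := by
      apply Subgroup.isComplement'_of_disjoint_and_mul_eq_univ (disjoint_iff.mpr (by rwa [inf_comm]))
      have h4 := Subgroup.mul_normal (H := K) (N := (P : Subgroup G))
      rw [← h4, sup_comm, hsup]
      rfl
    have hidx : K.index = Nat.card (P : Subgroup G) := hK1.symm.index_eq_card
    obtain ⟨k, hk⟩ := IsPGroup.iff_card.mp P.isPGroup'
    rw [hidx, hk] at hd1
    refine Nat.Coprime.coprime_dvd_left hd1 (Nat.Coprime.coprime_dvd_right hd2 ?_)
    exact Nat.Coprime.pow_left _ ((Nat.Prime.coprime_iff_not_dvd hp).mpr P.not_dvd_index)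
  · intro h
    apply Cfsg.Agent.S3986.directFactor_of_commute
    intro x y hx hy
    have h1 := h x y hx hy
    have hle : Subgroup.centralizer ({x} : Set G) ⊓ Subgroup.centralizer ({y} : Set G) ≤
        Subgroup.centralizer ({x * y} : Set G) := by
      rintro w ⟨hw1, hw2⟩
      have h1' : Commute w x := Subgroup.mem_centralizer_singleton_iff.mp hw1
      have h2' : Commute w y := Subgroup.mem_centralizer_singleton_iff.mp hw2
      exact Subgroup.mem_centralizer_singleton_iff.mpr (h1'.mul_right h2')
    have h2 : (Subgroup.centralizer ({x} : Set G) ⊓ Subgroup.centralizer ({y} : Set G)).index ≤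
        (Subgroup.centralizer ({x * y} : Set G)).index := by
      rw [h1]; exact Subgroup.index_inf_le
    have h3 : Nat.card (Subgroup.centralizer ({x * y} : Set G)) ≤
        Nat.card ↥(Subgroup.centralizer ({x} : Set G) ⊓ Subgroup.centralizer ({y} : Set G)) := by
      have e1 := (Subgroup.centralizer ({x * y} : Set G)).card_mul_index
      have e2 := (Subgroup.centralizer ({x} : Set G) ⊓ Subgroup.centralizer ({y} : Set G)).card_mul_index
      have hpos : 0 < (Subgroup.centralizer ({x} : Set G) ⊓ Subgroup.centralizer ({y} : Set G)).index :=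
        Nat.pos_of_ne_zero Subgroup.index_ne_zero_of_finite
      have h4 : Nat.card (Subgroup.centralizer ({x * y} : Set G)) *
          (Subgroup.centralizer ({x} : Set G) ⊓ Subgroup.centralizer ({y} : Set G)).index ≤
          Nat.card ↥(Subgroup.centralizer ({x} : Set G) ⊓ Subgroup.centralizer ({y} : Set G)) *
          (Subgroup.centralizer ({x} : Set G) ⊓ Subgroup.centralizer ({y} : Set G)).index := by
        rw [e2, ← e1]
        exact Nat.mul_le_mul_left _ h2
      exact Nat.le_of_mul_le_mul_right h4 hpos
    have h5 := Subgroup.eq_of_le_of_card_ge hle h3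
    have h6 : x * y ∈ Subgroup.centralizer ({x * y} : Set G) :=
      Subgroup.mem_centralizer_singleton_iff.mpr rfl
    rw [← h5] at h6
    have h7 : x * y * x = x * (x * y) := Subgroup.mem_centralizer_singleton_iff.mp h6.1
    have h8 : y * x = x * y := by
      have h9 : x * (y * x) = x * (x * y) := by rw [← mul_assoc]; exact h7
      exact mul_left_cancel h9
    exact h8.symm

end Cfsg.Agent.S3987
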