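import Cfsg.Statements.S4015
import Mathlib
import Cfsg.Agent.Lib.AltChar.GLCross

set_option autoImplicit false
open Cfsg

namespace Cfsg.Agent.S4015

open Matrix Equiv Cfsg.Agent.Lib.AltChar
open scoped MatrixGroups

/-- Let p be an odd prime, F a finite field with q elements where p does not divide q, and e the multiplicative order of q modulo p. Let n ≥ e and write w = ⌊n/e⌋ and k = ⌊log_p w⌋. Then a Sylow p-subgroup of GL(n, F) has derived length exactly k + 1: its (k+1)-st derived subgroup is trivial and its k-th is not. -/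
theorem result (p : ℕ) [Fact p.Prime] (hp : p ≠ 2) (F : Type*) [Field F] [Fintype F] (q : ℕ) (hq : Fintype.card F = q) (hpq : ¬ p ∣ q) (n : ℕ) (hn : orderOf (q : ZMod p) ≤ n) (P : Sylow p (Matrix.GeneralLinearGroup (Fin n) F)) : derivedSeries ↥(P : Subgroup (Matrix.GeneralLinearGroup (Fin n) F)) (Nat.log p (n / orderOf (q : ZMod p)) + 1) = ⊥ ∧ derivedSeries ↥(P : Subgroup (Matrix.GeneralLinearGroup (Fin n) F)) (Nat.log p (n / orderOf (q : ZMod p))) ≠ ⊥ := by
  classical
  subst hq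
  have hpp : p.Prime := Fact.out
  have hq2 : 2 ≤ Fintype.card F := Fintype.one_lt_card
  have he : 0 < orderOf ((Fintype.card F : ℕ) : ZMod p) := orderOf_cast_pos hpq
  have hcG := val_card_GLP hp hpq n
  have hdv := dvd_pow_sub_one_iff (p := p) hq2 (orderOf ((Fintype.card F : ℕ) : ZMod p))
  obtain ⟨e, hee⟩ : ∃ e, e = orderOf ((Fintype.card F : ℕ) : ZMod p) := ⟨_, rfl⟩
  rw [← hee] at he hn hcG hdv ⊢
  have hw1 : 1 ≤ n / e := Nat.div_pos hn he
  obtain ⟨w, hw⟩ : ∃ w, w = n / e := ⟨_, rfl⟩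
  rw [← hw] at hw1 hcG ⊢
  obtain ⟨C, hCc, hCab⟩ := exists_torus (F := F) p e he.ne'
  obtain ⟨T, hT, hd, hs⟩ := exists_T p w
  obtain ⟨i₀, S, hS⟩ := hs hw1
  haveI : Nonempty (Fin e) := ⟨⟨0, he⟩⟩
  have hcard : Fintype.card ((Fin e × Fin w) ⊕ Fin (n - e * w)) = Fintype.card (Fin n) := by
    have h1 : e * w ≤ n := by
      rw [hw]
      exact Nat.mul_div_le n e
    simp only [Fintype.card_sum, Fintype.card_prod, Fintype.card_fin]
    omega
  let ε := Fintype.equivOfCardEq hcard
  let φ : GL (Fin e × Fin w) F →* GL (Fin n) F := glEmb ε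
  have hW : WrData (φ.comp glDJ) (φ.comp glPmJ) := glWrDataJ.map φ (glEmb_injective ε)
  have hcM : Nat.card (wrSub hW C T) =
      p ^ (Nat.card (Matrix.GeneralLinearGroup (Fin n) F)).factorization p := by
    rw [card_wrSub, hT, hCc, Nat.factorization_def _ hpp, hcG, ← pow_mul, ← pow_add]
    congr 1
    ring
  have h1 : dS (wrSub hW C T) (Nat.log p w + 1) = ⊥ := by
    refine dS_wr_bot hW C T hd ?_
    rw [dS_succ, dS_zero, Subgroup.commutator_eq_bot_iff_le_centralizer]
    intro x hx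
    rw [Subgroup.mem_centralizer_iff]
    intro y hy
    exact hCab y hy x hx
  have hC1 : C ≠ ⊥ := by
    intro hbot
    have h3 : Nat.card C = 1 := by
      rw [hbot]
      simp
    have h4 : 1 ≤ padicValNat p (Fintype.card F ^ e - 1) := by
      haveI : Fact p.Prime := ⟨hpp⟩
      have : 1 < Fintype.card F ^ e := Nat.one_lt_pow he.ne' (by omega)
      exact one_le_padicValNat_of_dvd (by omega) (hdv.mpr dvd_rfl)
    rw [hCc] at h3
    have h5 : 1 < p ^ padicValNat p (Fintype.card F ^ e - 1) := Nat.one_lt_pow (by omega) hpp.one_lt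
    omega
  obtain ⟨x, hx⟩ := (Subgroup.ne_bot_iff_exists_ne_one.mp hC1)
  have h2 : dS (wrSub hW C T) (Nat.log p w) ≠ ⊥ := seq_ne_bot' hW C T hS x.2 (fun h => hx (Subtype.ext h))
  have e' : (P : Subgroup (Matrix.GeneralLinearGroup (Fin n) F)) ≃* wrSub hW C T :=
    Sylow.equiv P (Sylow.ofCard _ hcM)
  have hmap : ∀ l, (derivedSeries ↥(P : Subgroup (Matrix.GeneralLinearGroup (Fin n) F)) l).map e'.toMonoidHom =
      derivedSeries (wrSub hW C T) l := fun l => map_derivedSeries_eq e'.surjective l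
  have hbot : ∀ l, derivedSeries ↥(P : Subgroup (Matrix.GeneralLinearGroup (Fin n) F)) l = ⊥ ↔
      dS (wrSub hW C T) l = ⊥ := by
    intro l
    rw [← derivedSeries_eq_bot_iff, ← hmap, Subgroup.map_eq_bot_iff_of_injective _ e'.injective]
  exact ⟨(hbot _).mpr h1, fun h => h2 ((hbot _).mp h)⟩

end Cfsg.Agent.S4015
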