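import Cfsg.Statements.S4016
import Mathlib
import Cfsg.Agent.Lib.CycAb.Final
import Cfsg.Agent.Lib.Techniques.Complement

set_option autoImplicit false
open Cfsg

namespace Cfsg.Agent.S4016

open Cfsg.Agent.Lib.CycAb in
theorem helper_ca {G : Type*} [Group G] [Finite G] {p : ℕ}
    [Fact p.Prime] (P : Sylow p G) (hcyc : IsCyclic P)
    (hab : ∀ H : Subgroup G, ¬ p ∣ Nat.card H → IsMulCommutative H) : CA p G where
  cyc := by
    intro A hA
    obtain ⟨Q, hQ⟩ := hA.exists_le_sylow
    have e := Sylow.equiv Q P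
    haveI : IsCyclic Q := isCyclic_of_injective e.toMonoidHom e.injective
    exact isCyclic_of_injective (Subgroup.inclusion hQ) (Subgroup.inclusion_injective hQ)
  ab := by
    intro H hH a ha b hb
    have := (hab H hH).is_comm.comm ⟨a, ha⟩ ⟨b, hb⟩
    exact congrArg Subtype.val this

/-- Let G be a finite group and p a prime such that a Sylow p-subgroup P of G is cyclic and every subgroup of G of order prime to p is abelian. Then G has a normal p-complement or P is normal in G. -/
theorem result {G : Type*} [Group G] [Finite G] {p : ℕ}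
    [Fact p.Prime] (P : Sylow p G) (hcyc : IsCyclic P)
    (hab : ∀ H : Subgroup G, ¬ p ∣ Nat.card H → IsMulCommutative H) :
    Cfsg.HasNormalPComplement p G ∨ (P : Subgroup G).Normal := by
  classical
  have hca := helper_ca P hcyc hab
  rcases Cfsg.Agent.Lib.CycAb.good_of_ca p _ G rfl hca with ⟨L, hL⟩ | ⟨S, hS⟩
  · left
    exact Cfsg.Agent.Lib.Techniques.hasNormalPComplement_of_subgroup L hL
  · right
    have hn : S.Normal := by
      constructor
      intro x hx g
      obtain ⟨k, hk⟩ := (hS _).mp hx
      exact (hS _).mpr ⟨k, by rw [← hk]; exact Cfsg.Agent.Lib.CycAb.ordOf_conj g x⟩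
    have hPS : (P : Subgroup G) ≤ S := fun x hx => (hS x).mpr (Cfsg.Agent.Lib.CycAb.pelt_of_mem P.isPGroup' hx)
    have hSp : IsPGroup p S := Cfsg.Agent.Lib.CycAb.isPGroup_iff_pelt.mpr (fun g hg => (hS g).mp hg)
    have h1 := P.is_maximal' hSp hPS
    rw [← h1]
    exact hn

end Cfsg.Agent.S4016
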