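import Cfsg.Statements.S4017
import Cfsg.Agent.Lib.MixP.CaseII
import Cfsg.Agent.Lib.Transfer.Frobenius

set_option autoImplicit false
open Cfsg

namespace Cfsg.Agent.S4017

open Subgroup Cfsg.Agent.Lib.MixP

theorem card_lower {G : Type*} [Group G] [Finite G] {p n : ℕ} [Fact p.Prime] {U : Subgroup G}
    {g u0 : G} (hg : g ∈ normalizer (U : Set G)) (hn : g ^ p ^ n = 1) (hu0 : u0 ∈ U)
    (hne : g * u0 * g⁻¹ ≠ u0) :
    p + 1 ≤ Nat.card U ∧ ∀ u₁ ∈ U, u₁ ≠ 1 → g * u₁ * g⁻¹ = u₁ → p + 2 ≤ Nat.card U := by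
  classical
  haveI : Fintype U := Fintype.ofFinite _
  let f : Function.End U := fun u => ⟨g * u * g⁻¹, (mem_normalizer_iff.1 hg u).1 u.2⟩
  have hfk : ∀ k : ℕ, ∀ u : U, ((f ^ k) u : G) = g ^ k * u * (g ^ k)⁻¹ := by
    intro k
    induction k with
    | zero => intro u; simp; rfl
    | succ k ih =>
      intro u
      rw [pow_succ']
      show g * ((f ^ k) u : G) * g⁻¹ = _
      rw [ih u, pow_succ']; group
  have hf1 : f ^ p ^ n = 1 := by
    funext u
    apply Subtype.ext
    rw [hfk, hn]; simp; rfl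
  have hmod := Equiv.Perm.card_fixedPoints_modEq hf1
  have hnotfix : (⟨u0, hu0⟩ : U) ∉ Function.fixedPoints f := by
    intro hfix
    apply hne
    have := congrArg Subtype.val hfix
    exact this
  have hlt : Fintype.card (Function.fixedPoints f) < Fintype.card U :=
    Fintype.card_subtype_lt hnotfix
  have hdvd : p ∣ Fintype.card U - Fintype.card (Function.fixedPoints f) :=
    (Nat.modEq_iff_dvd' hlt.le).1 hmod.symm
  have hple : p ≤ Fintype.card U - Fintype.card (Function.fixedPoints f) :=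
    Nat.le_of_dvd (by omega) hdvd
  have h1fix : (1 : U) ∈ Function.fixedPoints f := by
    apply Subtype.ext
    show g * ((1 : U) : G) * g⁻¹ = ((1 : U) : G)
    simp
  have hpos : 0 < Fintype.card (Function.fixedPoints f) :=
    Fintype.card_pos_iff.2 ⟨⟨1, h1fix⟩⟩
  have hcard : Nat.card U = Fintype.card U := Nat.card_eq_fintype_card
  refine ⟨by omega, fun u hu hu1 huf => ?_⟩
  have hufix : (⟨u, hu⟩ : U) ∈ Function.fixedPoints f := by
    apply Subtype.ext
    exact huf
  have h2 : 1 < Fintype.card (Function.fixedPoints f) := by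
    refine Fintype.one_lt_card_iff.2 ⟨⟨1, h1fix⟩, ⟨⟨u, hu⟩, hufix⟩, ?_⟩
    intro h
    apply hu1
    have := congrArg (fun z => ((z : U) : G)) (congrArg Subtype.val h)
    exact this.symm
  omega

theorem trans_of_fix {G : Type*} [Group G] [Finite G] {p n : ℕ} [Fact p.Prime] {P : Subgroup G} {g : G}
    (hg : g ∈ normalizer (P : Set G)) (hn : g ^ p ^ n = 1) (hcard : Nat.card P = p + 1)
    (hfix : ∀ u ∈ P, u ≠ 1 → g * u * g⁻¹ ≠ u) :
    ∀ s ∈ P, s ≠ 1 → ∀ s' ∈ P, s' ≠ 1 → ∃ i : ℕ, g ^ i * s * (g ^ i)⁻¹ = s' := by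
  classical
  intro s hs hs1 s' hs' hs'1
  let A : Subgroup G := zpowers g
  have hA : IsPGroup p A := isP_zpowers_of_pow hn
  have hAn : ∀ z ∈ A, z ∈ normalizer (P : Set G) := fun z hz => by
    obtain ⟨k, rfl⟩ := Subgroup.mem_zpowers_iff.1 hz
    exact zpow_mem hg k
  letI : MulAction A P :=
    { smul := fun z u => ⟨(z : G) * u * (z : G)⁻¹, (mem_normalizer_iff.1 (hAn z z.2) u).1 u.2⟩
      one_smul := fun a => by
        apply Subtype.ext
        show ((1 : A) : G) * a * ((1 : A) : G)⁻¹ = a
        simp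
      mul_smul := fun z h a => by
        apply Subtype.ext
        show ((z * h : A) : G) * a * ((z * h : A) : G)⁻¹ = (z : G) * ((h : G) * a * (h : G)⁻¹) * (z : G)⁻¹
        push_cast
        group }
  have hsm : ∀ (z : A) (u : P), ((z • u : P) : G) = (z : G) * u * (z : G)⁻¹ := fun _ _ => rfl
  obtain ⟨k, hk⟩ := IsPGroup.card_orbit hA (⟨s, hs⟩ : P)
  have hsub : MulAction.orbit A (⟨s, hs⟩ : P) ⊆ ({1} : Set P)ᶜ := by
    rintro _ ⟨z, rfl⟩ h0
    have h1 : ((z • (⟨s, hs⟩ : P) : P) : G) = 1 := by
      have : z • (⟨s, hs⟩ : P) = 1 := h0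
      rw [this]; rfl
    rw [hsm] at h1
    apply hs1
    have h2 : (z : G) * s * (z : G)⁻¹ = (z : G) * 1 * (z : G)⁻¹ := by rw [show (z : G) * s * (z : G)⁻¹ = 1 from h1]; group
    exact mul_left_cancel (mul_right_cancel h2)
  have hk0 : k ≠ 0 := by
    rintro rfl
    rw [pow_zero] at hk
    have hone := Nat.card_eq_one_iff_unique.1 hk
    haveI := hone.1
    have hmem1 : (⟨s, hs⟩ : P) ∈ MulAction.orbit A (⟨s, hs⟩ : P) := MulAction.mem_orbit_self _
    have hmem2 : (⟨g, mem_zpowers g⟩ : A) • (⟨s, hs⟩ : P) ∈ MulAction.orbit A (⟨s, hs⟩ : P) :=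
      MulAction.mem_orbit _ _
    have h3 := Subsingleton.elim (⟨_, hmem1⟩ : MulAction.orbit A (⟨s, hs⟩ : P)) ⟨_, hmem2⟩
    have h4 : (⟨s, hs⟩ : P) = (⟨g, mem_zpowers g⟩ : A) • (⟨s, hs⟩ : P) := congrArg Subtype.val h3
    have h5 := congrArg Subtype.val h4
    exact hfix s hs hs1 h5.symm
  have hple : p ≤ Nat.card (MulAction.orbit A (⟨s, hs⟩ : P)) := by
    rw [hk]
    calc p = p ^ 1 := (pow_one p).symm
      _ ≤ p ^ k := Nat.pow_le_pow_right (Fact.out : p.Prime).pos (Nat.one_le_iff_ne_zero.2 hk0)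
  have hcompl : (({1} : Set P)ᶜ).ncard = p := by
    rw [Set.ncard_compl, Set.ncard_singleton, hcard]
    rfl
  have heq : MulAction.orbit A (⟨s, hs⟩ : P) = ({1} : Set P)ᶜ := by
    apply Set.eq_of_subset_of_ncard_le hsub _ (Set.toFinite _)
    rw [hcompl, ← Nat.card_coe_set_eq]
    exact hple
  have hs'mem : (⟨s', hs'⟩ : P) ∈ MulAction.orbit A (⟨s, hs⟩ : P) := by
    rw [heq]
    intro h0
    apply hs'1
    have := congrArg Subtype.val (show (⟨s', hs'⟩ : P) = 1 from h0)
    exact this
  obtain ⟨z, hz⟩ := hs'mem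
  have hz' : (z : G) * s * (z : G)⁻¹ = s' := congrArg Subtype.val hz
  have hzp := (mem_powers_iff_mem_zpowers).2 z.2
  obtain ⟨i, hi⟩ := Submonoid.mem_powers_iff _ _ |>.1 hzp
  exact ⟨i, by rw [hi]; exact hz'⟩

/-- Let G be a finite group and let p and q be distinct primes dividing the order of G, with p odd. Suppose that p divides the order of every proper subgroup of G that is neither a q-group nor of order prime to q. Let q^a be the q-part of the order of G. If p > q^a − 1, or if p = q^a − 1 and the Sylow p-subgroups of G are abelian, then p and q are the only primes dividing the order of G. -/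
theorem result {G : Type*} [Group G] [Finite G]
    {p q : ℕ} (hp : p.Prime) (hq : q.Prime) (hpq : p ≠ q) (hp2 : p ≠ 2)
    (hpG : p ∣ Nat.card G) (hqG : q ∣ Nat.card G)
    (hmix : ∀ H : Subgroup G, H ≠ ⊤ → ¬ IsPGroup q H → q ∣ Nat.card H → p ∣ Nat.card H)
    (hlarge : q ^ (Nat.card G).factorization q - 1 < p ∨
      (p = q ^ (Nat.card G).factorization q - 1 ∧ ∀ P : Sylow p G, IsMulCommutative P)) :
    ∀ r : ℕ, r.Prime → r ∣ Nat.card G → r = p ∨ r = q := by
  intro r hr hrG
  haveI := Fact.mk hp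
  haveI hqf := Fact.mk hq
  haveI := Fact.mk hr
  by_cases hrq : r = q
  · exact Or.inr hrq
  left
  have hM : Mix p q G := hmix
  let P : Sylow q G := default
  have hPcard : Nat.card P = q ^ (Nat.card G).factorization q := Sylow.card_eq_multiplicity P
  have hqP : q ∣ Nat.card P := Sylow.dvd_card_of_dvd_card P hqG
  by_cases hF : Cfsg.Agent.Lib.Transfer.FrobeniusHyp q (P : Subgroup G)
  · obtain ⟨N, hNn, hNc⟩ := Cfsg.Agent.Lib.Transfer.frobenius P hF
    have hcard := hNc.card_mul
    have hNidx : (P : Subgroup G).index = Nat.card N := hNc.index_eq_card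
    have hqN : ¬ q ∣ Nat.card N := by
      rw [← hNidx]; exact P.not_dvd_index
    have hrN : r ∣ Nat.card N := by
      rw [← hcard] at hrG
      rcases (Nat.Prime.dvd_mul hr).1 hrG with h | h
      · exact h
      · exfalso
        have h' : r ∣ Nat.card P := h
        rw [hPcard] at h'
        exact hrq ((Nat.prime_dvd_prime_iff_eq hr hq).1 (hr.dvd_of_dvd_pow h'))
    have hcop : (Nat.card (P : Subgroup G)).Coprime (Nat.card N) := by
      have h1 : Nat.card (P : Subgroup G) = q ^ (Nat.card G).factorization q := hPcard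
      rw [h1]
      exact Nat.Coprime.pow_left _ ((Nat.Prime.coprime_iff_not_dvd hq).2 hqN)
    have hnorm : (P : Subgroup G) ≤ normalizer (N : Set G) := by
      rw [normalizer_eq_top_iff.2 hNn]
      exact le_top
    haveI : Group.IsNilpotent (P : Subgroup G) := P.isPGroup'.isNilpotent
    obtain ⟨S, hS⟩ := Cfsg.Agent.Lib.Hall.exists_invariant_sylow (P : Subgroup G) N hnorm hcop
      (Or.inl inferInstance) r
    refine mix_core hp hq hr hpq hrq hpG hM P.isPGroup' hqP (S.isPGroup'.map _) ?_ (Or.inl hS)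
    have h3 : r ∣ Nat.card S := Sylow.dvd_card_of_dvd_card S hrN
    have h4 : Nat.card ((S : Subgroup N).map N.subtype) = Nat.card (S : Subgroup N) :=
      Subgroup.card_map_of_injective N.subtype_injective
    rw [h4]; exact h3
  · unfold Cfsg.Agent.Lib.Transfer.FrobeniusHyp at hF
    push Not at hF
    obtain ⟨U, hUP, g, hgn, hgc, hgnc⟩ := hF
    obtain ⟨u0, hu0, hne⟩ : ∃ u0 ∈ U, g * u0 * g⁻¹ ≠ u0 := by
      by_contra hcon
      push Not at hcon
      apply hgnc
      rw [mem_centralizer_iff]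
      intro x hx
      calc x * g = (g * x * g⁻¹) * g := by rw [hcon x hx]
        _ = g * x := by group
    have hUq : IsPGroup q U := P.isPGroup'.to_le hUP
    have hu01 : u0 ≠ 1 := by
      rintro rfl
      apply hne; simp
    have hU1 : U ≠ ⊥ := by
      rintro rfl
      exact hu01 ((Subgroup.mem_bot).1 hu0)
    have hqU : q ∣ Nat.card U := by
      obtain ⟨a, ha⟩ := IsPGroup.iff_card.1 hUq
      rw [ha]
      refine dvd_pow_self q ?_
      rintro rfl
      apply hU1
      rw [pow_zero] at ha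
      exact Subgroup.card_eq_one.1 ha
    have hzn : zpowers g ≤ normalizer (U : Set G) := by rw [zpowers_le]; exact hgn
    have hgp : orderOf g = p ^ (orderOf g).primeFactorsList.length := by
      refine Nat.eq_prime_pow_of_unique_prime_dvd (orderOf_pos g).ne' (fun {s} hs hsd => ?_)
      haveI := Fact.mk hs
      have hsq : s ≠ q := by
        rintro rfl
        have h1 : s ∣ Nat.gcd (orderOf g) s := Nat.dvd_gcd hsd dvd_rfl
        rw [hgc] at h1
        exact hs.one_lt.ne' (Nat.dvd_one.1 h1)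
      let R : Sylow s (zpowers g) := default
      have hsK : s ∣ Nat.card (zpowers g) := by rwa [Nat.card_zpowers]
      refine mix_core hp hq hs hpq hsq hpG hM hUq hqU (R := (R : Subgroup (zpowers g)).map (zpowers g).subtype)
        (R.isPGroup'.map _) ?_ (Or.inr ((Subgroup.map_subtype_le _).trans hzn))
      have h3 : s ∣ Nat.card R := Sylow.dvd_card_of_dvd_card R hsK
      have h4 : Nat.card ((R : Subgroup (zpowers g)).map (zpowers g).subtype) = Nat.card (R : Subgroup (zpowers g)) :=
        Subgroup.card_map_of_injective (zpowers g).subtype_injective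
      rw [h4]; exact h3
    obtain ⟨n, hn⟩ : ∃ n, g ^ p ^ n = 1 := ⟨_, by rw [← hgp]; exact pow_orderOf_eq_one g⟩
    obtain ⟨h1, h2⟩ := card_lower hgn hn hu0 hne
    have hUle : Nat.card U ≤ q ^ (Nat.card G).factorization q := by
      rw [← hPcard]; exact Subgroup.card_le_of_le hUP
    have hqpos : 0 < q ^ (Nat.card G).factorization q := pow_pos hq.pos _
    rcases hlarge with hl | ⟨hpe, hab⟩
    · omega
    have hqa : q ^ (Nat.card G).factorization q = p + 1 := by omega
    have hUc : Nat.card U = p + 1 := by omega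
    have hUeq : U = (P : Subgroup G) := by
      apply Subgroup.eq_of_le_of_card_ge hUP
      have h3 : Nat.card (P : Subgroup G) = q ^ (Nat.card G).factorization q := hPcard
      rw [h3, hqa, hUc]
    have hq2 : q = 2 := by
      have h3 : 2 ∣ q ^ (Nat.card G).factorization q := by
        rw [hqa]
        exact even_iff_two_dvd.1 ((hp.odd_of_ne_two hp2).add_one)
      exact ((Nat.prime_dvd_prime_iff_eq Nat.prime_two hq).1 (Nat.prime_two.dvd_of_dvd_pow h3)).symm
    subst hq2
    subst hUeq
    have hfix : ∀ u ∈ (P : Subgroup G), u ≠ 1 → g * u * g⁻¹ ≠ u := by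
      intro u hu hu1 hfu
      have := h2 u hu hu1 hfu
      omega
    have htrans := trans_of_fix hgn hn hUc hfix
    have hexp : ∀ s ∈ (P : Subgroup G), s ^ 2 = 1 := by
      obtain ⟨x, hx⟩ := exists_prime_orderOf_dvd_card' 2 hqU
      have hxG : orderOf (x : G) = 2 := by rw [Subgroup.orderOf_coe]; exact hx
      have hx2 : (x : G) ^ 2 = 1 := by
        have := pow_orderOf_eq_one (x : G)
        rwa [hxG] at this
      have hx1 : (x : G) ≠ 1 := by
        intro h0
        rw [h0, orderOf_one] at hxG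
        omega
      intro s hs
      by_cases hs1 : s = 1
      · subst hs1; simp
      obtain ⟨i, hi⟩ := htrans _ x.2 hx1 s hs hs1
      rw [← hi, conj_pow, hx2]
      group
    have D : Data p G P g :=
      { hp := hp
        hp2 := hp2
        hpG := hpG
        mix := hM
        ab := fun Z a ha b hb => by
          have := (hab Z).is_comm.comm (⟨a, ha⟩ : Z) ⟨b, hb⟩
          exact congrArg Subtype.val this
        cardQ := hUc
        expQ := hexp
        ynorm := hgn
        ypow := ⟨n, hn⟩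
        trans := htrans }
    by_cases hPn : (P : Subgroup G).Normal
    · let R : Sylow r G := default
      refine mix_core hp hq hr hpq hrq hpG hM P.isPGroup' hqU R.isPGroup' (Sylow.dvd_card_of_dvd_card R hrG) (Or.inr ?_)
      rw [normalizer_eq_top_iff.2 hPn]
      exact le_top
    · exact (D.caseB_false hPn).elim

end Cfsg.Agent.S4017
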