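import Cfsg.Statements.S4018
import Cfsg.Agent.Lib.Coprime.Friendship
import Cfsg.Agent.Lib.ClassSizes.Basic
import Mathlib

set_option autoImplicit false
open Cfsg

namespace Cfsg.Agent.S4018

open Subgroup
open scoped Pointwise

theorem mem_smul_sylow {G : Type*} [Group G] {p : ℕ} (g x : G) (Q : Sylow p G) :
    x ∈ ((g • Q : Sylow p G) : Subgroup G) ↔ g⁻¹ * x * g ∈ (Q : Subgroup G) := by
  rw [Sylow.coe_subgroup_smul, Subgroup.mem_pointwise_smul_iff_inv_smul_mem]
  simp [MulAut.smul_def]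

theorem mem_centralizer_smul {G : Type*} [Group G] {p : ℕ} (g x : G) (Q : Sylow p G) :
    x ∈ centralizer (((g • Q : Sylow p G) : Subgroup G) : Set G) ↔
      g⁻¹ * x * g ∈ centralizer ((Q : Subgroup G) : Set G) := by
  simp only [Subgroup.mem_centralizer_iff]
  constructor
  · intro h y hy
    have hy' : y ∈ (Q : Subgroup G) := hy
    have h1 := h (g * y * g⁻¹) (by
      change g * y * g⁻¹ ∈ ((g • Q : Sylow p G) : Subgroup G)
      rw [mem_smul_sylow]
      simpa [mul_assoc] using hy')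
    calc y * (g⁻¹ * x * g) = g⁻¹ * ((g * y * g⁻¹) * x) * g := by group
      _ = g⁻¹ * (x * (g * y * g⁻¹)) * g := by rw [h1]
      _ = _ := by group
  · intro h y hy
    have hy' : y ∈ ((g • Q : Sylow p G) : Subgroup G) := hy
    rw [mem_smul_sylow] at hy'
    have h1 := h (g⁻¹ * y * g) hy'
    calc y * x = g * ((g⁻¹ * y * g) * (g⁻¹ * x * g)) * g⁻¹ := by group
      _ = g * ((g⁻¹ * x * g) * (g⁻¹ * y * g)) * g⁻¹ := by rw [h1]
      _ = x * y := by group

theorem card_centralizer_smul {G : Type*} [Group G] {p : ℕ} (g : G) (Q : Sylow p G) :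
    Nat.card (centralizer (((g • Q : Sylow p G) : Subgroup G) : Set G))
      = Nat.card (centralizer ((Q : Subgroup G) : Set G)) := by
  refine Nat.card_congr (Equiv.subtypeEquiv (MulAut.conj g⁻¹).toEquiv ?_)
  intro x
  rw [mem_centralizer_smul]
  simp

theorem isTI_smul {G : Type*} [Group G] {p : ℕ} (g : G) (Q : Sylow p G)
    (hTI : Cfsg.IsTISubset (centralizer ((Q : Subgroup G) : Set G) : Set G)) :
    Cfsg.IsTISubset (centralizer (((g • Q : Sylow p G) : Subgroup G) : Set G) : Set G) := by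
  intro h hh x hx hx2
  have hx' : g⁻¹ * x * g ∈ centralizer ((Q : Subgroup G) : Set G) := (mem_centralizer_smul g x Q).mp hx
  have hx2' : g⁻¹ * (h * x * h⁻¹) * g ∈ centralizer ((Q : Subgroup G) : Set G) :=
    (mem_centralizer_smul g _ Q).mp hx2
  have hnot : g⁻¹ * h * g ∉ normalizer
      ((centralizer ((Q : Subgroup G) : Set G) : Subgroup G) : Set G) := by
    intro hmem
    apply hh
    rw [Subgroup.mem_normalizer_iff] at hmem ⊢
    intro y
    change y ∈ centralizer _ ↔ h * y * h⁻¹ ∈ centralizer _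
    rw [mem_centralizer_smul, mem_centralizer_smul]
    have := hmem (g⁻¹ * y * g)
    have h3 : g⁻¹ * h * g * (g⁻¹ * y * g) * (g⁻¹ * h * g)⁻¹ = g⁻¹ * (h * y * h⁻¹) * g := by group
    rw [h3] at this
    exact this
  have h1 := hTI (g⁻¹ * h * g) hnot (g⁻¹ * x * g) hx' (by
    have h3 : g⁻¹ * h * g * (g⁻¹ * x * g) * (g⁻¹ * h * g)⁻¹ = g⁻¹ * (h * x * h⁻¹) * g := by group
    rw [h3]
    exact hx2')
  have : x = g * (g⁻¹ * x * g) * g⁻¹ := by group
  rw [this, h1]; group

/-- the hypotheses, for all Sylow 3-subgroups -/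
structure Data (G : Type*) [Group G] [Finite G] (m : ℕ) : Prop where
  simple : IsSimpleGroup G
  ab : ∀ Q : Sylow 3 G, ∀ a ∈ (Q : Subgroup G), ∀ b ∈ (Q : Subgroup G), a * b = b * a
  cardP : ∀ Q : Sylow 3 G, Nat.card (Q : Subgroup G) = m
  cardN : ∀ Q : Sylow 3 G, Nat.card (normalizer ((Q : Subgroup G) : Set G)) = 4 * m
  cardC : ∀ Q : Sylow 3 G, Nat.card (centralizer ((Q : Subgroup G) : Set G)) = 2 * m
  ti : ∀ Q : Sylow 3 G, Cfsg.IsTISubset (centralizer ((Q : Subgroup G) : Set G) : Set G)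
  even : ∀ H : Subgroup G, H ≠ ⊤ → 2 ∣ Nat.card H → Nat.card H ∣ 4 * m

variable {G : Type*} [Group G] [Finite G] {m : ℕ}

theorem Data.mpos (_h : Data G m) : 0 < m := by
  obtain ⟨Q⟩ : Nonempty (Sylow 3 G) := inferInstance
  rw [← _h.cardP Q]
  exact Nat.card_pos

theorem Data.not_comm (h : Data G m) : ¬ ∀ a b : G, a * b = b * a := by
  intro hc
  obtain ⟨Q⟩ : Nonempty (Sylow 3 G) := inferInstance
  have h1 := h.cardN Q
  have h2 := h.cardC Q
  have hN : normalizer ((Q : Subgroup G) : Set G) = ⊤ := by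
    rw [eq_top_iff]
    intro x _
    rw [Subgroup.mem_normalizer_iff]
    intro y
    rw [hc x y, mul_assoc, mul_inv_cancel, mul_one]
  have hC : centralizer ((Q : Subgroup G) : Set G) = ⊤ := by
    rw [eq_top_iff]
    intro x _
    rw [Subgroup.mem_centralizer_iff]
    intro y _
    exact hc y x
  rw [hN, Subgroup.card_top] at h1
  rw [hC, Subgroup.card_top] at h2
  have := h.mpos
  omega

theorem Data.center_eq_bot (h : Data G m) : center G = ⊥ := by
  haveI := h.simple
  rcases IsSimpleGroup.eq_bot_or_eq_top_of_normal (center G) inferInstance with h1 | h1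
  · exact h1
  · exfalso
    apply h.not_comm
    intro a b
    have : b ∈ center G := by rw [h1]; trivial
    exact (Subgroup.mem_center_iff.mp this a)

theorem Data.exists_pow (h : Data G m) : ∃ a, m = 3 ^ a ∧ a ≠ 0 := by
  obtain ⟨Q⟩ : Nonempty (Sylow 3 G) := inferInstance
  obtain ⟨a, ha⟩ := IsPGroup.iff_card.mp Q.2
  have hm : m = 3 ^ a := by rw [← h.cardP Q]; exact ha
  refine ⟨a, hm, ?_⟩
  rintro rfl
  have hQ : (Q : Subgroup G) = ⊥ := Subgroup.card_eq_one.mp (by rw [ha, pow_zero])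
  have h1 := h.cardN Q
  have h2 := h.cardC Q
  rw [hm, pow_zero] at h1 h2
  have hN : normalizer ((Q : Subgroup G) : Set G) = ⊤ := by
    rw [hQ]; exact Subgroup.normalizer_eq_top_iff.mpr inferInstance
  have hC : centralizer ((Q : Subgroup G) : Set G) = ⊤ := by
    rw [hQ, eq_top_iff]
    intro x _
    rw [Subgroup.mem_centralizer_iff]
    intro y hy
    have : y = 1 := hy
    rw [this]; simp
  rw [hN, Subgroup.card_top] at h1
  rw [hC, Subgroup.card_top] at h2
  omega

theorem Data.three_dvd_m (h : Data G m) : 3 ∣ m := by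
  obtain ⟨a, rfl, ha⟩ := h.exists_pow
  exact dvd_pow_self 3 ha

theorem Data.coprime_two_m (h : Data G m) : Nat.Coprime 2 m := by
  obtain ⟨a, rfl, -⟩ := h.exists_pow
  exact Nat.Coprime.pow_right a (by norm_num)

theorem Data.m_dvd_card (h : Data G m) : 4 * m ∣ Nat.card G := by
  obtain ⟨Q⟩ : Nonempty (Sylow 3 G) := inferInstance
  rw [← h.cardN Q]
  exact Subgroup.card_subgroup_dvd_card _

/-- elements of order dividing `2` in a Sylow `3`-subgroup are trivial -/
theorem Data.eq_one_of_sq (h : Data G m) (Q : Sylow 3 G) {x : G} (hx : x ∈ (Q : Subgroup G))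
    (hx2 : x ^ 2 = 1) : x = 1 := by
  have h1 : orderOf x ∣ 2 := orderOf_dvd_of_pow_eq_one hx2
  have h2 : orderOf x ∣ m := by
    have : orderOf (⟨x, hx⟩ : (Q : Subgroup G)) ∣ Nat.card (Q : Subgroup G) := orderOf_dvd_natCard _
    rw [h.cardP Q] at this
    simpa using this
  exact orderOf_eq_one_iff.mp (Nat.Coprime.eq_one_of_dvd (h.coprime_two_m.coprime_dvd_left h1 |>.symm.coprime_dvd_left h2 |>.symm |> fun hc => by simpa using hc) (dvd_refl _))

theorem Data.le_centralizer (h : Data G m) (Q : Sylow 3 G) :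
    (Q : Subgroup G) ≤ centralizer ((Q : Subgroup G) : Set G) := by
  intro x hx
  rw [Subgroup.mem_centralizer_iff]
  intro y hy
  exact h.ab Q y hy x hx

theorem Data.inv_exists (h : Data G m) (Q : Sylow 3 G) :
    ∃ t ∈ centralizer ((Q : Subgroup G) : Set G), orderOf t = 2 := by
  have h2 : 2 ∣ Nat.card (centralizer ((Q : Subgroup G) : Set G)) := by
    rw [h.cardC Q]; exact dvd_mul_right 2 m
  obtain ⟨t, ht⟩ := exists_prime_orderOf_dvd_card' 2 h2
  exact ⟨t, t.2, by rw [← ht, Subgroup.orderOf_coe]⟩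

theorem Data.inv_unique (h : Data G m) (Q : Sylow 3 G) {t₁ t₂ : G}
    (h₁ : t₁ ∈ centralizer ((Q : Subgroup G) : Set G)) (o₁ : orderOf t₁ = 2)
    (h₂ : t₂ ∈ centralizer ((Q : Subgroup G) : Set G)) (o₂ : orderOf t₂ = 2) : t₁ = t₂ := by
  set C := centralizer ((Q : Subgroup G) : Set G) with hC
  have hle : (Q : Subgroup G) ≤ C := h.le_centralizer Q
  have hidx : ((Q : Subgroup G).subgroupOf C).index = 2 := by
    have h1 := ((Q : Subgroup G).subgroupOf C).index_mul_card
    have h3 : Nat.card ((Q : Subgroup G).subgroupOf C) = m :=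
      (Nat.card_congr (Subgroup.subgroupOfEquivOfLe hle).toEquiv).trans (h.cardP Q)
    rw [h3, h.cardC Q, mul_comm] at h1
    exact Nat.eq_of_mul_eq_mul_left h.mpos (by rw [h1]; ring)
  have hnot : ∀ t : G, orderOf t = 2 → t ∉ (Q : Subgroup G) := by
    intro t ho hmem
    have : t = 1 := h.eq_one_of_sq Q hmem (by rw [← ho]; exact pow_orderOf_eq_one t)
    rw [this, orderOf_one] at ho
    omega
  have hmul := Subgroup.mul_mem_iff_of_index_two hidx (a := ⟨t₁, h₁⟩) (b := ⟨t₂, h₂⟩)
  have hx : t₁ * t₂ ∈ (Q : Subgroup G) := by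
    have h3 : (⟨t₁, h₁⟩ * ⟨t₂, h₂⟩ : C) ∈ (Q : Subgroup G).subgroupOf C := by
      rw [hmul]
      constructor
      · intro hh; exact absurd hh (hnot t₁ o₁)
      · intro hh; exact absurd hh (hnot t₂ o₂)
    exact h3
  have hsq1 : t₁ * t₁ = 1 := by rw [← sq, ← o₁]; exact pow_orderOf_eq_one t₁
  have hsq2 : t₂ * t₂ = 1 := by rw [← sq, ← o₂]; exact pow_orderOf_eq_one t₂
  have hcomm : (t₁ * t₂) * t₁ = t₁ * (t₁ * t₂) := Subgroup.mem_centralizer_iff.mp h₁ _ hx
  have hsq : (t₁ * t₂) ^ 2 = 1 := by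
    rw [sq]
    calc (t₁ * t₂) * (t₁ * t₂) = ((t₁ * t₂) * t₁) * t₂ := by group
      _ = (t₁ * (t₁ * t₂)) * t₂ := by rw [hcomm]
      _ = (t₁ * t₁) * (t₂ * t₂) := by group
      _ = 1 := by rw [hsq1, hsq2, one_mul]
  have h5 := h.eq_one_of_sq Q hx hsq
  calc t₁ = t₁ * (t₂ * t₂) := by rw [hsq2, mul_one]
    _ = (t₁ * t₂) * t₂ := by group
    _ = t₂ := by rw [h5, one_mul]

theorem orderOf_conj' {G : Type*} [Group G] (x t : G) : orderOf (x * t * x⁻¹) = orderOf t :=
  MulEquiv.orderOf_eq (MulAut.conj x) t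

/-- An element conjugating `t` back into the centralizer commutes with `t`. -/
theorem Data.comm_of_mem (h : Data G m) (Q : Sylow 3 G) {t x : G}
    (ht : t ∈ centralizer ((Q : Subgroup G) : Set G)) (ho : orderOf t = 2)
    (hx : x * t * x⁻¹ ∈ centralizer ((Q : Subgroup G) : Set G)) : x * t = t * x := by
  have h1 := h.inv_unique Q hx (by rw [orderOf_conj', ho]) ht ho
  calc x * t = (x * t * x⁻¹) * x := by group
    _ = t * x := by rw [h1]

theorem Data.conj_mem_of_normalizer (_h : Data G m) (Q : Sylow 3 G) {t x : G}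
    (ht : t ∈ centralizer ((Q : Subgroup G) : Set G)) (hx : x ∈ normalizer ((Q : Subgroup G) : Set G)) :
    x * t * x⁻¹ ∈ centralizer ((Q : Subgroup G) : Set G) := by
  rw [Subgroup.mem_centralizer_iff]
  intro q hq
  have hq' : q ∈ (Q : Subgroup G) := hq
  have h1 : x⁻¹ * q * x ∈ (Q : Subgroup G) := by
    have := (Subgroup.mem_normalizer_iff.mp hx (x⁻¹ * q * x)).mp
    have h2 := (Subgroup.mem_normalizer_iff.mp hx (x⁻¹ * q * x)).mpr
    apply h2
    have h3 : x * (x⁻¹ * q * x) * x⁻¹ = q := by group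
    rw [h3]
    exact hq'
  have h2 := Subgroup.mem_centralizer_iff.mp ht _ h1
  calc q * (x * t * x⁻¹) = x * ((x⁻¹ * q * x) * t) * x⁻¹ := by group
    _ = x * (t * (x⁻¹ * q * x)) * x⁻¹ := by rw [h2]
    _ = _ := by group

/-- `C(t) = N(Q)`. -/
theorem Data.centralizer_inv_le (h : Data G m) (Q : Sylow 3 G) {t : G}
    (ht : t ∈ centralizer ((Q : Subgroup G) : Set G)) (ho : orderOf t = 2) :
    centralizer ({t} : Set G) ≤ normalizer ((Q : Subgroup G) : Set G) := by
  have hle : normalizer ((Q : Subgroup G) : Set G) ≤ centralizer ({t} : Set G) := by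
    intro x hx
    rw [Subgroup.mem_centralizer_iff]
    rintro _ rfl
    exact (h.comm_of_mem Q ht ho (h.conj_mem_of_normalizer Q ht hx)).symm
  have hne : centralizer ({t} : Set G) ≠ ⊤ := by
    intro htop
    have : t ∈ center G := by
      rw [Subgroup.mem_center_iff]
      intro g
      have hg : g ∈ centralizer ({t} : Set G) := by rw [htop]; trivial
      exact (Subgroup.mem_centralizer_iff.mp hg t rfl).symm
    rw [h.center_eq_bot, Subgroup.mem_bot] at this
    rw [this, orderOf_one] at ho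
    omega
  have h2 : 2 ∣ Nat.card (centralizer ({t} : Set G)) := by
    rw [← ho]
    have htc : t ∈ centralizer ({t} : Set G) := by
      rw [Subgroup.mem_centralizer_iff]
      rintro _ rfl
      rfl
    have : orderOf (⟨t, htc⟩ : centralizer ({t} : Set G)) ∣ Nat.card (centralizer ({t} : Set G)) :=
      orderOf_dvd_natCard _
    simpa using this
  have h3 := h.even _ hne h2
  rw [← h.cardN Q] at h3
  have h4 := Subgroup.eq_of_le_of_card_ge hle (Nat.le_of_dvd Nat.card_pos h3)
  rw [h4]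

theorem mem_of_three_elt {Q : Sylow 3 G} {x : G}
    (hxN : x ∈ normalizer ((Q : Subgroup G) : Set G)) {k : ℕ} (hk : x ^ (3 ^ k) = 1) :
    x ∈ (Q : Subgroup G) := by
  have hd : orderOf x ∣ 3 ^ k := orderOf_dvd_of_pow_eq_one hk
  obtain ⟨j, -, hj⟩ := (Nat.dvd_prime_pow Nat.prime_three).mp hd
  have hp : IsPGroup 3 (zpowers x) := IsPGroup.of_card (n := j) (by rw [Nat.card_zpowers, hj])
  have h1 := hp.inf_normalizer_sylow Q
  have h2 : x ∈ zpowers x ⊓ normalizer (Q : Set G) := ⟨mem_zpowers x, hxN⟩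
  rw [h1] at h2
  exact h2.2

/-- Two distinct involutions have no common non-trivial `3`-element in their centralizers. -/
theorem Data.eq_one_of_two_inv (h : Data G m) {Q₁ Q₂ : Sylow 3 G} {z₁ z₂ : G}
    (hz₁ : z₁ ∈ centralizer ((Q₁ : Subgroup G) : Set G)) (o₁ : orderOf z₁ = 2)
    (hz₂ : z₂ ∈ centralizer ((Q₂ : Subgroup G) : Set G)) (o₂ : orderOf z₂ = 2) (hne : z₁ ≠ z₂)
    {x : G} (hx₁ : x ∈ centralizer ({z₁} : Set G)) (hx₂ : x ∈ centralizer ({z₂} : Set G))
    {k : ℕ} (hk : x ^ (3 ^ k) = 1) : x = 1 := by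
  by_contra hx1
  have hQ₁ : x ∈ (Q₁ : Subgroup G) := mem_of_three_elt (h.centralizer_inv_le Q₁ hz₁ o₁ hx₁) hk
  have hQ₂ : x ∈ (Q₂ : Subgroup G) := mem_of_three_elt (h.centralizer_inv_le Q₂ hz₂ o₂ hx₂) hk
  obtain ⟨g, rfl⟩ := MulAction.exists_smul_eq G Q₁ Q₂
  have hc₁ := h.le_centralizer Q₁ hQ₁
  have hc₂ := (mem_centralizer_smul g x Q₁).mp (h.le_centralizer _ hQ₂)
  have hn : g⁻¹ ∈ normalizer ((centralizer ((Q₁ : Subgroup G) : Set G) : Subgroup G) : Set G) := by
    by_contra hnot
    exact hx1 (h.ti Q₁ g⁻¹ hnot x hc₁ (by simpa using hc₂))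
  have h1 : g⁻¹ * z₁ * g⁻¹⁻¹ ∈ centralizer ((Q₁ : Subgroup G) : Set G) :=
    (Subgroup.mem_normalizer_iff.mp hn z₁).mp hz₁
  have h2 : g⁻¹ * z₁ = z₁ * g⁻¹ := h.comm_of_mem Q₁ hz₁ o₁ h1
  have h3 := (mem_centralizer_smul g z₂ Q₁).mp hz₂
  have h4 : g⁻¹ * z₂ * g = z₁ := by
    refine h.inv_unique Q₁ h3 ?_ hz₁ o₁
    have := orderOf_conj' g⁻¹ z₂
    rw [inv_inv] at this
    rw [this, o₂]
  apply hne
  have h5 : z₂ = g * z₁ * g⁻¹ := by rw [← h4]; group
  rw [h5]
  calc z₁ = g * (g⁻¹ * z₁) := by group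
    _ = g * (z₁ * g⁻¹) := by rw [h2]
    _ = g * z₁ * g⁻¹ := by group

theorem Data.card_sylow_two (h : Data G m) (T : Sylow 2 G) : Nat.card (T : Subgroup G) = 4 := by
  obtain ⟨a, rfl, ha⟩ := h.exists_pow
  have hd := h.m_dvd_card
  have h4 : 2 ^ 2 ∣ Nat.card G := (Dvd.intro _ rfl).trans hd
  have h5 : 2 ^ 2 ∣ Nat.card (T : Subgroup G) := T.pow_dvd_card_of_pow_dvd_card h4
  obtain ⟨k, hk⟩ := IsPGroup.iff_card.mp T.2
  have hne : (T : Subgroup G) ≠ ⊤ := by
    intro htop
    have h3 : 3 ∣ Nat.card G := (h.three_dvd_m.trans (Dvd.intro_left _ rfl)).trans hd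
    rw [htop, Subgroup.card_top] at hk
    rw [hk] at h3
    have := Nat.Prime.dvd_of_dvd_pow Nat.prime_three h3
    omega
  have h6 := h.even _ hne (Dvd.dvd.trans (by norm_num) h5)
  rw [hk] at h6 h5 ⊢
  have hc : Nat.Coprime (2 ^ k) (3 ^ a) := Nat.Coprime.pow _ _ (by norm_num)
  have h7 : 2 ^ k ∣ 4 := hc.dvd_of_dvd_mul_right h6
  exact Nat.dvd_antisymm h7 h5

theorem mem_of_pow_mem_of_pow_mem {G : Type*} [Group G] (H : Subgroup G) (y : G) {a b : ℕ}
    (hab : a.Coprime b) (ha : y ^ a ∈ H) (hb : y ^ b ∈ H) : y ∈ H := by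
  have h2 := Nat.gcd_eq_gcd_ab a b
  rw [hab] at h2
  have h3 : y = (y ^ a) ^ (Nat.gcdA a b) * (y ^ b) ^ (Nat.gcdB a b) := by
    rw [← zpow_natCast y a, ← zpow_natCast y b, ← zpow_mul, ← zpow_mul, ← zpow_add, ← h2]
    simp
  rw [h3]
  exact H.mul_mem (H.zpow_mem ha _) (H.zpow_mem hb _)

/-- The power `y ^ 24` centralizes a subgroup of order `4` normalized by `y`. -/
theorem pow24 {G : Type*} [Group G] (T : Subgroup G) [Finite T] (hT : Nat.card T = 4) {y : G}
    (hy : ∀ w ∈ T, y * w * y⁻¹ ∈ T) (hy' : ∀ w ∈ T, y⁻¹ * w * y ∈ T) :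
    ∀ w ∈ T, y ^ 24 * w * (y ^ 24)⁻¹ = w := by
  classical
  haveI := Fintype.ofFinite T
  let σ : Equiv.Perm T :=
    { toFun := fun w => ⟨y * w * y⁻¹, hy w w.2⟩
      invFun := fun w => ⟨y⁻¹ * w * y, hy' w w.2⟩
      left_inv := fun w => Subtype.ext (by simp [mul_assoc])
      right_inv := fun w => Subtype.ext (by simp [mul_assoc]) }
  have hσ : ∀ (k : ℕ) (w : T), (((σ ^ k) w : T) : G) = y ^ k * w * (y ^ k)⁻¹ := by
    intro k
    induction k with
    | zero => intro w; simp
    | succ k ih =>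
      intro w
      rw [pow_succ, Equiv.Perm.mul_apply, ih]
      change y ^ k * (y * w * y⁻¹) * (y ^ k)⁻¹ = _
      rw [pow_succ]
      group
  have hcard : Nat.card (Equiv.Perm T) = 24 := by
    rw [Nat.card_eq_fintype_card, Fintype.card_perm, ← Nat.card_eq_fintype_card, hT]
    rfl
  have h1 : σ ^ 24 = 1 := by
    have := pow_card_eq_one' (x := σ)
    rw [hcard] at this
    exact this
  intro w hw
  have h2 := hσ 24 ⟨w, hw⟩
  rw [h1] at h2
  exact h2.symm

/-- Burnside's fusion for a Sylow subgroup of order `4`: all its non-identity elements are conjugate. -/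
theorem Data.fusion (h : Data G m) (T : Sylow 2 G) {a b : G} (ha : a ∈ (T : Subgroup G))
    (ha1 : a ≠ 1) (hb : b ∈ (T : Subgroup G)) (hb1 : b ≠ 1) : ∃ g : G, g * a * g⁻¹ = b := by
  classical
  haveI := h.simple
  have hT4 := h.card_sylow_two T
  have hTab : ∀ u v : (T : Subgroup G), u * v = v * u :=
    IsPGroup.commutative_of_card_eq_prime_sq (p := 2) (by rw [hT4]; norm_num)
  have hTC : (T : Subgroup G) ≤ centralizer ((T : Subgroup G) : Set G) := by
    intro x hx
    rw [Subgroup.mem_centralizer_iff]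
    intro y hy
    exact congrArg Subtype.val (hTab ⟨y, hy⟩ ⟨x, hx⟩)
  -- Burnside transfer
  have hNC : ¬ normalizer ((T : Subgroup G) : Set G) ≤ centralizer ((T : Subgroup G) : Set G) := by
    intro hle
    have hc := MonoidHom.ker_transferSylow_isComplement' T hle
    have hcard := hc.card_mul_card
    rcases IsSimpleGroup.eq_bot_or_eq_top_of_normal (MonoidHom.transferSylow T hle).ker
      (MonoidHom.normal_ker _) with h1 | h1
    · rw [h1, Subgroup.card_bot, one_mul, hT4] at hcard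
      have h3 : 3 ∣ Nat.card G := (h.three_dvd_m.trans (Dvd.intro_left _ rfl)).trans h.m_dvd_card
      rw [← hcard] at h3
      omega
    · rw [h1, Subgroup.card_top, hT4] at hcard
      have hpos : 0 < Nat.card G := Nat.card_pos
      omega
  obtain ⟨x, hxN, hxC⟩ := SetLike.not_le_iff_exists.mp hNC
  -- pass to an element of odd order
  have hxpos : orderOf x ≠ 0 := (orderOf_pos x).ne'
  obtain ⟨e, o, ho, hn⟩ := Nat.exists_eq_two_pow_mul_odd hxpos
  set y := x ^ (2 ^ e) with hy
  have hyo : y ^ o = 1 := by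
    rw [hy, ← pow_mul, ← hn, pow_orderOf_eq_one]
  have hz : x ^ o ∈ centralizer ((T : Subgroup G) : Set G) := by
    have h1 : (x ^ o) ^ (2 ^ e) = 1 := by
      rw [← pow_mul, mul_comm, ← hn, pow_orderOf_eq_one]
    have hd : orderOf (x ^ o) ∣ 2 ^ e := orderOf_dvd_of_pow_eq_one h1
    obtain ⟨j, -, hj⟩ := (Nat.dvd_prime_pow Nat.prime_two).mp hd
    have hp : IsPGroup 2 (zpowers (x ^ o)) := IsPGroup.of_card (n := j) (by rw [Nat.card_zpowers, hj])
    have h2 := hp.inf_normalizer_sylow T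
    have h3 : x ^ o ∈ zpowers (x ^ o) ⊓ normalizer (T : Set G) :=
      ⟨mem_zpowers _, Subgroup.pow_mem _ hxN o⟩
    rw [h2] at h3
    exact hTC h3.2
  have hyC : y ∉ centralizer ((T : Subgroup G) : Set G) := by
    intro hyC
    apply hxC
    exact mem_of_pow_mem_of_pow_mem _ x (Nat.Coprime.pow_left e (Nat.coprime_two_left.mpr ho)) hyC hz
  have hyN : y ∈ normalizer ((T : Subgroup G) : Set G) := Subgroup.pow_mem _ hxN _
  have hyT : ∀ w ∈ (T : Subgroup G), y * w * y⁻¹ ∈ (T : Subgroup G) := fun w hw =>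
    (Subgroup.mem_normalizer_iff.mp hyN w).mp hw
  have hyT' : ∀ w ∈ (T : Subgroup G), y⁻¹ * w * y ∈ (T : Subgroup G) := fun w hw => by
    have := (Subgroup.mem_normalizer_iff.mp (Subgroup.inv_mem _ hyN) w).mp hw
    simpa using this
  have h24 := pow24 (T : Subgroup G) hT4 hyT hyT'
  -- `y ^ 3` centralizes `T`
  have hy3 : y ^ 3 ∈ centralizer ((T : Subgroup G) : Set G) := by
    refine Cfsg.Agent.Lib.ClassSizes.mem_of_pow_mem_of_coprime _ (y ^ 3) 8 ?_ ?_
    · have hd : orderOf (y ^ 3) ∣ o := by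
        apply orderOf_dvd_of_pow_eq_one
        rw [← pow_mul, mul_comm, pow_mul, hyo, one_pow]
      have hodd : Odd (orderOf (y ^ 3)) := Odd.of_dvd_nat ho hd
      have : Nat.Coprime 2 (orderOf (y ^ 3)) := Nat.coprime_two_left.mpr hodd
      have h8 : (8 : ℕ) = 2 ^ 3 := by norm_num
      rw [h8]
      exact Nat.Coprime.pow_left 3 this
    · rw [Subgroup.mem_centralizer_iff]
      intro w hw
      have h1 := h24 w hw
      have h2 : (y ^ 3) ^ 8 = y ^ 24 := by rw [← pow_mul]
      rw [h2]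
      calc w * y ^ 24 = (y ^ 24 * w * (y ^ 24)⁻¹) * y ^ 24 := by rw [h1]
        _ = y ^ 24 * w := by group
  have hα3 : ∀ w ∈ (T : Subgroup G), y * (y * (y * w * y⁻¹) * y⁻¹) * y⁻¹ = w := by
    intro w hw
    have h1 := Subgroup.mem_centralizer_iff.mp hy3 w hw
    have h2 : y * (y * (y * w * y⁻¹) * y⁻¹) * y⁻¹ = y ^ 3 * w * (y ^ 3)⁻¹ := by
      simp only [pow_succ, pow_zero, one_mul, mul_inv_rev, mul_assoc]
    rw [h2, ← h1]
    group
  -- a point moved by `y`
  obtain ⟨w₀, hw₀, hw₀m⟩ : ∃ w₀ ∈ (T : Subgroup G), y * w₀ * y⁻¹ ≠ w₀ := by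
    by_contra hcon
    push Not at hcon
    apply hyC
    rw [Subgroup.mem_centralizer_iff]
    intro w hw
    have := hcon w hw
    calc w * y = (y * w * y⁻¹) * y := by rw [this]
      _ = y * w := by group
  have hw₀1 : w₀ ≠ 1 := by
    rintro rfl
    simp at hw₀m
  -- the orbit of `w₀` is everything
  set w₁ := y * w₀ * y⁻¹ with hw₁
  set w₂ := y * w₁ * y⁻¹ with hw₂
  have hw₁T : w₁ ∈ (T : Subgroup G) := hyT _ hw₀
  have hw₂T : w₂ ∈ (T : Subgroup G) := hyT _ hw₁T
  have hw₁1 : w₁ ≠ 1 := by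
    intro h0
    apply hw₀1
    rw [hw₁] at h0
    have : w₀ = y⁻¹ * (y * w₀ * y⁻¹) * y := by group
    rw [this, h0]; group
  have hw₂1 : w₂ ≠ 1 := by
    intro h0
    apply hw₁1
    rw [hw₂] at h0
    have : w₁ = y⁻¹ * (y * w₁ * y⁻¹) * y := by group
    rw [this, h0]; group
  have hne01 : w₀ ≠ w₁ := fun h0 => hw₀m h0.symm
  have hne12 : w₁ ≠ w₂ := by
    intro h0
    apply hw₀m
    have h1 : y * w₀ * y⁻¹ = y * w₁ * y⁻¹ := h0
    have h2 : w₀ = w₁ := by
      have := mul_right_cancel h1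
      exact mul_left_cancel this
    exact h2.symm
  have h3cycle : y * w₂ * y⁻¹ = w₀ := hα3 w₀ hw₀
  have hne02 : w₀ ≠ w₂ := by
    intro h0
    apply hw₀m
    rw [← h3cycle, ← h0]
  have hall : ∀ v ∈ (T : Subgroup G), v ≠ 1 → v = w₀ ∨ v = w₁ ∨ v = w₂ := by
    intro v hv hv1
    by_contra hcon
    push Not at hcon
    have hF : (({1, w₀, w₁, w₂, v} : Finset G) : Set G) ⊆ ((T : Subgroup G) : Set G) := by
      intro z hz
      simp only [Finset.coe_insert, Finset.coe_singleton, Set.mem_insert_iff, Set.mem_singleton_iff] at hz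
      rcases hz with rfl | rfl | rfl | rfl | rfl
      · exact Subgroup.one_mem _
      · exact hw₀
      · exact hw₁T
      · exact hw₂T
      · exact hv
    have hc := Set.ncard_le_ncard hF (Set.toFinite _)
    rw [Set.ncard_coe_finset] at hc
    have hc5 : ({1, w₀, w₁, w₂, v} : Finset G).card = 5 := by
      rw [Finset.card_insert_of_notMem, Finset.card_insert_of_notMem, Finset.card_insert_of_notMem,
        Finset.card_insert_of_notMem, Finset.card_singleton]
      · simpa using hcon.2.2.symm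
      · simp only [Finset.mem_insert, Finset.mem_singleton, not_or]
        exact ⟨hne12, hcon.2.1.symm⟩
      · simp only [Finset.mem_insert, Finset.mem_singleton, not_or]
        exact ⟨hne01, hne02, hcon.1.symm⟩
      · simp only [Finset.mem_insert, Finset.mem_singleton, not_or]
        exact ⟨hw₀1.symm, hw₁1.symm, hw₂1.symm, hv1.symm⟩
    have hcT : Set.ncard ((T : Subgroup G) : Set G) = 4 := by
      rw [← hT4]
      exact (Nat.card_coe_set_eq _).symm
    rw [hc5, hcT] at hc
    omega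
  -- every element is conjugate to `w₀`
  have hconj : ∀ v ∈ (T : Subgroup G), v ≠ 1 → ∃ g : G, g * w₀ * g⁻¹ = v := by
    intro v hv hv1
    rcases hall v hv hv1 with rfl | rfl | rfl
    · exact ⟨1, by simp⟩
    · exact ⟨y, rfl⟩
    · exact ⟨y * y, by rw [hw₂, hw₁]; group⟩
  obtain ⟨g₁, hg₁⟩ := hconj a ha ha1
  obtain ⟨g₂, hg₂⟩ := hconj b hb hb1
  refine ⟨g₂ * g₁⁻¹, ?_⟩
  rw [← hg₁, ← hg₂]
  group

theorem exists_sylow_two_mem {G : Type*} [Group G] [Finite G] {z : G} (oz : orderOf z = 2) :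
    ∃ T : Sylow 2 G, z ∈ (T : Subgroup G) := by
  have hp : IsPGroup 2 (zpowers z) := IsPGroup.of_card (n := 1) (by rw [Nat.card_zpowers, oz, pow_one])
  obtain ⟨T, hT⟩ := hp.exists_le_sylow
  exact ⟨T, hT (mem_zpowers z)⟩

/-- all involutions are conjugate -/
theorem Data.involution_conj (h : Data G m) {t z : G} (ot : orderOf t = 2) (oz : orderOf z = 2) :
    ∃ g : G, g * t * g⁻¹ = z := by
  obtain ⟨T, hT⟩ := exists_sylow_two_mem ot
  obtain ⟨T', hT'⟩ := exists_sylow_two_mem oz
  obtain ⟨g, rfl⟩ := MulAction.exists_smul_eq G T T'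
  rw [mem_smul_sylow] at hT'
  have ht1 : t ≠ 1 := by
    rintro rfl
    rw [orderOf_one] at ot
    omega
  have hv1 : g⁻¹ * z * g ≠ 1 := by
    intro h0
    have : orderOf (g⁻¹ * z * g) = 2 := by
      have := orderOf_conj' g⁻¹ z
      rw [inv_inv] at this
      rw [this, oz]
    rw [h0, orderOf_one] at this
    omega
  obtain ⟨k, hk⟩ := h.fusion T hT ht1 hT' hv1
  refine ⟨g * k, ?_⟩
  calc g * k * t * (g * k)⁻¹ = g * (k * t * k⁻¹) * g⁻¹ := by group
    _ = z := by rw [hk]; group

theorem Data.exists_sylow_centralizing (h : Data G m) {z : G} (oz : orderOf z = 2) :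
    ∃ Q : Sylow 3 G, z ∈ centralizer ((Q : Subgroup G) : Set G) := by
  obtain ⟨P⟩ : Nonempty (Sylow 3 G) := inferInstance
  obtain ⟨t, ht, ot⟩ := h.inv_exists P
  obtain ⟨g, hg⟩ := h.involution_conj ot oz
  refine ⟨g • P, ?_⟩
  rw [mem_centralizer_smul, ← hg]
  have : g⁻¹ * (g * t * g⁻¹) * g = t := by group
  rw [this]
  exact ht

/-- Two distinct involutions have a common neighbour in the commuting graph. -/
theorem Data.exists_common (h : Data G m) {s s' : G} (os : orderOf s = 2) (os' : orderOf s' = 2)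
    (hne : s ≠ s') : ∃ z : G, orderOf z = 2 ∧ z ≠ s ∧ z ≠ s' ∧ s * z = z * s ∧ s' * z = z * s' := by
  classical
  haveI := h.simple
  have hs2 : s * s = 1 := by rw [← sq, ← os]; exact pow_orderOf_eq_one s
  have hs'2 : s' * s' = 1 := by rw [← sq, ← os']; exact pow_orderOf_eq_one s'
  have hsi : s⁻¹ = s := inv_eq_of_mul_eq_one_left hs2
  have hs'i : s'⁻¹ = s' := inv_eq_of_mul_eq_one_left hs'2
  set y := s * s' with hy
  have hyi : y⁻¹ = s' * s := by rw [hy, mul_inv_rev, hsi, hs'i]
  have hy1 : y ≠ 1 := by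
    intro h0
    apply hne
    have : s * s' = s * s := by rw [hs2]; exact h0
    exact (mul_left_cancel this).symm
  have hsy : s * y = y⁻¹ * s := by
    rw [hyi, hy]
    calc s * (s * s') = (s * s) * s' := by group
      _ = s' := by rw [hs2, one_mul]
      _ = s' * (s * s) := by rw [hs2, mul_one]
      _ = s' * s * s := by group
  have hs'y : s' * y = y⁻¹ * s' := by
    rw [hyi, hy]; group
  have hsqy : ∀ u : G, u * y = y⁻¹ * u → u * y = y * u → y ^ 2 = 1 := by
    intro u h1 h2
    have h3 : y⁻¹ * u = y * u := h1.symm.trans h2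
    have h4 : y⁻¹ = y := mul_right_cancel h3
    rw [sq]
    calc y * y = y⁻¹ * y := by rw [h4]
      _ = 1 := by group
  by_cases hd : Even (orderOf y)
  · -- even case: a power of `y`
    have h2d : 2 ∣ orderOf y := hd.two_dvd
    set e := orderOf y / 2 with he
    set z := y ^ e with hz
    have oz : orderOf z = 2 := orderOf_pow_orderOf_div (orderOf_pos y).ne' h2d
    have hz2 : z * z = 1 := by rw [← sq, ← oz]; exact pow_orderOf_eq_one z
    have hzi : z⁻¹ = z := inv_eq_of_mul_eq_one_left hz2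
    have hsz : s * z = z * s := by
      have := (show SemiconjBy s y y⁻¹ from hsy).pow_right e
      have h3 : s * y ^ e = (y⁻¹) ^ e * s := this
      rw [inv_pow, ← hz, hzi] at h3
      exact h3
    have hs'z : s' * z = z * s' := by
      have := (show SemiconjBy s' y y⁻¹ from hs'y).pow_right e
      have h3 : s' * y ^ e = (y⁻¹) ^ e * s' := this
      rw [inv_pow, ← hz, hzi] at h3
      exact h3
    have hcy : z * y = y * z := by
      rw [hz]; exact (Commute.refl y).pow_left e
    have horder2 : y ^ 2 = 1 → z = y := by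
      intro hy2
      have h3 : orderOf y ∣ 2 := orderOf_dvd_of_pow_eq_one hy2
      have h4 : orderOf y = 2 := by
        rcases (Nat.dvd_prime Nat.prime_two).mp h3 with h5 | h5
        · exact absurd (orderOf_eq_one_iff.mp h5) hy1
        · exact h5
      have h5 : e = 1 := by rw [he, h4]
      rw [hz, h5, pow_one]
    have hs1 : s ≠ 1 := by
      rintro h0
      rw [h0, orderOf_one] at os
      omega
    have hs'1 : s' ≠ 1 := by
      rintro h0
      rw [h0, orderOf_one] at os'
      omega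
    refine ⟨z, oz, ?_, ?_, hsz, hs'z⟩
    · intro hzs
      have h3 := hsqy s hsy (by rw [← hzs]; exact hcy)
      have h4 := horder2 h3
      apply hs'1
      have h5 : y = s := h4.symm.trans hzs
      have h6 : s * s' = s := h5
      exact mul_eq_left.mp h6
    · intro hzs
      have h3 := hsqy s' hs'y (by rw [← hzs]; exact hcy)
      have h4 := horder2 h3
      apply hs1
      have h5 : y = s' := h4.symm.trans hzs
      have h6 : s * s' = s' := h5
      exact mul_eq_right.mp h6
  -- odd case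
  have hdodd : Odd (orderOf y) := Nat.not_even_iff_odd.mp hd
  set D : Subgroup G := closure {s, s'} with hD
  have hsD : s ∈ D := subset_closure (by simp)
  have hs'D : s' ∈ D := subset_closure (by simp)
  have hyD : y ∈ D := D.mul_mem hsD hs'D
  have hnorm : ∀ u : G, u * y = y⁻¹ * u → u * u = 1 → u ∈ normalizer ((zpowers y : Subgroup G) : Set G) := by
    intro u hu hu2
    have hui : u⁻¹ = u := inv_eq_of_mul_eq_one_left hu2
    have hfwd : ∀ w ∈ zpowers y, u * w * u⁻¹ ∈ zpowers y := by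
      intro w hw
      obtain ⟨i, rfl⟩ := Subgroup.mem_zpowers_iff.mp hw
      have h1 := (show SemiconjBy u y y⁻¹ from hu).zpow_right i
      have h2 : u * y ^ i = y⁻¹ ^ i * u := h1
      rw [h2]
      simp only [mul_inv_cancel_right]
      exact Subgroup.zpow_mem _ (Subgroup.inv_mem _ (mem_zpowers y)) i
    rw [Subgroup.mem_normalizer_iff]
    intro w
    refine ⟨hfwd w, fun hw => ?_⟩
    have h3 := hfwd _ hw
    have h4 : u * (u * w * u⁻¹) * u⁻¹ = (u * u) * w * (u⁻¹ * u⁻¹) := by group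
    rw [h4, hui, hu2] at h3
    simpa [hu2] using h3
  have hDne : D ≠ ⊤ := by
    intro htop
    have hle : D ≤ normalizer ((zpowers y : Subgroup G) : Set G) := by
      rw [hD, closure_le]
      intro w hw
      rcases hw with rfl | rfl
      · exact hnorm _ hsy hs2
      · exact hnorm _ hs'y hs'2
    rw [htop, top_le_iff] at hle
    have hnormal : (zpowers y).Normal := Subgroup.normalizer_eq_top_iff.mp hle
    rcases IsSimpleGroup.eq_bot_or_eq_top_of_normal _ hnormal with h1 | h1
    · apply hy1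
      have : y ∈ zpowers y := mem_zpowers y
      rw [h1] at this
      exact this
    · apply h.not_comm
      intro a b
      have ha : a ∈ zpowers y := by rw [h1]; trivial
      have hb : b ∈ zpowers y := by rw [h1]; trivial
      obtain ⟨i, rfl⟩ := Subgroup.mem_zpowers_iff.mp ha
      obtain ⟨j, rfl⟩ := Subgroup.mem_zpowers_iff.mp hb
      exact (Commute.refl y).zpow_zpow i j
  have h2D : 2 ∣ Nat.card D := by
    rw [← os]
    have : orderOf (⟨s, hsD⟩ : D) ∣ Nat.card D := orderOf_dvd_natCard _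
    simpa using this
  have hD4 := h.even D hDne h2D
  have hyd : orderOf y ∣ 4 * m := by
    refine Dvd.dvd.trans ?_ hD4
    have : orderOf (⟨y, hyD⟩ : D) ∣ Nat.card D := orderOf_dvd_natCard _
    simpa using this
  obtain ⟨a, rfl, -⟩ := h.exists_pow
  have hyd3 : orderOf y ∣ 3 ^ a := by
    have hc : Nat.Coprime (orderOf y) 4 := by
      have h8 : (4 : ℕ) = 2 ^ 2 := by norm_num
      rw [h8]
      exact Nat.Coprime.pow_right 2 (Nat.coprime_two_right.mpr hdodd)
    exact hc.dvd_of_dvd_mul_left hyd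
  obtain ⟨j, -, hj⟩ := (Nat.dvd_prime_pow Nat.prime_three).mp hyd3
  have hp : IsPGroup 3 (zpowers y) := IsPGroup.of_card (n := j) (by rw [Nat.card_zpowers, hj])
  obtain ⟨Q, hQ⟩ := hp.exists_le_sylow
  have hyQ : y ∈ (Q : Subgroup G) := hQ (mem_zpowers y)
  have hyiQ : y⁻¹ ∈ (Q : Subgroup G) := Subgroup.inv_mem _ hyQ
  obtain ⟨t, ht, ot⟩ := h.inv_exists Q
  have hnorC : ∀ u : G, u * y = y⁻¹ * u →
      u ∈ normalizer ((centralizer ((Q : Subgroup G) : Set G) : Subgroup G) : Set G) := by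
    intro u hu
    by_contra hnot
    apply hy1
    refine h.ti Q u hnot y (h.le_centralizer Q hyQ) ?_
    have h3 : u * y * u⁻¹ = y⁻¹ := by rw [hu]; group
    change u * y * u⁻¹ ∈ centralizer ((Q : Subgroup G) : Set G)
    rw [h3]
    exact h.le_centralizer Q hyiQ
  have hcomm : ∀ u : G, u * y = y⁻¹ * u → u * t = t * u := fun u hu =>
    h.comm_of_mem Q ht ot ((Subgroup.mem_normalizer_iff.mp (hnorC u hu) t).mp ht)
  have hneq : ∀ u : G, u * y = y⁻¹ * u → t ≠ u := by
    rintro u hu rfl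
    have h3 : y * t = t * y := Subgroup.mem_centralizer_iff.mp ht y hyQ
    exact hy1 (h.eq_one_of_sq Q hyQ (hsqy t hu h3.symm))
  exact ⟨t, ot, hneq s hsy, hneq s' hs'y, hcomm s hsy, hcomm s' hs'y⟩

/-- Uniqueness of the common neighbour. -/
theorem Data.common_unique (h : Data G m) {s s' z₁ z₂ : G} (os : orderOf s = 2)
    (os' : orderOf s' = 2) (hne : s ≠ s') (oz₁ : orderOf z₁ = 2) (oz₂ : orderOf z₂ = 2)
    (h1s : z₁ ≠ s) (h1s' : z₁ ≠ s') (h2s : z₂ ≠ s) (h2s' : z₂ ≠ s')
    (c1s : s * z₁ = z₁ * s) (c1s' : s' * z₁ = z₁ * s')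
    (c2s : s * z₂ = z₂ * s) (c2s' : s' * z₂ = z₂ * s') : z₁ = z₂ := by
  classical
  by_contra hz
  obtain ⟨Q₁, hQ₁⟩ := h.exists_sylow_centralizing oz₁
  obtain ⟨Q₂, hQ₂⟩ := h.exists_sylow_centralizing oz₂
  set L : Subgroup G := centralizer ({z₁} : Set G) ⊓ centralizer ({z₂} : Set G) with hL
  have hmemL : ∀ x : G, x * z₁ = z₁ * x → x * z₂ = z₂ * x → x ∈ L := by
    intro x h1 h2
    refine Subgroup.mem_inf.mpr ⟨?_, ?_⟩
    · rw [Subgroup.mem_centralizer_iff]
      rintro _ rfl
      exact h1.symm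
    · rw [Subgroup.mem_centralizer_iff]
      rintro _ rfl
      exact h2.symm
  have hsL : s ∈ L := hmemL s c1s c2s
  have hs'L : s' ∈ L := hmemL s' c1s' c2s'
  have h3 : ¬ 3 ∣ Nat.card L := by
    intro h3
    obtain ⟨x, hx⟩ := exists_prime_orderOf_dvd_card' 3 h3
    have hx1 : (x : G) ^ (3 ^ 1) = 1 := by
      have : x ^ 3 = 1 := by rw [← hx]; exact pow_orderOf_eq_one x
      simpa using congrArg Subtype.val this
    have h4 := h.eq_one_of_two_inv hQ₁ oz₁ hQ₂ oz₂ hz x.2.1 x.2.2 hx1
    have h5 : x = 1 := Subtype.ext h4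
    rw [h5, orderOf_one] at hx
    omega
  have hLd : Nat.card L ∣ 4 * m := by
    have h4 : L ≤ normalizer ((Q₁ : Subgroup G) : Set G) :=
      inf_le_left.trans (h.centralizer_inv_le Q₁ hQ₁ oz₁)
    have := Subgroup.card_dvd_of_le h4
    rwa [h.cardN Q₁] at this
  obtain ⟨a, rfl, -⟩ := h.exists_pow
  have hL4 : Nat.card L ∣ 2 ^ 2 := by
    have hc : Nat.Coprime (Nat.card L) (3 ^ a) :=
      Nat.Coprime.pow_right a ((Nat.Prime.coprime_iff_not_dvd Nat.prime_three).mpr h3).symm
    have := hc.dvd_of_dvd_mul_right hLd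
    simpa using this
  obtain ⟨j, -, hj⟩ := (Nat.dvd_prime_pow Nat.prime_two).mp hL4
  have hLp : IsPGroup 2 L := IsPGroup.of_card hj
  obtain ⟨T, hT⟩ := hLp.exists_le_sylow
  have hT4 := h.card_sylow_two T
  have hsT : s ∈ (T : Subgroup G) := hT hsL
  have hs'T : s' ∈ (T : Subgroup G) := hT hs'L
  have hs1 : s ≠ 1 := by
    rintro h0
    rw [h0, orderOf_one] at os
    omega
  have hs'1 : s' ≠ 1 := by
    rintro h0
    rw [h0, orderOf_one] at os'
    omega
  -- `T` is generated by `s`, `s'`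
  set U : Subgroup G := closure {s, s'} with hU
  have hUT : U ≤ (T : Subgroup G) := by
    rw [hU, closure_le]
    intro w hw
    rcases hw with rfl | rfl
    · exact hsT
    · exact hs'T
  have hUeq : U = (T : Subgroup G) := by
    apply Subgroup.eq_of_le_of_card_ge hUT
    have hd := Subgroup.card_dvd_of_le hUT
    rw [hT4] at hd ⊢
    have hF : (({1, s, s'} : Finset G) : Set G) ⊆ (U : Set G) := by
      intro w hw
      simp only [Finset.coe_insert, Finset.coe_singleton, Set.mem_insert_iff, Set.mem_singleton_iff] at hw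
      rcases hw with rfl | rfl | rfl
      · exact Subgroup.one_mem _
      · exact subset_closure (by simp)
      · exact subset_closure (by simp)
    have hc := Set.ncard_le_ncard hF (Set.toFinite _)
    rw [Set.ncard_coe_finset, ← Nat.card_coe_set_eq] at hc
    have hc3 : ({1, s, s'} : Finset G).card = 3 := by
      rw [Finset.card_insert_of_notMem, Finset.card_insert_of_notMem, Finset.card_singleton]
      · simpa using hne
      · simp only [Finset.mem_insert, Finset.mem_singleton, not_or]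
        exact ⟨hs1.symm, hs'1.symm⟩
    rw [hc3] at hc
    have hc' : 3 ≤ Nat.card U := hc
    have h5 := Nat.le_of_dvd (by norm_num) hd
    interval_cases (Nat.card U)
    · omega
    · exact le_refl _
  -- commuting involutions lie in `T`
  have hzT : ∀ z : G, orderOf z = 2 → s * z = z * s → s' * z = z * s' → z ∈ (T : Subgroup G) := by
    intro z oz h1 h2
    have hTC : (T : Subgroup G) ≤ centralizer ({z} : Set G) := by
      rw [← hUeq, hU, closure_le]
      intro w hw
      rcases hw with rfl | rfl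
      · rw [SetLike.mem_coe, Subgroup.mem_centralizer_iff]
        rintro _ rfl
        exact h1.symm
      · rw [SetLike.mem_coe, Subgroup.mem_centralizer_iff]
        rintro _ rfl
        exact h2.symm
    have hp : IsPGroup 2 (zpowers z) := IsPGroup.of_card (n := 1) (by rw [Nat.card_zpowers, oz, pow_one])
    have h5 := hp.inf_normalizer_sylow T
    have hzN : z ∈ normalizer ((T : Subgroup G) : Set G) := by
      rw [Subgroup.mem_normalizer_iff]
      intro w
      have h6 : w ∈ (T : Subgroup G) → z * w * z⁻¹ = w := by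
        intro hw
        have := Subgroup.mem_centralizer_iff.mp (hTC hw) z rfl
        rw [this]
        group
      constructor
      · intro hw
        change z * w * z⁻¹ ∈ (T : Subgroup G)
        rw [h6 hw]
        exact hw
      · intro hw
        have hw' : z * w * z⁻¹ ∈ (T : Subgroup G) := hw
        have hw2 : w = z⁻¹ * (z * w * z⁻¹) * z := by group
        have h7 := Subgroup.mem_centralizer_iff.mp (hTC hw') z rfl
        change w ∈ (T : Subgroup G)
        rw [hw2]
        have h8 : z⁻¹ * (z * w * z⁻¹) * z = z * w * z⁻¹ := by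
          calc z⁻¹ * (z * w * z⁻¹) * z = z⁻¹ * ((z * w * z⁻¹) * z) := by group
            _ = z⁻¹ * (z * (z * w * z⁻¹)) := by rw [h7]
            _ = _ := by group
        rw [h8]
        exact hw'
    have h9 : z ∈ zpowers z ⊓ normalizer (T : Set G) := ⟨mem_zpowers z, hzN⟩
    rw [h5] at h9
    exact h9.2
  have hz₁T := hzT z₁ oz₁ c1s c1s'
  have hz₂T := hzT z₂ oz₂ c2s c2s'
  have hz₁1 : z₁ ≠ 1 := by
    rintro h0
    rw [h0, orderOf_one] at oz₁
    omega
  have hz₂1 : z₂ ≠ 1 := by
    rintro h0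
    rw [h0, orderOf_one] at oz₂
    omega
  have hF : (({1, s, s', z₁, z₂} : Finset G) : Set G) ⊆ ((T : Subgroup G) : Set G) := by
    intro w hw
    simp only [Finset.coe_insert, Finset.coe_singleton, Set.mem_insert_iff, Set.mem_singleton_iff] at hw
    rcases hw with rfl | rfl | rfl | rfl | rfl
    · exact Subgroup.one_mem _
    · exact hsT
    · exact hs'T
    · exact hz₁T
    · exact hz₂T
  have hc := Set.ncard_le_ncard hF (Set.toFinite _)
  rw [Set.ncard_coe_finset] at hc
  have hc5 : ({1, s, s', z₁, z₂} : Finset G).card = 5 := by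
    rw [Finset.card_insert_of_notMem, Finset.card_insert_of_notMem, Finset.card_insert_of_notMem,
      Finset.card_insert_of_notMem, Finset.card_singleton]
    · simpa using hz
    · simp only [Finset.mem_insert, Finset.mem_singleton, not_or]
      exact ⟨h1s'.symm, h2s'.symm⟩
    · simp only [Finset.mem_insert, Finset.mem_singleton, not_or]
      exact ⟨hne, h1s.symm, h2s.symm⟩
    · simp only [Finset.mem_insert, Finset.mem_singleton, not_or]
      exact ⟨hs1.symm, hs'1.symm, hz₁1.symm, hz₂1.symm⟩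
  have hcT : Set.ncard ((T : Subgroup G) : Set G) = 4 := by
    rw [← hT4]
    exact (Nat.card_coe_set_eq _).symm
  rw [hc5, hcT] at hc
  omega

/-- The final contradiction: the friendship theorem on the commuting graph of involutions. -/
theorem Data.false (h : Data G m) : False := by
  classical
  haveI := h.simple
  let V : Type _ := {x : G // orderOf x = 2}
  haveI : Fintype V := Fintype.ofFinite V
  obtain ⟨P⟩ : Nonempty (Sylow 3 G) := inferInstance
  obtain ⟨t, -, ot⟩ := h.inv_exists P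
  haveI : Nonempty V := ⟨⟨t, ot⟩⟩
  let Γ : SimpleGraph V :=
    { Adj := fun a b => a ≠ b ∧ a.1 * b.1 = b.1 * a.1
      symm := ⟨fun a b hab => ⟨hab.1.symm, hab.2.symm⟩⟩
      loopless := ⟨fun a ha => ha.1 rfl⟩ }
  obtain ⟨z, hz⟩ := Cfsg.Agent.Lib.Coprime.exists_politician Γ (by
    intro v w hvw
    have hvw' : v.1 ≠ w.1 := fun h0 => hvw (Subtype.ext h0)
    obtain ⟨z, oz, h1, h2, h3, h4⟩ := h.exists_common v.2 w.2 hvw'
    refine ⟨⟨z, oz⟩, ⟨⟨fun h0 => h1 (congrArg Subtype.val h0).symm, h3⟩,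
      ⟨fun h0 => h2 (congrArg Subtype.val h0).symm, h4⟩⟩, ?_⟩
    rintro ⟨z', oz'⟩ ⟨⟨h5, h6⟩, ⟨h7, h8⟩⟩
    apply Subtype.ext
    exact h.common_unique v.2 w.2 hvw' oz' oz
      (fun h0 => h5 (Subtype.ext h0.symm)) (fun h0 => h7 (Subtype.ext h0.symm)) h1 h2 h6 h8 h3 h4)
  -- `z` commutes with all involutions
  have hcomm : ∀ x : G, orderOf x = 2 → x * z.1 = z.1 * x := by
    intro x ox
    by_cases hx : z.1 = x
    · rw [hx]
    · have := (hz ⟨x, ox⟩ (fun h0 => hx (congrArg Subtype.val h0))).2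
      exact this.symm
  set I : Subgroup G := Subgroup.normalClosure {x : G | orderOf x = 2} with hI
  have hIC : I ≤ centralizer ({z.1} : Set G) := by
    rw [hI, Subgroup.normalClosure, closure_le]
    intro x hx
    obtain ⟨b, hb, hbx⟩ := Group.mem_conjugatesOfSet_iff.mp hx
    have ox : orderOf x = 2 := by
      obtain ⟨c, hc⟩ := isConj_iff.mp hbx
      rw [← hc, orderOf_conj']
      exact hb
    rw [SetLike.mem_coe, Subgroup.mem_centralizer_iff]
    rintro _ rfl
    exact (hcomm x ox).symm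
  have hzI : z.1 ∈ I := Subgroup.subset_normalClosure z.2
  have hInorm : I.Normal := Subgroup.normalClosure_normal
  rcases IsSimpleGroup.eq_bot_or_eq_top_of_normal I hInorm with h1 | h1
  · rw [h1, Subgroup.mem_bot] at hzI
    have := z.2
    rw [hzI, orderOf_one] at this
    omega
  · have : z.1 ∈ center G := by
      rw [Subgroup.mem_center_iff]
      intro g
      have hg : g ∈ centralizer ({z.1} : Set G) := hIC (by rw [h1]; trivial)
      exact (Subgroup.mem_centralizer_iff.mp hg z.1 rfl).symm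
    rw [h.center_eq_bot, Subgroup.mem_bot] at this
    have h2 := z.2
    rw [this, orderOf_one] at h2
    omega

/-- Let G be a finite group with an abelian Sylow 3-subgroup P such that the normalizer of P has order 4·#P, the centralizer C of P has order 2·#P, C meets each of its conjugates by elements outside its normalizer trivially, and every proper subgroup of G of even order has order dividing 4·#P. Then G is not simple. -/
theorem result {G : Type*} [Group G] [Finite G]
    (P : Sylow 3 G) (hab : IsMulCommutative P)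
    (hN : Nat.card (Subgroup.normalizer ((P : Subgroup G) : Set G)) = 4 * Nat.card P)
    (hC : Nat.card (Subgroup.centralizer (P : Set G)) = 2 * Nat.card P)
    (hTI : Cfsg.IsTISubset (Subgroup.centralizer (P : Set G) : Set G))
    (heven : ∀ H : Subgroup G, H ≠ ⊤ → 2 ∣ Nat.card H → Nat.card H ∣ 4 * Nat.card P) :
    ¬ IsSimpleGroup G := by
  intro hs
  have habP : ∀ a ∈ (P : Subgroup G), ∀ b ∈ (P : Subgroup G), a * b = b * a := by
    intro a ha b hb
    have := hab.is_comm.comm ⟨a, ha⟩ ⟨b, hb⟩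
    exact congrArg Subtype.val this
  have hdata : Data G (Nat.card P) := by
    refine ⟨hs, ?_, ?_, ?_, ?_, ?_, heven⟩
    · intro Q a ha b hb
      obtain ⟨g, rfl⟩ := MulAction.exists_smul_eq G P Q
      rw [mem_smul_sylow] at ha hb
      have := habP _ ha _ hb
      calc a * b = g * ((g⁻¹ * a * g) * (g⁻¹ * b * g)) * g⁻¹ := by group
        _ = g * ((g⁻¹ * b * g) * (g⁻¹ * a * g)) * g⁻¹ := by rw [this]
        _ = b * a := by group
    · intro Q
      obtain ⟨g, rfl⟩ := MulAction.exists_smul_eq G P Q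
      refine Nat.card_congr (Equiv.subtypeEquiv (MulAut.conj g⁻¹).toEquiv ?_)
      intro x
      rw [mem_smul_sylow]
      simp
    · intro Q
      have h1 := (normalizer ((Q : Subgroup G) : Set G)).index_mul_card
      have h2 := (normalizer ((P : Subgroup G) : Set G)).index_mul_card
      have h3 : (normalizer ((Q : Subgroup G) : Set G)).index
          = (normalizer ((P : Subgroup G) : Set G)).index := by
        have h4 := Q.card_eq_index_normalizer
        have h5 := P.card_eq_index_normalizer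
        exact h4.symm.trans h5
      rw [h3, ← h2] at h1
      have hpos : 0 < (normalizer ((P : Subgroup G) : Set G)).index :=
        Nat.pos_of_ne_zero Subgroup.index_ne_zero_of_finite
      rw [← hN]
      exact Nat.eq_of_mul_eq_mul_left hpos h1
    · intro Q
      obtain ⟨g, rfl⟩ := MulAction.exists_smul_eq G P Q
      rw [card_centralizer_smul]
      exact hC
    · intro Q
      obtain ⟨g, rfl⟩ := MulAction.exists_smul_eq G P Q
      exact isTI_smul g P hTI
  exact hdata.false

end Cfsg.Agent.S4018
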