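import Cfsg.Statements.S4113
import Mathlib

set_option autoImplicit false
open Cfsg

namespace Cfsg.Agent.S4113

/-- Let G be a finite group, M ≤ N non-trivial proper normal subgroups, and H a subgroup with HM = G and H ∩ M = 1. Then every element of G outside N acts fixed-point-freely on M (C_G(x) ≤ N for every x ∈ M, x ≠ 1) if and only if H ∩ gHg⁻¹ ≤ H ∩ N for every g outside H, with H proper and non-trivial and H ∩ N proper in H. -/
theorem result {G : Type*} [Group G] [Finite G] (N M : Subgroup G) [N.Normal] [M.Normal] (hMN : M ≤ N) (hM1 : M ≠ ⊥) (hN2 : N ≠ ⊤)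
    (H : Subgroup G) (hHM : H ⊔ M = ⊤) (hHM' : H ⊓ M = ⊥) :
    (∀ x ∈ M, x ≠ 1 → Subgroup.centralizer ({x} : Set G) ≤ N) ↔
      (H ≠ ⊥ ∧ H ≠ ⊤ ∧ H ⊓ N < H ∧ ∀ g : G, g ∉ H → H ⊓ H.map (MulAut.conj g).toMonoidHom ≤ N) := by
  have hdec : ∀ g : G, ∃ h ∈ H, ∃ m ∈ M, h * m = g := by
    intro g
    have hg : g ∈ H ⊔ M := by rw [hHM]; trivial
    exact Subgroup.mem_sup_of_normal_right.mp hg
  have hint : ∀ u, u ∈ H → u ∈ M → u = 1 := by
    intro u h1 h2
    have : u ∈ H ⊓ M := ⟨h1, h2⟩
    rwa [hHM', Subgroup.mem_bot] at this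
  constructor
  · intro hF
    refine ⟨?_, ?_, ?_, ?_⟩
    · rintro rfl
      apply hN2
      rw [bot_sup_eq] at hHM
      rw [eq_top_iff, ← hHM]
      exact hMN
    · rintro rfl
      apply hM1
      rwa [top_inf_eq] at hHM'
    · refine lt_of_le_of_ne inf_le_left ?_
      intro h
      apply hN2
      have hHN : H ≤ N := by
        rw [← h]; exact inf_le_right
      rw [eq_top_iff, ← hHM]
      exact sup_le hHN hMN
    · intro g hg y hy
      obtain ⟨hy1, z, hz, hzy⟩ := hy
      obtain ⟨h, hh, m, hm, rfl⟩ := hdec g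
      have hm1 : m ≠ 1 := by
        rintro rfl
        apply hg
        simpa using hh
      have hzy' : (h * m) * z * (h * m)⁻¹ = y := hzy
      -- `y' = h⁻¹ y h` commutes with `m`
      set y' := h⁻¹ * y * h with hy'
      have hy'H : y' ∈ H := H.mul_mem (H.mul_mem (H.inv_mem hh) hy1) hh
      have h1 : y' = m * z * m⁻¹ := by
        rw [hy', ← hzy']; group
      have h2 : y'⁻¹ * z ∈ H := H.mul_mem (H.inv_mem hy'H) hz
      have h3 : y'⁻¹ * z ∈ M := by
        have : y'⁻¹ * z = m * z⁻¹ * m⁻¹ * z := by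
          rw [h1]; group
        rw [this]
        have h4 : m * z⁻¹ * m⁻¹ * z = m * (z⁻¹ * m⁻¹ * z⁻¹⁻¹) := by group
        rw [h4]
        exact M.mul_mem hm (‹M.Normal›.conj_mem _ (M.inv_mem hm) _)
      have h4 : y' = z := by
        have := hint _ h2 h3
        rw [inv_mul_eq_one] at this
        exact this
      have hcm : m * y' = y' * m := by
        have h8 : y' = m * y' * m⁻¹ := by
          conv_rhs => rw [h4]
          exact h1
        calc m * y' = (m * y' * m⁻¹) * m := by group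
          _ = y' * m := by rw [← h8]
      have h5 : y' ∈ Subgroup.centralizer ({m} : Set G) := by
        rw [Subgroup.mem_centralizer_iff]
        intro w hw
        rw [Set.mem_singleton_iff.mp hw]
        exact hcm
      have h6 : y' ∈ N := hF m hm hm1 h5
      have h7 : y = h * y' * h⁻¹ := by
        rw [hy']; group
      rw [h7]
      exact ‹N.Normal›.conj_mem _ h6 h
  · rintro ⟨-, -, -, hF⟩ x hx hx1 y hy
    by_contra hyN
    obtain ⟨h, hh, m, hm, rfl⟩ := hdec y
    have hhN : h ∉ N := by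
      intro hhN
      exact hyN (N.mul_mem hhN (hMN hm))
    -- `C_M(h) = 1`
    have hC : ∀ u ∈ M, u * h = h * u → u = 1 := by
      intro u hu hcomm
      by_contra hu1
      apply hhN
      have hgu : u ∉ H := fun hh' => hu1 (hint u hh' hu)
      apply hF u hgu
      refine ⟨hh, h, hh, ?_⟩
      change u * h * u⁻¹ = h
      rw [hcomm]; group
    -- the commutator map is injective on `M`
    let φ : M → M := fun u => ⟨u.1⁻¹ * (h * u.1 * h⁻¹), M.mul_mem (M.inv_mem u.2) (‹M.Normal›.conj_mem _ u.2 _)⟩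
    have hφi : Function.Injective φ := by
      intro u v huv
      have h1 : u.1⁻¹ * (h * u.1 * h⁻¹) = v.1⁻¹ * (h * v.1 * h⁻¹) := congrArg Subtype.val huv
      have h2 : (v.1 * u.1⁻¹) * h = h * (v.1 * u.1⁻¹) := by
        have h3 : u.1⁻¹ * h * u.1 = v.1⁻¹ * h * v.1 := by
          have := congrArg (· * h) h1
          simpa [mul_assoc] using this
        calc (v.1 * u.1⁻¹) * h = v.1 * (u.1⁻¹ * h * u.1) * u.1⁻¹ := by group
          _ = v.1 * (v.1⁻¹ * h * v.1) * u.1⁻¹ := by rw [h3]
          _ = h * (v.1 * u.1⁻¹) := by group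
      have h3 := hC _ (M.mul_mem v.2 (M.inv_mem u.2)) h2
      rw [mul_inv_eq_one] at h3
      exact Subtype.ext h3.symm
    have hφs : Function.Surjective φ := Finite.surjective_of_injective hφi
    -- write `y = m' h`, then `y = u⁻¹ h u`
    have hm' : h * m * h⁻¹ ∈ M := ‹M.Normal›.conj_mem _ hm _
    obtain ⟨u, hu⟩ := hφs ⟨_, hm'⟩
    have hu' : u.1⁻¹ * (h * u.1 * h⁻¹) = h * m * h⁻¹ := congrArg Subtype.val hu
    have hy2 : h * m = u.1⁻¹ * h * u.1 := by
      have := congrArg (· * h) hu'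
      simp only [mul_assoc, inv_mul_cancel, mul_one] at this
      rw [← this, mul_assoc]
    have hcomm : (h * m) * x = x * (h * m) := by
      have := Subgroup.mem_centralizer_iff.mp hy x rfl
      exact this.symm
    rw [hy2] at hcomm
    -- `u x u⁻¹` commutes with `h`
    have hux : u.1 * x * u.1⁻¹ ∈ M := ‹M.Normal›.conj_mem _ hx _
    have h3 : (u.1 * x * u.1⁻¹) * h = h * (u.1 * x * u.1⁻¹) := by
      calc (u.1 * x * u.1⁻¹) * h = u.1 * (x * (u.1⁻¹ * h * u.1)) * u.1⁻¹ := by group
        _ = u.1 * ((u.1⁻¹ * h * u.1) * x) * u.1⁻¹ := by rw [hcomm]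
        _ = h * (u.1 * x * u.1⁻¹) := by group
    have h5 := hC _ hux h3
    apply hx1
    have : x = u.1⁻¹ * (u.1 * x * u.1⁻¹) * u.1 := by group
    rw [this, h5]; group

end Cfsg.Agent.S4113
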