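import Cfsg.Statements.S4194
import Cfsg.Agent.Lib.CamHer.Main
import Cfsg.Agent.Lib.Fusion.Group
import Mathlib

set_option autoImplicit false
open Cfsg

namespace Cfsg.Agent.S4194

theorem conj_mem_of_smul_eq {G : Type*} [Group G] {P Q : Sylow 2 G} {g : G} (hg : g • P = Q) {y : G}
    (hy : y ∈ (P : Subgroup G)) : g * y * g⁻¹ ∈ (Q : Subgroup G) := by
  rw [← hg, Sylow.coe_subgroup_smul, Subgroup.mem_smul_pointwise_iff_exists]
  exact ⟨y, hy, by simp [MulAut.smul_def, MulAut.conj_apply]⟩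

theorem conj_mem_of_smul_eq' {G : Type*} [Group G] {P Q : Sylow 2 G} {g : G} (hg : g • P = Q) {y : G}
    (hy : y ∈ (Q : Subgroup G)) : g⁻¹ * y * g ∈ (P : Subgroup G) := by
  rw [← hg, Sylow.coe_subgroup_smul, Subgroup.mem_smul_pointwise_iff_exists] at hy
  obtain ⟨s, hs, rfl⟩ := hy
  have : g⁻¹ * (MulAut.conj g • s) * g = s := by
    simp [MulAut.smul_def, MulAut.conj_apply, mul_assoc]
  rw [this]
  exact hs

/-- A finite group G has commutative Sylow 2-subgroups if and only if every 2-element of G (element of order a power of 2) is 2-central, that is, its centralizer contains a Sylow 2-subgroup of G. -/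
theorem result {G : Type*} [Group G] [Finite G] (P : Sylow 2 G) :
    IsMulCommutative (P : Subgroup G) ↔ ∀ x : G, (∃ k : ℕ, orderOf x = 2 ^ k) → (∃ Q : Sylow 2 G, (Q : Subgroup G) ≤ Subgroup.centralizer ({x} : Set G)) := by
  haveI : Fact (Nat.Prime 2) := ⟨Nat.prime_two⟩
  constructor
  · rintro hab x ⟨k, hk⟩
    have hx : IsPGroup 2 (Subgroup.zpowers x) := by
      apply IsPGroup.of_card (n := k)
      rw [Nat.card_zpowers, hk]
    obtain ⟨Q, hQ⟩ := hx.exists_le_sylow
    refine ⟨Q, ?_⟩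
    have hxQ : x ∈ (Q : Subgroup G) := hQ (Subgroup.mem_zpowers x)
    obtain ⟨g, hg⟩ := MulAction.exists_smul_eq G P Q
    intro y hy
    rw [Subgroup.mem_centralizer_singleton_iff]
    have h1 := conj_mem_of_smul_eq' hg hy
    have h2 := conj_mem_of_smul_eq' hg hxQ
    have hc : (⟨g⁻¹ * y * g, h1⟩ : (P : Subgroup G)) * ⟨g⁻¹ * x * g, h2⟩ = ⟨g⁻¹ * x * g, h2⟩ * ⟨g⁻¹ * y * g, h1⟩ :=
      hab.is_comm.comm _ _
    have hc' : g⁻¹ * y * g * (g⁻¹ * x * g) = g⁻¹ * x * g * (g⁻¹ * y * g) := congrArg Subtype.val hc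
    have e1 : g⁻¹ * y * g * (g⁻¹ * x * g) = g⁻¹ * (y * x) * g := by group
    have e2 : g⁻¹ * x * g * (g⁻¹ * y * g) = g⁻¹ * (x * y) * g := by group
    rw [e1, e2] at hc'
    exact mul_left_cancel (mul_right_cancel hc')
  · intro h
    have hS : IsPGroup 2 (P : Subgroup G) := P.isPGroup'
    have hF : (groupFusionSystem (P : Subgroup G)).IsSaturated 2 := by
      rw [Cfsg.Agent.Lib.Fusion.groupFusionSystem_eq]
      exact Cfsg.Agent.Lib.Fusion.isSaturated_fH le_top (Cfsg.Agent.Lib.Fusion.isSylowIn_of_sylow P)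
    refine Cfsg.Agent.Lib.CamHer.abelian_of_conj_center hS hF fun x hx => ?_
    have hpx : IsPGroup 2 (Subgroup.zpowers x) :=
      hS.to_le (Subgroup.zpowers_le.2 hx)
    have h2 : ∃ k : ℕ, orderOf x = 2 ^ k := by
      obtain ⟨k, hk⟩ := hS ⟨x, hx⟩
      have hk' : x ^ 2 ^ k = 1 := by
        have := congrArg Subtype.val hk
        simpa using this
      obtain ⟨j, -, hj⟩ := (Nat.dvd_prime_pow Nat.prime_two).1 (orderOf_dvd_of_pow_eq_one hk')
      exact ⟨j, hj⟩
    obtain ⟨Q, hQ⟩ := h x h2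
    have hxN : x ∈ Subgroup.normalizer ((Q : Subgroup G) : Set G) := by
      rw [Subgroup.mem_normalizer_iff]
      intro y
      have hc : ∀ y ∈ (Q : Subgroup G), y * x = x * y := fun y hy =>
        (Subgroup.mem_centralizer_singleton_iff).1 (hQ hy)
      constructor
      · intro hy
        have : x * y * x⁻¹ = y := by rw [← hc y hy]; group
        rwa [this]
      · intro hy
        have h3 := hc _ hy
        have h5 : y = x * y * x⁻¹ := by
          have e : x * y * x⁻¹ * x = x * y := by group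
          rw [e] at h3
          exact mul_left_cancel h3
        rwa [h5]
    have hxQ : x ∈ (Q : Subgroup G) := by
      have hinf := hpx.inf_normalizer_sylow Q
      have : x ∈ Subgroup.zpowers x ⊓ Subgroup.normalizer ((Q : Subgroup G) : Set G) := ⟨Subgroup.mem_zpowers x, hxN⟩
      have h6 : x ∈ Subgroup.zpowers x ⊓ (Q : Subgroup G) := hinf ▸ this
      exact h6.2
    obtain ⟨g, hg⟩ := MulAction.exists_smul_eq G Q P
    refine ⟨g * x * g⁻¹, ⟨conj_mem_of_smul_eq hg hxQ, ?_⟩, ?_⟩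
    · show g * x * g⁻¹ ∈ Subgroup.centralizer ((P : Subgroup G) : Set G)
      rw [Subgroup.mem_centralizer_iff]
      intro y hy
      have hy1 := conj_mem_of_smul_eq' hg hy
      have hc := (Subgroup.mem_centralizer_singleton_iff).1 (hQ hy1)
      have : y * (g * x * g⁻¹) = g * (g⁻¹ * y * g * x) * g⁻¹ := by group
      rw [this, hc]
      group
    · refine ⟨conjHom _ g, ⟨Subgroup.zpowers_le.2 hx, fun y => ?_, g, fun _ => rfl⟩, rfl⟩
      have hy : (y : G) ∈ (Q : Subgroup G) := Subgroup.zpowers_le.2 hxQ y.2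
      exact conj_mem_of_smul_eq hg hy

end Cfsg.Agent.S4194
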