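import Cfsg.Statements.S4302
import Cfsg.Agent.Lib.OffBound.Rep
import Mathlib
import Mathlib

set_option autoImplicit false
open Cfsg
open Subgroup Cfsg.Agent.Lib.OffBound Cfsg.Agent.Lib.Offender Cfsg.Agent.Lib.Core
open Cfsg.Agent.Lib.FrobThm (AA JJ EA AA_map)

namespace Cfsg.Agent.S4302

/-- Let `X` be a finite solvable group whose Fitting subgroup is a 2-group (equivalently `F(X) = O₂(X)`), `T` a Sylow 2-subgroup of `X`, `J(T)` the subgroup generated by the abelian subgroups of `T` of largest order, `C` the largest normal subgroup of `X` centralizing the centre `Z(T)`, and `Y` the normal closure of `J(T)` in `X`. Then `X = C · Y · N_X(J(T))`, and either `Y ≤ C`, or `CY/C` is isomorphic to a direct product of at least one copy of the symmetric group of degree 3. -/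
theorem result {X : Type*} [Group X] [Finite X]
    [Group.IsSolvable X] (hF : Cfsg.fittingSubgroup X = Cfsg.pCore 2 X) (T : Sylow 2 X) :
    ((Subgroup.centralizer (((T : Subgroup X) ⊓ Subgroup.centralizer ((T : Subgroup X) : Set X) : Subgroup X) : Set X)).normalCore
        ⊔ Subgroup.normalClosure (Cfsg.thompsonSubgroupAOf (T : Subgroup X) : Set X)
        ⊔ Subgroup.normalizer (Cfsg.thompsonSubgroupAOf (T : Subgroup X) : Set X) = ⊤) ∧
    (Subgroup.normalClosure (Cfsg.thompsonSubgroupAOf (T : Subgroup X) : Set X)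
        ≤ (Subgroup.centralizer (((T : Subgroup X) ⊓ Subgroup.centralizer ((T : Subgroup X) : Set X) : Subgroup X) : Set X)).normalCore
      ∨ ∃ n : ℕ, 1 ≤ n ∧
        Nonempty (↥(Subgroup.normalClosure (Cfsg.thompsonSubgroupAOf (T : Subgroup X) : Set X)) ⧸
            ((Subgroup.centralizer (((T : Subgroup X) ⊓ Subgroup.centralizer ((T : Subgroup X) : Set X) : Subgroup X) : Set X)).normalCore).subgroupOf
              (Subgroup.normalClosure (Cfsg.thompsonSubgroupAOf (T : Subgroup X) : Set X))
          ≃* (Fin n → Equiv.Perm (Fin 3)))) := by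
  classical
  rw [Cfsg.Agent.Lib.FrobThm.thompsonSubgroupAOf_eq_JJ]
  set P : Subgroup X := (T : Subgroup X) with hP
  set e := Nat.card X with he
  set J := JJ e P with hJ
  set Y := normalClosure (J : Set X) with hY
  set Z : Subgroup X := P ⊓ centralizer (P : Set X) with hZ
  set C := (centralizer (Z : Set X)).normalCore with hC
  haveI hYn : Y.Normal := normalClosure_normal
  haveI hCn : C.Normal := inferInstance
  refine ⟨?_, ?_⟩
  · rw [eq_top_iff, ← frattini_JJ e T]
    apply sup_le
    · exact le_sup_of_le_left le_sup_right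
    · exact le_sup_right
  -- the module
  set R := pCore 2 X with hR
  have hCR : centralizer (R : Set X) ≤ R := by
    rw [← hF]
    exact Cfsg.Agent.Lib.Geo.centralizer_fitting_le_of_solvable
  have hRP : R ≤ P := pCore_le_sylow T
  have hZCR : Z ≤ centralizer (R : Set X) := by
    intro z hz
    rw [mem_centralizer_iff]
    intro r hr
    exact (mem_centralizer_iff.mp hz.2 r (hRP hr))
  set W := normalClosure (Z : Set X) with hW
  haveI hWn : W.Normal := normalClosure_normal
  have hWCR : W ≤ centralizer (R : Set X) := normalClosure_le_normal hZCR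
  have hWR : W ≤ R := normalClosure_le_normal (hZCR.trans hCR)
  have hcW : ∀ a ∈ W, ∀ b ∈ W, a * b = b * a := fun a ha b hb => mem_centralizer_iff.mp (hWCR hb) a (hWR ha)
  have hWE : EA e W := ⟨hcW, fun a _ => pow_card_eq_one'⟩
  have hW2 : IsPGroup 2 W := (pCore_isPGroup (p := 2) (G := X)).to_le hWR
  have hWP : W ≤ P := hWR.trans hRP
  have hCW : C = centralizer (W : Set X) := by
    apply le_antisymm
    · have h1 : W ≤ centralizer (C : Set X) := by
        apply normalClosure_le_normal
        intro z hz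
        rw [SetLike.mem_coe, mem_centralizer_iff]
        intro c hc
        exact (mem_centralizer_iff.mp (normalCore_le _ hc) z hz).symm
      intro c hc
      rw [mem_centralizer_iff]
      intro w hw
      exact (mem_centralizer_iff.mp (h1 hw) c hc).symm
    · apply normal_le_normalCore.mpr
      exact Subgroup.centralizer_le subset_normalClosure
  have hOW : pCore 2 (X ⧸ centralizer (W : Set X)) = ⊥ := pCore_quot_bot T _ hCW.symm
  set V := om1 W hcW with hV
  haveI hVn : V.Normal := om1_normal hcW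
  have hVW : V ≤ W := fun v hv => hv.1
  have hCV : centralizer (V : Set X) = centralizer (W : Set X) :=
    le_antisymm (centralizer_om1_le hcW hW2 hOW) (Subgroup.centralizer_le hVW)
  have hO : pCore 2 (X ⧸ centralizer (V : Set X)) = ⊥ := pCore_quot_bot T _ (hCV.trans hCW.symm)
  have hsep : IsPSolvable 2 X := Cfsg.Agent.Lib.CharExtra.isPSolvable_of_isSolvable 2 X
  obtain ⟨M, _, _, _, ρ, hinj, ⟨Rr⟩⟩ := exists_qreal V (om1_ea W hcW)
  have hBO : ∀ g : X, ∀ A ∈ AA e P, BO ρ ((A.map (MulAut.conj g).toMonoidHom).map (piC V)) := by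
    intro g A hA
    refine bo_map (W := W) (P₁ := P.map (MulAut.conj g).toMonoidHom) (e := e) hsep hO Rr hinj hCV hWE ?_
      ((T.isPGroup').map _) (AA_map (MulAut.conj g).toMonoidHom (MulAut.conj g).injective.injOn hA) hVW
    intro w hw
    refine ⟨g⁻¹ * w * g, hWP ?_, ?_⟩
    · have := hWn.conj_mem w hw g⁻¹
      simpa using this
    · show g * (g⁻¹ * w * g) * g⁻¹ = w
      group
  have hgen := gen_top hBO
  set Yb := Y.map (piC V) with hYb
  haveI hYbn : (pPrimeCore 2 ↥Yb).Normal := pPrimeCore_normal 2 _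
  have hinj' : Function.Injective (ρ.comp Yb.subtype) := hinj.comp Yb.subtype_injective
  have hOp : (Nat.card (pPrimeCore 2 ↥Yb)).Coprime 2 := pPrimeCore_coprime 2 _
  have hΓ : IsPSolvable 2 (X ⧸ centralizer (V : Set X)) :=
    Cfsg.Agent.Lib.Fusion.isPSolvable_of_surjective Nat.prime_two (piC V) (QuotientGroup.mk'_surjective _) hsep
  have hJs : IsPSolvable 2 ↥Yb := Cfsg.Agent.Lib.GS1.isPSolvable_subgroup Nat.prime_two hΓ Yb
  haveI hYbN : Yb.Normal := Subgroup.Normal.map hYn _ (QuotientGroup.mk'_surjective _)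
  have hOJ : pCore 2 ↥Yb = ⊥ := by
    have h1 := map_pCore_of_normal (p := 2) Yb
    rw [hO, inf_bot_eq] at h1
    exact (Subgroup.map_eq_bot_iff_of_injective _ Yb.subtype_injective).mp h1
  have hCJ := Cfsg.Agent.Lib.PGroup.AxLemma.centralizer_pPrimeCore_le
    (Cfsg.Agent.Lib.PSolv.pStep_of_isPSolvable Nat.prime_two hJs) hOJ
  have hFam := fam_of_gen hinj' hOp hCJ hgen
  obtain ⟨n, ⟨eqv⟩⟩ := iso_of_fam hinj' hOp hFam
  -- the quotient
  by_cases hYC : Y ≤ C
  · exact Or.inl hYC
  right
  let f₀ : ↥Y →* ↥Yb := ((piC V).comp Y.subtype).codRestrict Yb (fun y => ⟨y, y.2, rfl⟩)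
  have hf₀s : Function.Surjective f₀ := by
    rintro ⟨_, y, hy, rfl⟩
    exact ⟨⟨y, hy⟩, rfl⟩
  have hkerπ : ∀ y : X, piC V y = 1 ↔ y ∈ C := by
    intro y
    rw [← MonoidHom.mem_ker, ker_piC, hCV, hCW]
  have hn : 1 ≤ n := by
    by_contra hn0
    have hn00 : n = 0 := by omega
    subst hn00
    apply hYC
    intro y hy
    rw [← hkerπ]
    have h1 : (⟨piC V y, y, hy, rfl⟩ : ↥Yb) = 1 := eqv.injective (Subsingleton.elim _ _)
    exact congrArg Subtype.val h1
  let f : ↥Y →* (Fin n → Equiv.Perm (Fin 3)) := eqv.toMonoidHom.comp f₀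
  have hfs : Function.Surjective f := eqv.surjective.comp hf₀s
  have hfk : f.ker = C.subgroupOf Y := by
    ext y
    rw [MonoidHom.mem_ker, Subgroup.mem_subgroupOf, ← hkerπ]
    constructor
    · intro h
      have h2 : f₀ y = 1 := eqv.injective (by rw [map_one]; exact h)
      exact congrArg Subtype.val h2
    · intro h
      have h2 : f₀ y = 1 := Subtype.ext h
      show eqv (f₀ y) = 1
      rw [h2, map_one]
  obtain ⟨hnn, ⟨iso⟩⟩ := exists_quot_iso f hfs (C.subgroupOf Y) hfk
  exact ⟨n, hn, ⟨iso⟩⟩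

end Cfsg.Agent.S4302
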