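import Cfsg.Statements.S4347
import Mathlib
import Cfsg.Agent.Lib.ClassSizes.Basic

set_option autoImplicit false
open Cfsg

namespace Cfsg.Agent.S4347

open Cfsg.Agent.Lib.ClassSizes in
/-- Let G be a finite group and p a prime. Say a Sylow p-subgroup Q is redundant when every element of p-power order lies in some Sylow p-subgroup other than Q. Then G has no redundant Sylow p-subgroup if and only if some element of p-power order lies in exactly one Sylow p-subgroup. -/
theorem result {G : Type*} [Group G] [Finite G]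
    (p : ℕ) [Fact p.Prime] :
    (¬ ∃ Q : Sylow p G, ∀ x : G, (∃ k : ℕ, orderOf x = p ^ k) → ∃ P : Sylow p G, P ≠ Q ∧ x ∈ P) ↔
      ∃ x : G, (∃ k : ℕ, orderOf x = p ^ k) ∧ ∃! P : Sylow p G, x ∈ P := by
  constructor
  · intro h
    obtain ⟨Q⟩ : Nonempty (Sylow p G) := inferInstance
    push Not at h
    obtain ⟨x, hx, hQ⟩ := h Q
    refine ⟨x, hx, ?_⟩
    obtain ⟨R, hR⟩ := exists_sylow_mem_of_orderOf (p := p) hx
    refine ⟨R, hR, fun S hS => ?_⟩
    by_contra hne
    have hSQ : S = Q := by
      by_contra hSQ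
      exact hQ S hSQ hS
    have hRQ : R = Q := by
      by_contra hRQ
      exact hQ R hRQ hR
    exact hne (hSQ.trans hRQ.symm)
  · rintro ⟨x, hx, P, hP, huniq⟩ ⟨Q, hQ⟩
    obtain ⟨g, rfl⟩ := MulAction.exists_smul_eq G P Q
    have hy : g * x * g⁻¹ ∈ g • P := by
      rw [mem_sylow_smul_iff]
      simpa [mul_assoc] using hP
    have hord : ∃ k : ℕ, orderOf (g * x * g⁻¹) = p ^ k := by
      obtain ⟨k, hk⟩ := hx
      refine ⟨k, ?_⟩
      rw [← hk]
      have := (MulAut.conj g).orderOf_eq x
      simpa [MulAut.conj_apply] using this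
    obtain ⟨R, hR1, hR2⟩ := hQ _ hord
    have hmem : x ∈ g⁻¹ • R := by
      rw [mem_sylow_smul_iff]
      simpa [mul_assoc] using hR2
    have h1 := huniq _ hmem
    apply hR1
    rw [← h1]
    simp

end Cfsg.Agent.S4347
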