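import Cfsg.Statements.S4348
import Mathlib
import Cfsg.Agent.Lib.ClassSizes.Basic
import Cfsg.Agent.Lib.Core.Basic

set_option autoImplicit false
open Cfsg

namespace Cfsg.Agent.S4348

open Cfsg.Agent.Lib.ClassSizes in
/-- Let G be a finite group, p a prime and P a Sylow p-subgroup of G, and let O_p(G) be the largest normal p-subgroup of G. If P/O_p(G) is cyclic, then some element of p-power order of G lies in exactly one Sylow p-subgroup. -/
theorem result {G : Type*} [Group G] [Finite G]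
    (p : ℕ) [Fact p.Prime] (P : Sylow p G)
    [hn : ((Cfsg.pCore p G).subgroupOf (P : Subgroup G)).Normal]
    (hc : IsCyclic ((P : Subgroup G) ⧸ (Cfsg.pCore p G).subgroupOf (P : Subgroup G))) :
    ∃ x : G, (∃ k : ℕ, orderOf x = p ^ k) ∧ ∃! Q : Sylow p G, x ∈ Q := by
  obtain ⟨y, hy⟩ := hc.exists_generator
  obtain ⟨y, rfl⟩ := QuotientGroup.mk_surjective y
  refine ⟨(y : G), exists_orderOf_eq_prime_pow_of_mem P.isPGroup' y.2, P, y.2, fun Q hQ => ?_⟩
  have hle : (P : Subgroup G) ≤ Q := by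
    intro z hz
    obtain ⟨k, hk⟩ := Subgroup.mem_zpowers_iff.mp (hy (((⟨z, hz⟩ : (P : Subgroup G))) : (P : Subgroup G) ⧸ _))
    have h1 : (⟨z, hz⟩ : (P : Subgroup G))⁻¹ * y ^ k ∈ (Cfsg.pCore p G).subgroupOf (P : Subgroup G) := by
      apply QuotientGroup.eq.mp
      rw [← hk]
      simp
    rw [Subgroup.mem_subgroupOf] at h1
    have h2 : z⁻¹ * (y : G) ^ k ∈ (Q : Subgroup G) :=
      Cfsg.Agent.Lib.Core.pCore_le_sylow Q (by simpa using h1)
    have h3 : (y : G) ^ k ∈ (Q : Subgroup G) := Subgroup.zpow_mem _ hQ k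
    have h4 : z = (y : G) ^ k * (z⁻¹ * (y : G) ^ k)⁻¹ := by group
    rw [h4]
    exact Subgroup.mul_mem _ h3 (Subgroup.inv_mem _ h2)
  have := P.is_maximal' Q.isPGroup' hle
  exact Sylow.ext this

end Cfsg.Agent.S4348
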