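import Cfsg.Statements.S4355
import Cfsg.Agent.S4194
import Mathlib

set_option autoImplicit false
open Cfsg

namespace Cfsg.Agent.S4355

/-- If every element of 2-power order of a finite group has a conjugacy class of odd size, then the Sylow 2-subgroups of the group are abelian. -/
theorem result {G : Type*} [Group G] [Finite G]
    (h : ∀ x : G, (∃ k : ℕ, orderOf x = 2 ^ k) → ¬ 2 ∣ (Subgroup.centralizer ({x} : Set G)).index) (P : Sylow 2 G) :
    IsMulCommutative P := by
  haveI : Fact (Nat.Prime 2) := ⟨Nat.prime_two⟩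
  refine (Cfsg.Agent.S4194.result P).2 fun x hx => ?_
  have hi := h x hx
  set C := Subgroup.centralizer ({x} : Set G) with hC
  obtain ⟨R⟩ : Nonempty (Sylow 2 C) := inferInstance
  have hp : IsPGroup 2 (R.1.map C.subtype) := R.isPGroup'.map _
  have hidx : ¬ 2 ∣ (R.1.map C.subtype).index := by
    rw [Subgroup.index_map_subtype]
    intro hd
    rcases (Nat.Prime.dvd_mul Nat.prime_two).1 hd with hd | hd
    · exact R.not_dvd_index hd
    · exact hi hd
  refine ⟨hp.toSylow hidx, ?_⟩
  rw [IsPGroup.toSylow_coe]
  exact Subgroup.map_subtype_le _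

end Cfsg.Agent.S4355
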