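import Cfsg.Statements.S4394
import Mathlib
import Cfsg.Agent.Lib.ClassSizes.SchF
import Cfsg.Agent.Lib.PGroup.PLength
import Cfsg.Agent.Lib.PSolv.Basic

set_option autoImplicit false
open Cfsg

namespace Cfsg.Agent.S4394

/-- Let X be a finite minimal non-nilpotent group (not nilpotent, every proper subgroup nilpotent) with a nontrivial normal Sylow p-subgroup P. If G is a finite p-solvable group whose Sylow p-subgroups are isomorphic to P, then G has p-length at most 1. -/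
theorem result {G X : Type*} [Group G] [Finite G] [Group X] [Finite X] (p : ℕ) [Fact p.Prime]
    (hX : Cfsg.IsMinimalNonNilpotent X) (P : Sylow p X) (hPn : (P : Subgroup X).Normal) (hP1 : (P : Subgroup X) ≠ ⊥)
    (hG : Cfsg.IsPSolvable p G) (Q : Sylow p G) (hQ : Nonempty (↥(Q : Subgroup G) ≃* ↥(P : Subgroup X))) : Cfsg.PLengthLE p 1 G := by
  classical
  have hp : p.Prime := Fact.out
  have hstep := Cfsg.Agent.Lib.PSolv.pStep_of_isPSolvable hp hG
  obtain ⟨q, σ, hσ⟩ := Cfsg.Agent.Lib.ClassSizes.Sch.schAut_of_minimal hX P hPn hP1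
  obtain ⟨e₀⟩ := hQ
  have hπs : Function.Surjective (QuotientGroup.mk' (Cfsg.pPrimeCore p G)) := QuotientGroup.mk'_surjective _
  let T : Sylow p (G ⧸ Cfsg.pPrimeCore p G) := Sylow.mapSurjective hπs Q
  have hTc : (T : Subgroup (G ⧸ Cfsg.pPrimeCore p G)) =
      (Q : Subgroup G).map (QuotientGroup.mk' (Cfsg.pPrimeCore p G)) := Sylow.coe_mapSurjective hπs Q
  let f : (Q : Subgroup G) →* G ⧸ Cfsg.pPrimeCore p G :=
    (QuotientGroup.mk' (Cfsg.pPrimeCore p G)).comp (Q : Subgroup G).subtype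
  have hfinj : Function.Injective f := by
    rw [injective_iff_map_eq_one]
    intro x hx
    have h1 : (x : G) ∈ Cfsg.pPrimeCore p G := (QuotientGroup.eq_one_iff _).mp hx
    have h2 := Cfsg.Agent.Lib.Core.pPrimeCore_coprime p G
    have h3 : (⟨x, h1⟩ : Cfsg.pPrimeCore p G) ^ Nat.card (Cfsg.pPrimeCore p G) = 1 := pow_card_eq_one'
    have h4 : (x : G) ^ Nat.card (Cfsg.pPrimeCore p G) = 1 := by
      have e : ((⟨x, h1⟩ : Cfsg.pPrimeCore p G) ^ Nat.card (Cfsg.pPrimeCore p G) : Cfsg.pPrimeCore p G).1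
          = (x : G) ^ Nat.card (Cfsg.pPrimeCore p G) := rfl
      rw [← e, h3]
      rfl
    obtain ⟨k, hk⟩ := Q.isPGroup' x
    have h5 : (x : G) ^ p ^ k = 1 := by simpa using congrArg Subtype.val hk
    have h6 := pow_gcd_eq_one.mpr ⟨h4, h5⟩
    rw [Nat.Coprime.pow_right k h2, pow_one] at h6
    exact Subtype.ext h6
  have hfr : f.range = (T : Subgroup (G ⧸ Cfsg.pPrimeCore p G)) := by
    rw [hTc, MonoidHom.range_comp, Subgroup.range_subtype]
  let e : (Q : Subgroup G) ≃* (T : Subgroup (G ⧸ Cfsg.pPrimeCore p G)) :=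
    (MonoidHom.ofInjective hfinj).trans (MulEquiv.subgroupCongr hfr)
  have hσT := hσ.transport (e.symm.trans e₀)
  have hSL := Cfsg.Agent.Lib.ClassSizes.Sch.SL_of_schAut hσT
  have hle := Cfsg.Agent.Lib.ClassSizes.Sch.core_normal (hstep.quotient _)
    (Cfsg.Agent.Lib.Core.pPrimeCore_quotient_eq_bot (p := p) (G := G)) T hSL
  apply Cfsg.Agent.Lib.PGroup.plength_one_of_core
  have hE : Cfsg.pCore p (G ⧸ Cfsg.pPrimeCore p G) = (T : Subgroup (G ⧸ Cfsg.pPrimeCore p G)) :=
    le_antisymm (Cfsg.Agent.Lib.Core.pCore_le_sylow T) hle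
  rw [← Subgroup.index_eq_card, hE]
  exact ((Nat.Prime.coprime_iff_not_dvd hp).mpr T.not_dvd_index).symm

end Cfsg.Agent.S4394
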