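import Cfsg.Statements.S4736
import Mathlib
import Cfsg.Agent.Lib.CharExtra.Fong
import Cfsg.Agent.Lib.CharExtra.Ito
import Cfsg.Agent.Lib.CharExtra.DefectClass
import Cfsg.Agent.Lib.Degree.Inflate
import Cfsg.Agent.Lib.Block.Kernel

set_option autoImplicit false
open Cfsg
open Cfsg.Agent.Lib.CharExtra Cfsg.Agent.Lib.Block

namespace Cfsg.Agent.S4736


section Aux
open Cfsg.Agent.Lib.CharExtra Cfsg.Agent.Lib.Block

variable {G : Type*} [Group G] [Fintype G] {p : ℕ} [Fact p.Prime] {M : Ideal Cfsg.AlgInt}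

/-- In a `p`-solvable group the principal block is `Irr(G / O_{p'}(G))`. -/
theorem mem_principalBlock_iff_of_psolvable (hM : Cfsg.IsPModular p M) (hsolv : Cfsg.IsPSolvable p G)
    (χ : IrrCharacter G) :
    χ ∈ principalBlock M G ↔ ∀ n ∈ pPrimeCore p G, (χ : G → ℂ) n = (χ : G → ℂ) 1 := by
  classical
  have := hM.2.1.isPrime
  haveI : Fintype (pPrimeCore p G) := Fintype.ofFinite _
  constructor
  · exact ker_of_principal (pPrimeCore p G) hM Cfsg.Agent.Lib.Core.not_dvd_card_pPrimeCore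
  · intro h
    haveI hFn : (pPrimePCore p G).Normal := Cfsg.Agent.Lib.Techniques.pPrimePCore_normal p
    haveI : Fintype (pPrimePCore p G) := Fintype.ofFinite _
    obtain ⟨B, hB, hmem, -, -⟩ := fong_general (pPrimeCore p G) (pPrimePCore p G) hM
      (Cfsg.Agent.Lib.Techniques.pPrimeCore_le_pPrimePCore p)
      Cfsg.Agent.Lib.Core.not_dvd_card_pPrimeCore index_subgroupOf_pPrimePCore
      (fun Q h1 h2 h3 => centralizer_le_pPrimePCore_of_psolvable hsolv h1 h2 h3)
      (θ := oneIrr (pPrimeCore p G)) (fun g => by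
        apply Subtype.ext
        rw [conjIrr_coe]
        rfl)
    have h1 : oneIrr G ∈ B := (hmem _).2 ((classInner_one_iff _ _).2 fun _ _ => rfl)
    have h2 : χ ∈ B := (hmem _).2 ((classInner_one_iff _ _).2 h)
    have h3 := blockOf_eq_of_mem hB h1
    rw [h3] at h2
    exact h2

theorem blockHeight_principal (hM : Cfsg.IsPModular p M) {χ : IrrCharacter G} :
    blockHeight p (principalBlock M G) (χ : G → ℂ) = 0 ↔ ¬ p ∣ charDegree (χ : G → ℂ) := by
  classical
  have hp : p.Prime := Fact.out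
  have := hM.2.1.isPrime
  have h0 : sInf ((fun ψ : IrrCharacter G => (charDegree (ψ : G → ℂ)).factorization p) '' principalBlock M G) = 0 := by
    apply Nat.le_zero.mp
    refine Nat.sInf_le ⟨oneIrr G, oneIrr_mem_principalBlock, ?_⟩
    simp [charDegree_oneIrr]
  unfold blockHeight
  rw [h0, Nat.sub_zero, Nat.factorization_eq_zero_iff]
  have hne : charDegree (χ : G → ℂ) ≠ 0 := charDegree_ne_zero
  constructor
  · rintro (h | h | h)
    · exact absurd hp h
    · exact h
    · exact absurd h hne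
  · intro h
    exact Or.inr (Or.inl h)

end Aux

/-- Let p be a prime, M a maximal ideal of the algebraic integers containing p, and G a finite p-solvable group with Sylow p-subgroup P. Then P is abelian if and only if every irreducible character in the principal p-block of G has height zero. -/
theorem result {G : Type*} [Group G] [Finite G] (p : ℕ) [Fact p.Prime] (M : Ideal Cfsg.AlgInt) (hM : Cfsg.IsPModular p M) (hsolv : Cfsg.IsPSolvable p G) (P : Sylow p G) : IsMulCommutative P ↔ ∀ χ ∈ Cfsg.principalBlock M G, Cfsg.blockHeight p (Cfsg.principalBlock M G) (χ : G → ℂ) = 0 := by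
  classical
  haveI : Fintype G := Fintype.ofFinite G
  have hp : p.Prime := Fact.out
  have hPr := hM.2.1.isPrime
  have hmem := fun χ => mem_principalBlock_iff_of_psolvable (M := M) hM (G := G) hsolv χ
  let K := pPrimeCore p G
  haveI hKn : K.Normal := Cfsg.Agent.Lib.Core.pPrimeCore_normal p G
  let π : G →* G ⧸ K := QuotientGroup.mk' K
  have hπ : Function.Surjective π := QuotientGroup.mk'_surjective K
  have hstep : Cfsg.Agent.Lib.PSolv.PStep p (G ⧸ K) :=
    (Cfsg.Agent.Lib.PSolv.pStep_of_isPSolvable hp hsolv).quotient _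
  have hcore : pPrimeCore p (G ⧸ K) = ⊥ := Cfsg.Agent.Lib.Core.pPrimeCore_quotient_eq_bot
  let P' : Sylow p (G ⧸ K) := P.mapSurjective hπ
  have hP' : ∀ x : G ⧸ K, x ∈ (P' : Subgroup (G ⧸ K)) ↔ ∃ a ∈ (P : Subgroup G), π a = x := fun x => by
    show x ∈ (P : Subgroup G).map π ↔ _
    rw [Subgroup.mem_map]
  have hdegInf : ∀ ψ : IrrCharacter (G ⧸ K),
      charDegree ((Cfsg.Agent.Lib.Degree.inflate K ψ : IrrCharacter G) : G → ℂ) = charDegree (ψ : G ⧸ K → ℂ) := by
    intro ψ
    rfl
  constructor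
  · intro hab χ hχ
    rw [blockHeight_principal hM]
    obtain ⟨ψ, rfl⟩ := Cfsg.Agent.Lib.Degree.exists_inflate K ((hmem χ).1 hχ)
    rw [hdegInf]
    have habP : ∀ a ∈ (P : Subgroup G), ∀ b ∈ (P : Subgroup G), a * b = b * a := fun a ha b hb => by
      have := hab.is_comm.comm (⟨a, ha⟩ : P) ⟨b, hb⟩
      exact congrArg Subtype.val this
    have habP' : ∀ x ∈ (P' : Subgroup (G ⧸ K)), ∀ y ∈ (P' : Subgroup (G ⧸ K)), x * y = y * x := by
      intro x hx y hy
      obtain ⟨a, ha, rfl⟩ := (hP' x).1 hx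
      obtain ⟨b, hb, rfl⟩ := (hP' y).1 hy
      rw [← map_mul, ← map_mul, habP a ha b hb]
    have hle : (P' : Subgroup (G ⧸ K)) ≤ pCore p (G ⧸ K) := by
      refine (Cfsg.Agent.Lib.PSolv.centralizer_pCore_le hstep hcore).trans' ?_
      intro x hx
      rw [Subgroup.mem_centralizer_iff]
      intro y hy
      exact habP' y (Cfsg.Agent.Lib.Core.pCore_le_sylow P' hy) x hx
    have heq : (P' : Subgroup (G ⧸ K)) = pCore p (G ⧸ K) :=
      le_antisymm hle (Cfsg.Agent.Lib.Core.pCore_le_sylow P')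
    haveI hnorm : (P' : Subgroup (G ⧸ K)).Normal := by
      rw [heq]
      exact Cfsg.Agent.Lib.Core.pCore_normal p _
    exact degrees_of_normal_abelian_sylow (P' : Subgroup (G ⧸ K)) P'.2 P'.not_dvd_index habP' ψ
  · intro h
    have hdeg : ∀ ψ : IrrCharacter (G ⧸ K), ¬ p ∣ charDegree (ψ : G ⧸ K → ℂ) := by
      intro ψ
      have h1 := (hmem _).2 (Cfsg.Agent.Lib.Degree.inflate_kerContains K ψ)
      have h2 := (blockHeight_principal hM).1 (h _ h1)
      rwa [hdegInf] at h2
    haveI hnorm : (P' : Subgroup (G ⧸ K)).Normal :=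
      sylow_normal_of_degrees _ (G ⧸ K) rfl hstep hdeg P'
    have hcomm := sylow_comm_of_degrees (P' : Subgroup (G ⧸ K)) P'.2 hdeg
    refine ⟨⟨fun a b => ?_⟩⟩
    have h1 : π a ∈ (P' : Subgroup (G ⧸ K)) := (hP' _).2 ⟨a, a.2, rfl⟩
    have h2 : π b ∈ (P' : Subgroup (G ⧸ K)) := (hP' _).2 ⟨b, b.2, rfl⟩
    have h3 := hcomm ⟨_, h1⟩ ⟨_, h2⟩
    have h4 : π a * π b = π b * π a := congrArg Subtype.val h3
    have h5 : (a : G) * b * (b * a : G)⁻¹ ∈ K := by
      rw [← QuotientGroup.ker_mk' K, MonoidHom.mem_ker]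
      show π _ = 1
      rw [map_mul, map_inv, map_mul, map_mul, h4, mul_inv_cancel]
    have h6 : (a : G) * b * (b * a : G)⁻¹ ∈ (P : Subgroup G) :=
      (P : Subgroup G).mul_mem ((P : Subgroup G).mul_mem a.2 b.2)
        ((P : Subgroup G).inv_mem ((P : Subgroup G).mul_mem b.2 a.2))
    have h7 : (a : G) * b * (b * a : G)⁻¹ = 1 := by
      set t := (a : G) * b * (b * a : G)⁻¹ with ht
      obtain ⟨k, hk⟩ := (IsPGroup.iff_orderOf.mp P.2) ⟨t, h6⟩
      have h8 : orderOf t = p ^ k := by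
        rw [← hk]
        exact (Subgroup.orderOf_mk t h6).symm
      have h9 : orderOf t ∣ Nat.card K := Subgroup.orderOf_dvd_natCard K h5
      have h10 : k = 0 := by
        by_contra hk0
        apply Cfsg.Agent.Lib.Core.not_dvd_card_pPrimeCore (p := p) (G := G)
        exact (dvd_pow_self p hk0).trans (h8 ▸ h9)
      rw [h10, pow_zero] at h8
      exact orderOf_eq_one_iff.mp h8
    exact Subtype.ext (mul_inv_eq_one.mp h7)

end Cfsg.Agent.S4736
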