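import Cfsg.Statements.S5178
import Cfsg.Agent.Lib.Fusion.SmallCenter5
import Mathlib

set_option autoImplicit false
universe u
open Cfsg

namespace Cfsg.Agent.S5178

open Cfsg.Agent.Lib.Fusion Cfsg.FusionSystem


/-- Let p be an odd prime, S a finite p-group containing an extraspecial subgroup Q of index p, and F a saturated fusion system over S whose largest subgroup normal in F is trivial. Then the centre of S equals the centre of Q. -/
theorem result {Ω : Type u} [Group Ω] {S : Subgroup Ω} [Finite S] (p : ℕ) [Fact p.Prime] (hp : Odd p) (hS : IsPGroup p S)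
    (Q : Subgroup Ω) (hQS : Q ≤ S) (hQ : Cfsg.IsExtraspecial p ↥Q) (hQi : (Q.subgroupOf S).index = p)
    (F : Cfsg.FusionSystem S) (hF : F.IsSaturated p) (hO : F.core = ⊥) :
    S ⊓ Subgroup.centralizer (S : Set Ω) = Q ⊓ Subgroup.centralizer (Q : Set Ω) := by
  classical
  have hQf : Finite ↥Q := finite_of_le hQS
  have hD : IsExtraspecial p ↥(Q.subgroupOf S) :=
    Lib.PGroup.isExtraspecial_of_equiv (Subgroup.subgroupOfEquivOfLe hQS).symm hQ
  have hp2 : p ≠ 2 := by
    rintro rfl
    exact absurd hp (by decide)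
  apply le_antisymm
  · rintro a ⟨has, hac⟩
    have hc : (⟨a, has⟩ : ↥S) ∈ Subgroup.center ↥S :=
      Subgroup.mem_center_iff.2 fun g => Subtype.ext (Subgroup.mem_centralizer_iff.1 hac g g.2)
    have haQ : a ∈ Q := by
      by_contra hna
      exact no_central_outside hS hF hp2 hO hD hQi hc fun h => hna (Subgroup.mem_subgroupOf.1 h)
    exact ⟨haQ, Subgroup.mem_centralizer_iff.2 fun h hh => Subgroup.mem_centralizer_iff.1 hac h (hQS hh)⟩
  · rintro a ⟨haQ, hac⟩
    have hDn := Lib.PGroup.normal_of_index_eq_prime hS hQi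
    have hb : (⟨⟨a, hQS haQ⟩, Subgroup.mem_subgroupOf.2 haQ⟩ : ↥(Q.subgroupOf S)) ∈ Subgroup.center ↥(Q.subgroupOf S) :=
      Subgroup.mem_center_iff.2 fun g => Subtype.ext (Subtype.ext (Subgroup.mem_centralizer_iff.1 hac _ (Subgroup.mem_subgroupOf.1 g.2)))
    have h1 := center_central_of_normal hS hDn hD.2 hb
    exact ⟨hQS haQ, Subgroup.mem_centralizer_iff.2 fun h hh =>
      congrArg (fun w : ↥S => (w : Ω)) (Subgroup.mem_center_iff.1 h1 ⟨h, hh⟩)⟩

end Cfsg.Agent.S5178
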