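import Cfsg.Statements.S5185
import Cfsg.Agent.Lib.EssP2.Main
import Cfsg.Agent.Lib.Fusion.Radical

set_option autoImplicit false
universe u
open Cfsg

namespace Cfsg.Agent.S5185

/-- Let F be a saturated fusion system over a finite p-group S and H an essential subgroup of order p². Then H is elementary abelian (isomorphic to C_p × C_p) and its F-automorphism group contains a subgroup isomorphic to SL(2,p). -/
theorem result {Ω : Type u} [Group Ω] {S : Subgroup Ω} [Finite S] (p : ℕ) [Fact p.Prime] (hS : IsPGroup p S)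
    (F : Cfsg.FusionSystem S) (hF : F.IsSaturated p) (H : Subgroup Ω) (hH : F.IsEssential p H) (hcard : Nat.card H = p ^ 2) :
    Cfsg.IsElementaryAbelian p H ∧
      ∃ K : Subgroup ↥(F.autGroup H), Nonempty (↥K ≃* Matrix.SpecialLinearGroup (Fin 2) (ZMod p)) := by
  classical
  have hHS : H ≤ S := hH.1.1
  haveI : Finite H := Cfsg.Agent.Lib.Fusion.finite_of_le hHS
  haveI : Finite (F.autGroup H) := Cfsg.Agent.Lib.Fusion.finite_autGroup F hHS
  have hcomm : ∀ a b : H, a * b = b * a := fun a b =>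
    (IsPGroup.isMulCommutative_of_card_eq_prime_sq hcard).is_comm.comm a b
  have hInn : Inn H = ⊥ := by
    rw [eq_bot_iff]
    rintro _ ⟨x, rfl⟩
    rw [Subgroup.mem_bot]
    apply MulEquiv.ext
    intro y
    simp only [MulAut.conj_apply, MulAut.one_apply]
    rw [hcomm x y]
    group
  have hrad := Cfsg.Agent.Lib.Fusion.isRadical_of_essential hS hH
  have hO : ∀ B : Subgroup (F.autGroup H), B.Normal → IsPGroup p B → B = ⊥ := by
    intro B hB hBP
    have h1 := Cfsg.Agent.Lib.Core.le_pCore hB hBP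
    rw [eq_bot_iff]
    intro b hb
    have h2 : (b : MulAut H) ∈ (pCore p (F.autGroup H)).map (F.autGroup H).subtype :=
      ⟨b, h1 hb, rfl⟩
    rw [hrad.2, hInn] at h2
    exact Subgroup.mem_bot.mpr (Subtype.ext h2)
  obtain ⟨-, -, hN, Y, hY⟩ := hH
  have hpd : p ∣ Nat.card (F.autGroup H) := hY.1.trans (Subgroup.index_dvd_card _)
  obtain ⟨hc, he, K⟩ := Cfsg.Agent.Lib.EssP2.main hcard (F.autGroup H) hpd hO
  refine ⟨⟨⟨⟨hc⟩⟩, fun a ha => ?_⟩, K⟩
  have := he ⟨a, ha⟩
  exact congrArg Subtype.val this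

end Cfsg.Agent.S5185
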