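import Cfsg.Statements.S5187
import Mathlib
import Cfsg.Agent.Lib.Cl.EssRank2
import Cfsg.Agent.Lib.Cl.EssData

set_option autoImplicit false
universe u
open Cfsg

namespace Cfsg.Agent.S5187

/-- Let F be a saturated fusion system over a finite p-group S and H an abelian essential subgroup that can be generated by two elements (its Frattini quotient has order at most p²). Then H is elementary abelian of order p², or p ≤ 3 and H is homocyclic of rank two, that is isomorphic to C_{pᵏ} × C_{pᵏ} for some k. -/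
theorem result {Ω : Type u} [Group Ω] {S : Subgroup Ω} [Finite S] (p : ℕ) [Fact p.Prime] (hS : IsPGroup p S)
    (F : Cfsg.FusionSystem S) (hF : F.IsSaturated p) (H : Subgroup Ω) (hH : F.IsEssential p H) (hab : IsMulCommutative ↥H) (hrk : (frattini ↥H).index ≤ p ^ 2) :
    (Cfsg.IsElementaryAbelian p H ∧ Nat.card H = p ^ 2) ∨
      (p ≤ 3 ∧ ∃ k : ℕ, Nonempty (↥H ≃* Multiplicative (ZMod (p ^ k) × ZMod (p ^ k)))) := by
  classical
  obtain ⟨hHS, hO, hdvd⟩ := Cfsg.Agent.Lib.Cl.EssData.data hS F hH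
  haveI : Finite H := Cfsg.Agent.Lib.Fusion.finite_of_le hHS
  have hP : IsPGroup p H := hS.to_le hHS
  have hcomm : ∀ a b : H, a * b = b * a := hab.is_comm.comm
  letI : CommGroup H := { (inferInstance : Group H) with mul_comm := hcomm }
  rcases Cfsg.Agent.Lib.Cl.EssRank2.rank2_main hP hrk (F.autGroup H) hO hdvd with ⟨h1, h2⟩ | h1
  · left
    exact ⟨⟨⟨⟨hcomm⟩⟩, fun a ha => congrArg Subtype.val (h1 ⟨a, ha⟩)⟩, h2⟩
  · right
    exact h1

end Cfsg.Agent.S5187
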