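import Cfsg.Statements.S5196
import Cfsg.Agent.Lib.Fusion.ChainMain
import Mathlib

set_option autoImplicit false
universe u
open Cfsg

namespace Cfsg.Agent.S5196

open Cfsg.Agent.Lib.Fusion Cfsg.FusionSystem


/-- Let p be an odd prime and W a positive characteristic p-functor: W assigns to every finite p-group Q (in a fixed universe) a subgroup W(Q), nontrivial when Q is, carried to W(R) by every isomorphism Q ≅ R; assume also Z(Q) ≤ W(Q) for every finite p-group Q. Suppose W satisfies the local condition: for every finite group G with Sylow p-subgroup P, O_p(G) ∩ Z(G) = O_p(G) ∩ Z(N_G(W(P))). Then W controls weak closure of elements in every saturated fusion system F over a finite p-group S: the centre of the normalizer fusion system of W(S) in F equals the centre of F. (For p = 2 no functor satisfies the local condition, so p is taken odd.) -/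
theorem result {p : ℕ} [Fact p.Prime] (hp : p ≠ 2) (W : ∀ (Q : Type u) [Group Q], Subgroup Q) (hW1 : ∀ (Q : Type u) [Group Q] [Finite Q], IsPGroup p Q → Nontrivial Q → W Q ≠ ⊥) (hW2 : ∀ (Q R : Type u) [Group Q] [Group R] [Finite Q], IsPGroup p Q → ∀ φ : Q ≃* R, (W Q).map φ.toMonoidHom = W R) (hWZ : ∀ (Q : Type u) [Group Q] [Finite Q], IsPGroup p Q → Subgroup.center Q ≤ W Q) (hC : ∀ (G : Type u) [Group G] [Finite G] (P : Sylow p G), Cfsg.pCore p G ⊓ Subgroup.center G = Cfsg.pCore p G ⊓ (Subgroup.center ↥(Subgroup.normalizer (((W ↥(P : Subgroup G)).map (P : Subgroup G).subtype : Subgroup G) : Set G))).map (Subgroup.normalizer (((W ↥(P : Subgroup G)).map (P : Subgroup G).subtype : Subgroup G) : Set G)).subtype) {Ω : Type u} [Group Ω] {S : Subgroup Ω} [Finite S] (hS : IsPGroup p S) (F : Cfsg.FusionSystem S) (hF : F.IsSaturated p) (N : Cfsg.FusionSystem (Cfsg.FusionSystem.normalizerIn S ((W ↥S).map S.subtype))) (hN : F.IsNormalizerSystem ((W ↥S).map S.subtype) N) : N.center = F.center := by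
  have hLoc : LocalCond p 1 W := by
    intro L _ _ P hCL z hz hzc hg
    by_contra hcon
    push_neg at hcon
    obtain ⟨g, hg⟩ := hg
    simp only [pow_one] at hcon hg
    have hzO : z ∈ pCore p L := hCL (Subgroup.mem_centralizer_iff.2 fun y hy => (hzc y (Lib.Core.pCore_le_sylow P hy)))
    have hNz := funW_normalized (W := W) hW2 P.isPGroup' (Subgroup.le_normalizer hz)
    have hzZ : z ∈ Cfsg.pCore p L ⊓ (Subgroup.center ↥(Subgroup.normalizer (((W ↥(P : Subgroup L)).map (P : Subgroup L).subtype : Subgroup L) : Set L))).map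
        (Subgroup.normalizer (((W ↥(P : Subgroup L)).map (P : Subgroup L).subtype : Subgroup L) : Set L)).subtype := by
      refine ⟨hzO, ⟨⟨z, hNz⟩, Subgroup.mem_center_iff.2 (fun g => Subtype.ext ?_), rfl⟩⟩
      have h1 := hcon g g.2
      show (g : L) * z = z * g
      calc (g : L) * z = ((g : L) * z * (g : L)⁻¹) * g := by group
        _ = z * g := by rw [h1]
    rw [← hC L P] at hzZ
    apply hg
    rw [(Subgroup.mem_center_iff.1 hzZ.2 g)]
    group
  refine le_antisymm ?_ (center_le_funW hS hF hW2 hN)
  refine center_of_chain hS hF hLoc hW2 hWZ hN le_rfl fun w hw => ?_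
  have hfinN : Finite (normalizerIn S ((W ↥S).map S.subtype)) := finite_of_le (normalizerIn_le _)
  have hNc : N.IsCentral N.center := isCentral_center
  have hNS := normalizerIn_funW (W := W) hS hW2
  have hwS : w ∈ S := normalizerIn_le _ (hNc.1 hw)
  refine ⟨w, hwS, fun t ht => ?_, pow_one w⟩
  have h1 := IsCentral.commute hNc hw (g := t) (by rw [show normalizerIn S ((W ↥S).map S.subtype) = S from hNS]; exact ht)
  calc t * w = (t * w * t⁻¹) * t := by group
    _ = w * t := by rw [h1]

end Cfsg.Agent.S5196
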