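import Cfsg.Statements.S5249
import Cfsg.Agent.Lib.Fusion.QdFree
import Mathlib

set_option autoImplicit false
open Cfsg

namespace Cfsg.Agent.S5249

open Cfsg.Agent.Lib.Fusion Cfsg.FusionSystem


/-- Let p be an odd prime, G a finite group in which Qd(p) (the natural semidirect product of an elementary abelian group of order p² by SL₂(p)) is not involved, and P a Sylow p-subgroup of G. Then the fusion system of G on P is a solvable fusion system. -/
theorem result {G : Type*} [Group G] [Finite G] {p : ℕ} [Fact p.Prime] (hp : p ≠ 2) (hqd : ¬ Cfsg.Involves ↥(Cfsg.qd p) G) (P : Sylow p G) : (Cfsg.groupFusionSystem (P : Subgroup G)).IsSolvableSystem := by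
  classical
  have hSp : IsPGroup p (P : Subgroup G) := P.isPGroup'
  have hF := Cfsg.Agent.S5076.result p P
  have hfree := isSectionFree_group P (H := ↥(qd p)) hqd
  intro R hR hRne _ E hE
  have hfin' := IsFactorSystem.finite hE
  have hS'p := IsFactorSystem.isPGroup hSp hE
  have hEsat := isSaturated_of_factor hSp hF hR hE
  have hEfree := IsSectionFree.factor hSp hF hR hfree hE
  have hmain := qd_free_main hp hS'p hEsat hEfree
  have hnorm := hmain.2
  have hne : (⊤ : Subgroup ((P : Subgroup G) ⧸ R.subgroupOf (P : Subgroup G))) ≠ ⊥ := by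
    intro h
    apply hRne
    have hall : ∀ x : (P : Subgroup G), x ∈ R.subgroupOf (P : Subgroup G) := by
      intro x
      have hmem : (QuotientGroup.mk x : (P : Subgroup G) ⧸ R.subgroupOf (P : Subgroup G)) ∈ (⊤ : Subgroup ((P : Subgroup G) ⧸ R.subgroupOf (P : Subgroup G))) := trivial
      rw [h, Subgroup.mem_bot] at hmem
      exact (QuotientGroup.eq_one_iff x).1 hmem
    exact le_antisymm hR.1 (fun x hx => hall ⟨x, hx⟩)
  have hW := funW_ne_bot (W := zjFun) (fun Q _ _ h1 h2 => zjFun_ne_bot (p := p) Q h1 h2) hS'p hne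
  intro hbot
  apply hW
  have : funW zjFun (⊤ : Subgroup ((P : Subgroup G) ⧸ R.subgroupOf (P : Subgroup G))) ≤ E.core := le_sSup hnorm
  exact le_bot_iff.1 (hbot ▸ this)

end Cfsg.Agent.S5249
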