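import Cfsg.Statements.S5265
import Cfsg.Agent.Lib.Fusion.SmallCenter9
import Cfsg.Agent.Lib.Fusion.Abelian
import Mathlib

set_option autoImplicit false
open Cfsg

namespace Cfsg.Agent.S5265

open Cfsg.Agent.Lib.Fusion Cfsg.FusionSystem


/-- Let p be a prime, S a nontrivial finite p-group whose centre has index at most p², and F a saturated fusion system over S with no nontrivial normal subgroup and with hyperfocal subgroup equal to S. Then S is extraspecial of order p³; for odd p it has exponent p, and for p = 2 it is dihedral of order 8. -/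
theorem result {Ω : Type*} [Group Ω] {S : Subgroup Ω} [Finite S] (p : ℕ) [Fact p.Prime] (hS : IsPGroup p ↥S) (F : Cfsg.FusionSystem S) (hF : F.IsSaturated p) (hS1 : S ≠ ⊥) (hcore : F.core = ⊥) (hhyp : F.hyperfocalSubgroup p = S) (hZ : (Subgroup.center ↥S).index ≤ p ^ 2) : Cfsg.IsExtraspecial p ↥S ∧ Nat.card S = p ^ 3 ∧ (p ≠ 2 → Monoid.exponent ↥S = p) ∧ (p = 2 → Nonempty (↥S ≃* DihedralGroup 4)) := by
  classical
  have hne : ¬ ∀ a b : ↥S, a * b = b * a := by
    intro hab
    have hn : F.IsNormal S := abelian_isNormal hS hF fun x hx y hy =>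
      congrArg (fun w : ↥S => (w : Ω)) (hab ⟨x, hx⟩ ⟨y, hy⟩)
    have h1 : S ≤ F.core := le_sSup hn
    rw [hcore] at h1
    exact hS1 (le_bot_iff.1 h1)
  have h := clTwo_of_index hS hne hZ
  by_cases hp : p = 2
  · subst hp
    obtain ⟨h1, h2, h3⟩ := two_main hS hF h hcore hhyp
    exact ⟨h1, by rw [h2]; norm_num, fun h4 => absurd rfl h4, fun _ => h3⟩
  · obtain ⟨h1, h2, h3⟩ := odd_main hS hF hp h hcore
    exact ⟨h1, h2, fun _ => h3, fun h4 => absurd h4 hp⟩

end Cfsg.Agent.S5265
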