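import Cfsg.Statements.S5272
import Cfsg.Agent.Lib.Fusion.GTAxiomFus
import Mathlib

set_option autoImplicit false
open Cfsg

namespace Cfsg.Agent.S5272

open Cfsg.Agent.Lib.Fusion Cfsg.FusionSystem


/-- An axiomatic Glauberman–Thompson nilpotency criterion for fusion systems. Let p be an odd prime, F a saturated fusion system over a finite p-group S, and 𝒜 a nonempty family of abelian subgroups of S. For Q ≤ S write I(Q) for the intersection of the members of 𝒜 contained in Q. Assume (invariance) that for every Q ≤ S containing a member of 𝒜, every F-automorphism of Q maps I(Q) into itself, and (replacement) that for every subgroup B of S of nilpotency class at most 2, if some member of 𝒜 contains [B,B] but not B, then B normalizes some member of 𝒜 that contains [B,B] but not B. Then F is the inner fusion system of S if and only if the normalizer fusion system of I(S) in F is the inner fusion system of N_S(I(S)). -/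
theorem result {Ω : Type*} [Group Ω] {S : Subgroup Ω} [Finite S] (p : ℕ) [Fact p.Prime] (hS : IsPGroup p ↥S) (F : Cfsg.FusionSystem S) (hF : F.IsSaturated p) (hp : p ≠ 2) (𝒜 : Set (Subgroup Ω)) (h𝒜 : ∀ A ∈ 𝒜, A ≤ S ∧ IsMulCommutative ↥A) (hne : 𝒜.Nonempty) (hinv : ∀ Q : Subgroup Ω, Q ≤ S → (∃ A ∈ 𝒜, A ≤ Q) → ∀ α ∈ F.autGroup Q, ∀ x : ↥Q, (x : Ω) ∈ (⨅ A ∈ {A : Subgroup Ω | A ∈ 𝒜 ∧ A ≤ Q}, A) → (((α : MulAut ↥Q) x : ↥Q) : Ω) ∈ (⨅ A ∈ {A : Subgroup Ω | A ∈ 𝒜 ∧ A ≤ Q}, A)) (hrep : ∀ B : Subgroup Ω, B ≤ S → ⁅⁅B, B⁆, B⁆ = ⊥ → (∃ A ∈ 𝒜, ⁅B, B⁆ ≤ A ∧ ¬ B ≤ A) → ∃ A ∈ 𝒜, ⁅B, B⁆ ≤ A ∧ ¬ B ≤ A ∧ B ≤ Subgroup.normalizer (A : Set Ω)) : (∀ P : Subgroup Ω, F.Hom P = (Cfsg.innerFusionSystem S).Hom P) ↔ ∀ N : Cfsg.FusionSystem (Cfsg.FusionSystem.normalizerIn S (⨅ A ∈ 𝒜, A)), F.IsNormalizerSystem (⨅ A ∈ 𝒜, A) N → ∀ P : Subgroup Ω, N.Hom P = (Cfsg.innerFusionSystem (Cfsg.FusionSystem.normalizerIn S (⨅ A ∈ 𝒜, A))).Hom P := by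
  have hAx : AxFam F 𝒜 := ⟨h𝒜, hne, hinv, hrep⟩
  have hZS := hAx.le
  have hSN := hAx.le_normalizer
  have hZf : Finite (⨅ A ∈ 𝒜, A : Subgroup Ω) := finite_of_le hZS
  have hNeq : normalizerIn S (⨅ A ∈ 𝒜, A) = S :=
    le_antisymm (normalizerIn_le _) fun g hg => mem_normalizerIn.2 ⟨hg, hSN hg⟩
  have hfn : F.IsFullyNormalized (⨅ A ∈ 𝒜, A) := isFullyNormalized_of_normalizerIn_eq hZS hNeq
  constructor
  · intro hinner N hN
    have hNs := isSaturated_normalizerSystem hS hF hfn hN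
    have hTp : IsPGroup p (normalizerIn S (⨅ A ∈ 𝒜, A)) := hS.to_le (normalizerIn_le _)
    have hTf : Finite (normalizerIn S (⨅ A ∈ 𝒜, A)) := finite_of_le (normalizerIn_le _)
    have hn : ¬ NonInner p N := fun h => not_nonInner_of_eq_inner hS hinner
      (NonInner.mono (fun P φ hφ => by rw [hN P] at hφ; exact hφ.1) (normalizerIn_le _) h)
    have h3 := eq_inner_of_not_nonInner hTp hNs hn
    intro P
    rw [h3]
  · intro hN
    by_contra hne'
    have hnon : NonInner p F := by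
      by_contra hn
      have h2 := eq_inner_of_not_nonInner hS hF hn
      exact hne' (fun P => by rw [h2])
    obtain ⟨N, hN'⟩ := Cfsg.Agent.S5096.result F _ hZS
    exact not_nonInner_of_eq_inner (hS.to_le (normalizerIn_le _)) (hN N hN') ((badAx hp hS hF hnon).2 𝒜 hAx N hN')

end Cfsg.Agent.S5272
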