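import Cfsg.Statements.S5275
import Cfsg.Agent.Lib.Fusion.GTRelFus
import Mathlib

set_option autoImplicit false
open Cfsg

namespace Cfsg.Agent.S5275

open Cfsg.Agent.Lib.Fusion Cfsg.FusionSystem


/-- A Glauberman–Thompson nilpotency criterion for fusion systems relative to a strongly closed subgroup. Let p be an odd prime, F a saturated fusion system over a finite p-group S, and D a subgroup of S that is strongly closed in F. Let Z(J(D)) be the centre of the subgroup of D generated by the abelian subgroups of D of largest order. Then F is the inner fusion system of S if and only if the normalizer fusion system of Z(J(D)) in F is the inner fusion system of N_S(Z(J(D))) = S. -/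
theorem result {Ω : Type*} [Group Ω] {S : Subgroup Ω} [Finite S] (p : ℕ) [Fact p.Prime] (hS : IsPGroup p ↥S) (F : Cfsg.FusionSystem S) (hF : F.IsSaturated p) (hp : p ≠ 2) (D : Subgroup Ω) (hD : F.StronglyClosed D) : (∀ P : Subgroup Ω, F.Hom P = (Cfsg.innerFusionSystem S).Hom P) ↔ ∀ N : Cfsg.FusionSystem (Cfsg.FusionSystem.normalizerIn S (Cfsg.centerThompsonAOf D)), F.IsNormalizerSystem (Cfsg.centerThompsonAOf D) N → ∀ P : Subgroup Ω, N.Hom P = (Cfsg.innerFusionSystem (Cfsg.FusionSystem.normalizerIn S (Cfsg.centerThompsonAOf D))).Hom P := by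
  have hZS : centerThompsonAOf D ≤ S := (centerThompsonAOf_le D).trans hD.1
  have hZf : Finite (centerThompsonAOf D) := finite_of_le hZS
  have hSN : S ≤ Subgroup.normalizer (centerThompsonAOf D : Set Ω) := fun g hg =>
    normalizer_le_of_char (centerThompsonAOf_le D) (centerThompsonAOf_char D) (StronglyClosed.le_normalizer hD hg)
  have hNeq : normalizerIn S (centerThompsonAOf D) = S :=
    le_antisymm (normalizerIn_le _) fun g hg => mem_normalizerIn.2 ⟨hg, hSN hg⟩
  have hfn : F.IsFullyNormalized (centerThompsonAOf D) := isFullyNormalized_of_normalizerIn_eq hZS hNeq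
  constructor
  · intro hinner N hN
    have hNs := isSaturated_normalizerSystem hS hF hfn hN
    have hTp : IsPGroup p (normalizerIn S (centerThompsonAOf D)) := hS.to_le (normalizerIn_le _)
    have hTf : Finite (normalizerIn S (centerThompsonAOf D)) := finite_of_le (normalizerIn_le _)
    have hn : ¬ NonInner p N := fun h => not_nonInner_of_eq_inner hS hinner
      (NonInner.mono (fun P φ hφ => by rw [hN P] at hφ; exact hφ.1) (normalizerIn_le _) h)
    have h3 := eq_inner_of_not_nonInner hTp hNs hn
    intro P
    rw [h3]
  · intro hN
    by_contra hne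
    have hnon : NonInner p F := by
      by_contra hn
      have h2 := eq_inner_of_not_nonInner hS hF hn
      exact hne (fun P => by rw [h2])
    obtain ⟨N, hN'⟩ := Cfsg.Agent.S5096.result F _ hZS
    exact not_nonInner_of_eq_inner (hS.to_le (normalizerIn_le _)) (hN N hN') (badRel hp hS hF hnon D hD N hN')

end Cfsg.Agent.S5275
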