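import Cfsg.Statements.S5299
import Cfsg.Agent.Lib.Fusion.Extender
import Cfsg.Agent.Lib.Amalgam.Involves
import Mathlib

set_option autoImplicit false
universe u
open Cfsg

namespace Cfsg.Agent.S5299

open Cfsg.Agent.Lib.Fusion Cfsg.FusionSystem


/-- Let F be a saturated fusion system over a finite p-group S, H a finite group and Q a p-subgroup of H. If Q is not involved in S (no section of S is isomorphic to Q), then F is H-free: H is involved in no model of the normalizer system of a fully normalized centric subgroup. -/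
theorem result {Ω : Type u} [Group Ω] {S : Subgroup Ω} [Finite S] (p : ℕ) [Fact p.Prime] (hS : IsPGroup p S)
    (F : Cfsg.FusionSystem S) (hF : F.IsSaturated p) (H : Type*) [Group H] [Finite H] (Q : Subgroup H) (hQ : IsPGroup p Q)
    (hfree : ¬ Cfsg.Involves (↥Q) (↥S)) : F.IsSectionFree p H := by
  intro Q₀ _ _ N _ L _ ι hm hinv
  obtain ⟨hfin, hreal, ⟨T, hT⟩, -⟩ := hm
  have hι := hreal.1
  obtain ⟨K, φ, hφ⟩ := Lib.Amalgam.involves_exists_surjective hinv
  apply hfree
  let K₁ : Subgroup K := Q.comap φ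
  let φ₁ : K₁ →* Q := (φ.comp K₁.subtype).codRestrict Q (fun u => u.2)
  have hφ₁ : Function.Surjective φ₁ := by
    rintro ⟨y, hy⟩
    obtain ⟨u, hu⟩ := hφ y
    refine ⟨⟨u, ?_⟩, Subtype.ext hu⟩
    show φ u ∈ Q
    rw [hu]
    exact hy
  obtain ⟨T₁⟩ : Nonempty (Sylow p K₁) := inferInstance
  have hsurj : (T₁ : Subgroup K₁).map φ₁ = ⊤ := by
    have h1 := (T₁.mapSurjective hφ₁).is_maximal' (Q := ⊤) (hQ.to_subgroup ⊤) le_top
    exact h1.symm
  -- the first involvement
  have hinv₁ : Involves (↥Q) ↥(T₁ : Subgroup K₁) := by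
    refine Lib.Amalgam.involves_of_surjective ⊤ ((φ₁.comp (T₁ : Subgroup K₁).subtype).comp (⊤ : Subgroup ↥(T₁ : Subgroup K₁)).subtype) ?_
    intro y
    have hy : y ∈ (T₁ : Subgroup K₁).map φ₁ := by rw [hsurj]; trivial
    obtain ⟨t, ht, rfl⟩ := hy
    exact ⟨⟨⟨t, ht⟩, trivial⟩, rfl⟩
  -- the embedding into `L`
  let j : ↥(T₁ : Subgroup K₁) →* L := K.subtype.comp (K₁.subtype.comp (T₁ : Subgroup K₁).subtype)
  have hj : Function.Injective j := (Subgroup.subtype_injective _).comp
    ((Subgroup.subtype_injective _).comp (Subgroup.subtype_injective _))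
  have hjp : IsPGroup p j.range := by
    have h1 : IsPGroup p ↥(T₁ : Subgroup K₁) := T₁.isPGroup'
    exact h1.of_surjective j.rangeRestrict j.rangeRestrict_surjective
  obtain ⟨T', hT'⟩ := hjp.exists_le_sylow
  obtain ⟨g, hg⟩ := MulAction.exists_smul_eq L T' T
  have hval : ∀ t, g * j t * g⁻¹ ∈ ι.range := by
    intro t
    rw [← hT, ← hg, Sylow.coe_subgroup_smul]
    exact ⟨_, hT' ⟨t, rfl⟩, by simp [MulAut.smul_def, MulAut.conj_apply]⟩
  let c : ↥(T₁ : Subgroup K₁) →* L := (MulAut.conj g).toMonoidHom.comp j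
  have hc : Function.Injective c := (MulAut.conj g).injective.comp hj
  let c' : ↥(T₁ : Subgroup K₁) →* ι.range := c.codRestrict ι.range hval
  have hc' : Function.Injective c' := fun a b hab => hc (congrArg Subtype.val hab)
  let d : ↥(T₁ : Subgroup K₁) →* S :=
    (Subgroup.inclusion (normalizerIn_le (S := S) Q₀)).comp ((MonoidHom.ofInjective hι).symm.toMonoidHom.comp c')
  have hd : Function.Injective d := by
    intro a b hab
    have h1 := Subgroup.inclusion_injective (normalizerIn_le (S := S) Q₀) hab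
    exact hc' ((MonoidHom.ofInjective hι).symm.injective h1)
  have hinv₂ : Involves ↥(T₁ : Subgroup K₁) ↥S :=
    Lib.Amalgam.involves_of_surjective d.range (MonoidHom.ofInjective hd).symm.toMonoidHom (MulEquiv.surjective _)
  exact Lib.Amalgam.involves_trans hinv₁ hinv₂

end Cfsg.Agent.S5299
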