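import Cfsg.Statements.S5522
import Cfsg.Agent.Lib.M24.Three
import Cfsg.Agent.Lib.M24.Inv
import Cfsg.Agent.Lib.Golay.Dodecad

set_option autoImplicit false
open Cfsg

namespace Cfsg.Agent.S5522

open Cfsg.Agent.Lib.M24 Cfsg.Agent.Lib.Compute Cfsg.Agent.Lib.Golay
open scoped Pointwise

theorem squareDodecad_eq : Cfsg.Spor.squareDodecad = (enc.finOf 340831 : Finset GolayPt) := by
  decide +kernel

theorem squareDodecad_mem : Cfsg.Spor.squareDodecad ∈ dodecads := by
  rw [squareDodecad_eq, mem_dodecads_iff]
  have h1 : word 863 = 340831 := by decide +kernel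
  exact ⟨863, by norm_num, by rw [h1]; decide +kernel, by rw [h1]⟩

theorem compl_card : (Finset.univ \ Cfsg.Spor.squareDodecad).card = 12 := by
  rw [squareDodecad_eq]
  decide +kernel

/-- An element of the dodecad stabiliser fixing five points of the dodecad is trivial. -/
theorem eq_one_of_five {g : Equiv.Perm GolayPt} (hg : g ∈ M24) {d : Finset GolayPt} (hd : d ∈ dodecads)
    (hgd : g • d = d) {F : Finset GolayPt} (hF : F ⊆ d) (hc : 5 ≤ F.card) (hfix : ∀ p ∈ F, g p = p) : g = 1 := by
  obtain ⟨F', hF', hc'⟩ := Finset.exists_subset_card_eq hc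
  let x : Fin 5 ↪ GolayPt := ((Finset.equivFinOfCardEq hc').symm.toEmbedding).trans (Function.Embedding.subtype _)
  have hx : ∀ i, x i ∈ F' := fun i => ((Finset.equivFinOfCardEq hc').symm i).2
  have hxd : ∀ i, x i ∈ d := fun i => hF (hF' (hx i))
  obtain ⟨u, -, huu⟩ := sharply_five_transitive hd x x hxd hxd
  have h1 : (⟨⟨g, hg⟩, hgd⟩ : MulAction.stabilizer M24 d) = u := huu _ fun i => hfix _ (hF' (hx i))
  have h2 : (1 : MulAction.stabilizer M24 d) = u := huu _ fun i => rfl
  have h3 := h1.trans h2.symm
  exact congrArg (fun z : MulAction.stabilizer M24 d => ((z : M24) : Equiv.Perm GolayPt)) h3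


/-- The Mathieu group M₁₁, realised as the stabiliser of one point of the dodecad of squares inside the stabiliser M₁₂ of that dodecad in M₂₄, acts on the twelve coordinate positions outside the dodecad of squares (its 3-transitive action of degree 12); in this action every element of prime order fixes a point, i.e. the action is elusive. -/
theorem result (g : Equiv.Perm Cfsg.GolayPt) (hg : g ∈ Cfsg.Spor.M11) (hord : (orderOf g).Prime) :
    ∃ x : Cfsg.GolayPt, x ∉ Cfsg.Spor.squareDodecad ∧ g x = x := by
  classical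
  obtain ⟨⟨hg24, hD⟩, h0⟩ := hg
  have hD' : g • Cfsg.Spor.squareDodecad = Cfsg.Spor.squareDodecad := hD
  have h0' : g (some 0) = some 0 := h0
  have hne1 : g ≠ 1 := by
    rintro rfl
    simp at hord
    exact Nat.not_prime_one hord
  by_contra hno
  push Not at hno
  -- all fixed points lie in the dodecad
  have hfixD : ∀ p, g p = p → p ∈ Cfsg.Spor.squareDodecad := by
    intro p hp
    by_contra hn
    exact hno p hn hp
  have hfive : ¬ 5 ≤ (Finset.univ.filter fun p => g p = p).card := by
    intro hc
    exact hne1 (eq_one_of_five hg24 squareDodecad_mem hD' (fun p hp => hfixD p (Finset.mem_filter.1 hp).2) hc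
      (fun p hp => (Finset.mem_filter.1 hp).2))
  -- the induced permutation of the complement
  have hinv : ∀ x, x ∈ (Finset.univ \ Cfsg.Spor.squareDodecad) ↔ g x ∈ (Finset.univ \ Cfsg.Spor.squareDodecad) := by
    intro x
    simp only [Finset.mem_sdiff, Finset.mem_univ, true_and]
    constructor
    · intro hx hgx
      rw [← hD'] at hgx
      obtain ⟨y, hy, hye⟩ := Finset.mem_smul_finset.1 hgx
      have : y = x := g.injective hye
      exact hx (this ▸ hy)
    · intro hx hgx
      exact hx (by rw [← hD']; exact Finset.mem_smul_finset.2 ⟨x, hgx, rfl⟩)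
  let σ : Equiv.Perm {x // x ∈ (Finset.univ \ Cfsg.Spor.squareDodecad)} := g.subtypePerm (fun x => (hinv x).symm)
  set p := orderOf g with hp
  have : Fact p.Prime := ⟨hord⟩
  have hσ : σ ^ p ^ 1 = 1 := by
    rw [pow_one]
    simp only [σ]
    rw [Equiv.Perm.subtypePerm_pow]
    ext x
    simp [hp, pow_orderOf_eq_one]
  have hdvd : p ∣ 12 := by
    by_contra hnd
    obtain ⟨⟨a, ha⟩, hfa⟩ := Equiv.Perm.exists_fixed_point_of_prime (p := p) (n := 1)
      (by
        convert hnd using 2
        rw [← compl_card]
        exact Fintype.card_of_subtype _ (fun _ => Iff.rfl)) hσ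
    have h3 : g a = a := congrArg Subtype.val hfa
    have h4 := (Finset.mem_sdiff.1 ha).2
    exact h4 (hfixD a h3)
  have hp23 : p = 2 ∨ p = 3 := by
    have h12 : (12 : ℕ) = 2 ^ 2 * 3 := by norm_num
    rw [h12] at hdvd
    rcases (Nat.Prime.dvd_mul hord).1 hdvd with h | h
    · left
      exact (Nat.prime_dvd_prime_iff_eq hord Nat.prime_two).1 (hord.dvd_of_dvd_pow h)
    · right
      exact (Nat.prime_dvd_prime_iff_eq hord Nat.prime_three).1 h
  rcases hp23 with h2 | h3
  · obtain ⟨h1, h2'⟩ := order_two_iff.1 (hp ▸ h2)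
    obtain ⟨k, hk, h | h⟩ := involution_classify hg24 h1 h2'
    · have hc : (Finset.univ.filter fun p => g p = p).card = 8 := by
        have h4 : (Finset.univ.filter fun p => ppm r2a p = p).card = 8 := by
          rw [r2a_filter]
          decide +kernel
        rw [← h4, ← h, filter_conj, Finset.card_image_of_injective _ k.injective]
      rw [hc] at hfive
      omega
    · have h4 := (fpf_conj_iff h).2 r2b_fpf
      exact h4 _ h0'
  · obtain ⟨k, hk, ⟨_, h⟩ | ⟨_, h⟩⟩ := order3_classify' hg24 (hp ▸ h3)
    · rw [h] at hfive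
      omega
    · have h5 : some 0 ∈ (Finset.univ.filter fun p => g p = p) := Finset.mem_filter.2 ⟨Finset.mem_univ _, h0'⟩
      rw [Finset.card_eq_zero] at h
      rw [h] at h5
      exact absurd h5 (Finset.notMem_empty _)

end Cfsg.Agent.S5522
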