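import Cfsg.Statements.S5726
import Mathlib
import Cfsg.Agent.Lib.Geo.SylowOrbit

set_option autoImplicit false

namespace Cfsg.Agent.S5726

open Cfsg.Agent.Lib.Geo MulAction

theorem result {G Ω : Type*} [Group G] [Finite G] [MulAction G Ω] [FaithfulSMul G Ω] [Fintype Ω] (htr : MulAction.IsPretransitive G Ω)
    (p k : ℕ) (hp : p.Prime) (hk : 1 ≤ k) (hΩ : Fintype.card Ω = p ^ k) :
    ∃ g : G, orderOf g = p ∧ ∀ ω : Ω, g • ω ≠ ω := by
  classical
  have : Fact p.Prime := ⟨hp⟩
  have hpk : 0 < p ^ k := pow_pos hp.pos k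
  have hne : Nonempty Ω := by
    rw [← Fintype.card_pos_iff, hΩ]; exact hpk
  obtain ⟨a⟩ := hne
  obtain ⟨P⟩ : Nonempty (Sylow p G) := inferInstance
  have h1 : p ^ k ∣ (orbit (P : Subgroup G) a).ncard :=
    dvd_ncard_orbit_sylow P a (by rw [Nat.card_eq_fintype_card, hΩ])
  have huniv : orbit (P : Subgroup G) a = Set.univ := by
    apply Set.eq_of_subset_of_ncard_le (Set.subset_univ _)
    rw [Set.ncard_univ, Nat.card_eq_fintype_card, hΩ]
    exact Nat.le_of_dvd ((Set.ncard_pos (Set.toFinite _)).2 ⟨a, mem_orbit_self a⟩) h1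
  -- `P` has non-trivial order since `G` acts faithfully and non-trivially
  have hnt : Nontrivial (P : Subgroup G) := by
    obtain ⟨b, hb⟩ : ∃ b : Ω, b ≠ a := by
      have : 1 < Fintype.card Ω := by
        rw [hΩ]; exact Nat.one_lt_pow (by omega) hp.one_lt
      obtain ⟨x, y, hxy⟩ := Fintype.exists_pair_of_one_lt_card this
      by_cases hx : x = a
      · exact ⟨y, fun h => hxy (hx.trans h.symm)⟩
      · exact ⟨x, hx⟩
    have : b ∈ orbit (P : Subgroup G) a := huniv ▸ Set.mem_univ b
    obtain ⟨x, hx⟩ := this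
    refine ⟨⟨x, 1, fun h => ?_⟩⟩
    rw [h] at hx
    exact hb (by rw [← hx]; simp)
  have hPp : IsPGroup p (P : Subgroup G) := P.isPGroup'
  have hcen := hPp.center_nontrivial
  have hcard : p ∣ Nat.card (Subgroup.center (P : Subgroup G)) := by
    refine (hPp.to_subgroup _).card_eq_or_dvd.resolve_left ?_
    have := Finite.one_lt_card (α := Subgroup.center (P : Subgroup G))
    omega
  obtain ⟨z, hz⟩ := exists_prime_orderOf_dvd_card' p hcard
  have hzord : orderOf (((z : (P : Subgroup G)) : G)) = p := by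
    rw [Subgroup.orderOf_coe, Subgroup.orderOf_coe, hz]
  refine ⟨((z : (P : Subgroup G)) : G), hzord, fun ω hω => ?_⟩
  have htriv : ∀ b : Ω, ((z : (P : Subgroup G)) : G) • b = b := by
    intro b
    have hb : b ∈ orbit (P : Subgroup G) a := huniv ▸ Set.mem_univ b
    have hω' : ω ∈ orbit (P : Subgroup G) a := huniv ▸ Set.mem_univ ω
    obtain ⟨x, rfl⟩ := hb
    obtain ⟨y, rfl⟩ := hω'
    have hcomm : ∀ t : (P : Subgroup G), (z : (P : Subgroup G)) * t = t * z := fun t =>
      (Subgroup.mem_center_iff.1 z.2 t).symm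
    have h2 : ∀ t : (P : Subgroup G), (((z : (P : Subgroup G)) : G)) * (t : G) = (t : G) * (((z : (P : Subgroup G)) : G)) := fun t =>
      congrArg Subtype.val (hcomm t)
    change ((z : (P : Subgroup G)) : G) • ((y : G) • a) = (y : G) • a at hω
    change ((z : (P : Subgroup G)) : G) • ((x : G) • a) = (x : G) • a
    rw [← mul_smul, h2 y, mul_smul] at hω
    have hza : ((z : (P : Subgroup G)) : G) • a = a := smul_left_cancel _ hω
    rw [← mul_smul, h2 x, mul_smul, hza]
  have h1' : ((z : (P : Subgroup G)) : G) = 1 :=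
    FaithfulSMul.eq_of_smul_eq_smul (α := Ω) (fun b => by rw [htriv b, one_smul])
  rw [h1', orderOf_one] at hzord
  exact hp.one_lt.ne hzord

end Cfsg.Agent.S5726
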