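import Cfsg.Statements.S5727
import Mathlib
import Cfsg.Agent.Lib.Geo.SylowOrbit
import Cfsg.Agent.S5726

set_option autoImplicit false

namespace Cfsg.Agent.S5727

open Cfsg.Agent.Lib.Geo MulAction

theorem result {G Ω : Type*} [Group G] [Finite G] [MulAction G Ω] [FaithfulSMul G Ω] [Fintype Ω] (htr : MulAction.IsPretransitive G Ω)
    (p m : ℕ) (hp : p.Prime) (hm : 1 ≤ m) (hmp : m ≤ p) (hΩ : Fintype.card Ω = m * p) :
    ∃ g : G, orderOf g = p ∧ ∀ ω : Ω, g • ω ≠ ω := by
  classical
  rcases hmp.eq_or_lt with rfl | hlt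
  · exact S5726.result htr m 2 hp (by norm_num) (by rw [hΩ]; ring)
  have : Fact p.Prime := ⟨hp⟩
  obtain ⟨P⟩ : Nonempty (Sylow p G) := inferInstance
  set Q : Subgroup G := (P : Subgroup G) with hQdef
  have hQ : IsPGroup p Q := P.isPGroup'
  have hcardΩ : Nat.card Ω = m * p := by rw [Nat.card_eq_fintype_card, hΩ]
  have horb : ∀ a : Ω, (orbit Q a).ncard = p := by
    intro a
    obtain ⟨j, hj⟩ := exists_ncard_orbit_eq_pow hQ a
    have h1 : p ^ 1 ∣ (orbit Q a).ncard :=
      dvd_ncard_orbit_sylow P a (by rw [hcardΩ, pow_one]; exact dvd_mul_left _ _)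
    have h2 : (orbit Q a).ncard ≤ Nat.card Ω := by
      rw [← Set.ncard_univ]
      exact Set.ncard_le_ncard (Set.subset_univ _) Set.finite_univ
    rw [hj] at h1 h2 ⊢
    have h3 : 1 ≤ j := (Nat.pow_dvd_pow_iff_le_right hp.one_lt).1 h1
    have h4 : p ^ j < p ^ 2 := by
      rw [hcardΩ] at h2
      calc p ^ j ≤ m * p := h2
        _ < p * p := Nat.mul_lt_mul_of_pos_right hlt hp.pos
        _ = p ^ 2 := (sq p).symm
    have h5 : j < 2 := (Nat.pow_lt_pow_iff_right hp.one_lt).1 h4
    have : j = 1 := by omega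
    rw [this, pow_one]
  have hidx : ∀ a : Ω, (stabilizer Q a).index = p := fun a => by
    rw [index_stabilizer, horb]
  have hnormal : ∀ a : Ω, (stabilizer Q a).Normal := by
    intro a
    apply Subgroup.normal_of_index_eq_minFac_card
    obtain ⟨v, hv⟩ := IsPGroup.iff_card.1 hQ
    rw [hidx, hv]
    have hv0 : v ≠ 0 := by
      rintro rfl
      have h1 := Subgroup.index_dvd_card (stabilizer Q a)
      rw [hidx, hv, pow_zero] at h1
      exact hp.one_lt.ne' (Nat.dvd_one.1 h1)
    exact (hp.pow_minFac hv0).symm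
  have hfix : ∀ (x : Q) (a : Ω), x • a = a → ∀ b ∈ orbit Q a, x • b = b := by
    rintro x a hxa _ ⟨t, rfl⟩
    have h1 : x ∈ stabilizer Q a := hxa
    have h2 : t⁻¹ * x * t ∈ stabilizer Q a := by
      have := (hnormal a).conj_mem x h1 t⁻¹
      simpa using this
    have h3 : (t⁻¹ * x * t) • a = a := h2
    change x • (t • a) = t • a
    rw [mul_smul, mul_smul] at h3
    rw [← inv_smul_eq_iff]
    exact h3
  have hpow : ∀ (x : Q) (a : Ω), (x ^ p) • a = a := by
    intro x a
    haveI := hnormal a
    have := Subgroup.pow_index_mem (stabilizer Q a) x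
    rw [hidx] at this
    exact this
  -- double counting
  haveI : Fintype Q := Fintype.ofFinite Q
  have hno : ∃ x : Q, ∀ a : Ω, x • a ≠ a := by
    by_contra hcon
    push Not at hcon
    have hlow : ∀ x : Q, p ≤ (Finset.univ.filter fun b : Ω => x • b = b).card := by
      intro x
      obtain ⟨a, ha⟩ := hcon x
      rw [← horb a, ← Set.ncard_coe_finset]
      apply Set.ncard_le_ncard _ (Set.toFinite _)
      intro b hb
      simp only [Finset.coe_filter, Finset.mem_univ, true_and, Set.mem_setOf_eq]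
      exact hfix x a ha b hb
    have hstab : ∀ a : Ω, (Finset.univ.filter fun x : Q => x • a = a).card * p = Nat.card Q := by
      intro a
      rw [← hidx a, ← Subgroup.card_mul_index (stabilizer Q a)]
      congr 1
      rw [Nat.card_eq_fintype_card, Fintype.card_subtype]
      rfl
    have hsum : ∑ x : Q, (Finset.univ.filter fun b : Ω => x • b = b).card
        = ∑ a : Ω, (Finset.univ.filter fun x : Q => x • a = a).card :=
      Finset.sum_card_bipartiteAbove_eq_sum_card_bipartiteBelow _
    have h1 : Nat.card Q * p ≤ ∑ x : Q, (Finset.univ.filter fun b : Ω => x • b = b).card := by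
      rw [Nat.card_eq_fintype_card, ← smul_eq_mul, ← Finset.card_univ]
      exact Finset.card_nsmul_le_sum _ _ _ fun x _ => hlow x
    have h2 : (∑ a : Ω, (Finset.univ.filter fun x : Q => x • a = a).card) * p
        = Fintype.card Ω * Nat.card Q := by
      rw [Finset.sum_mul, Finset.sum_congr rfl fun a _ => hstab a, Finset.sum_const,
        Finset.card_univ, smul_eq_mul]
    rw [hsum] at h1
    have h3 : Nat.card Q * p * p ≤ m * p * Nat.card Q := by
      rw [← hΩ, ← h2]
      exact Nat.mul_le_mul_right p h1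
    have h4 : 0 < Nat.card Q := Nat.card_pos
    have h5 : p * p * Nat.card Q ≤ m * p * Nat.card Q := by
      calc p * p * Nat.card Q = Nat.card Q * p * p := by ring
        _ ≤ _ := h3
    have h6 : p * p ≤ m * p := Nat.le_of_mul_le_mul_right h5 h4
    have h7 : p ≤ m := Nat.le_of_mul_le_mul_right h6 hp.pos
    omega
  obtain ⟨x, hx⟩ := hno
  refine ⟨(x : G), ?_, fun ω => hx ω⟩
  have hne : Nonempty Ω := by
    rw [← Fintype.card_pos_iff, hΩ]; exact Nat.mul_pos hm hp.pos
  obtain ⟨a⟩ := hne
  apply orderOf_eq_prime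
  · apply FaithfulSMul.eq_of_smul_eq_smul (α := Ω)
    intro b
    rw [one_smul]
    have := hpow x b
    simpa [Subgroup.smul_def] using this
  · intro h
    apply hx a
    rw [Subgroup.smul_def, h, one_smul]

end Cfsg.Agent.S5727
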