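import Cfsg.Statements.S5728
import Mathlib

set_option autoImplicit false

namespace Cfsg.Agent.S5728

open Polynomial

section

variable {F : Type*} [Field F]

/-- affine permutation. -/
def aff (e : Fˣ) (t : F) : Equiv.Perm F := Equiv.addRight t * Units.mulLeft e

theorem aff_apply (e : Fˣ) (t z : F) : aff e t z = e * z + t := rfl

theorem aff_mem (e : Fˣ) (t : F) : aff e t ∈ Cfsg.affineGroup F := ⟨e, t, fun _ => rfl⟩

theorem conj_apply (x g : Equiv.Perm F) (z : F) : (x * g * x⁻¹) (x z) = x (g z) := by
  simp

end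

/-- elements with `c ^ p = c` come from the prime field -/
theorem mem_prime_field {F : Type*} [Field F] [Fintype F] (p : ℕ) [Fact p.Prime] [Algebra (ZMod p) F]
    (c : F) (hc : c ^ p = c) : ∃ a : ZMod p, algebraMap (ZMod p) F a = c := by
  classical
  have hp : 1 < p := (Fact.out : p.Prime).one_lt
  have hne : (X ^ p - X : F[X]) ≠ 0 := FiniteField.X_pow_card_sub_X_ne_zero F hp
  have hdeg : (X ^ p - X : F[X]).natDegree = p := FiniteField.X_pow_card_sub_X_natDegree_eq F hp
  let T : Finset F := Finset.univ.image (algebraMap (ZMod p) F)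
  have hT : T.card = p := by
    rw [Finset.card_image_of_injective _ (algebraMap (ZMod p) F).injective, Finset.card_univ,
      ZMod.card]
  have hsub : T ⊆ (X ^ p - X : F[X]).roots.toFinset := by
    intro y hy
    obtain ⟨a, -, rfl⟩ := Finset.mem_image.1 hy
    rw [Multiset.mem_toFinset, mem_roots hne, IsRoot.def]
    simp only [eval_sub, eval_pow, eval_X]
    rw [← map_pow, ZMod.pow_card, sub_self]
  have hle : (X ^ p - X : F[X]).roots.toFinset.card ≤ p := by
    calc _ ≤ Multiset.card (X ^ p - X : F[X]).roots := Multiset.toFinset_card_le _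
      _ ≤ _ := card_roots' _
      _ = p := hdeg
  have heq : T = (X ^ p - X : F[X]).roots.toFinset :=
    Finset.eq_of_subset_of_card_le hsub (by rw [hT]; exact hle)
  have hcmem : c ∈ T := by
    rw [heq, Multiset.mem_toFinset, mem_roots hne, IsRoot.def]
    simp [hc]
  obtain ⟨a, -, ha⟩ := Finset.mem_image.1 hcmem
  exact ⟨a, ha⟩

theorem result (p s : ℕ) [Fact p.Prime] (hs : p = 2 ^ s - 1)
    (g : Equiv.Perm (GaloisField p 2)) (hg : g ∈ Cfsg.affineGroup (GaloisField p 2)) (hord : (orderOf g).Prime) :
    ∃ x ∈ Cfsg.affineGroup (GaloisField p 2), ∃ a b : ZMod p, a ≠ 0 ∧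
      ∀ y : GaloisField p 2, (x * g * x⁻¹) y = algebraMap (ZMod p) (GaloisField p 2) a * y + algebraMap (ZMod p) (GaloisField p 2) b := by
  classical
  let F := GaloisField p 2
  haveI : Fintype F := Fintype.ofFinite F
  have hp := (Fact.out : p.Prime)
  obtain ⟨c, d, hgcd⟩ := hg
  by_cases hc : (c : F) = 1
  · -- translation
    have hd : d ≠ 0 := by
      intro h
      have : g = 1 := by
        ext y
        rw [hgcd, hc, h]
        simp
      rw [this, orderOf_one] at hord
      exact Nat.not_prime_one hord
    refine ⟨aff (Units.mk0 d hd)⁻¹ 0, aff_mem _ _, 1, 1, one_ne_zero, fun y => ?_⟩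
    obtain ⟨z, rfl⟩ := (aff (Units.mk0 d hd)⁻¹ 0).surjective y
    rw [conj_apply, aff_apply, aff_apply, hgcd, hc]
    simp only [map_one]
    have hd' : ((Units.mk0 d hd)⁻¹ : Fˣ).val * d = 1 := by simp [hd]
    rw [one_mul, one_mul, add_zero, add_zero, mul_add, hd']
  · -- fixed point
    have h1c : (1 : F) - c ≠ 0 := sub_ne_zero.2 (Ne.symm hc)
    let y₀ : F := d / (1 - c)
    have hy₀ : d = y₀ * (1 - c) := by
      simp only [y₀]
      field_simp
    have hpow : ∀ n : ℕ, ∀ y : F, (g ^ n) y = (c : F) ^ n * (y - y₀) + y₀ := by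
      intro n
      induction n with
      | zero => simp
      | succ n ih =>
        intro y
        rw [pow_succ, Equiv.Perm.mul_apply, ih, hgcd, hy₀, pow_succ]
        ring
    have hr : (c : F) ^ orderOf g = 1 := by
      have h1 := hpow (orderOf g) (y₀ + 1)
      rw [pow_orderOf_eq_one] at h1
      have h2 : y₀ + 1 = (c : F) ^ orderOf g * (y₀ + 1 - y₀) + y₀ := h1
      have h3 : y₀ + 1 - y₀ = 1 := by ring
      rw [h3] at h2
      linear_combination -h2
    haveI hrf : Fact (orderOf g).Prime := ⟨hord⟩
    have hcord : orderOf (c : F) = orderOf g := orderOf_eq_prime hr hc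
    have hcard : Fintype.card F = p ^ 2 := by
      rw [← Nat.card_eq_fintype_card]
      exact GaloisField.card p 2 (by norm_num)
    have hdvd : orderOf g ∣ p ^ 2 - 1 := by
      rw [← hcard, ← hcord]
      exact orderOf_dvd_of_pow_eq_one (FiniteField.pow_card_sub_one_eq_one _ c.ne_zero)
    have hp2 : 2 ≤ 2 ^ s := by
      have := hp.two_le
      omega
    have hp1 : p + 1 = 2 ^ s := by omega
    have hfac : p ^ 2 - 1 = (p - 1) * (p + 1) := by
      obtain ⟨m, rfl⟩ : ∃ m, p = m + 1 := ⟨p - 1, by omega⟩
      simp only [Nat.add_sub_cancel]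
      rw [Nat.sub_eq_iff_eq_add (by nlinarith)]
      ring
    rw [hfac] at hdvd
    have hcase : (c : F) ^ p = c := by
      rcases (hord.dvd_mul).1 hdvd with h | h
      · obtain ⟨k, hk⟩ := h
        have : (c : F) ^ (p - 1) = 1 := by
          rw [hk, pow_mul, hr, one_pow]
        calc (c : F) ^ p = (c : F) ^ (p - 1 + 1) := by
              rw [Nat.sub_add_cancel hp.one_le]
          _ = c := by rw [pow_succ, this, one_mul]
      · rw [hp1] at h
        have h2 : orderOf g = 2 := (Nat.prime_dvd_prime_iff_eq hord Nat.prime_two).1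
          (hord.dvd_of_dvd_pow h)
        rw [h2] at hr
        have hc2 : (c : F) = -1 := by
          have : ((c : F) - 1) * ((c : F) + 1) = 0 := by
            linear_combination hr
          rcases mul_eq_zero.1 this with h' | h'
          · exact absurd (sub_eq_zero.1 h') hc
          · exact eq_neg_of_add_eq_zero_left h'
        rw [hc2]
        have hodd : Odd p := by
          apply hp.odd_of_ne_two
          intro h
          rw [h] at hp1
          have hs3 : s ≠ 0 := by
            rintro rfl
            simp at hp1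
          obtain ⟨t, rfl⟩ : ∃ t, s = t + 1 := ⟨s - 1, by omega⟩
          rw [pow_succ] at hp1
          omega
        exact hodd.neg_one_pow
    obtain ⟨a, ha⟩ := mem_prime_field p (c : F) hcase
    refine ⟨aff 1 (-y₀), aff_mem _ _, a, 0, ?_, fun y => ?_⟩
    · rintro rfl
      rw [map_zero] at ha
      exact c.ne_zero ha.symm
    obtain ⟨z, rfl⟩ := (aff (1 : Fˣ) (-y₀)).surjective y
    rw [conj_apply, aff_apply, aff_apply, hgcd, ha, map_zero, hy₀]
    simp only [Units.val_one]
    ring

end Cfsg.Agent.S5728
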